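import Mathlib
import Cfsg.Agent.Lib.H1.QuotientBasic

/-!
# S4719 Part I, piece (B4a QSYL) `quotient_sylow_data` (helper20)

Pure group theory: a Sylow `2`-subgroup and an elementary abelian subgroup of `C ⧸ N`, `|N| = 2`.
See `tools/blueprints/S4719_I_sigs.lean`.
-/

set_option autoImplicit false

namespace Cfsg.Agent.Lib.H20.BI

variable {C : Type*} [Group C] [Finite C]

/-- (B4a QSYL) PURE GROUP THEORY: Sylow 2-subgroup and elementary abelian subgroup of `C ⧸ N`, `|N| = 2`. -/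
theorem quotient_sylow_data (N : Subgroup C) [N.Normal] (hN2 : Nat.card N = 2) (a k : ℕ)
    (ha : (Nat.card C).factorization 2 ≤ a) (E : Subgroup C) (hNE : N ≤ E)
    (hEc : ∀ x ∈ E, ∀ y ∈ E, x * y = y * x) (hE2 : ∀ x ∈ E, x * x = 1)
    (hEcard : Nat.card E = 2 ^ (k + 1)) :
    ∃ a'' : ℕ, a'' ≤ a - 1 ∧ ∃ Q : Sylow 2 (C ⧸ N), Nat.card Q = 2 ^ a'' ∧
      ∃ E' : Subgroup (C ⧸ N), E' ≤ (Q : Subgroup (C ⧸ N)) ∧ IsMulCommutative E' ∧
        (∀ x ∈ E', x * x = 1) ∧ Nat.card E' = 2 ^ k := by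
  haveI : Fact (Nat.Prime 2) := ⟨Nat.prime_two⟩
  set E' : Subgroup (C ⧸ N) := E.map (QuotientGroup.mk' N) with hE'
  -- the order of E'
  have hE'card : Nat.card E' = 2 ^ k := by
    have h := Cfsg.Agent.Lib.H1.card_map_mk'_mul_of_le hNE
    rw [hN2, hEcard, pow_succ] at h
    exact Nat.eq_of_mul_eq_mul_right (by norm_num) h
  -- E' is a 2-group, so it lies in a Sylow 2-subgroup
  have hE'p : IsPGroup 2 E' := IsPGroup.of_card hE'card
  obtain ⟨Q, hQ⟩ := hE'p.exists_le_sylow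
  -- the 2-part of |C ⧸ N|
  have hcard : Nat.card C = Nat.card (C ⧸ N) * 2 := by
    rw [← hN2]; exact Subgroup.card_eq_card_quotient_mul_card_subgroup N
  have hq0 : Nat.card (C ⧸ N) ≠ 0 := Nat.card_pos.ne'
  have hfac : (Nat.card C).factorization 2 = (Nat.card (C ⧸ N)).factorization 2 + 1 := by
    rw [hcard, Nat.factorization_mul hq0 (by norm_num)]
    simp [Nat.Prime.factorization_self Nat.prime_two]
  refine ⟨(Nat.card (C ⧸ N)).factorization 2, by omega, Q, Sylow.card_eq_multiplicity Q, E', hQ, ?_, ?_,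
    hE'card⟩
  · refine ⟨⟨?_⟩⟩
    rintro ⟨x, hx⟩ ⟨y, hy⟩
    apply Subtype.ext
    obtain ⟨x0, hx0, rfl⟩ := hx
    obtain ⟨y0, hy0, rfl⟩ := hy
    show (QuotientGroup.mk' N) x0 * (QuotientGroup.mk' N) y0 = (QuotientGroup.mk' N) y0 * (QuotientGroup.mk' N) x0
    rw [← map_mul, ← map_mul, hEc x0 hx0 y0 hy0]
  · rintro x ⟨x0, hx0, rfl⟩
    rw [← map_mul, hE2 x0 hx0, map_one]

end Cfsg.Agent.Lib.H20.BI
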