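import Cfsg.Agent.Lib.H20.Cyclic

set_option autoImplicit false

namespace Cfsg.Agent.Lib.H20

/-- In a finite cyclic `p`-group, any two elements are comparable. -/
theorem mem_zpowers_or_mem_zpowers_of_cyclic_pGroup {A : Type*} [Group A] [Finite A] [IsCyclic A]
    {p : ℕ} [Fact p.Prime] (hA : IsPGroup p A) (x y : A) :
    x ∈ Subgroup.zpowers y ∨ y ∈ Subgroup.zpowers x := by
  obtain ⟨a, ha⟩ := IsPGroup.iff_orderOf.mp hA x
  obtain ⟨b, hb⟩ := IsPGroup.iff_orderOf.mp hA y
  rcases le_total a b with hab | hab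
  · left
    apply mem_zpowers_of_orderOf_dvd_of_isCyclic
    rw [ha, hb]; exact pow_dvd_pow p hab
  · right
    apply mem_zpowers_of_orderOf_dvd_of_isCyclic
    rw [ha, hb]; exact pow_dvd_pow p hab

/-- A `p'`-automorphism of a finite cyclic `p`-group fixing a nontrivial element is trivial. -/
theorem mulAut_eq_one_of_fixes_of_cyclic_pGroup {A : Type*} [CommGroup A] [Finite A] [IsCyclic A]
    {p : ℕ} [Fact p.Prime] (hA : IsPGroup p A) (ψ : MulAut A) (m : ℕ) (hm : ψ ^ m = 1)
    (hcop : m.Coprime p) (x : A) (hx1 : x ≠ 1) (hx : ψ x = x) : ψ = 1 := by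
  -- the norm map
  let N : A → A := fun y => ∏ i ∈ Finset.range m, (ψ ^ i) y
  have hNmul : ∀ y z, N (y * z) = N y * N z := by
    intro y z
    simp only [N, map_mul, Finset.prod_mul_distrib]
  have hNpow : ∀ (y : A) (j : ℤ), N (y ^ j) = (N y) ^ j := by
    intro y j
    simp only [N, map_zpow, Finset.prod_zpow]
  have hNinv : ∀ y, N y⁻¹ = (N y)⁻¹ := by
    intro y
    simp only [N, map_inv, Finset.prod_inv_distrib]
  have hNψ : ∀ y, N (ψ y) = N y := by
    intro y
    have h1 : N (ψ y) = ∏ i ∈ Finset.range m, (ψ ^ (i + 1)) y := by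
      simp only [N]
      apply Finset.prod_congr rfl
      intro i _
      rw [pow_succ, MulAut.mul_apply]
    rw [h1]
    have e1 := Finset.prod_range_succ' (fun i => (ψ ^ i) y) m
    have e2 := Finset.prod_range_succ (fun i => (ψ ^ i) y) m
    have e3 : (∏ i ∈ Finset.range m, (ψ ^ (i + 1)) y) * (ψ ^ 0) y =
        (∏ i ∈ Finset.range m, (ψ ^ i) y) * (ψ ^ m) y := e1.symm.trans e2
    rw [hm, pow_zero] at e3
    exact mul_right_cancel e3
  have hNfix : ∀ y, ψ y = y → N y = y ^ m := by
    intro y hy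
    have : ∀ i : ℕ, (ψ ^ i) y = y := by
      intro i
      induction i with
      | zero => simp
      | succ n ih => rw [pow_succ, MulAut.mul_apply, hy, ih]
    simp only [N, this, Finset.prod_const, Finset.card_range]
  have hkill : ∀ y : A, y ^ m = 1 → y = 1 := by
    intro y hy
    obtain ⟨a, ha⟩ := IsPGroup.iff_orderOf.mp hA y
    have h1 : orderOf y ∣ m := orderOf_dvd_of_pow_eq_one hy
    have h2 : orderOf y = 1 := by
      have hc : Nat.Coprime (p ^ a) m := Nat.Coprime.pow_left _ hcop.symm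
      rw [ha] at h1 ⊢
      exact Nat.Coprime.eq_one_of_dvd hc h1
    exact orderOf_eq_one_iff.mp h2
  ext a
  rw [MulAut.one_apply]
  set b := a⁻¹ * ψ a with hb
  have hNb : N b = 1 := by
    rw [hb, hNmul, hNinv, hNψ, inv_mul_cancel]
  suffices hb1 : b = 1 by
    rw [hb] at hb1
    have : ψ a = a * (a⁻¹ * ψ a) := by group
    rw [this, hb1, mul_one]
  rcases mem_zpowers_or_mem_zpowers_of_cyclic_pGroup hA b x with h | h
  · -- b is a power of x so fixed
    obtain ⟨j, hj⟩ := Subgroup.mem_zpowers_iff.mp h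
    have hfix : ψ b = b := by rw [← hj, map_zpow, hx]
    have := hNfix b hfix
    rw [hNb] at this
    exact hkill b this.symm
  · obtain ⟨j, hj⟩ := Subgroup.mem_zpowers_iff.mp h
    have h1 : N x = 1 := by rw [← hj, hNpow, hNb, one_zpow]
    have h2 := hNfix x hx
    rw [h1] at h2
    exact absurd (hkill x h2.symm) hx1

end Cfsg.Agent.Lib.H20
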