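import Cfsg.Agent.Lib.H20.DihedralStem

set_option autoImplicit false

namespace Cfsg.Agent.Lib.H20

open QuaternionGroup in
theorem quaternion_two_n_eq_zero (n : ℕ) : ((n : ZMod (2 * n)) + (n : ZMod (2 * n))) = 0 := by
  have : ((2 * n : ℕ) : ZMod (2 * n)) = 0 := ZMod.natCast_self (2 * n)
  rw [← this]; push_cast; ring

open QuaternionGroup in
/-- Structure of the kernel of a stem extension of a dicyclic group. -/
theorem quaternion_stem (n : ℕ) {Γ : Type*} [Group Γ] [Finite Γ] (σ : Γ →* QuaternionGroup n)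
    (hσ : Cfsg.IsStemExtension σ) :
    ∃ w : Γ, σ.ker ≤ Subgroup.zpowers w ∧ w ^ n = 1 ∧ σ w = a (-2) := by
  obtain ⟨b, hb⟩ := hσ.1 (a 1)
  obtain ⟨x, hx⟩ := hσ.1 (xa 0)
  have hgen : Subgroup.closure ({σ b, σ x} : Set (QuaternionGroup n)) = ⊤ := by
    rw [hb, hx]; exact quaternion_closure_eq_top n
  have hinvxa : ((xa 0 : QuaternionGroup n))⁻¹ = xa ((n : ZMod (2 * n)) + 0) := rfl
  have hinva : ((a 1 : QuaternionGroup n))⁻¹ = a (-1) := rfl
  have hrel : σ x * σ b * (σ x)⁻¹ = (σ b)⁻¹ := by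
    rw [hb, hx, hinvxa, hinva, xa_mul_a, xa_mul_xa]
    congr 1
    have := quaternion_two_n_eq_zero n
    linear_combination this
  obtain ⟨z, hz, hxb, hker⟩ := stem_ker_le_zpowers σ hσ b x hgen hrel
  refine ⟨b⁻¹ * b⁻¹ * z, hker, ?_, ?_⟩
  · have hzc : ∀ g : Γ, g * z = z * g := fun g => (Subgroup.mem_center_iff.mp (hσ.2.1 hz)) g
    apply stem_w_pow_eq_one b x z n hzc hxb
    -- c₁ = (b^n)⁻¹ x² in the kernel
    have hc1 : (b ^ n)⁻¹ * (x * x) ∈ σ.ker := by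
      rw [MonoidHom.mem_ker, map_mul, map_inv, map_pow, map_mul, hb, hx, a_one_pow, xa_mul_xa]
      have : ((a (n : ZMod (2 * n)) : QuaternionGroup n))⁻¹ = a (-(n : ZMod (2 * n))) := rfl
      rw [this, a_mul_a, ← a_zero]
      congr 1
      ring
    have hc := Subgroup.mem_center_iff.mp (hσ.2.1 hc1)
    -- b^n = x² c₁⁻¹
    set c₁ := (b ^ n)⁻¹ * (x * x) with hc1def
    have hbn : b ^ n = x * x * c₁⁻¹ := by rw [hc1def]; group
    have hcinv : x * c₁⁻¹ = c₁⁻¹ * x := by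
      have := hc x
      calc x * c₁⁻¹ = c₁⁻¹ * (c₁ * x) * c₁⁻¹ := by group
        _ = c₁⁻¹ * (x * c₁) * c₁⁻¹ := by rw [← this]
        _ = c₁⁻¹ * x := by group
    rw [hbn]
    calc x * (x * x * c₁⁻¹) * x⁻¹ = x * x * (x * c₁⁻¹) * x⁻¹ := by group
      _ = x * x * (c₁⁻¹ * x) * x⁻¹ := by rw [hcinv]
      _ = x * x * c₁⁻¹ := by group
  · have hinva : ((a 1 : QuaternionGroup n))⁻¹ = a (-1) := rfl
    rw [map_mul, map_mul, map_inv, hb, MonoidHom.mem_ker.mp hz, mul_one, hinva, a_mul_a]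
    congr 1
    ring

end Cfsg.Agent.Lib.H20
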