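import Cfsg.Prelude.Def_KGroupFacts
import Mathlib

set_option autoImplicit false

namespace Cfsg.Agent.Lib.H20

universe u v

/-- The identity is a stem extension. -/
theorem isStemExtension_id (G : Type u) [Group G] : Cfsg.IsStemExtension (MonoidHom.id G) := by
  refine ⟨Function.surjective_id, ?_, ?_⟩ <;>
  · intro x hx
    have : x = 1 := by simpa [MonoidHom.mem_ker] using hx
    subst this
    exact Subgroup.one_mem _

/-- Trivial multiplier: enough that all finite stem extensions have trivial kernel. -/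
theorem hasCyclicSchurMultiplier_one_of_ker {G : Type u} [Group G] [Finite G]
    (h : ∀ (Γ : Type u) [Group Γ] [Finite Γ] (σ : Γ →* G), Cfsg.IsStemExtension σ → σ.ker = ⊥) :
    Cfsg.HasCyclicSchurMultiplier G 1 := by
  haveI h2 : Subsingleton (Multiplicative (ZMod 1)) := by
    change Subsingleton (ZMod 1)
    infer_instance
  refine ⟨⟨G, inferInstance, inferInstance, MonoidHom.id G, isStemExtension_id G, ?_⟩, ?_⟩
  · have hk : (MonoidHom.id G).ker = ⊥ := by
      ext x; simp [MonoidHom.mem_ker]
    rw [hk]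
    haveI : Unique (Multiplicative (ZMod 1)) := Unique.mk' _
    exact ⟨MulEquiv.ofUnique⟩
  · intro Γ _ _ σ hσ
    have hk := h Γ σ hσ
    refine ⟨1, ?_⟩
    rintro ⟨x, hx⟩
    refine ⟨1, ?_⟩
    apply Subtype.ext
    rw [hk] at hx
    simpa using hx.symm

/-- Trivial multiplier implies all finite stem extensions have trivial kernel. -/
theorem ker_eq_bot_of_hasCyclicSchurMultiplier_one {G : Type u} [Group G]
    (hG : Cfsg.HasCyclicSchurMultiplier G 1)
    (Γ : Type u) [Group Γ] [Finite Γ] (σ : Γ →* G) (hσ : Cfsg.IsStemExtension σ) : σ.ker = ⊥ := by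
  obtain ⟨π, hπ⟩ := hG.2 Γ σ hσ
  haveI h2 : Subsingleton (Multiplicative (ZMod 1)) := by
    change Subsingleton (ZMod 1)
    infer_instance
  rw [Subgroup.eq_bot_iff_forall]
  intro x hx
  obtain ⟨y, hy⟩ := hπ ⟨x, hx⟩
  have : y = 1 := Subsingleton.elim _ _
  subst this
  rw [map_one] at hy
  have := congrArg Subtype.val hy
  simpa using this.symm

end Cfsg.Agent.Lib.H20
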