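import Mathlib

set_option autoImplicit false

namespace Cfsg.Agent.Lib.H20

/-- The index of the centralizer of `x` is the size of the conjugacy class of `x`. -/
theorem index_centralizer_eq_ncard_conj {G : Type*} [Group G] (x : G) :
    (Subgroup.centralizer ({x} : Set G)).index = {y : G | IsConj x y}.ncard := by
  have h1 : (Subgroup.comap (ConjAct.toConjAct (G := G)).toMonoidHom
      (MulAction.stabilizer (ConjAct G) x)).index = (MulAction.stabilizer (ConjAct G) x).index :=
    Subgroup.index_comap_of_surjective _ (ConjAct.toConjAct (G := G)).surjective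
  have h2 : Subgroup.centralizer ({x} : Set G) = Subgroup.comap (ConjAct.toConjAct (G := G)).toMonoidHom
      (MulAction.stabilizer (ConjAct G) x) := Subgroup.centralizer_eq_comap_stabilizer x
  rw [h2, h1, MulAction.index_stabilizer]
  congr 1
  ext y
  rw [ConjAct.mem_orbit_conjAct, Set.mem_ofPred_eq, isConj_comm]

theorem index_centralizer_eq_ncard_carrier {G : Type*} [Group G] (x : G) :
    (Subgroup.centralizer ({x} : Set G)).index = (ConjClasses.mk x).carrier.ncard := by
  rw [index_centralizer_eq_ncard_conj]
  have : {y : G | IsConj x y} = (ConjClasses.mk x).carrier := by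
    ext y
    rw [ConjClasses.mem_carrier_iff_mk_eq, ConjClasses.mk_eq_mk_iff_isConj, Set.mem_ofPred_eq, isConj_comm]
  rw [this]

end Cfsg.Agent.Lib.H20
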