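import Mathlib

set_option autoImplicit false

namespace Cfsg.Agent.Lib.H20

/-- For subgroups of coprime (finite) index the index of the intersection is the product. -/
theorem index_inf_of_coprime {G : Type*} [Group G] [Finite G] (H K : Subgroup G)
    (h : H.index.Coprime K.index) : (H ⊓ K).index = H.index * K.index := by
  apply Nat.le_antisymm Subgroup.index_inf_le
  apply Nat.le_of_dvd (Nat.pos_of_ne_zero Subgroup.index_ne_zero_of_finite)
  exact Nat.Coprime.mul_dvd_of_dvd_of_dvd h (Subgroup.index_dvd_of_le inf_le_left)
    (Subgroup.index_dvd_of_le inf_le_right)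

/-- If `H ≤ K` have the same index in a finite group then they are equal. -/
theorem eq_of_le_of_index_eq {G : Type*} [Group G] [Finite G] {H K : Subgroup G}
    (hle : H ≤ K) (h : H.index = K.index) : H = K := by
  apply le_antisymm hle
  rw [← Subgroup.relIndex_eq_one]
  have h1 := Subgroup.relIndex_mul_index hle
  rw [h] at h1
  have h2 : H.relIndex K * K.index = 1 * K.index := by rw [h1, one_mul]
  exact Nat.eq_of_mul_eq_mul_right (Nat.pos_of_ne_zero Subgroup.index_ne_zero_of_finite) h2

/-- For commuting elements of coprime order, each is a power of the product. -/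
theorem exists_pow_mul_eq_left_of_coprime {G : Type*} [Group G] {x y : G} (hc : Commute x y)
    (hcop : (orderOf x).Coprime (orderOf y)) : ∃ t : ℕ, (x * y) ^ t = x := by
  obtain ⟨m, hm⟩ := exists_pow_eq_self_of_coprime (x := x) hcop.symm
  refine ⟨orderOf y * m, ?_⟩
  rw [pow_mul, hc.mul_pow, pow_orderOf_eq_one, mul_one]
  exact hm

theorem exists_pow_mul_eq_right_of_coprime {G : Type*} [Group G] {x y : G} (hc : Commute x y)
    (hcop : (orderOf x).Coprime (orderOf y)) : ∃ t : ℕ, (x * y) ^ t = y := by
  obtain ⟨m, hm⟩ := exists_pow_eq_self_of_coprime (x := y) hcop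
  refine ⟨orderOf x * m, ?_⟩
  rw [pow_mul, hc.mul_pow, pow_orderOf_eq_one, one_mul]
  exact hm

/-- For commuting elements of coprime order, `C(xy) = C(x) ⊓ C(y)`. -/
theorem centralizer_mul_of_coprime {G : Type*} [Group G] {x y : G} (hc : Commute x y)
    (hcop : (orderOf x).Coprime (orderOf y)) :
    Subgroup.centralizer ({x * y} : Set G) =
      Subgroup.centralizer ({x} : Set G) ⊓ Subgroup.centralizer ({y} : Set G) := by
  ext g
  simp only [Subgroup.mem_inf, Subgroup.mem_centralizer_singleton_iff]
  constructor
  · intro h
    have hg : Commute g (x * y) := h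
    obtain ⟨t, ht⟩ := exists_pow_mul_eq_left_of_coprime hc hcop
    obtain ⟨s, hs⟩ := exists_pow_mul_eq_right_of_coprime hc hcop
    constructor
    · have := hg.pow_right t
      rw [ht] at this
      exact this
    · have := hg.pow_right s
      rw [hs] at this
      exact this
  · rintro ⟨h1, h2⟩
    have h1' : Commute g x := h1
    have h2' : Commute g y := h2
    exact h1'.mul_right h2'

end Cfsg.Agent.Lib.H20
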