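import Mathlib

set_option autoImplicit false

namespace Cfsg.Agent.Lib.H20

theorem choose_pred_modEq_one (p : ℕ) [hp : Fact p.Prime] (β r : ℕ) (hr : 0 < r) :
    Nat.choose (p ^ β * r - 1) (p ^ β - 1) ≡ 1 [MOD p] := by
  induction β with
  | zero => simp [Nat.ModEq]
  | succ β ih =>
    have hp0 : 0 < p := hp.out.pos
    have h := Choose.choose_modEq_choose_mod_mul_choose_div_nat
      (n := p ^ (β + 1) * r - 1) (k := p ^ (β + 1) - 1) (p := p)
    have hpos : 0 < p ^ β * r := Nat.mul_pos (pow_pos hp0 β) hr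
    have hpos' : 0 < p ^ β := pow_pos hp0 β
    have hn : p ^ (β + 1) * r - 1 = (p - 1) + p * (p ^ β * r - 1) := by
      have : p ^ (β + 1) * r = p * (p ^ β * r) := by ring
      rw [this]
      obtain ⟨m, hm⟩ : ∃ m, p ^ β * r = m + 1 := ⟨p ^ β * r - 1, by omega⟩
      rw [hm]
      simp only [Nat.add_sub_cancel]
      rw [Nat.mul_succ]
      omega
    have hk : p ^ (β + 1) - 1 = (p - 1) + p * (p ^ β - 1) := by
      have : p ^ (β + 1) = p * p ^ β := by ring
      rw [this]
      obtain ⟨m, hm⟩ : ∃ m, p ^ β = m + 1 := ⟨p ^ β - 1, by omega⟩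
      rw [hm]
      simp only [Nat.add_sub_cancel]
      rw [Nat.mul_succ]
      omega
    have hmod : (p - 1) % p = p - 1 := Nat.mod_eq_of_lt (by omega)
    have hdiv : (p - 1) / p = 0 := Nat.div_eq_of_lt (by omega)
    rw [hn, hk] at h
    simp only [Nat.add_mul_mod_self_left, Nat.add_mul_div_left _ _ hp0, hmod, hdiv,
      Nat.choose_self, one_mul, zero_add] at h
    rw [hn, hk]
    exact h.trans ih

end Cfsg.Agent.Lib.H20
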