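import Mathlib
import Cfsg.Agent.Lib.H20.ChooseLucas

set_option autoImplicit false

namespace Cfsg.Agent.Lib.H20

open scoped Pointwise
open MulAction

variable {G : Type*} [Group G]

/-- The stabilizer (under left multiplication) of a subset of a finite group has order dividing
the size of the subset. -/
theorem card_stabilizer_dvd_card [Finite G] (s : Set G) :
    Nat.card (stabilizer G s) ∣ Nat.card s := by
  have h := Subgroup.card_mul_eq_card_subgroup_mul_card_quotient (stabilizer G s) (s⁻¹ : Set G)
  have e : (s⁻¹ : Set G) * (stabilizer G s : Set G) = s⁻¹ := by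
    have h1 := stabilizer_mul_self s
    calc (s⁻¹ : Set G) * (stabilizer G s : Set G)
        = (s⁻¹ : Set G) * ((stabilizer G s : Set G))⁻¹ := by rw [inv_coe_set]
      _ = ((stabilizer G s : Set G) * s)⁻¹ := (mul_inv_rev _ _).symm
      _ = s⁻¹ := by rw [h1]
  rw [e] at h
  have h2 : Nat.card (s⁻¹ : Set G) = Nat.card s := by
    rw [← Set.image_inv_eq_inv]
    exact Nat.card_image_of_injective inv_injective s
  rw [h2] at h
  exact Dvd.intro _ h.symm

/-- If the stabilizer of a finite set `s` has as many elements as `s`, then `s` is a left coset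
of a subgroup. -/
theorem exists_eq_smul_subgroup_of_card_stabilizer [Finite G] (s : Set G) (hs : s.Nonempty)
    (hcard : Nat.card (stabilizer G s) = Nat.card s) :
    ∃ (U : Subgroup G) (x : G), s = x • (U : Set G) := by
  obtain ⟨a, ha⟩ := hs
  have hsub : MulOpposite.op a • (stabilizer G s : Set G) ⊆ s := op_smul_set_stabilizer_subset ha
  have hfin : s.Finite := Set.toFinite s
  have heq : MulOpposite.op a • (stabilizer G s : Set G) = s := by
    apply Set.eq_of_subset_of_ncard_le hsub _ hfin
    rw [Set.ncard_smul_set, ← Nat.card_coe_set_eq s, ← hcard]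
    exact (Nat.card_coe_set_eq (stabilizer G s : Set G)).le
  refine ⟨(stabilizer G s).map (MulAut.conj a⁻¹).toMonoidHom, a, ?_⟩
  conv_lhs => rw [← heq]
  ext g
  simp only [Set.mem_smul_set, SetLike.mem_coe, Subgroup.mem_map, MulEquiv.coe_toMonoidHom,
    MulAut.conj_apply, inv_inv, MulOpposite.smul_eq_mul_unop, MulOpposite.unop_op, smul_eq_mul]
  constructor
  · rintro ⟨y, hy, rfl⟩
    exact ⟨a⁻¹ * y * a, ⟨y, hy, rfl⟩, by group⟩
  · rintro ⟨_, ⟨y, hy, rfl⟩, rfl⟩
    exact ⟨y, hy, by group⟩

/-- Uniqueness of the subgroup of a coset. -/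
theorem subgroup_eq_of_smul_eq (U V : Subgroup G) (x y : G)
    (h : x • (U : Set G) = y • (V : Set G)) : U = V ∧ x⁻¹ * y ∈ U := by
  have hx : x ∈ y • (V : Set G) := by
    rw [← h]; exact ⟨1, U.one_mem, by simp⟩
  have hy : y ∈ x • (U : Set G) := by
    rw [h]; exact ⟨1, V.one_mem, by simp⟩
  obtain ⟨v, hv, hxv⟩ := hx
  obtain ⟨u, hu, hyu⟩ := hy
  simp only [smul_eq_mul] at hxv hyu
  have hyU : x⁻¹ * y ∈ U := by rw [← hyu]; simpa using hu
  refine ⟨?_, hyU⟩
  ext g
  constructor
  · intro hg
    have : x * g ∈ y • (V : Set G) := by rw [← h]; exact ⟨g, hg, rfl⟩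
    obtain ⟨w, hw, hxw⟩ := this
    simp only [smul_eq_mul] at hxw
    -- g = x⁻¹ y w = v⁻¹ w
    have e : g = v⁻¹ * w := by
      have : x * g = x * (v⁻¹ * w) := by
        rw [← hxw, ← hxv]; group
      exact mul_left_cancel this
    rw [e]; exact V.mul_mem (V.inv_mem hv) hw
  · intro hg
    have : y * g ∈ x • (U : Set G) := by rw [h]; exact ⟨g, hg, rfl⟩
    obtain ⟨w, hw, hxw⟩ := this
    simp only [smul_eq_mul] at hxw
    have e : g = u⁻¹ * w := by
      have : y * g = y * (u⁻¹ * w) := by
        rw [← hxw, ← hyu]; group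
      exact mul_left_cancel this
    rw [e]; exact U.mul_mem (U.inv_mem hu) hw


/-- If `d` divides the index of every stabilizer, then `d` divides the size of the set. -/
theorem dvd_card_of_forall_dvd_index_stabilizer {X : Type*} [Finite G] [MulAction G X]
    [Finite X] (d : ℕ) (h : ∀ x : X, d ∣ (MulAction.stabilizer G x).index) : d ∣ Nat.card X := by
  classical
  haveI : Fintype (Quotient (MulAction.orbitRel G X)) := Fintype.ofFinite _
  have e := MulAction.selfEquivSigmaOrbitsQuotientStabilizer G X
  rw [Nat.card_congr e, Nat.card_sigma]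
  apply Finset.dvd_sum
  intro ω _
  rw [← Subgroup.index_eq_card]
  exact h _

/-- `M` is a left coset of a subgroup. -/
def IsLeftCoset (M : Set G) : Prop := ∃ (U : Subgroup G) (x : G), M = x • (U : Set G)

theorem IsLeftCoset.smul {M : Set G} (h : IsLeftCoset M) (g : G) : IsLeftCoset (g • M) := by
  obtain ⟨U, x, rfl⟩ := h
  exact ⟨U, g * x, by rw [mul_smul]⟩

variable [DecidableEq G]

/-- the `k`-subsets which are not cosets, as a sub-action -/
def badSub (k : ℕ) : SubMulAction G (Set.powersetCard G k) where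
  carrier := {M | ¬ IsLeftCoset (((M : Finset G) : Set G))}
  smul_mem' := by
    intro g M hM hcon
    apply hM
    have := hcon.smul g⁻¹
    rw [Set.powersetCard.coe_smul, Finset.coe_smul_finset, inv_smul_smul] at this
    exact this

theorem bad_index_dvd [Finite G] (p β r : ℕ) [hp : Fact p.Prime] (hn : Nat.card G = p ^ β * r)
    (M : badSub (G := G) (p ^ β)) : p * r ∣ (stabilizer G M).index := by
  have h1 : stabilizer G M = stabilizer G ((((M : Set.powersetCard G (p ^ β)) : Finset G)) : Set G) := by
    rw [SubMulAction.stabilizer_of_subMul, Set.powersetCard.stabilizer_coe]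
    rfl
  rw [h1]
  set s : Set G := ((((M : Set.powersetCard G (p ^ β)) : Finset G)) : Set G) with hs
  have hscard : Nat.card s = p ^ β := by
    rw [hs, Nat.card_coe_set_eq, Set.ncard_coe_finset]
    exact (M : Set.powersetCard G (p ^ β)).2
  have hdvd : Nat.card (stabilizer G s) ∣ p ^ β := hscard ▸ card_stabilizer_dvd_card s
  obtain ⟨j, hj, hcard⟩ := (Nat.dvd_prime_pow hp.out).mp hdvd
  have hsne : s.Nonempty := by
    rw [← Set.ncard_pos (Set.toFinite s), ← Nat.card_coe_set_eq, hscard]
    exact pow_pos hp.out.pos β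
  have hjlt : j < β := by
    rcases lt_or_eq_of_le hj with h | h
    · exact h
    · exfalso
      apply M.2
      apply exists_eq_smul_subgroup_of_card_stabilizer s hsne
      rw [hcard, h, hscard]
  have hmul := Subgroup.card_mul_index (stabilizer G s)
  rw [hcard, hn] at hmul
  have e : p ^ β = p ^ j * (p ^ (β - j - 1) * p) := by
    rw [← pow_succ, ← pow_add]
    congr 1
    omega
  rw [e, mul_assoc] at hmul
  have := Nat.eq_of_mul_eq_mul_left (pow_pos hp.out.pos j) hmul
  rw [this]
  exact ⟨p ^ (β - j - 1), by ring⟩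


/-- a left coset as a finset -/
noncomputable def cosetFinset (U : Subgroup G) (x : G) [Finite G] : Finset G :=
  (Set.toFinite (x • (U : Set G))).toFinset

omit [DecidableEq G] in
theorem coe_cosetFinset [Finite G] (U : Subgroup G) (x : G) :
    ((cosetFinset U x : Finset G) : Set G) = x • (U : Set G) := by
  simp [cosetFinset]

omit [DecidableEq G] in
theorem card_cosetFinset [Finite G] (U : Subgroup G) (x : G) :
    (cosetFinset U x).card = Nat.card U := by
  rw [← Set.ncard_coe_finset, coe_cosetFinset, Set.ncard_smul_set, ← Nat.card_coe_set_eq]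
  rfl

theorem card_good [Finite G] (k r : ℕ) (hk : 0 < k) (hn : Nat.card G = k * r) :
    Nat.card {M : Set.powersetCard G k // IsLeftCoset (((M : Finset G)) : Set G)} =
      Nat.card {U : Subgroup G // Nat.card U = k} * r := by
  classical
  haveI : Fintype {U : Subgroup G // Nat.card U = k} := Fintype.ofFinite _
  let f : (Σ U : {U : Subgroup G // Nat.card U = k}, G ⧸ U.1) →
      {M : Set.powersetCard G k // IsLeftCoset (((M : Finset G)) : Set G)} :=
    fun z => ⟨⟨cosetFinset z.1.1 z.2.out, by
        rw [Set.powersetCard.mem_iff, card_cosetFinset]; exact z.1.2⟩,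
      ⟨z.1.1, z.2.out, coe_cosetFinset _ _⟩⟩
  have hf : Function.Bijective f := by
    constructor
    · rintro ⟨⟨U, hU⟩, q⟩ ⟨⟨V, hV⟩, q'⟩ h
      have h1 : ((cosetFinset U q.out : Finset G) : Set G) = ((cosetFinset V q'.out : Finset G) : Set G) := by
        have := congrArg (fun z => (((z.1 : Set.powersetCard G k) : Finset G) : Set G)) h
        exact this
      rw [coe_cosetFinset, coe_cosetFinset] at h1
      obtain ⟨hUV, hmem⟩ := subgroup_eq_of_smul_eq U V _ _ h1
      subst hUV
      have hq : q = q' := by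
        rw [← QuotientGroup.out_eq' q, ← QuotientGroup.out_eq' q']
        exact QuotientGroup.eq.mpr hmem
      subst hq
      rfl
    · rintro ⟨⟨M, hMk⟩, ⟨U, x, hMU⟩⟩
      have hUk : Nat.card U = k := by
        have h1 : (M : Set G).ncard = k := by
          rw [Set.ncard_coe_finset]; exact hMk
        rw [hMU, Set.ncard_smul_set, ← Nat.card_coe_set_eq] at h1
        exact h1
      refine ⟨⟨⟨U, hUk⟩, (x : G ⧸ U)⟩, ?_⟩
      apply Subtype.ext
      apply Subtype.ext
      apply Finset.coe_injective
      change ((cosetFinset U (x : G ⧸ U).out : Finset G) : Set G) = (M : Set G)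
      rw [coe_cosetFinset, hMU]
      obtain ⟨u, hu⟩ := QuotientGroup.mk_out_eq_mul U x
      rw [hu, mul_smul, smul_coe_set u.2]
  rw [← Nat.card_eq_of_bijective f hf, Nat.card_sigma]
  have : ∀ U : {U : Subgroup G // Nat.card U = k}, Nat.card (G ⧸ U.1) = r := by
    intro U
    rw [← Subgroup.index_eq_card]
    have h1 := Subgroup.card_mul_index U.1
    rw [U.2, hn] at h1
    exact Nat.eq_of_mul_eq_mul_left hk h1
  simp only [this, Finset.sum_const, smul_eq_mul, Finset.card_univ, Nat.card_eq_fintype_card]

omit [DecidableEq G] in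
/-- **Frobenius/Wielandt**: the number of subgroups of order `p ^ β` is `≡ 1 mod p`. -/
theorem card_subgroups_modEq_one [Finite G] (p β : ℕ) [hp : Fact p.Prime]
    (hdiv : p ^ β ∣ Nat.card G) :
    Nat.card {H : Subgroup G // Nat.card H = p ^ β} ≡ 1 [MOD p] := by
  classical
  obtain ⟨r, hr⟩ := hdiv
  have hkpos : 0 < p ^ β := pow_pos hp.out.pos β
  have hrpos : 0 < r := by
    rcases Nat.eq_zero_or_pos r with h | h
    · rw [h, mul_zero] at hr
      exact absurd hr (Nat.card_pos (α := G)).ne'
    · exact h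
  set N := Nat.card {H : Subgroup G // Nat.card H = p ^ β} with hN
  -- total count
  have htotal : Nat.card (Set.powersetCard G (p ^ β)) = (p ^ β * r).choose (p ^ β) := by
    rw [Set.powersetCard.card, hr]
  -- split
  have hsplit : Nat.card (Set.powersetCard G (p ^ β)) =
      Nat.card {M : Set.powersetCard G (p ^ β) // IsLeftCoset (((M : Finset G)) : Set G)} +
      Nat.card (badSub (G := G) (p ^ β)) := by
    rw [← Nat.card_sum]
    apply Nat.card_congr
    exact (Equiv.sumCompl (fun M : Set.powersetCard G (p ^ β) =>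
      IsLeftCoset (((M : Finset G)) : Set G))).symm
  have hbad : p * r ∣ Nat.card (badSub (G := G) (p ^ β)) :=
    dvd_card_of_forall_dvd_index_stabilizer (G := G) (p * r) (fun M => bad_index_dvd p β r hr M)
  obtain ⟨X, hX⟩ := hbad
  have hgood := card_good (G := G) (p ^ β) r hkpos hr
  -- binomial identity
  have hbin : (p ^ β * r).choose (p ^ β) = r * (p ^ β * r - 1).choose (p ^ β - 1) := by
    have h1 := Nat.add_one_mul_choose_eq (p ^ β * r - 1) (p ^ β - 1)
    have e1 : p ^ β * r - 1 + 1 = p ^ β * r := Nat.sub_add_cancel (Nat.mul_pos hkpos hrpos)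
    have e2 : p ^ β - 1 + 1 = p ^ β := Nat.sub_add_cancel hkpos
    rw [e1, e2] at h1
    have h2 : p ^ β * (r * (p ^ β * r - 1).choose (p ^ β - 1)) = p ^ β * (p ^ β * r).choose (p ^ β) := by
      rw [← mul_assoc, h1, mul_comm]
    exact (Nat.eq_of_mul_eq_mul_left hkpos h2).symm
  have hluc := choose_pred_modEq_one p β r hrpos
  rw [htotal, hgood, hX, hbin] at hsplit
  -- r * c = N * r + p * r * X
  have h3 : (p ^ β * r - 1).choose (p ^ β - 1) = N + p * X := by
    have : r * (p ^ β * r - 1).choose (p ^ β - 1) = r * (N + p * X) := by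
      rw [hsplit]; ring
    exact Nat.eq_of_mul_eq_mul_left hrpos this
  rw [h3] at hluc
  have h4 : N + p * X ≡ N [MOD p] := by
    have : p * X ≡ 0 [MOD p] := (Nat.modEq_zero_iff_dvd).mpr (dvd_mul_right p X)
    simpa using Nat.ModEq.add_left N this
  exact h4.symm.trans hluc

end Cfsg.Agent.Lib.H20
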