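import Mathlib
import Cfsg.Agent.Lib.H1.IndexBasic
import Cfsg.Agent.Lib.H20.ConjClass
import Cfsg.Agent.Lib.H20.IndexCoprime
import Cfsg.Agent.Lib.H20.Wielandt

set_option autoImplicit false

/-!
# Bertram–Herzog–Mann: disconnected class-size graph, part 1

`cs x` is the class size of `x`.  `IsX T x` / `IsY T x`: `x` is non-central and all prime divisors of
`cs x` lie in `T` / outside `T`.
-/

namespace Cfsg.Agent.Lib.H20.BHM

open scoped Pointwise

variable {G : Type*} [Group G]

/-- Class size. -/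
noncomputable abbrev cs (x : G) : ℕ := (Subgroup.centralizer ({x} : Set G)).index

theorem cs_eq_one_iff (x : G) : cs x = 1 ↔ x ∈ Subgroup.center G := by
  unfold cs
  rw [Subgroup.index_eq_one, eq_top_iff, Subgroup.mem_center_iff]
  constructor
  · intro h g
    have := h (Subgroup.mem_top g)
    rwa [Subgroup.mem_centralizer_singleton_iff] at this
  · intro h g _
    rw [Subgroup.mem_centralizer_singleton_iff]
    exact h g

theorem cs_conj (g x : G) : cs (g * x * g⁻¹) = cs x := by
  unfold cs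
  rw [index_centralizer_eq_ncard_carrier, index_centralizer_eq_ncard_carrier]
  have : ConjClasses.mk (g * x * g⁻¹) = ConjClasses.mk x := by
    rw [ConjClasses.mk_eq_mk_iff_isConj, isConj_iff]
    exact ⟨g⁻¹, by group⟩
  rw [this]

theorem cs_ne_zero [Finite G] (x : G) : cs x ≠ 0 := Subgroup.index_ne_zero_of_finite

theorem cs_dvd_of_le {x u : G}
    (h : Subgroup.centralizer ({x} : Set G) ≤ Subgroup.centralizer ({u} : Set G)) : cs u ∣ cs x :=
  Subgroup.index_dvd_of_le h

theorem centralizer_le_pow (x : G) (k : ℕ) :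
    Subgroup.centralizer ({x} : Set G) ≤ Subgroup.centralizer ({x ^ k} : Set G) := by
  intro g hg
  rw [Subgroup.mem_centralizer_singleton_iff] at hg ⊢
  have hc : Commute g x := hg
  exact (hc.pow_right k).eq

/-- The conjugacy class as a set. -/
def cls (b : G) : Set G := {z | ∃ g : G, g * b * g⁻¹ = z}

theorem card_cls (b : G) : Nat.card (cls b) = cs b := by
  unfold cs
  rw [index_centralizer_eq_ncard_conj, ← Nat.card_coe_set_eq]
  congr 2
  ext z
  simp only [cls, Set.mem_setOf_eq, isConj_iff]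

theorem conj_mem_cls {b z : G} (hz : z ∈ cls b) (h : G) : h * z * h⁻¹ ∈ cls b := by
  obtain ⟨g, rfl⟩ := hz
  exact ⟨h * g, by group⟩

variable (T : Set ℕ)

/-- Non-central with all prime divisors of the class size in `T`. -/
def IsX (x : G) : Prop := cs x ≠ 1 ∧ ∀ p : ℕ, p.Prime → p ∣ cs x → p ∈ T

/-- Non-central with all prime divisors of the class size outside `T`. -/
def IsY (x : G) : Prop := cs x ≠ 1 ∧ ∀ p : ℕ, p.Prime → p ∣ cs x → p ∉ T

/-- Each class size has all its prime divisors in `T` or all outside. -/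
def Split (G : Type*) [Group G] : Prop :=
  ∀ g : G, (∀ p : ℕ, p.Prime → p ∣ cs g → p ∈ T) ∨ (∀ p : ℕ, p.Prime → p ∣ cs g → p ∉ T)

variable {T}

theorem isY_iff_isX_compl (x : G) : IsY T x ↔ IsX Tᶜ x := Iff.rfl

theorem split_compl (h : Split T G) : Split Tᶜ G := by
  intro g
  rcases h g with h1 | h1
  · right
    intro p hp hd hc
    exact hc (h1 p hp hd)
  · left
    intro p hp hd
    exact h1 p hp hd

theorem isX_compl_compl (x : G) : IsX Tᶜᶜ x ↔ IsX T x := by
  rw [compl_compl]

theorem isX_or_isY (h : Split T G) {x : G} (hx : cs x ≠ 1) : IsX T x ∨ IsY T x := by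
  rcases h x with h1 | h1
  · exact Or.inl ⟨hx, h1⟩
  · exact Or.inr ⟨hx, h1⟩

theorem not_isX_and_isY {x : G} (hX : IsX T x) (hY : IsY T x) : False := by
  obtain ⟨p, hp, hd⟩ := Nat.exists_prime_and_dvd hX.1
  exact hY.2 p hp hd (hX.2 p hp hd)

theorem coprime_of_isX_isY {a b : G} (ha : IsX T a) (hb : IsY T b) : (cs a).Coprime (cs b) := by
  by_contra hne
  obtain ⟨p, hp, hd⟩ := Nat.exists_prime_and_dvd hne
  exact hb.2 p hp (dvd_trans hd (Nat.gcd_dvd_right _ _)) (ha.2 p hp (dvd_trans hd (Nat.gcd_dvd_left _ _)))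

theorem isX_conj {a : G} (ha : IsX T a) (g : G) : IsX T (g * a * g⁻¹) := by
  unfold IsX
  rw [cs_conj]
  exact ha

theorem isY_conj {b : G} (hb : IsY T b) (g : G) : IsY T (g * b * g⁻¹) := by
  unfold IsY
  rw [cs_conj]
  exact hb

/-- If `cs a ∣ cs u` and `a` is `X`-type then so is `u`. -/
theorem isX_of_dvd [Finite G] (h : Split T G) {a u : G} (ha : IsX T a) (hd : cs a ∣ cs u) : IsX T u := by
  have hu : cs u ≠ 1 := by
    intro h1
    rw [h1, Nat.dvd_one] at hd
    exact ha.1 hd
  rcases isX_or_isY h hu with h1 | h1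
  · exact h1
  · exfalso
    obtain ⟨p, hp, hpd⟩ := Nat.exists_prime_and_dvd ha.1
    exact h1.2 p hp (dvd_trans hpd hd) (ha.2 p hp hpd)

/-- If `cs u ∣ cs a`, `u` non-central and `a` is `X`-type then so is `u`. -/
theorem isX_of_dvd' {a u : G} (ha : IsX T a) (hd : cs u ∣ cs a) (hu : cs u ≠ 1) : IsX T u :=
  ⟨hu, fun p hp hpd => ha.2 p hp (dvd_trans hpd hd)⟩

theorem isY_of_dvd [Finite G] (h : Split T G) {b u : G} (hb : IsY T b) (hd : cs b ∣ cs u) : IsY T u :=
  isX_of_dvd (split_compl h) hb hd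

theorem isY_of_dvd' {b u : G} (hb : IsY T b) (hd : cs u ∣ cs b) (hu : cs u ≠ 1) : IsY T u :=
  ⟨hu, fun p hp hpd => hb.2 p hp (dvd_trans hpd hd)⟩

theorem not_mem_center_of_isX {a : G} (ha : IsX T a) : a ∉ Subgroup.center G := fun h =>
  ha.1 ((cs_eq_one_iff a).mpr h)

theorem not_mem_center_of_isY {a : G} (ha : IsY T a) : a ∉ Subgroup.center G := fun h =>
  ha.1 ((cs_eq_one_iff a).mpr h)

section factor

variable [Finite G]

/-- Coprime class sizes: `G = C(a) C(b)`. -/
theorem exists_mul_of_coprime {a b : G} (hc : (cs a).Coprime (cs b)) (g : G) :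
    ∃ u ∈ Subgroup.centralizer ({a} : Set G), ∃ v ∈ Subgroup.centralizer ({b} : Set G), g = u * v :=
  Cfsg.Agent.Lib.H1.exists_mul_of_coprime_index hc g

/-- All or nothing: if `a` and `b` commute and have coprime class sizes, then `a` commutes with every
conjugate of `b`. -/
theorem commute_conj_of_coprime {a b : G} (hc : (cs a).Coprime (cs b)) (hab : a * b = b * a) (g : G) :
    a * (g * b * g⁻¹) = (g * b * g⁻¹) * a := by
  obtain ⟨u, hu, v, hv, rfl⟩ := exists_mul_of_coprime hc g
  rw [Subgroup.mem_centralizer_singleton_iff] at hu hv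
  have e1 : u * v * b * (u * v)⁻¹ = u * b * u⁻¹ := by
    have : v * b = b * v := hv
    calc u * v * b * (u * v)⁻¹ = u * (v * b) * v⁻¹ * u⁻¹ := by group
      _ = u * (b * v) * v⁻¹ * u⁻¹ := by rw [this]
      _ = u * b * u⁻¹ := by group
  rw [e1]
  have hua : u * a = a * u := hu
  have hua' : u⁻¹ * a = a * u⁻¹ := by
    have : a = u⁻¹ * (u * a) := by group
    calc u⁻¹ * a = u⁻¹ * a * (u * u⁻¹) := by group
      _ = u⁻¹ * (a * u) * u⁻¹ := by group
      _ = u⁻¹ * (u * a) * u⁻¹ := by rw [hua]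
      _ = a * u⁻¹ := by group
  calc a * (u * b * u⁻¹) = (a * u) * b * u⁻¹ := by group
    _ = (u * a) * b * u⁻¹ := by rw [hua]
    _ = u * (a * b) * u⁻¹ := by group
    _ = u * (b * a) * u⁻¹ := by rw [hab]
    _ = u * b * (a * u⁻¹) := by group
    _ = u * b * (u⁻¹ * a) := by rw [hua']
    _ = u * b * u⁻¹ * a := by group

end factor

end Cfsg.Agent.Lib.H20.BHM
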