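import Mathlib
import Cfsg.Agent.Lib.H20.BHM1

set_option autoImplicit false

/-!
# Bertram–Herzog–Mann, part 2: an element of maximal class size

`b0` has maximal class size `m`.  `stabK b0` is the stabilizer (under left multiplication) of the
class of `b0`; it is normal of order dividing `m`.  For `a` with `cs a` coprime to `m`:
`a⁻¹ (g a g⁻¹) ∈ stabK b0`, `stabK b0 ≤ C(a)`, `a ^ m` is central and two such elements commute.
-/

namespace Cfsg.Agent.Lib.H20.BHM

open scoped Pointwise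

variable {G : Type*} [Group G]

theorem cls_eq_of_mem {b z : G} (hz : z ∈ cls b) : cls z = cls b := by
  obtain ⟨g, rfl⟩ := hz
  ext w
  constructor
  · rintro ⟨h, rfl⟩
    exact ⟨h * g, by group⟩
  · rintro ⟨h, rfl⟩
    exact ⟨h * g⁻¹, by group⟩

theorem self_mem_cls (b : G) : b ∈ cls b := ⟨1, by group⟩

/-- The stabilizer of the class of `b0` under left multiplication. -/
def stabK (b0 : G) : Subgroup G := MulAction.stabilizer G (cls b0)

theorem mem_stabK_of_subset [Finite G] {b0 k : G} (h : ∀ z ∈ cls b0, k * z ∈ cls b0) :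
    k ∈ stabK b0 := by
  unfold stabK
  rw [MulAction.mem_stabilizer_set_iff_smul_set_subset (Set.toFinite _)]
  rintro _ ⟨z, hz, rfl⟩
  exact h z hz

theorem mul_mem_cls_of_mem_stabK {b0 k : G} (hk : k ∈ stabK b0) {z : G} (hz : z ∈ cls b0) :
    k * z ∈ cls b0 := by
  unfold stabK at hk
  rw [MulAction.mem_stabilizer_iff] at hk
  rw [← hk]
  exact ⟨z, hz, rfl⟩

instance stabK_normal [Finite G] (b0 : G) : (stabK b0).Normal := by
  constructor
  intro k hk g
  apply mem_stabK_of_subset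
  intro z hz
  have h1 : g⁻¹ * z * g⁻¹⁻¹ ∈ cls b0 := conj_mem_cls hz g⁻¹
  have h2 := mul_mem_cls_of_mem_stabK hk h1
  have h3 := conj_mem_cls h2 g
  have e : g * (k * (g⁻¹ * z * g⁻¹⁻¹)) * g⁻¹ = g * k * g⁻¹ * z := by group
  rwa [e] at h3

theorem card_stabK_dvd [Finite G] (b0 : G) : Nat.card (stabK b0) ∣ cs b0 := by
  rw [← card_cls]
  exact card_stabilizer_dvd_card (cls b0)

section maxclass

variable [Finite G] {b0 : G} (hmax : ∀ g : G, cs g ≤ cs b0)

include hmax

theorem smul_cls_eq {a : G} (hc : (cs a).Coprime (cs b0)) : a • cls b0 = cls (a * b0) := by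
  apply Set.eq_of_subset_of_ncard_le _ _ (Set.toFinite _)
  · rintro _ ⟨z, ⟨g, rfl⟩, rfl⟩
    obtain ⟨u, hu, v, hv, rfl⟩ := exists_mul_of_coprime hc g
    rw [Subgroup.mem_centralizer_singleton_iff] at hu hv
    refine ⟨u, ?_⟩
    have hv' : v * b0 * v⁻¹ = b0 := by rw [hv]; group
    have hu' : u * a = a * u := hu
    have e1 : u * v * b0 * (u * v)⁻¹ = u * (v * b0 * v⁻¹) * u⁻¹ := by group
    simp only [smul_eq_mul]
    rw [e1, hv']
    calc u * (a * b0) * u⁻¹ = (u * a) * b0 * u⁻¹ := by group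
      _ = (a * u) * b0 * u⁻¹ := by rw [hu']
      _ = a * (u * b0 * u⁻¹) := by group
  · rw [Set.ncard_smul_set, ← Nat.card_coe_set_eq, ← Nat.card_coe_set_eq, card_cls, card_cls]
    exact hmax _

theorem inv_mul_conj_mem_stabK {a : G} (hc : (cs a).Coprime (cs b0)) (g : G) :
    a⁻¹ * (g * a * g⁻¹) ∈ stabK b0 := by
  have hc' : (cs (g * a * g⁻¹)).Coprime (cs b0) := by rw [cs_conj]; exact hc
  have h1 := smul_cls_eq hmax hc
  have h2 := smul_cls_eq hmax hc'
  -- `g a g⁻¹ b0` is conjugate to `a (g⁻¹ b0 g)`, which lies in `cls (a b0)`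
  have h3 : a * (g⁻¹ * b0 * g⁻¹⁻¹) ∈ cls (a * b0) := by
    rw [← h1]
    exact ⟨_, ⟨g⁻¹, rfl⟩, rfl⟩
  have h4 : g * a * g⁻¹ * b0 ∈ cls (a * b0) := by
    have := conj_mem_cls h3 g
    have e : g * (a * (g⁻¹ * b0 * g⁻¹⁻¹)) * g⁻¹ = g * a * g⁻¹ * b0 := by group
    rwa [e] at this
  have h5 : cls (g * a * g⁻¹ * b0) = cls (a * b0) := cls_eq_of_mem h4
  rw [h5, ← h1] at h2
  unfold stabK
  rw [MulAction.mem_stabilizer_iff, mul_smul, h2, inv_smul_smul]

theorem stabK_le_centralizer {a : G} (hc : (cs a).Coprime (cs b0)) :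
    stabK b0 ≤ Subgroup.centralizer ({a} : Set G) := by
  rw [← Subgroup.relIndex_eq_one]
  have h1 : (Subgroup.centralizer ({a} : Set G)).relIndex (stabK b0) ∣ cs a :=
    Cfsg.Agent.Lib.H1.relIndex_dvd_index_of_normal_right _ _
  have h2 : (Subgroup.centralizer ({a} : Set G)).relIndex (stabK b0) ∣ cs b0 :=
    (Subgroup.relIndex_dvd_card _ _).trans (card_stabK_dvd b0)
  exact Nat.eq_one_of_dvd_coprimes hc h1 h2

/-- `g a g⁻¹ = a k` with `k ∈ stabK b0` commuting with `a`. -/
theorem exists_conj_eq_mul {a : G} (hc : (cs a).Coprime (cs b0)) (g : G) :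
    ∃ k ∈ stabK b0, g * a * g⁻¹ = a * k ∧ Commute a k := by
  refine ⟨a⁻¹ * (g * a * g⁻¹), inv_mul_conj_mem_stabK hmax hc g, by group, ?_⟩
  have := stabK_le_centralizer hmax hc (inv_mul_conj_mem_stabK hmax hc g)
  rw [Subgroup.mem_centralizer_singleton_iff] at this
  exact (this : Commute _ a).symm

theorem pow_mem_center {a : G} (hc : (cs a).Coprime (cs b0)) : a ^ cs b0 ∈ Subgroup.center G := by
  obtain ⟨d, hd⟩ := card_stabK_dvd b0
  have key : a ^ Nat.card (stabK b0) ∈ Subgroup.center G := by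
    rw [Subgroup.mem_center_iff]
    intro g
    obtain ⟨k, hk, hgk, hcomm⟩ := exists_conj_eq_mul hmax hc g
    have hk1 : k ^ Nat.card (stabK b0) = 1 := by
      have := pow_card_eq_one' (G := stabK b0) (x := ⟨k, hk⟩)
      exact congrArg Subtype.val this
    have h1 : g * a ^ Nat.card (stabK b0) * g⁻¹ = a ^ Nat.card (stabK b0) := by
      rw [← conj_pow, hgk, hcomm.mul_pow, hk1, mul_one]
    calc g * a ^ Nat.card (stabK b0) = g * a ^ Nat.card (stabK b0) * g⁻¹ * g := by group
      _ = a ^ Nat.card (stabK b0) * g := by rw [h1]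
  rw [hd, pow_mul]
  exact Subgroup.pow_mem _ key d

/-- The commutator map `x ↦ x⁻¹ a x a⁻¹` from the centralizer of `stabK b0` to `stabK b0`. -/
noncomputable def commHom {a : G} (hc : (cs a).Coprime (cs b0)) :
    ↥(Subgroup.centralizer (stabK b0 : Set G)) →* ↥(stabK b0) :=
  MonoidHom.mk' (fun x => ⟨(x : G)⁻¹ * a * x * a⁻¹, by
    have h1 := inv_mul_conj_mem_stabK hmax hc (x : G)⁻¹
    have h2 := (stabK_normal b0).conj_mem _ h1 a
    have e : a * (a⁻¹ * ((x : G)⁻¹ * a * (x : G)⁻¹⁻¹)) * a⁻¹ = (x : G)⁻¹ * a * x * a⁻¹ := by group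
    rwa [e] at h2⟩) (by
    intro x y
    apply Subtype.ext
    simp only [Subgroup.coe_mul]
    have hx : (x : G)⁻¹ * a * x * a⁻¹ ∈ stabK b0 := by
      have h1 := inv_mul_conj_mem_stabK hmax hc (x : G)⁻¹
      have h2 := (stabK_normal b0).conj_mem _ h1 a
      have e : a * (a⁻¹ * ((x : G)⁻¹ * a * (x : G)⁻¹⁻¹)) * a⁻¹ = (x : G)⁻¹ * a * x * a⁻¹ := by
        group
      rwa [e] at h2
    have hy := y.2
    rw [Subgroup.mem_centralizer_iff] at hy
    have h3 := hy _ hx
    -- h3 : (x⁻¹ a x a⁻¹) * y = y * (x⁻¹ a x a⁻¹)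
    calc ((x : G) * (y : G))⁻¹ * a * ((x : G) * y) * a⁻¹
        = (y : G)⁻¹ * (((x : G)⁻¹ * a * x * a⁻¹) * y) * ((y : G)⁻¹ * a * y * a⁻¹) := by group
      _ = (y : G)⁻¹ * ((y : G) * ((x : G)⁻¹ * a * x * a⁻¹)) * ((y : G)⁻¹ * a * y * a⁻¹) := by
          rw [h3]
      _ = (x : G)⁻¹ * a * x * a⁻¹ * ((y : G)⁻¹ * a * y * a⁻¹) := by group)

theorem commHom_ker {a : G} (hc : (cs a).Coprime (cs b0)) :
    (commHom hmax hc).ker =
      (Subgroup.centralizer ({a} : Set G)).subgroupOf (Subgroup.centralizer (stabK b0 : Set G)) := by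
  ext x
  rw [MonoidHom.mem_ker, Subgroup.mem_subgroupOf, Subgroup.mem_centralizer_singleton_iff]
  unfold commHom
  rw [MonoidHom.mk'_apply, Subtype.ext_iff]
  simp only [Subgroup.coe_one]
  constructor
  · intro h
    have : (x : G)⁻¹ * a * x = a := by
      calc (x : G)⁻¹ * a * x = ((x : G)⁻¹ * a * x * a⁻¹) * a := by group
        _ = a := by rw [h, one_mul]
    calc (x : G) * a = x * ((x : G)⁻¹ * a * x) := by rw [this]
      _ = a * x := by group
  · intro h
    calc (x : G)⁻¹ * a * x * a⁻¹ = (x : G)⁻¹ * (a * x) * a⁻¹ := by group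
      _ = (x : G)⁻¹ * (x * a) * a⁻¹ := by rw [h]
      _ = 1 := by group

/-- Two elements whose class sizes are coprime to the maximal class size commute. -/
theorem commute_of_coprime {a a' : G} (hc : (cs a).Coprime (cs b0)) (hc' : (cs a').Coprime (cs b0)) :
    a * a' = a' * a := by
  have hle : Subgroup.centralizer (stabK b0 : Set G) ≤ Subgroup.centralizer ({a} : Set G) := by
    rw [← Subgroup.relIndex_eq_one]
    have h1 : (Subgroup.centralizer ({a} : Set G)).relIndex (Subgroup.centralizer (stabK b0 : Set G))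
        ∣ cs a := Cfsg.Agent.Lib.H1.relIndex_dvd_index_of_normal_right _ _
    have h2 : (Subgroup.centralizer ({a} : Set G)).relIndex (Subgroup.centralizer (stabK b0 : Set G))
        ∣ cs b0 := by
      unfold Subgroup.relIndex
      rw [← commHom_ker hmax hc, Subgroup.index_ker]
      exact (Subgroup.card_subgroup_dvd_card _).trans (card_stabK_dvd b0)
    exact Nat.eq_one_of_dvd_coprimes hc h1 h2
  have ha' : a' ∈ Subgroup.centralizer (stabK b0 : Set G) := by
    rw [Subgroup.mem_centralizer_iff]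
    intro k hk
    have := stabK_le_centralizer hmax hc' hk
    rw [Subgroup.mem_centralizer_singleton_iff] at this
    exact this
  have := hle ha'
  rw [Subgroup.mem_centralizer_singleton_iff] at this
  exact this.symm

end maxclass

end Cfsg.Agent.Lib.H20.BHM
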