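import Mathlib
import Cfsg.Agent.Lib.H20.BHM2

set_option autoImplicit false

/-!
# Bertram–Herzog–Mann, part 3: the abelian normal subgroup of `T`-elements
-/

namespace Cfsg.Agent.Lib.H20.BHM

open scoped Pointwise

variable {G : Type*} [Group G]

/-- All prime divisors of the class size lie in `T`. -/
def IsT (T : Set ℕ) (x : G) : Prop := ∀ p : ℕ, p.Prime → p ∣ cs x → p ∈ T

theorem isT_of_isX {T : Set ℕ} {x : G} (h : IsX T x) : IsT T x := h.2

theorem isT_of_mem_center {T : Set ℕ} {x : G} (h : x ∈ Subgroup.center G) : IsT T x := by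
  intro p hp hd
  rw [(cs_eq_one_iff x).mpr h, Nat.dvd_one] at hd
  exact absurd hd hp.ne_one

theorem isX_or_mem_center_of_isT {T : Set ℕ} {x : G} (h : IsT T x) :
    IsX T x ∨ x ∈ Subgroup.center G := by
  by_cases h1 : cs x = 1
  · exact Or.inr ((cs_eq_one_iff x).mp h1)
  · exact Or.inl ⟨h1, h⟩

theorem cs_inv (x : G) : cs x⁻¹ = cs x := by
  unfold cs
  congr 1
  ext g
  rw [Subgroup.mem_centralizer_singleton_iff, Subgroup.mem_centralizer_singleton_iff]
  constructor
  · intro h
    calc g * x = x * (x⁻¹ * g) * x := by group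
      _ = x * (g * x⁻¹) * x := by rw [h]
      _ = x * g := by group
  · intro h
    calc g * x⁻¹ = x⁻¹ * (x * g) * x⁻¹ := by group
      _ = x⁻¹ * (g * x) * x⁻¹ := by rw [h]
      _ = x⁻¹ * g := by group

/-- The standing hypotheses: class sizes split along `T`, `b0` has maximal class size and is of
`Y`-type. -/
structure Setup (T : Set ℕ) (b0 : G) : Prop where
  split : Split T G
  hmax : ∀ g : G, cs g ≤ cs b0
  hb0 : IsY T b0

section setup

variable [Finite G] {T : Set ℕ} {b0 : G} (S : Setup T b0)

include S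

theorem Setup.coprime_of_isT {a : G} (ha : IsT T a) : (cs a).Coprime (cs b0) := by
  by_contra hne
  obtain ⟨p, hp, hd⟩ := Nat.exists_prime_and_dvd hne
  exact S.hb0.2 p hp (dvd_trans hd (Nat.gcd_dvd_right _ _)) (ha p hp (dvd_trans hd (Nat.gcd_dvd_left _ _)))

theorem Setup.not_mem_of_dvd {r : ℕ} (hr : r.Prime) (hd : r ∣ cs b0) : r ∉ T :=
  S.hb0.2 r hr hd

theorem Setup.commute_of_isT {a a' : G} (ha : IsT T a) (ha' : IsT T a') : a * a' = a' * a :=
  commute_of_coprime S.hmax (S.coprime_of_isT ha) (S.coprime_of_isT ha')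

theorem Setup.pow_mem_center {a : G} (ha : IsT T a) : a ^ cs b0 ∈ Subgroup.center G :=
  BHM.pow_mem_center S.hmax (S.coprime_of_isT ha)

/-- Any `g` is central, of `X`-type or of `Y`-type. -/
theorem Setup.trichotomy (g : G) : g ∈ Subgroup.center G ∨ IsX T g ∨ IsY T g := by
  by_cases h1 : cs g = 1
  · exact Or.inl ((cs_eq_one_iff g).mp h1)
  · exact Or.inr (isX_or_isY S.split h1)

/-- The centralizer of a `T`-element is normal. -/
theorem Setup.centralizer_normal {a : G} (ha : IsT T a) :
    (Subgroup.centralizer ({a} : Set G)).Normal := by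
  constructor
  intro x hx g
  rw [Subgroup.mem_centralizer_singleton_iff] at hx ⊢
  -- hx : x * a = a * x;  goal: (g x g⁻¹) * a = a * (g x g⁻¹)
  have key : x * (g⁻¹ * a * g⁻¹⁻¹) = (g⁻¹ * a * g⁻¹⁻¹) * x := by
    rcases S.trichotomy x with h | h | h
    · rw [Subgroup.mem_center_iff] at h
      exact (h _).symm
    · apply S.commute_of_isT h.2
      unfold IsT
      rw [cs_conj]
      exact ha
    · rcases isX_or_mem_center_of_isT ha with ha' | ha'
      · exact commute_conj_of_coprime (coprime_of_isX_isY ha' h).symm hx g⁻¹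
      · have : g⁻¹ * a * g⁻¹⁻¹ = a := by
          rw [Subgroup.mem_center_iff] at ha'
          rw [ha' g⁻¹]; group
        rw [this]
        exact hx
  calc g * x * g⁻¹ * a = g * (x * (g⁻¹ * a * g⁻¹⁻¹)) * g⁻¹ := by group
    _ = g * ((g⁻¹ * a * g⁻¹⁻¹) * x) * g⁻¹ := by rw [key]
    _ = a * (g * x * g⁻¹) := by group

/-- Products of `T`-elements are `T`-elements. -/
theorem Setup.isT_mul {a a' : G} (ha : IsT T a) (ha' : IsT T a') : IsT T (a * a') := by
  intro p hp hd
  have := S.centralizer_normal ha
  have hle : Subgroup.centralizer ({a} : Set G) ⊓ Subgroup.centralizer ({a'} : Set G) ≤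
      Subgroup.centralizer ({a * a'} : Set G) := by
    intro g hg
    rw [Subgroup.mem_inf, Subgroup.mem_centralizer_singleton_iff,
      Subgroup.mem_centralizer_singleton_iff] at hg
    rw [Subgroup.mem_centralizer_singleton_iff]
    have h1 : Commute g a := hg.1
    have h2 : Commute g a' := hg.2
    exact (h1.mul_right h2).eq
  have h1 : p ∣ (Subgroup.centralizer ({a} : Set G) ⊓ Subgroup.centralizer ({a'} : Set G)).index :=
    hd.trans (Subgroup.index_dvd_of_le hle)
  have h2 := Subgroup.relIndex_mul_index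
    (inf_le_right : Subgroup.centralizer ({a} : Set G) ⊓ Subgroup.centralizer ({a'} : Set G) ≤
      Subgroup.centralizer ({a'} : Set G))
  rw [Subgroup.inf_relIndex_right] at h2
  rw [← h2] at h1
  rcases (Nat.Prime.dvd_mul hp).mp h1 with h3 | h3
  · exact ha p hp (h3.trans (Subgroup.relIndex_dvd_index_of_normal _ _))
  · exact ha' p hp h3

/-- The subgroup of `T`-elements (central or `X`-type elements). -/
def Setup.N : Subgroup G where
  carrier := {x | IsT T x}
  one_mem' := isT_of_mem_center (Subgroup.one_mem _)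
  mul_mem' := fun ha hb => S.isT_mul ha hb
  inv_mem' := by
    intro x hx
    show IsT T x⁻¹
    unfold IsT
    rw [cs_inv]
    exact hx

theorem Setup.mem_N {x : G} : x ∈ S.N ↔ IsT T x := Iff.rfl

theorem Setup.N_normal : (S.N).Normal := by
  constructor
  intro x hx g
  rw [S.mem_N] at hx ⊢
  unfold IsT
  rw [cs_conj]
  exact hx

theorem Setup.center_le_N : Subgroup.center G ≤ S.N := fun _ hx => isT_of_mem_center hx

theorem Setup.N_comm {x y : G} (hx : x ∈ S.N) (hy : y ∈ S.N) : x * y = y * x :=
  S.commute_of_isT hx hy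

theorem Setup.not_mem_N_of_isY {y : G} (hy : IsY T y) : y ∉ S.N := by
  intro h
  rcases isX_or_mem_center_of_isT h with h1 | h1
  · exact not_isX_and_isY h1 hy
  · exact not_mem_center_of_isY hy h1

/-- The product of a `Y`-type and an `X`-type element is of `Y`-type. -/
theorem Setup.isY_mul_of_isY_isT {y v : G} (hy : IsY T y) (hv : IsT T v) : IsY T (y * v) := by
  rcases S.trichotomy (y * v) with h | h | h
  · exfalso
    apply S.not_mem_N_of_isY hy
    have h1 : y * v ∈ S.N := S.center_le_N h
    have h2 : v⁻¹ ∈ S.N := (S.N).inv_mem hv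
    have := (S.N).mul_mem h1 h2
    rwa [mul_inv_cancel_right] at this
  · exfalso
    apply S.not_mem_N_of_isY hy
    have h1 : y * v ∈ S.N := h.2
    have h2 : v⁻¹ ∈ S.N := (S.N).inv_mem hv
    have := (S.N).mul_mem h1 h2
    rwa [mul_inv_cancel_right] at this
  · exact h

/-- Commuting elements of coprime orders cannot be of `X`-type and `Y`-type. -/
theorem Setup.mix_false {u v : G} (hu : IsX T u) (hv : IsY T v) (hc : Commute u v)
    (hco : (orderOf u).Coprime (orderOf v)) : False := by
  have h1 := centralizer_mul_of_coprime hc hco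
  have h2 : cs (u * v) = cs u * cs v := by
    unfold cs
    rw [h1]
    exact index_inf_of_coprime _ _ (coprime_of_isX_isY hu hv)
  obtain ⟨p, hp, hpd⟩ := Nat.exists_prime_and_dvd hu.1
  obtain ⟨q, hq, hqd⟩ := Nat.exists_prime_and_dvd hv.1
  rcases S.split (u * v) with h | h
  · exact hv.2 q hq hqd (h q hq (by rw [h2]; exact Dvd.dvd.mul_left hqd _))
  · exact h p hp (by rw [h2]; exact Dvd.dvd.mul_right hpd _) (hu.2 p hp hpd)

/-- An element of `r`-power order, `r ∣ m`, commutes with every `T`-element. -/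
theorem Setup.commute_of_orderOf_pow {r j : ℕ} (hr : r.Prime) (hd : r ∣ cs b0) {y : G}
    (hy : orderOf y = r ^ j) {a : G} (ha : IsT T a) : Commute y a := by
  have := S.centralizer_normal ha
  have h1 : y ^ cs a ∈ Subgroup.centralizer ({a} : Set G) := Subgroup.pow_index_mem _ y
  have hco : (cs a).Coprime (orderOf y) := by
    rw [hy]
    apply Nat.Coprime.pow_right
    rw [Nat.coprime_comm, Nat.Prime.coprime_iff_not_dvd hr]
    intro hra
    exact S.not_mem_of_dvd hr hd (ha r hr hra)
  obtain ⟨t, ht⟩ := exists_pow_eq_self_of_coprime hco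
  have h2 : y ∈ Subgroup.centralizer ({a} : Set G) := by
    rw [← ht]
    exact Subgroup.pow_mem _ h1 t
  rw [Subgroup.mem_centralizer_singleton_iff] at h2
  exact h2

end setup

end Cfsg.Agent.Lib.H20.BHM
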