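import Mathlib

set_option autoImplicit false

namespace Cfsg.Agent.Lib.H20

open scoped Pointwise

-- (proof copied from helper22's Cfsg.Agent.S4387.exists_not_mem_conj)
/-- In a finite group, the conjugates of a proper subgroup do not cover the group. -/
theorem exists_not_mem_conj {G : Type*} [Group G] [Finite G] (M : Subgroup G) (hM : M ≠ ⊤) :
    ∃ g : G, ∀ x : G, g ∉ MulAut.conj x • M := by
  classical
  by_contra hcon
  push Not at hcon
  haveI := Fintype.ofFinite G
  haveI : Fintype (G ⧸ M) := Fintype.ofFinite _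
  haveI : Fintype (MulAction.orbitRel.Quotient G (G ⧸ M)) := Fintype.ofFinite _
  have hB := MulAction.sum_card_fixedBy_eq_card_orbits_mul_card_group G (G ⧸ M)
  have hΩ : Fintype.card (MulAction.orbitRel.Quotient G (G ⧸ M)) = 1 := by
    rw [Fintype.card_eq_one_iff]
    refine ⟨Quotient.mk'' (QuotientGroup.mk 1), ?_⟩
    intro y
    induction y using Quotient.inductionOn' with
    | _ a =>
      apply Quotient.sound'
      exact MulAction.exists_smul_eq G _ _
  rw [hΩ, one_mul] at hB
  have h1 : ∀ g : G, 1 ≤ Fintype.card (MulAction.fixedBy (G ⧸ M) g) := by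
    intro g
    obtain ⟨x, hx⟩ := hcon g
    rw [Subgroup.mem_pointwise_smul_iff_inv_smul_mem] at hx
    simp only [MulAut.smul_def, map_inv, MulAut.inv_apply, MulAut.conj_symm_apply] at hx
    apply Fintype.card_pos_iff.2
    refine ⟨⟨QuotientGroup.mk x, ?_⟩⟩
    rw [MulAction.mem_fixedBy]
    change (QuotientGroup.mk (g * x) : G ⧸ M) = QuotientGroup.mk x
    rw [QuotientGroup.eq]
    have : (g * x)⁻¹ * x = (x⁻¹ * g * x)⁻¹ := by group
    rw [this]
    exact M.inv_mem hx
  have h2 : 2 ≤ Fintype.card (MulAction.fixedBy (G ⧸ M) (1 : G)) := by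
    have hidx : M.index ≠ 1 := fun h => hM (Subgroup.index_eq_one.1 h)
    have hidx0 : M.index ≠ 0 := Subgroup.index_ne_zero_of_finite
    have : Fintype.card (MulAction.fixedBy (G ⧸ M) (1 : G)) = M.index := by
      rw [Subgroup.index, Nat.card_eq_fintype_card]
      apply Fintype.card_congr
      exact Equiv.subtypeUnivEquiv (fun q => by simp [MulAction.mem_fixedBy])
    omega
  have hsum : Fintype.card G + 1 ≤ ∑ g : G, Fintype.card (MulAction.fixedBy (G ⧸ M) g) := by
    rw [← Finset.add_sum_erase _ _ (Finset.mem_univ (1 : G))]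
    have : (Finset.univ.erase (1 : G)).card ≤ ∑ g ∈ Finset.univ.erase (1 : G), Fintype.card (MulAction.fixedBy (G ⧸ M) g) := by
      rw [Finset.card_eq_sum_ones]
      exact Finset.sum_le_sum (fun g _ => h1 g)
    rw [Finset.card_erase_of_mem (Finset.mem_univ _), Finset.card_univ] at this
    have hpos : 0 < Fintype.card G := Fintype.card_pos
    omega
  omega


end Cfsg.Agent.Lib.H20
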