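import Mathlib

set_option autoImplicit false

namespace Cfsg.Agent.Lib.H20

/-- Split an element of order `a * b` (`a`, `b` coprime) into commuting powers of orders dividing `a` and `b`. -/
theorem exists_pow_decomp {G : Type*} [Group G] (g : G) (a b : ℕ) (hab : orderOf g = a * b)
    (hcop : a.Coprime b) :
    ∃ k l : ℕ, g ^ k * g ^ l = g ∧ (g ^ k) ^ a = 1 ∧ (g ^ l) ^ b = 1 := by
  obtain ⟨k, hk1, hk2⟩ := Nat.chineseRemainder hcop 1 0
  obtain ⟨l, hl1, hl2⟩ := Nat.chineseRemainder hcop 0 1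
  refine ⟨k, l, ?_, ?_, ?_⟩
  · rw [← pow_add]
    conv_rhs => rw [← pow_one g]
    rw [pow_eq_pow_iff_modEq, hab]
    rw [← Nat.modEq_and_modEq_iff_modEq_mul hcop]
    constructor
    · simpa using hk1.add hl1
    · simpa using hk2.add hl2
  · rw [← pow_mul, ← orderOf_dvd_iff_pow_eq_one, hab, mul_comm k a]
    apply Nat.mul_dvd_mul_left
    exact (Nat.modEq_zero_iff_dvd).mp hk2
  · rw [← pow_mul, ← orderOf_dvd_iff_pow_eq_one, hab]
    apply Nat.mul_dvd_mul_right
    exact (Nat.modEq_zero_iff_dvd).mp hl1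

/-- Split an element of finite order into its `p`-part and `p'`-part, both powers of it. -/
theorem exists_pPart_pPrimePart {G : Type*} [Group G] (g : G) (hg : IsOfFinOrder g) (p : ℕ)
    (hp : p.Prime) :
    ∃ k l : ℕ, g ^ k * g ^ l = g ∧ (∃ e : ℕ, orderOf (g ^ k) = p ^ e) ∧
      (orderOf (g ^ l)).Coprime p := by
  have hn0 : orderOf g ≠ 0 := (orderOf_pos_iff.mpr hg).ne'
  set n := orderOf g with hn
  have hab : n = p ^ n.factorization p * (n / p ^ n.factorization p) :=
    (Nat.ordProj_mul_ordCompl_eq_self n p).symm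
  have hcop : (p ^ n.factorization p).Coprime (n / p ^ n.factorization p) :=
    Nat.Coprime.pow_left _ (Nat.coprime_ordCompl hp hn0)
  obtain ⟨k, l, h1, h2, h3⟩ := exists_pow_decomp g _ _ hab hcop
  refine ⟨k, l, h1, ?_, ?_⟩
  · have := orderOf_dvd_of_pow_eq_one h2
    obtain ⟨e, _, he⟩ := (Nat.dvd_prime_pow hp).mp this
    exact ⟨e, he⟩
  · have := orderOf_dvd_of_pow_eq_one h3
    exact Nat.Coprime.coprime_dvd_left this (Nat.coprime_ordCompl hp hn0).symm

end Cfsg.Agent.Lib.H20
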