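import Mathlib

set_option autoImplicit false

namespace Cfsg.Agent.Lib.H20

open scoped Pointwise

/-- Elementwise TI property of a subgroup. -/
def TIel {G : Type*} [Group G] (H : Subgroup G) : Prop :=
  ∀ g x : G, x ∈ H → x ≠ 1 → g * x * g⁻¹ ∈ H → g ∈ Subgroup.normalizer (H : Set G)

theorem mem_conj_smul_iff {G : Type*} [Group G] (H : Subgroup G) (g y : G) :
    y ∈ MulAut.conj g • H ↔ g⁻¹ * y * g ∈ H := by
  rw [Subgroup.mem_pointwise_smul_iff_inv_smul_mem]
  simp [MulAut.smul_def, MulAut.conj_apply]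

theorem mem_map_conj_iff {G : Type*} [Group G] (H : Subgroup G) (g y : G) :
    y ∈ H.map (MulAut.conj g).toMonoidHom ↔ g⁻¹ * y * g ∈ H := by
  constructor
  · rintro ⟨x, hx, rfl⟩
    simp only [MulEquiv.coe_toMonoidHom, MulAut.conj_apply]
    have : g⁻¹ * (g * x * g⁻¹) * g = x := by group
    rwa [this]
  · intro h
    refine ⟨g⁻¹ * y * g, h, ?_⟩
    simp only [MulEquiv.coe_toMonoidHom, MulAut.conj_apply]
    group

theorem map_conj_eq_smul {G : Type*} [Group G] (H : Subgroup G) (g : G) :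
    H.map (MulAut.conj g).toMonoidHom = MulAut.conj g • H := by
  ext y
  rw [mem_map_conj_iff, mem_conj_smul_iff]

/-- Lattice form of TI (as in the statements) is the elementwise form. -/
theorem ti_lattice_iff_TIel {G : Type*} [Group G] (H : Subgroup G) :
    (∀ g : G, g ∉ Subgroup.normalizer (H : Set G) → H ⊓ (MulAut.conj g • H) = ⊥) ↔ TIel H := by
  constructor
  · intro h g x hx hx1 hgx
    by_contra hg
    have h1 := h g hg
    have h2 : g * x * g⁻¹ ∈ H ⊓ (MulAut.conj g • H) := by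
      rw [Subgroup.mem_inf]
      refine ⟨hgx, ?_⟩
      rw [mem_conj_smul_iff]
      have : g⁻¹ * (g * x * g⁻¹) * g = x := by group
      rwa [this]
    rw [h1, Subgroup.mem_bot] at h2
    apply hx1
    have : x = g⁻¹ * (g * x * g⁻¹) * g := by group
    rw [this, h2]; group
  · intro h g hg
    rw [Subgroup.eq_bot_iff_forall]
    intro y hy12
    rw [Subgroup.mem_inf] at hy12
    obtain ⟨hy1, hy2⟩ := hy12
    by_contra hy
    rw [mem_conj_smul_iff] at hy2
    apply hg
    have hne : g⁻¹ * y * g ≠ 1 := by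
      intro h1
      apply hy
      have : y = g * (g⁻¹ * y * g) * g⁻¹ := by group
      rw [this, h1]; group
    have := h g (g⁻¹ * y * g) hy2 hne (by
      have : g * (g⁻¹ * y * g) * g⁻¹ = y := by group
      rwa [this])
    exact this

/-- `Cfsg.IsTISubset`-style statement for a subgroup is the elementwise form. -/
theorem tiSubset_iff_TIel {G : Type*} [Group G] (H : Subgroup G) :
    (∀ g : G, g ∉ Subgroup.normalizer (H : Set G) → ∀ x ∈ (H : Set G), g * x * g⁻¹ ∈ (H : Set G) → x = 1) ↔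
      TIel H := by
  constructor
  · intro h g x hx hx1 hgx
    by_contra hg
    exact hx1 (h g hg x hx hgx)
  · intro h g hg x hx hgx
    by_contra hx1
    exact hg (h g x hx hx1 hgx)

/-- Conjugates of TI subgroups are TI. -/
theorem TIel.conj {G : Type*} [Group G] {H : Subgroup G} (h : TIel H) (k : G) :
    TIel (MulAut.conj k • H) := by
  intro g x hx hx1 hgx
  rw [mem_conj_smul_iff] at hx hgx
  have hne : k⁻¹ * x * k ≠ 1 := by
    intro h1
    apply hx1
    have : x = k * (k⁻¹ * x * k) * k⁻¹ := by group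
    rw [this, h1]; group
  have h2 : (k⁻¹ * g * k) * (k⁻¹ * x * k) * (k⁻¹ * g * k)⁻¹ ∈ H := by
    have : (k⁻¹ * g * k) * (k⁻¹ * x * k) * (k⁻¹ * g * k)⁻¹ = k⁻¹ * (g * x * g⁻¹) * k := by group
    rwa [this]
  have h3 := h _ _ hx hne h2
  rw [Subgroup.mem_normalizer_iff] at h3 ⊢
  intro y
  rw [mem_conj_smul_iff, mem_conj_smul_iff]
  have h4 := h3 (k⁻¹ * y * k)
  have : (k⁻¹ * g * k) * (k⁻¹ * y * k) * (k⁻¹ * g * k)⁻¹ = k⁻¹ * (g * y * g⁻¹) * k := by group
  rw [this] at h4
  exact h4

end Cfsg.Agent.Lib.H20
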