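import Mathlib
import Cfsg.Agent.Lib.H20.BHM3
import Cfsg.Agent.Lib.H20.ConjCover
import Cfsg.Agent.Lib.H20.PowDecomp
import Cfsg.Agent.Lib.H20.TI
import Cfsg.Agent.Lib.H16.SylowBasic
import Cfsg.Agent.S4034

set_option autoImplicit false

/-!
# Bertram–Herzog–Mann, part 4: the bad case

A `Y`-type element of `r`-power order with `r ∣ m` cannot exist.
-/

namespace Cfsg.Agent.Lib.H20.BHM

open scoped Pointwise

/-- If `P` is covered by its centre and the `P`-conjugates of `P0 ≤ P` then `P = P0 Z(P)`. -/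
theorem cover_lemma {G : Type*} [Group G] [Finite G] (P P0 : Subgroup G)
    (hcover : ∀ u ∈ P, u ∈ Subgroup.centralizer (P : Set G) ∨ ∃ p ∈ P, p⁻¹ * u * p ∈ P0) :
    ∀ u ∈ P, ∃ p0 ∈ P0, ∃ z ∈ P, z ∈ Subgroup.centralizer (P : Set G) ∧ u = p0 * z := by
  classical
  let M : Subgroup ↥P :=
    { carrier := {u | ∃ p0 ∈ P0, ∃ z ∈ P, z ∈ Subgroup.centralizer (P : Set G) ∧ (u : G) = p0 * z}
      one_mem' := ⟨1, P0.one_mem, 1, P.one_mem, Subgroup.one_mem _, by simp⟩
      mul_mem' := by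
        rintro u u' ⟨p0, hp0, z, hz, hzc, hu⟩ ⟨p0', hp0', z', hz', hzc', hu'⟩
        refine ⟨p0 * p0', P0.mul_mem hp0 hp0', z * z', P.mul_mem hz hz',
          Subgroup.mul_mem _ hzc hzc', ?_⟩
        rw [Subgroup.mem_centralizer_iff] at hzc
        have hp0'P : p0' ∈ P := by
          have h1 : (u' : G) * z'⁻¹ ∈ P := P.mul_mem u'.2 (P.inv_mem hz')
          have e : (u' : G) * z'⁻¹ = p0' := by rw [hu']; group
          rwa [e] at h1
        have h1 := hzc p0' hp0'P
        rw [Subgroup.coe_mul, hu, hu']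
        calc p0 * z * (p0' * z') = p0 * (z * p0') * z' := by group
          _ = p0 * (p0' * z) * z' := by rw [h1]
          _ = p0 * p0' * (z * z') := by group
      inv_mem' := by
        rintro u ⟨p0, hp0, z, hz, hzc, hu⟩
        refine ⟨p0⁻¹, P0.inv_mem hp0, z⁻¹, P.inv_mem hz, Subgroup.inv_mem _ hzc, ?_⟩
        have hzc' := Subgroup.inv_mem _ hzc
        rw [Subgroup.mem_centralizer_iff] at hzc'
        have hp0P : p0⁻¹ ∈ P := by
          have h1 : ((u : G) * z⁻¹)⁻¹ ∈ P := P.inv_mem (P.mul_mem u.2 (P.inv_mem hz))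
          have e : ((u : G) * z⁻¹)⁻¹ = p0⁻¹ := by rw [hu]; group
          rwa [e] at h1
        have h1 := hzc' p0⁻¹ hp0P
        rw [Subgroup.coe_inv, hu, mul_inv_rev, h1] }
  have hM : M = ⊤ := by
    by_contra hne
    obtain ⟨g, hg⟩ := exists_not_mem_conj M hne
    rcases hcover g g.2 with h | ⟨p, hp, hpg⟩
    · apply hg 1
      rw [mem_conj_smul_iff]
      refine ⟨1, P0.one_mem, g, g.2, h, ?_⟩
      simp
    · apply hg ⟨p, hp⟩
      rw [mem_conj_smul_iff]
      refine ⟨p⁻¹ * g * p, hpg, 1, P.one_mem, Subgroup.one_mem _, ?_⟩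
      simp
  intro u hu
  have : (⟨u, hu⟩ : ↥P) ∈ M := by rw [hM]; trivial
  obtain ⟨p0, hp0, z, hz, hzc, h⟩ := this
  exact ⟨p0, hp0, z, hz, hzc, h⟩

/-- An element whose order is coprime to the index of a normal subgroup lies in it. -/
theorem mem_of_normal_of_coprime {G : Type*} [Group G] (H : Subgroup G) [H.Normal] {u : G}
    (h : (H.index).Coprime (orderOf u)) : u ∈ H := by
  obtain ⟨t, ht⟩ := exists_pow_eq_self_of_coprime h
  rw [← ht]
  exact Subgroup.pow_mem _ (Subgroup.pow_index_mem _ u) t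

/-- A subgroup of `r`-power index in a finite solvable group contains a Hall `r'`-subgroup. -/
theorem exists_hall_le {G : Type*} [Group G] [Finite G] [Group.IsSolvable G] {r m' a k : ℕ}
    (hr : r.Prime) (hG : Nat.card G = m' * r ^ a) (hm : m'.Coprime r) (C : Subgroup G)
    (hk : C.index = r ^ k) : ∃ L : Subgroup G, Nat.card L = m' ∧ L ≤ C := by
  have h1 : Nat.card C * r ^ k = m' * r ^ a := by
    rw [← hk, ← hG]; exact C.card_mul_index
  have hpk : r ^ k ∣ r ^ a := by
    have : r ^ k ∣ m' * r ^ a := ⟨Nat.card C, by rw [← h1]; ring⟩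
    exact (Nat.Coprime.dvd_mul_left ((hm.symm).pow_left k)).1 this
  have hka : k ≤ a := (Nat.pow_dvd_pow_iff_le_right hr.one_lt).1 hpk
  have hCcard : Nat.card C = m' * r ^ (a - k) := by
    have h2 : m' * r ^ a = m' * r ^ (a - k) * r ^ k := by
      rw [mul_assoc, ← pow_add, Nat.sub_add_cancel hka]
    rw [h2] at h1
    exact Nat.eq_of_mul_eq_mul_right (pow_pos hr.pos k) h1
  obtain ⟨L, hL⟩ := Cfsg.Agent.Lib.H1.hall_exists (G := ↥C) hCcard (hm.pow_right _)
  refine ⟨L.map C.subtype, ?_, Subgroup.map_subtype_le L⟩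
  rw [Subgroup.card_map_of_injective C.subtype_injective]
  exact hL

section bad

universe u

variable {G : Type u} [Group G] [Finite G] {T : Set ℕ} {b0 : G} (S : Setup T b0) {a0 : G}
  (ha0 : IsX T a0) {r j : ℕ} (hr : r.Prime) (hrd : r ∣ cs b0) {y : G} (hy : IsY T y)
  (hyo : orderOf y = r ^ j)

include S hr hrd hy hyo

theorem bad_X_rprime {u : G} (hu : IsX T u) (hco : (orderOf u).Coprime r) : False :=
  S.mix_false hu hy (S.commute_of_orderOf_pow hr hrd hyo hu.2).symm
    (by rw [hyo]; exact hco.pow_right j)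

theorem bad_central {a x : G} (ha : IsX T a) (hx : x * a = a * x) (hco : (orderOf x).Coprime r) :
    x ∈ Subgroup.center G := by
  rcases S.trichotomy x with h | h | h
  · exact h
  · exact (bad_X_rprime S hr hrd hy hyo h hco).elim
  · exfalso
    obtain ⟨k, l, hkl, ⟨e, he⟩, hl⟩ := exists_pPart_pPrimePart a (isOfFinOrder_of_finite a) r hr
    have hlc : a ^ l ∈ Subgroup.center G := by
      by_contra hcen
      have hX : IsX T (a ^ l) := isX_of_dvd' ha (cs_dvd_of_le (centralizer_le_pow a l))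
        (fun h1 => hcen ((cs_eq_one_iff _).mp h1))
      exact bad_X_rprime S hr hrd hy hyo hX hl
    have hkc : a ^ k ∉ Subgroup.center G := by
      intro hcen
      apply not_mem_center_of_isX ha
      rw [← hkl]
      exact Subgroup.mul_mem _ hcen hlc
    have hX : IsX T (a ^ k) := isX_of_dvd' ha (cs_dvd_of_le (centralizer_le_pow a k))
      (fun h1 => hkc ((cs_eq_one_iff _).mp h1))
    have hc : Commute (a ^ k) x := by
      have : Commute x a := hx
      exact (this.pow_right k).symm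
    apply S.mix_false hX h hc
    rw [he]
    exact (hco.symm).pow_left e

include ha0

theorem bad_not_dvd {q : ℕ} (hq : q.Prime) (hqT : q ∉ T) (hqr : q ≠ r) (b : G) : ¬ q ∣ cs b := by
  haveI : Fact q.Prime := ⟨hq⟩
  obtain ⟨Q⟩ : Nonempty (Sylow q G) := inferInstance
  have hQ : (Q : Subgroup G) ≤ Subgroup.center G := by
    intro u hu
    obtain ⟨i, hi⟩ := (IsPGroup.iff_orderOf.mp Q.isPGroup') ⟨u, hu⟩
    rw [Subgroup.orderOf_mk] at hi
    have := S.centralizer_normal ha0.2
    have hu1 : u ∈ Subgroup.centralizer ({a0} : Set G) := by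
      apply mem_of_normal_of_coprime
      rw [hi]
      apply Nat.Coprime.pow_right
      rw [Nat.coprime_comm, Nat.Prime.coprime_iff_not_dvd hq]
      intro hqa
      exact hqT (ha0.2 q hq hqa)
    rw [Subgroup.mem_centralizer_singleton_iff] at hu1
    apply bad_central S hr hrd hy hyo ha0 hu1
    rw [hi]
    apply Nat.Coprime.pow_left
    exact (Nat.coprime_primes hq hr).mpr hqr
  have h1 : cs b ∣ (Q : Subgroup G).index := by
    apply Subgroup.index_dvd_of_le
    intro u hu
    have := hQ hu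
    rw [Subgroup.mem_center_iff] at this
    rw [Subgroup.mem_centralizer_singleton_iff]
    exact (this b).symm
  intro h2
  exact Q.not_dvd_index (h2.trans h1)

theorem bad_cs_pow {b : G} (hb : IsY T b) : ∃ k : ℕ, cs b = r ^ k := by
  refine ⟨_, Nat.eq_prime_pow_of_unique_prime_dvd (cs_ne_zero b) ?_⟩
  intro d hd hdd
  by_contra hne
  exact bad_not_dvd S ha0 hr hrd hy hyo hd (hb.2 d hd hdd) hne b hdd

theorem bad_hyp : Cfsg.Agent.S4034.Hyp r G := by
  intro x hx
  rcases S.trichotomy x with h | h | h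
  · exact ⟨0, by rw [pow_zero]; exact (cs_eq_one_iff x).mpr h⟩
  · exact (bad_X_rprime S hr hrd hy hyo h hx).elim
  · exact bad_cs_pow S ha0 hr hrd hy hyo h

theorem bad_false : False := by
  haveI : Fact r.Prime := ⟨hr⟩
  haveI : Group.IsSolvable G :=
    Cfsg.Agent.S4034.solvable_of_hyp hr _ G rfl (bad_hyp S ha0 hr hrd hy hyo)
  have hrT : r ∉ T := S.not_mem_of_dvd hr hrd
  -- the numbers
  have hn0 : Nat.card G ≠ 0 := (Nat.card_pos (α := G)).ne'
  set a := (Nat.card G).factorization r with ha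
  set m' := Nat.card G / r ^ a with hm'
  have hG : Nat.card G = m' * r ^ a := by
    rw [mul_comm]; exact (Nat.ordProj_mul_ordCompl_eq_self (Nat.card G) r).symm
  have hmr : m'.Coprime r := (Nat.coprime_ordCompl hr hn0).symm
  -- the Sylow subgroup
  have hzy : IsPGroup r (Subgroup.zpowers y) :=
    IsPGroup.of_card (n := j) (by rw [Nat.card_zpowers, hyo])
  obtain ⟨P, hyP⟩ := hzy.exists_le_sylow
  have hyP' : y ∈ (P : Subgroup G) := hyP (Subgroup.mem_zpowers y)
  have hPcard : Nat.card (P : Subgroup G) = r ^ a := P.card_eq_multiplicity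
  have hPidx : (P : Subgroup G).index = m' := by
    have h1 := (P : Subgroup G).card_mul_index
    rw [hPcard, hG, mul_comm] at h1
    exact Nat.eq_of_mul_eq_mul_right (pow_pos hr.pos a) h1
  have hPord : ∀ p ∈ (P : Subgroup G), ∃ i : ℕ, orderOf p = r ^ i := by
    intro p hp
    obtain ⟨i, hi⟩ := (IsPGroup.iff_orderOf.mp P.isPGroup') ⟨p, hp⟩
    rw [Subgroup.orderOf_mk] at hi
    exact ⟨i, hi⟩
  -- the Hall subgroup
  obtain ⟨H0, hH0⟩ := Cfsg.Agent.Lib.H1.hall_exists hG (hmr.pow_right a)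
  have hH0idx : H0.index = r ^ a := Cfsg.Agent.S4034.index_eq_of_card hG H0 hH0
  have hfact : ∀ g : G, ∃ p ∈ (P : Subgroup G), ∃ h ∈ H0, g = p * h := by
    intro g
    apply Cfsg.Agent.Lib.H1.exists_mul_of_coprime_index
    rw [hPidx, hH0idx]
    exact hmr.pow_right a
  -- `Y`-type elements of `P` are `P`-conjugate into `C(H0)`
  have hY : ∀ u ∈ (P : Subgroup G), IsY T u →
      ∃ p ∈ (P : Subgroup G), p⁻¹ * u * p ∈ (P : Subgroup G) ⊓ Subgroup.centralizer (H0 : Set G) := by
    intro u hu hYu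
    obtain ⟨k, hk⟩ := bad_cs_pow S ha0 hr hrd hy hyo hYu
    obtain ⟨L, hL, hLC⟩ := exists_hall_le hr hG hmr (Subgroup.centralizer ({u} : Set G)) hk
    obtain ⟨g, hg⟩ := Cfsg.Agent.Lib.H1.hall_conj hG (hmr.pow_right a) H0 L hH0 hL
    obtain ⟨p, hp, h, hh, rfl⟩ := hfact g
    refine ⟨p, hp, (P : Subgroup G).mul_mem ((P : Subgroup G).mul_mem ((P : Subgroup G).inv_mem hp) hu) hp, ?_⟩
    show p⁻¹ * u * p ∈ Subgroup.centralizer (H0 : Set G)
    rw [Subgroup.mem_centralizer_iff]
    intro h' hh'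
    have h1 : p * h' * p⁻¹ ∈ L := by
      rw [← hg, mem_conj_smul_iff]
      have e : (p * h)⁻¹ * (p * h' * p⁻¹) * (p * h) = h⁻¹ * h' * h := by group
      rw [e]
      exact H0.mul_mem (H0.mul_mem (H0.inv_mem hh) hh') hh
    have h2 := hLC h1
    rw [Subgroup.mem_centralizer_singleton_iff] at h2
    -- h2 : p h' p⁻¹ * u = u * (p h' p⁻¹)
    calc h' * (p⁻¹ * u * p) = p⁻¹ * (p * h' * p⁻¹ * u) * p := by group
      _ = p⁻¹ * (u * (p * h' * p⁻¹)) * p := by rw [h2]
      _ = p⁻¹ * u * p * h' := by group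
  -- the covering
  have hcover : ∀ u ∈ (P : Subgroup G), u ∈ Subgroup.centralizer ((P : Subgroup G) : Set G) ∨
      ∃ p ∈ (P : Subgroup G), p⁻¹ * u * p ∈ (P : Subgroup G) ⊓ Subgroup.centralizer (H0 : Set G) := by
    intro u hu
    rcases S.trichotomy u with h | h | h
    · left
      rw [Subgroup.mem_centralizer_iff]
      rw [Subgroup.mem_center_iff] at h
      intro p _
      exact h p
    · left
      rw [Subgroup.mem_centralizer_iff]
      intro p hp
      obtain ⟨i, hi⟩ := hPord p hp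
      have := S.centralizer_normal h.2
      have hp1 : p ∈ Subgroup.centralizer ({u} : Set G) := by
        apply mem_of_normal_of_coprime
        rw [hi]
        apply Nat.Coprime.pow_right
        rw [Nat.coprime_comm, Nat.Prime.coprime_iff_not_dvd hr]
        intro hru
        exact hrT (h.2 r hr hru)
      rw [Subgroup.mem_centralizer_singleton_iff] at hp1
      exact hp1
    · right
      exact hY u hu h
  have hdecomp := cover_lemma (P : Subgroup G) _ hcover
  -- `Y`-type elements of `P` centralize `H0`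
  have hYc : ∀ u ∈ (P : Subgroup G), IsY T u → u ∈ Subgroup.centralizer (H0 : Set G) := by
    intro u hu hYu
    obtain ⟨p, hp, hpu⟩ := hY u hu hYu
    obtain ⟨p0, hp0, z, hz, hzc, rfl⟩ := hdecomp p hp
    rw [Subgroup.mem_centralizer_iff] at hzc
    have h1 : p0⁻¹ * u * p0 ∈ (P : Subgroup G) :=
      (P : Subgroup G).mul_mem ((P : Subgroup G).mul_mem ((P : Subgroup G).inv_mem hp0.1) hu) hp0.1
    have h2 := hzc _ h1
    have e : (p0 * z)⁻¹ * u * (p0 * z) = p0⁻¹ * u * p0 := by
      calc (p0 * z)⁻¹ * u * (p0 * z) = z⁻¹ * (p0⁻¹ * u * p0 * z) := by group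
        _ = z⁻¹ * (z * (p0⁻¹ * u * p0)) := by rw [h2]
        _ = p0⁻¹ * u * p0 := by group
    rw [e] at hpu
    have h3 := Subgroup.mul_mem _ (Subgroup.mul_mem _ hp0.2 hpu.2) (Subgroup.inv_mem _ hp0.2)
    have e2 : p0 * (p0⁻¹ * u * p0) * p0⁻¹ = u := by group
    rwa [e2] at h3
  -- all of `P` centralizes `H0`
  have hPc : ∀ v ∈ (P : Subgroup G), v ∈ Subgroup.centralizer (H0 : Set G) := by
    intro v hv
    rcases S.trichotomy v with h | h | h
    · rw [Subgroup.mem_centralizer_iff]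
      rw [Subgroup.mem_center_iff] at h
      intro p _
      exact h p
    · have h1 : IsY T (y * v) := S.isY_mul_of_isY_isT hy h.2
      have h2 := hYc (y * v) ((P : Subgroup G).mul_mem hyP' hv) h1
      have h3 := hYc y hyP' hy
      have h4 := Subgroup.mul_mem _ (Subgroup.inv_mem _ h3) h2
      rwa [inv_mul_cancel_left] at h4
    · exact hYc v hv h
  -- an `X`-type element of `P`
  obtain ⟨k, l, hkl, ⟨e, he⟩, hl⟩ := exists_pPart_pPrimePart a0 (isOfFinOrder_of_finite a0) r hr
  have hlc : a0 ^ l ∈ Subgroup.center G := by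
    by_contra hcen
    have hX : IsX T (a0 ^ l) := isX_of_dvd' ha0 (cs_dvd_of_le (centralizer_le_pow a0 l))
      (fun h1 => hcen ((cs_eq_one_iff _).mp h1))
    exact bad_X_rprime S hr hrd hy hyo hX hl
  have hkc : a0 ^ k ∉ Subgroup.center G := by
    intro hcen
    apply not_mem_center_of_isX ha0
    rw [← hkl]
    exact Subgroup.mul_mem _ hcen hlc
  have hXk : IsX T (a0 ^ k) := isX_of_dvd' ha0 (cs_dvd_of_le (centralizer_le_pow a0 k))
    (fun h1 => hkc ((cs_eq_one_iff _).mp h1))
  have hzk : IsPGroup r (Subgroup.zpowers (a0 ^ k)) :=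
    IsPGroup.of_card (n := e) (by rw [Nat.card_zpowers, he])
  obtain ⟨g, hg⟩ := Cfsg.Agent.Lib.H16.exists_conj_mem_sylow _ hzk P
  have ha1P := hg (a0 ^ k) (Subgroup.mem_zpowers _)
  have hXa1 : IsX T (g * a0 ^ k * g⁻¹) := isX_conj hXk g
  -- `H0` is central
  have hH0c : H0 ≤ Subgroup.center G := by
    intro h hh
    have h1 := hPc _ ha1P
    rw [Subgroup.mem_centralizer_iff] at h1
    apply bad_central S hr hrd hy hyo hXa1 (h1 h hh)
    have h2 : orderOf h ∣ m' := by
      rw [← hH0]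
      have := orderOf_dvd_natCard (⟨h, hh⟩ : H0)
      rwa [Subgroup.orderOf_mk] at this
    exact Nat.Coprime.coprime_dvd_left h2 hmr
  have h1 : cs (g * a0 ^ k * g⁻¹) ∣ r ^ a := by
    rw [← hH0idx]
    apply Subgroup.index_dvd_of_le
    intro u hu
    have := hH0c hu
    rw [Subgroup.mem_center_iff] at this
    rw [Subgroup.mem_centralizer_singleton_iff]
    exact (this _).symm
  obtain ⟨p, hp, hpd⟩ := Nat.exists_prime_and_dvd hXa1.1
  have h2 : p = r := (Nat.prime_dvd_prime_iff_eq hp hr).mp (hp.dvd_of_dvd_pow (hpd.trans h1))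
  exact hrT (h2 ▸ hXa1.2 p hp hpd)

end bad

end Cfsg.Agent.Lib.H20.BHM
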