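import Mathlib
import Cfsg.Prelude.Def_Solvable
import Cfsg.Agent.Lib.H20.TI

set_option autoImplicit false

namespace Cfsg.Agent.Lib.H20

open scoped Pointwise

/-- A semidirect product `N ⋊ H` in which every nontrivial element of `H` acts
fixed-point-freely on `N` is a Frobenius group with complement `H` and kernel `N`
(in the sense of the Prelude definitions). -/
theorem frobenius_of_fpf {K : Type*} [Group K] [Finite K] (N H : Subgroup K) [N.Normal]
    (hsup : N ⊔ H = ⊤) (hinf : N ⊓ H = ⊥) (hN : N ≠ ⊥) (hH : H ≠ ⊥)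
    (hfpf : ∀ h ∈ H, h ≠ 1 → ∀ n ∈ N, n * h = h * n → n = 1) :
    Cfsg.IsFrobeniusComplement H ∧ Cfsg.frobeniusKernel H = (N : Set K) := by
  have hdecomp : ∀ g : K, ∃ n ∈ N, ∃ h ∈ H, n * h = g := by
    intro g
    have hg : g ∈ N ⊔ H := by rw [hsup]; trivial
    have : g ∈ ((N ⊔ H : Subgroup K) : Set K) := hg
    rw [Subgroup.normal_mul] at this
    obtain ⟨n, hn, h, hh, rfl⟩ := Set.mem_mul.mp this
    exact ⟨n, hn, h, hh, rfl⟩
  have hNH : ∀ x, x ∈ N → x ∈ H → x = 1 := by
    intro x hxN hxH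
    have : x ∈ N ⊓ H := ⟨hxN, hxH⟩
    rw [hinf] at this
    exact Subgroup.mem_bot.mp this
  refine ⟨⟨hH, ?_, ?_⟩, ?_⟩
  · intro hT
    apply hN
    rw [hT, inf_top_eq] at hinf
    exact hinf
  · intro g hg
    rw [eq_bot_iff]
    intro x hx
    obtain ⟨hxH, hxg⟩ := hx
    rw [Subgroup.mem_bot]
    by_contra hx1
    have hxg' : g⁻¹ * x * g ∈ H := (mem_conj_smul_iff H g x).mp hxg
    obtain ⟨n, hn, h', hh', rfl⟩ := hdecomp g
    have hy : n⁻¹ * x * n ∈ H := by
      have := H.mul_mem (H.mul_mem hh' hxg') (H.inv_mem hh')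
      have e : h' * ((n * h')⁻¹ * x * (n * h')) * h'⁻¹ = n⁻¹ * x * n := by group
      rwa [e] at this
    have hyx : n⁻¹ * x * n * x⁻¹ = 1 := by
      apply hNH
      · have h1 : x * n * x⁻¹ ∈ N := ‹N.Normal›.conj_mem n hn x
        have := N.mul_mem (N.inv_mem hn) h1
        have e : n⁻¹ * (x * n * x⁻¹) = n⁻¹ * x * n * x⁻¹ := by group
        rwa [e] at this
      · exact H.mul_mem hy (H.inv_mem hxH)
    have hcomm : n * x = x * n := by
      have : n⁻¹ * x * n = x := by
        have := mul_inv_eq_one.mp hyx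
        exact this
      calc n * x = n * (n⁻¹ * x * n) := by rw [this]
        _ = x * n := by group
    have hn1 := hfpf x hxH hx1 n hn hcomm
    apply hg
    rw [hn1, one_mul]
    exact hh'
  · ext x
    constructor
    · rintro (rfl | hx)
      · exact N.one_mem
      · obtain ⟨n, hn, h, hh, rfl⟩ := hdecomp x
        by_cases h1 : h = 1
        · rw [h1, mul_one]; exact hn
        exfalso
        -- the map m ↦ m h m⁻¹ h⁻¹ on N is injective hence surjective
        let f : N → N := fun m => ⟨m.1 * h * m.1⁻¹ * h⁻¹, by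
          have h1 : h * m.1⁻¹ * h⁻¹ ∈ N := ‹N.Normal›.conj_mem _ (N.inv_mem m.2) h
          have := N.mul_mem m.2 h1
          have e : m.1 * (h * m.1⁻¹ * h⁻¹) = m.1 * h * m.1⁻¹ * h⁻¹ := by group
          rwa [e] at this⟩
        have hinj : Function.Injective f := by
          intro m m' hmm
          have h2 : m.1 * h * m.1⁻¹ * h⁻¹ = m'.1 * h * m'.1⁻¹ * h⁻¹ := congrArg Subtype.val hmm
          have h3 : m.1 * h * m.1⁻¹ = m'.1 * h * m'.1⁻¹ := mul_right_cancel h2
          have h4 : (m'.1⁻¹ * m.1) * h = h * (m'.1⁻¹ * m.1) := by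
            calc (m'.1⁻¹ * m.1) * h = m'.1⁻¹ * (m.1 * h * m.1⁻¹) * m.1 := by group
              _ = m'.1⁻¹ * (m'.1 * h * m'.1⁻¹) * m.1 := by rw [h3]
              _ = h * (m'.1⁻¹ * m.1) := by group
          have h5 := hfpf h hh h1 (m'.1⁻¹ * m.1) (N.mul_mem (N.inv_mem m'.2) m.2) h4
          apply Subtype.ext
          have := inv_mul_eq_one.mp h5
          exact this.symm
        have hsurj : Function.Surjective f := Finite.injective_iff_surjective.mp hinj
        obtain ⟨m, hm⟩ := hsurj ⟨n, hn⟩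
        have hm' : m.1 * h * m.1⁻¹ * h⁻¹ = n := congrArg Subtype.val hm
        apply hx m.1
        rw [mem_conj_smul_iff]
        have e : m.1⁻¹ * (n * h) * m.1 = h := by
          rw [← hm']; group
        rw [e]; exact hh
    · intro hxN
      by_cases hx1 : x = 1
      · exact Or.inl hx1
      · right
        intro g hxg
        rw [mem_conj_smul_iff] at hxg
        apply hx1
        have h1 : g⁻¹ * x * g ∈ N := by
          have := ‹N.Normal›.conj_mem x hxN g⁻¹
          simpa using this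
        have h2 := hNH _ h1 hxg
        have : x = g * (g⁻¹ * x * g) * g⁻¹ := by group
        rw [this, h2]; group

end Cfsg.Agent.Lib.H20
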