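import Mathlib
import Cfsg.Agent.Lib.H20.BHM4
import Cfsg.Agent.Lib.H20.Frobenius

set_option autoImplicit false

/-!
# Bertram–Herzog–Mann, part 5: `X`-type and `Y`-type elements never commute; assembly
-/

namespace Cfsg.Agent.Lib.H20.BHM

open scoped Pointwise

/-- A non-central element has a non-central power of prime power order. -/
theorem exists_prime_pow_part {G : Type*} [Group G] [Finite G] :
    ∀ (n : ℕ) (b : G), orderOf b = n → b ∉ Subgroup.center G →
      ∃ k r j : ℕ, r.Prime ∧ b ^ k ∉ Subgroup.center G ∧ orderOf (b ^ k) = r ^ j := by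
  intro n
  induction n using Nat.strong_induction_on with
  | _ n ih =>
  intro b hn hb
  have hn1 : n ≠ 1 := by
    intro h1
    rw [h1] at hn
    rw [orderOf_eq_one_iff] at hn
    rw [hn] at hb
    exact hb (Subgroup.one_mem _)
  have hp : (n.minFac).Prime := Nat.minFac_prime hn1
  obtain ⟨k, l, hkl, ⟨e, he⟩, hl⟩ :=
    exists_pPart_pPrimePart b (isOfFinOrder_of_finite b) n.minFac hp
  by_cases hk : b ^ k ∈ Subgroup.center G
  · have hlc : b ^ l ∉ Subgroup.center G := by
      intro hlc
      apply hb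
      rw [← hkl]
      exact Subgroup.mul_mem _ hk hlc
    have hdvd : orderOf (b ^ l) ∣ n := hn ▸ orderOf_pow_dvd l
    have hne : orderOf (b ^ l) ≠ n := by
      intro heq
      rw [heq] at hl
      have : n.minFac ∣ 1 := by
        have := Nat.dvd_gcd (Nat.minFac_dvd n) (dvd_refl n.minFac)
        rwa [hl] at this
      exact hp.ne_one (Nat.dvd_one.mp this)
    have hn0 : 0 < n := by
      rw [← hn]; exact orderOf_pos b
    have hlt : orderOf (b ^ l) < n := lt_of_le_of_ne (Nat.le_of_dvd hn0 hdvd) hne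
    obtain ⟨k', r, j, hr, h1, h2⟩ := ih _ hlt (b ^ l) rfl hlc
    refine ⟨l * k', r, j, hr, ?_, ?_⟩
    · rwa [pow_mul]
    · rwa [pow_mul]
  · exact ⟨k, n.minFac, e, hp, hk, he⟩

theorem mk_mem_map_iff {G : Type*} [Group G] (Z K : Subgroup G) [Z.Normal] (hZK : Z ≤ K) (g : G) :
    (QuotientGroup.mk' Z) g ∈ K.map (QuotientGroup.mk' Z) ↔ g ∈ K := by
  have h := Subgroup.comap_map_eq_self (f := QuotientGroup.mk' Z) (H := K)
    (by rw [QuotientGroup.ker_mk']; exact hZK)
  rw [← Subgroup.mem_comap, h]

section setup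

universe u

variable {G : Type u} [Group G] [Finite G] {T : Set ℕ} {b0 : G} (S : Setup T b0)

include S

/-- `X`-type and `Y`-type elements never commute. -/
theorem Setup.nc {a b : G} (ha : IsX T a) (hb : IsY T b) (hab : a * b = b * a) : False := by
  obtain ⟨k, r, j, hr, hkc, hko⟩ := exists_prime_pow_part _ b rfl (not_mem_center_of_isY hb)
  have hYk : IsY T (b ^ k) := isY_of_dvd' hb (cs_dvd_of_le (centralizer_le_pow b k))
    (fun h1 => hkc ((cs_eq_one_iff _).mp h1))
  have hc : Commute a (b ^ k) := by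
    have : Commute a b := hab
    exact this.pow_right k
  by_cases hrd : r ∣ cs b0
  · exact bad_false S ha hr hrd hYk hko
  · obtain ⟨k', l', hkl', ⟨e, he⟩, hl'⟩ :=
      exists_pPart_pPrimePart a (isOfFinOrder_of_finite a) r hr
    have hlc : a ^ l' ∈ Subgroup.center G := by
      by_contra hcen
      have hX : IsX T (a ^ l') := isX_of_dvd' ha (cs_dvd_of_le (centralizer_le_pow a l'))
        (fun h1 => hcen ((cs_eq_one_iff _).mp h1))
      apply S.mix_false hX hYk (hc.pow_left l')
      rw [hko]
      exact hl'.pow_right j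
    have hkc' : a ^ k' ∉ Subgroup.center G := by
      intro hcen
      apply not_mem_center_of_isX ha
      rw [← hkl']
      exact Subgroup.mul_mem _ hcen hlc
    have hXk : IsX T (a ^ k') := isX_of_dvd' ha (cs_dvd_of_le (centralizer_le_pow a k'))
      (fun h1 => hkc' ((cs_eq_one_iff _).mp h1))
    have h1 := S.pow_mem_center hXk.2
    have hco : (cs b0).Coprime (orderOf (a ^ k')) := by
      rw [he]
      apply Nat.Coprime.pow_right
      rw [Nat.coprime_comm, Nat.Prime.coprime_iff_not_dvd hr]
      exact hrd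
    obtain ⟨t, ht⟩ := exists_pow_eq_self_of_coprime hco
    apply hkc'
    rw [← ht]
    exact Subgroup.pow_mem _ h1 t

/-- An element commuting with an `X`-type element lies in `N`. -/
theorem Setup.mem_N_of_commute {a x : G} (ha : IsX T a) (hx : a * x = x * a) : x ∈ S.N := by
  rcases S.trichotomy x with h | h | h
  · exact S.center_le_N h
  · exact h.2
  · exact (S.nc ha h hx).elim

/-- An element commuting with a `Y`-type element and lying in `N` is central. -/
theorem Setup.mem_center_of_commute {b x : G} (hb : IsY T b) (hx : x * b = b * x) (hxN : x ∈ S.N) :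
    x ∈ Subgroup.center G := by
  rcases isX_or_mem_center_of_isT hxN with h | h
  · exact (S.nc h hb hx).elim
  · exact h

theorem Setup.index_N_dvd {a : G} (ha : IsX T a) : (S.N).index ∣ cs a := by
  apply Subgroup.index_dvd_of_le
  intro x hx
  rw [Subgroup.mem_centralizer_singleton_iff] at hx
  exact S.mem_N_of_commute ha hx.symm

/-- The main theorem: `G / Z(G)` is a Frobenius group with abelian kernel and complement. -/
theorem Setup.main {a0 : G} (ha0 : IsX T a0) :
    ∃ H : Subgroup (G ⧸ Subgroup.center G), Cfsg.IsFrobeniusComplement H ∧ IsMulCommutative H ∧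
      ∀ x ∈ Cfsg.frobeniusKernel H, ∀ y ∈ Cfsg.frobeniusKernel H, x * y = y * x := by
  set Z := Subgroup.center G with hZ
  set π := QuotientGroup.mk' Z with hπ
  set C := Subgroup.centralizer ({b0} : Set G) with hC
  have hπs : Function.Surjective π := QuotientGroup.mk'_surjective Z
  have hZN : Z ≤ S.N := S.center_le_N
  have hZC : Z ≤ C := by
    intro z hz
    rw [Subgroup.mem_center_iff] at hz
    rw [hC, Subgroup.mem_centralizer_singleton_iff]
    exact (hz b0).symm
  have hmemN : ∀ g : G, π g ∈ (S.N).map π ↔ g ∈ S.N := mk_mem_map_iff Z _ hZN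
  have hmemC : ∀ g : G, π g ∈ C.map π ↔ g ∈ C := mk_mem_map_iff Z _ hZC
  have hπ1 : ∀ g : G, π g = 1 ↔ g ∈ Z := fun g => QuotientGroup.eq_one_iff g
  haveI hNn : ((S.N).map π).Normal := (S.N_normal).map π hπs
  have hm : cs b0 = C.index := rfl
  have hcop : (S.N).index.Coprime C.index :=
    Nat.Coprime.coprime_dvd_left (S.index_N_dvd ha0) (S.coprime_of_isT ha0.2)
  -- elements of `C ∩ N` are central
  have hCN : ∀ x ∈ C, x ∈ S.N → x ∈ Z := by
    intro x hxC hxN
    rw [hC, Subgroup.mem_centralizer_singleton_iff] at hxC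
    exact S.mem_center_of_commute S.hb0 hxC hxN
  have hsup : (S.N).map π ⊔ C.map π = ⊤ := by
    rw [eq_top_iff]
    intro x _
    obtain ⟨g, rfl⟩ := hπs x
    obtain ⟨n, hn, c, hc, rfl⟩ := Cfsg.Agent.Lib.H1.exists_mul_of_coprime_index hcop g
    rw [map_mul]
    exact Subgroup.mul_mem_sup ((hmemN n).mpr hn) ((hmemC c).mpr hc)
  have hinf : (S.N).map π ⊓ C.map π = ⊥ := by
    rw [eq_bot_iff]
    intro x hx
    obtain ⟨g, rfl⟩ := hπs x
    rw [Subgroup.mem_inf, hmemN, hmemC] at hx
    rw [Subgroup.mem_bot, hπ1]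
    exact hCN g hx.2 hx.1
  have hNne : (S.N).map π ≠ ⊥ := by
    intro h
    have h1 : π a0 ∈ (S.N).map π := (hmemN a0).mpr ha0.2
    rw [h, Subgroup.mem_bot, hπ1] at h1
    exact not_mem_center_of_isX ha0 h1
  have hb0C : b0 ∈ C := by
    rw [hC, Subgroup.mem_centralizer_singleton_iff]
  have hHne : C.map π ≠ ⊥ := by
    intro h
    have h1 : π b0 ∈ C.map π := (hmemC b0).mpr hb0C
    rw [h, Subgroup.mem_bot, hπ1] at h1
    exact not_mem_center_of_isY S.hb0 h1
  have hfpf : ∀ h ∈ C.map π, h ≠ 1 → ∀ n ∈ (S.N).map π, n * h = h * n → n = 1 := by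
    intro hb hhb hb1 nb hnb hcomm
    obtain ⟨h, rfl⟩ := hπs hb
    obtain ⟨n, rfl⟩ := hπs nb
    rw [hmemC] at hhb
    rw [hmemN] at hnb
    rw [hπ1]
    by_contra hnZ
    have hnX : IsX T n := by
      rcases isX_or_mem_center_of_isT hnb with h1 | h1
      · exact h1
      · exact (hnZ h1).elim
    apply hb1
    -- `h n h⁻¹ = n z` with `z` central
    have hz : n⁻¹ * (h * n * h⁻¹) ∈ Z := by
      have h1 : π (n * h) = π (h * n) := by rw [map_mul, map_mul]; exact hcomm
      have h2 : (n * h)⁻¹ * (h * n) ∈ Z := QuotientGroup.eq.mp h1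
      have h3 := (inferInstance : Z.Normal).conj_mem _ h2 h
      have e : h * ((n * h)⁻¹ * (h * n)) * h⁻¹ = n⁻¹ * (h * n * h⁻¹) := by group
      rwa [e] at h3
    set z := n⁻¹ * (h * n * h⁻¹) with hzdef
    have hzc : ∀ g : G, g * z = z * g := fun g => (Subgroup.mem_center_iff.mp hz) g
    have hconj : h * n * h⁻¹ = n * z := by rw [hzdef]; group
    have hpow : ∀ i : ℕ, h ^ i * n * (h ^ i)⁻¹ = n * z ^ i := by
      intro i
      induction i with
      | zero => simp
      | succ i ih =>
        have hzi : ∀ g : G, g * z ^ i = z ^ i * g := by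
          intro g
          have : Commute g z := hzc g
          exact (this.pow_right i).eq
        calc h ^ (i + 1) * n * (h ^ (i + 1))⁻¹ = h * (h ^ i * n * (h ^ i)⁻¹) * h⁻¹ := by
              rw [pow_succ']; group
          _ = h * (n * z ^ i) * h⁻¹ := by rw [ih]
          _ = (h * n * h⁻¹) * (h * z ^ i * h⁻¹) := by group
          _ = (n * z) * (z ^ i) := by rw [hconj, hzi h]; group
          _ = n * z ^ (i + 1) := by rw [pow_succ']; group
    -- `z ^ m = 1`
    have hnm : n ^ cs b0 ∈ Z := S.pow_mem_center hnb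
    have hzm : z ^ cs b0 = 1 := by
      have h1 : (h * n * h⁻¹) ^ cs b0 = n ^ cs b0 := by
        rw [conj_pow]
        have := (Subgroup.mem_center_iff.mp hnm) h
        calc h * n ^ cs b0 * h⁻¹ = n ^ cs b0 * h * h⁻¹ := by rw [this]
          _ = n ^ cs b0 := by group
      have h2 : (n * z) ^ cs b0 = n ^ cs b0 * z ^ cs b0 := by
        have : Commute n z := hzc n
        exact this.mul_pow _
      rw [hconj, h2] at h1
      exact mul_left_cancel (a := n ^ cs b0) (by rw [h1, mul_one])
    -- `h ^ m` commutes with `n`, hence is central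
    have hhm : h ^ cs b0 ∈ Z := by
      have h1 := hpow (cs b0)
      rw [hzm, mul_one] at h1
      have h2 : n * h ^ cs b0 = h ^ cs b0 * n := by
        calc n * h ^ cs b0 = (h ^ cs b0 * n * (h ^ cs b0)⁻¹) * h ^ cs b0 := by rw [h1]
          _ = h ^ cs b0 * n := by group
      have h3 : h ^ cs b0 ∈ S.N := S.mem_N_of_commute hnX h2
      exact hCN _ (C.pow_mem hhb _) h3
    -- `h ^ |G : N|` lies in `N ∩ C`
    have hhe : h ^ (S.N).index ∈ Z := by
      haveI := S.N_normal
      exact hCN _ (C.pow_mem hhb _) (Subgroup.pow_index_mem _ h)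
    have h1 : orderOf (π h) ∣ cs b0 := by
      apply orderOf_dvd_of_pow_eq_one
      rw [← map_pow, hπ1]
      exact hhm
    have h2 : orderOf (π h) ∣ (S.N).index := by
      apply orderOf_dvd_of_pow_eq_one
      rw [← map_pow, hπ1]
      exact hhe
    have h3 : orderOf (π h) ∣ 1 := by
      have := Nat.dvd_gcd h2 h1
      rwa [hm, hcop] at this
    exact orderOf_eq_one_iff.mp (Nat.dvd_one.mp h3)
  obtain ⟨hF, hK⟩ := frobenius_of_fpf ((S.N).map π) (C.map π) hsup hinf hNne hHne hfpf
  -- `C` is abelian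
  have hCcomm : ∀ x ∈ C, ∀ x' ∈ C, x * x' = x' * x := by
    have key : ∀ b' ∈ C, b' ∉ Z → Subgroup.centralizer ({b'} : Set G) = C := by
      intro b' hb'C hb'Z
      have hle : Subgroup.centralizer ({b'} : Set G) ≤ C := by
        intro x hx
        by_contra hxC
        have hxH : π x ∉ C.map π := fun h => hxC ((hmemC x).mp h)
        have h1 := hF.2.2 (π x) hxH
        have h2 : π b' ∈ C.map π ⊓ MulAut.conj (π x) • C.map π := by
          refine ⟨(hmemC b').mpr hb'C, ?_⟩
          show π b' ∈ MulAut.conj (π x) • C.map π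
          rw [mem_conj_smul_iff]
          rw [Subgroup.mem_centralizer_singleton_iff] at hx
          have e : (π x)⁻¹ * π b' * π x = π b' := by
            rw [← map_inv, ← map_mul, ← map_mul]
            congr 1
            calc x⁻¹ * b' * x = x⁻¹ * (x * b') := by rw [hx]; group
              _ = b' := by group
          rw [e]
          exact (hmemC b').mpr hb'C
        rw [h1, Subgroup.mem_bot, hπ1] at h2
        exact hb'Z h2
      apply eq_of_le_of_index_eq hle
      apply le_antisymm (S.hmax b')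
      exact Nat.le_of_dvd (Nat.pos_of_ne_zero (cs_ne_zero b')) (Subgroup.index_dvd_of_le hle)
    intro x hx x' hx'
    by_cases hxZ : x ∈ Z
    · exact ((Subgroup.mem_center_iff.mp hxZ) x').symm
    · have h1 : x' ∈ Subgroup.centralizer ({x} : Set G) := by rw [key x hx hxZ]; exact hx'
      rw [Subgroup.mem_centralizer_singleton_iff] at h1
      exact h1.symm
  refine ⟨C.map π, hF, ?_, ?_⟩
  · apply IsMulCommutative.of_comm
    rintro ⟨x, hx⟩ ⟨x', hx'⟩
    apply Subtype.ext
    obtain ⟨c, hc, rfl⟩ := hx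
    obtain ⟨c', hc', rfl⟩ := hx'
    show π c * π c' = π c' * π c
    rw [← map_mul, ← map_mul, hCcomm c hc c' hc']
  · intro x hx x' hx'
    rw [hK] at hx hx'
    obtain ⟨n, hn, rfl⟩ := hx
    obtain ⟨n', hn', rfl⟩ := hx'
    rw [← map_mul, ← map_mul, S.N_comm hn hn']

end setup

end Cfsg.Agent.Lib.H20.BHM
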