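import Mathlib
import Cfsg.Agent.Lib.H20.BHM5

set_option autoImplicit false

/-!
# Bertram–Herzog–Mann, part 6: detailed form of the main theorem
-/

namespace Cfsg.Agent.Lib.H20.BHM

open scoped Pointwise

section setup

universe u

variable {G : Type u} [Group G] [Finite G] {T : Set ℕ} {b0 : G} (S : Setup T b0)

include S

/-- The main theorem, detailed form: `C(b0) / Z(G)` is a Frobenius complement in `G / Z(G)` with
kernel `N / Z(G)`, and `C(b0)` is abelian. -/
theorem Setup.main' {a0 : G} (ha0 : IsX T a0) :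
    Cfsg.IsFrobeniusComplement
        ((Subgroup.centralizer ({b0} : Set G)).map (QuotientGroup.mk' (Subgroup.center G))) ∧
      Cfsg.frobeniusKernel
        ((Subgroup.centralizer ({b0} : Set G)).map (QuotientGroup.mk' (Subgroup.center G))) =
        (((S.N).map (QuotientGroup.mk' (Subgroup.center G)) : Subgroup (G ⧸ Subgroup.center G)) :
          Set (G ⧸ Subgroup.center G)) ∧
      ∀ x ∈ Subgroup.centralizer ({b0} : Set G), ∀ x' ∈ Subgroup.centralizer ({b0} : Set G),
        x * x' = x' * x := by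
  set Z := Subgroup.center G with hZ
  set π := QuotientGroup.mk' Z with hπ
  set C := Subgroup.centralizer ({b0} : Set G) with hC
  have hπs : Function.Surjective π := QuotientGroup.mk'_surjective Z
  have hZN : Z ≤ S.N := S.center_le_N
  have hZC : Z ≤ C := by
    intro z hz
    rw [Subgroup.mem_center_iff] at hz
    rw [hC, Subgroup.mem_centralizer_singleton_iff]
    exact (hz b0).symm
  have hmemN : ∀ g : G, π g ∈ (S.N).map π ↔ g ∈ S.N := mk_mem_map_iff Z _ hZN
  have hmemC : ∀ g : G, π g ∈ C.map π ↔ g ∈ C := mk_mem_map_iff Z _ hZC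
  have hπ1 : ∀ g : G, π g = 1 ↔ g ∈ Z := fun g => QuotientGroup.eq_one_iff g
  haveI hNn : ((S.N).map π).Normal := (S.N_normal).map π hπs
  have hm : cs b0 = C.index := rfl
  have hcop : (S.N).index.Coprime C.index :=
    Nat.Coprime.coprime_dvd_left (S.index_N_dvd ha0) (S.coprime_of_isT ha0.2)
  -- elements of `C ∩ N` are central
  have hCN : ∀ x ∈ C, x ∈ S.N → x ∈ Z := by
    intro x hxC hxN
    rw [hC, Subgroup.mem_centralizer_singleton_iff] at hxC
    exact S.mem_center_of_commute S.hb0 hxC hxN
  have hsup : (S.N).map π ⊔ C.map π = ⊤ := by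
    rw [eq_top_iff]
    intro x _
    obtain ⟨g, rfl⟩ := hπs x
    obtain ⟨n, hn, c, hc, rfl⟩ := Cfsg.Agent.Lib.H1.exists_mul_of_coprime_index hcop g
    rw [map_mul]
    exact Subgroup.mul_mem_sup ((hmemN n).mpr hn) ((hmemC c).mpr hc)
  have hinf : (S.N).map π ⊓ C.map π = ⊥ := by
    rw [eq_bot_iff]
    intro x hx
    obtain ⟨g, rfl⟩ := hπs x
    rw [Subgroup.mem_inf, hmemN, hmemC] at hx
    rw [Subgroup.mem_bot, hπ1]
    exact hCN g hx.2 hx.1
  have hNne : (S.N).map π ≠ ⊥ := by
    intro h
    have h1 : π a0 ∈ (S.N).map π := (hmemN a0).mpr ha0.2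
    rw [h, Subgroup.mem_bot, hπ1] at h1
    exact not_mem_center_of_isX ha0 h1
  have hb0C : b0 ∈ C := by
    rw [hC, Subgroup.mem_centralizer_singleton_iff]
  have hHne : C.map π ≠ ⊥ := by
    intro h
    have h1 : π b0 ∈ C.map π := (hmemC b0).mpr hb0C
    rw [h, Subgroup.mem_bot, hπ1] at h1
    exact not_mem_center_of_isY S.hb0 h1
  have hfpf : ∀ h ∈ C.map π, h ≠ 1 → ∀ n ∈ (S.N).map π, n * h = h * n → n = 1 := by
    intro hb hhb hb1 nb hnb hcomm
    obtain ⟨h, rfl⟩ := hπs hb
    obtain ⟨n, rfl⟩ := hπs nb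
    rw [hmemC] at hhb
    rw [hmemN] at hnb
    rw [hπ1]
    by_contra hnZ
    have hnX : IsX T n := by
      rcases isX_or_mem_center_of_isT hnb with h1 | h1
      · exact h1
      · exact (hnZ h1).elim
    apply hb1
    -- `h n h⁻¹ = n z` with `z` central
    have hz : n⁻¹ * (h * n * h⁻¹) ∈ Z := by
      have h1 : π (n * h) = π (h * n) := by rw [map_mul, map_mul]; exact hcomm
      have h2 : (n * h)⁻¹ * (h * n) ∈ Z := QuotientGroup.eq.mp h1
      have h3 := (inferInstance : Z.Normal).conj_mem _ h2 h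
      have e : h * ((n * h)⁻¹ * (h * n)) * h⁻¹ = n⁻¹ * (h * n * h⁻¹) := by group
      rwa [e] at h3
    set z := n⁻¹ * (h * n * h⁻¹) with hzdef
    have hzc : ∀ g : G, g * z = z * g := fun g => (Subgroup.mem_center_iff.mp hz) g
    have hconj : h * n * h⁻¹ = n * z := by rw [hzdef]; group
    have hpow : ∀ i : ℕ, h ^ i * n * (h ^ i)⁻¹ = n * z ^ i := by
      intro i
      induction i with
      | zero => simp
      | succ i ih =>
        have hzi : ∀ g : G, g * z ^ i = z ^ i * g := by
          intro g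
          have : Commute g z := hzc g
          exact (this.pow_right i).eq
        calc h ^ (i + 1) * n * (h ^ (i + 1))⁻¹ = h * (h ^ i * n * (h ^ i)⁻¹) * h⁻¹ := by
              rw [pow_succ']; group
          _ = h * (n * z ^ i) * h⁻¹ := by rw [ih]
          _ = (h * n * h⁻¹) * (h * z ^ i * h⁻¹) := by group
          _ = (n * z) * (z ^ i) := by rw [hconj, hzi h]; group
          _ = n * z ^ (i + 1) := by rw [pow_succ']; group
    -- `z ^ m = 1`
    have hnm : n ^ cs b0 ∈ Z := S.pow_mem_center hnb
    have hzm : z ^ cs b0 = 1 := by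
      have h1 : (h * n * h⁻¹) ^ cs b0 = n ^ cs b0 := by
        rw [conj_pow]
        have := (Subgroup.mem_center_iff.mp hnm) h
        calc h * n ^ cs b0 * h⁻¹ = n ^ cs b0 * h * h⁻¹ := by rw [this]
          _ = n ^ cs b0 := by group
      have h2 : (n * z) ^ cs b0 = n ^ cs b0 * z ^ cs b0 := by
        have : Commute n z := hzc n
        exact this.mul_pow _
      rw [hconj, h2] at h1
      exact mul_left_cancel (a := n ^ cs b0) (by rw [h1, mul_one])
    -- `h ^ m` commutes with `n`, hence is central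
    have hhm : h ^ cs b0 ∈ Z := by
      have h1 := hpow (cs b0)
      rw [hzm, mul_one] at h1
      have h2 : n * h ^ cs b0 = h ^ cs b0 * n := by
        calc n * h ^ cs b0 = (h ^ cs b0 * n * (h ^ cs b0)⁻¹) * h ^ cs b0 := by rw [h1]
          _ = h ^ cs b0 * n := by group
      have h3 : h ^ cs b0 ∈ S.N := S.mem_N_of_commute hnX h2
      exact hCN _ (C.pow_mem hhb _) h3
    -- `h ^ |G : N|` lies in `N ∩ C`
    have hhe : h ^ (S.N).index ∈ Z := by
      haveI := S.N_normal
      exact hCN _ (C.pow_mem hhb _) (Subgroup.pow_index_mem _ h)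
    have h1 : orderOf (π h) ∣ cs b0 := by
      apply orderOf_dvd_of_pow_eq_one
      rw [← map_pow, hπ1]
      exact hhm
    have h2 : orderOf (π h) ∣ (S.N).index := by
      apply orderOf_dvd_of_pow_eq_one
      rw [← map_pow, hπ1]
      exact hhe
    have h3 : orderOf (π h) ∣ 1 := by
      have := Nat.dvd_gcd h2 h1
      rwa [hm, hcop] at this
    exact orderOf_eq_one_iff.mp (Nat.dvd_one.mp h3)
  obtain ⟨hF, hK⟩ := frobenius_of_fpf ((S.N).map π) (C.map π) hsup hinf hNne hHne hfpf
  -- `C` is abelian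
  have hCcomm : ∀ x ∈ C, ∀ x' ∈ C, x * x' = x' * x := by
    have key : ∀ b' ∈ C, b' ∉ Z → Subgroup.centralizer ({b'} : Set G) = C := by
      intro b' hb'C hb'Z
      have hle : Subgroup.centralizer ({b'} : Set G) ≤ C := by
        intro x hx
        by_contra hxC
        have hxH : π x ∉ C.map π := fun h => hxC ((hmemC x).mp h)
        have h1 := hF.2.2 (π x) hxH
        have h2 : π b' ∈ C.map π ⊓ MulAut.conj (π x) • C.map π := by
          refine ⟨(hmemC b').mpr hb'C, ?_⟩
          show π b' ∈ MulAut.conj (π x) • C.map π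
          rw [mem_conj_smul_iff]
          rw [Subgroup.mem_centralizer_singleton_iff] at hx
          have e : (π x)⁻¹ * π b' * π x = π b' := by
            rw [← map_inv, ← map_mul, ← map_mul]
            congr 1
            calc x⁻¹ * b' * x = x⁻¹ * (x * b') := by rw [hx]; group
              _ = b' := by group
          rw [e]
          exact (hmemC b').mpr hb'C
        rw [h1, Subgroup.mem_bot, hπ1] at h2
        exact hb'Z h2
      apply eq_of_le_of_index_eq hle
      apply le_antisymm (S.hmax b')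
      exact Nat.le_of_dvd (Nat.pos_of_ne_zero (cs_ne_zero b')) (Subgroup.index_dvd_of_le hle)
    intro x hx x' hx'
    by_cases hxZ : x ∈ Z
    · exact ((Subgroup.mem_center_iff.mp hxZ) x').symm
    · have h1 : x' ∈ Subgroup.centralizer ({x} : Set G) := by rw [key x hx hxZ]; exact hx'
      rw [Subgroup.mem_centralizer_singleton_iff] at h1
      exact h1.symm
  exact ⟨hF, hK, hCcomm⟩

/-- For an `X`-type element `a`, `C(a) = N`. -/
theorem Setup.centralizer_eq_N {a : G} (ha : IsX T a) :
    Subgroup.centralizer ({a} : Set G) = S.N := by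
  apply le_antisymm
  · intro x hx
    rw [Subgroup.mem_centralizer_singleton_iff] at hx
    exact S.mem_N_of_commute ha hx.symm
  · intro x hx
    rw [Subgroup.mem_centralizer_singleton_iff]
    exact S.N_comm hx ha.2

end setup

end Cfsg.Agent.Lib.H20.BHM
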