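import Mathlib
import Cfsg.Agent.Lib.H20.BHM6

set_option autoImplicit false

/-!
# Two largest class sizes coprime (Bianchi–Gillio–Casolo), part 1

`Hyp G m n`: `m > n > 1` coprime, every class size is `≤ m`, and every class size `< m` is `≤ n`.
-/

namespace Cfsg.Agent.Lib.H20.BGC

open scoped Pointwise
open Cfsg.Agent.Lib.H20.BHM

/-- A `p`-element is conjugate into any subgroup of index prime to `p`. -/
theorem exists_conj_mem_of_not_dvd_index {G : Type*} [Group G] [Finite G] {p : ℕ} [Fact p.Prime]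
    (H : Subgroup G) (hH : ¬ p ∣ H.index) {g : G} {j : ℕ} (hg : orderOf g = p ^ j) :
    ∃ t : G, t * g * t⁻¹ ∈ H := by
  obtain ⟨S₀⟩ : Nonempty (Sylow p ↥H) := inferInstance
  have hG0 : Nat.card G ≠ 0 := Nat.card_pos.ne'
  have hcard : Nat.card ((S₀ : Subgroup H).map H.subtype) = p ^ (Nat.card G).factorization p := by
    rw [Subgroup.card_map_of_injective H.subtype_injective, S₀.card_eq_multiplicity]
    congr 1
    have h1 := H.card_mul_index
    rw [← h1, Nat.factorization_mul Nat.card_pos.ne' Subgroup.index_ne_zero_of_finite,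
      Finsupp.add_apply, Nat.factorization_eq_zero_of_not_dvd hH, add_zero]
  let S : Sylow p G := Sylow.ofCard _ hcard
  have hzg : IsPGroup p (Subgroup.zpowers g) :=
    IsPGroup.of_card (n := j) (by rw [Nat.card_zpowers, hg])
  obtain ⟨t, ht⟩ := Cfsg.Agent.Lib.H16.exists_conj_mem_sylow _ hzg S
  exact ⟨t, Subgroup.map_subtype_le _ (ht g (Subgroup.mem_zpowers g))⟩

variable {G : Type*} [Group G]

theorem smul_cls_subset [Finite G] {a b0 : G} (hc : (cs a).Coprime (cs b0)) :
    a • cls b0 ⊆ cls (a * b0) := by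
  rintro _ ⟨z, ⟨g, rfl⟩, rfl⟩
  obtain ⟨u, hu, v, hv, rfl⟩ := exists_mul_of_coprime hc g
  rw [Subgroup.mem_centralizer_singleton_iff] at hu hv
  refine ⟨u, ?_⟩
  have hv' : v * b0 * v⁻¹ = b0 := by rw [hv]; group
  have hu' : u * a = a * u := hu
  have e1 : u * v * b0 * (u * v)⁻¹ = u * (v * b0 * v⁻¹) * u⁻¹ := by group
  simp only [smul_eq_mul]
  rw [e1, hv']
  calc u * (a * b0) * u⁻¹ = (u * a) * b0 * u⁻¹ := by group
    _ = (a * u) * b0 * u⁻¹ := by rw [hu']
    _ = a * (u * b0 * u⁻¹) := by group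

theorem cs_le_cs_mul [Finite G] {a b0 : G} (hc : (cs a).Coprime (cs b0)) : cs b0 ≤ cs (a * b0) := by
  have h1 := Set.ncard_le_ncard (smul_cls_subset hc) (Set.toFinite _)
  rwa [Set.ncard_smul_set, ← Nat.card_coe_set_eq, ← Nat.card_coe_set_eq, card_cls, card_cls] at h1

theorem smul_cls_eq_of_le [Finite G] {a b0 : G} (hc : (cs a).Coprime (cs b0))
    (hle : cs (a * b0) ≤ cs b0) : a • cls b0 = cls (a * b0) := by
  apply Set.eq_of_subset_of_ncard_le (smul_cls_subset hc) _ (Set.toFinite _)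
  rw [Set.ncard_smul_set, ← Nat.card_coe_set_eq, ← Nat.card_coe_set_eq, card_cls, card_cls]
  exact hle

theorem inv_mul_conj_mem_stabK_of_le [Finite G] {a b0 : G} (hc : (cs a).Coprime (cs b0))
    (hle : cs (a * b0) ≤ cs b0) (g : G) : a⁻¹ * (g * a * g⁻¹) ∈ stabK b0 := by
  have hc' : (cs (g * a * g⁻¹)).Coprime (cs b0) := by rw [cs_conj]; exact hc
  have h1 := smul_cls_eq_of_le hc hle
  have h3 : a * (g⁻¹ * b0 * g⁻¹⁻¹) ∈ cls (a * b0) := by
    rw [← h1]
    exact ⟨_, ⟨g⁻¹, rfl⟩, rfl⟩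
  have h4 : g * a * g⁻¹ * b0 ∈ cls (a * b0) := by
    have := conj_mem_cls h3 g
    have e : g * (a * (g⁻¹ * b0 * g⁻¹⁻¹)) * g⁻¹ = g * a * g⁻¹ * b0 := by group
    rwa [e] at this
  have h5 : cls (g * a * g⁻¹ * b0) = cls (a * b0) := cls_eq_of_mem h4
  have hle' : cs (g * a * g⁻¹ * b0) ≤ cs b0 := by
    rw [← card_cls, h5, card_cls]; exact hle
  have h2 := smul_cls_eq_of_le hc' hle'
  rw [h5, ← h1] at h2
  unfold stabK
  rw [MulAction.mem_stabilizer_iff, mul_smul, h2, inv_smul_smul]

/-- If all conjugates of `u` lie in `u L` with `L` central, then the class size of `u` divides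
`|L|`. -/
theorem cs_dvd_card_of_conj_mem [Finite G] {u : G} (L : Subgroup G) (hL : L ≤ Subgroup.center G)
    (h : ∀ g : G, u⁻¹ * (g * u * g⁻¹) ∈ L) : cs u ∣ Nat.card L := by
  let φ : G →* ↥L := MonoidHom.mk' (fun g => ⟨u⁻¹ * (g * u * g⁻¹), h g⟩) (by
    intro g k
    apply Subtype.ext
    simp only [Subgroup.coe_mul]
    have hk := Subgroup.mem_center_iff.mp (hL (h k))
    -- u⁻¹ (gk u k⁻¹g⁻¹) = u⁻¹ g u (u⁻¹ k u k⁻¹) g⁻¹
    calc u⁻¹ * (g * k * u * (g * k)⁻¹) = u⁻¹ * (g * u * (u⁻¹ * (k * u * k⁻¹))) * g⁻¹ := by group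
      _ = u⁻¹ * ((g * u) * (u⁻¹ * (k * u * k⁻¹))) * g⁻¹ := by group
      _ = u⁻¹ * ((u⁻¹ * (k * u * k⁻¹)) * (g * u)) * g⁻¹ := by rw [hk (g * u)]
      _ = u⁻¹ * (u⁻¹ * (k * u * k⁻¹)) * (g * u * g⁻¹) := by group
      _ = u⁻¹ * ((g * u * g⁻¹) * (u⁻¹ * (k * u * k⁻¹))) := by
          rw [hk (g * u * g⁻¹)]; group
      _ = u⁻¹ * (g * u * g⁻¹) * (u⁻¹ * (k * u * k⁻¹)) := by group)
  have hker : φ.ker = Subgroup.centralizer ({u} : Set G) := by
    ext g
    rw [MonoidHom.mem_ker, Subgroup.mem_centralizer_singleton_iff, Subtype.ext_iff]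
    show u⁻¹ * (g * u * g⁻¹) = 1 ↔ g * u = u * g
    constructor
    · intro h1
      have : g * u * g⁻¹ = u := by
        calc g * u * g⁻¹ = u * (u⁻¹ * (g * u * g⁻¹)) := by group
          _ = u := by rw [h1, mul_one]
      calc g * u = g * u * g⁻¹ * g := by group
        _ = u * g := by rw [this]
    · intro h1
      calc u⁻¹ * (g * u * g⁻¹) = u⁻¹ * (u * g) * g⁻¹ := by rw [h1]; group
        _ = 1 := by group
  unfold cs
  rw [← hker, Subgroup.index_ker]
  exact Subgroup.card_subgroup_dvd_card _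

/-- The hypotheses. -/
structure Hyp (G : Type*) [Group G] (m n : ℕ) : Prop where
  hmn : n < m
  hn : 1 < n
  hcop : m.Coprime n
  htop : ∀ z : G, cs z ≤ m
  hsecond : ∀ z : G, cs z < m → cs z ≤ n

section hyp

variable [Finite G] {m n : ℕ} (H : Hyp G m n) {x y : G} (hx : cs x = n) (hy : cs y = m)

include H

theorem Hyp.hmax {b : G} (hb : cs b = m) : ∀ g : G, cs g ≤ cs b := by
  intro g; rw [hb]; exact H.htop g

theorem Hyp.eq_n_of_dvd {w : G} (h1 : n ∣ cs w) (h2 : cs w ≠ m) : cs w = n := by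
  have h3 : cs w < m := lt_of_le_of_ne (H.htop w) h2
  exact le_antisymm (H.hsecond w h3) (Nat.le_of_dvd (Nat.pos_of_ne_zero (cs_ne_zero w)) h1)

theorem Hyp.not_dvd {p : ℕ} (hp : p.Prime) (h1 : p ∣ m) : ¬ p ∣ n := by
  intro h2
  have := Nat.dvd_gcd h1 h2
  rw [H.hcop] at this
  exact hp.ne_one (Nat.dvd_one.mp this)

include hy

theorem Hyp.commute_D {a a' : G} (ha : (cs a).Coprime m) (ha' : (cs a').Coprime m) :
    a * a' = a' * a :=
  commute_of_coprime (H.hmax hy) (hy ▸ ha) (hy ▸ ha')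

theorem Hyp.pow_mem_center_D {a : G} (ha : (cs a).Coprime m) : a ^ m ∈ Subgroup.center G := by
  have := pow_mem_center (H.hmax hy) (hy ▸ ha)
  rwa [hy] at this

omit hy in
theorem Hyp.cs_mul_D {a b : G} (ha : (cs a).Coprime m) (hb : cs b = m) : cs (a * b) = m := by
  have h1 := smul_cls_eq (H.hmax hb) (hb ▸ ha)
  have h2 : Nat.card (cls (a * b)) = Nat.card (cls b) := by
    rw [← h1, Nat.card_coe_set_eq, Nat.card_coe_set_eq, Set.ncard_smul_set]
  rw [card_cls, card_cls] at h2
  rw [h2, hb]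

omit hy in
theorem Hyp.cs_mul_D' {a b : G} (ha : (cs a).Coprime m) (hb : cs b = m) : cs (b * a) = m := by
  have h1 := H.cs_mul_D ha hb
  have e : b * a = a⁻¹ * (a * b) * a⁻¹⁻¹ := by group
  rw [e, cs_conj]
  exact h1

/-- An element of order coprime to `m` whose class size is coprime to `m` is central. -/
theorem Hyp.mem_center_of_D_of_coprime {a : G} (ha : (cs a).Coprime m)
    (hco : m.Coprime (orderOf a)) : a ∈ Subgroup.center G := by
  obtain ⟨t, ht⟩ := exists_pow_eq_self_of_coprime hco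
  rw [← ht]
  exact Subgroup.pow_mem _ (H.pow_mem_center_D hy ha) t

omit hy

/-- L1: for `a` of class size `n`, elements of `C(a)` of coprime order centralize `C(a)`. -/
theorem Hyp.centralizer_le_of_n {a g : G} (ha : cs a = n) (hg : g * a = a * g)
    (hco : (orderOf g).Coprime (orderOf a)) :
    Subgroup.centralizer ({a} : Set G) ≤ Subgroup.centralizer ({g} : Set G) := by
  have h1 := centralizer_mul_of_coprime (show Commute g a from hg) hco
  have hle : Subgroup.centralizer ({g * a} : Set G) ≤ Subgroup.centralizer ({a} : Set G) := by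
    rw [h1]; exact inf_le_right
  have hdvd : n ∣ cs (g * a) := ha ▸ cs_dvd_of_le hle
  have hne : cs (g * a) ≠ m := by
    intro h2
    rw [h2] at hdvd
    have := Nat.dvd_gcd hdvd (dvd_refl n)
    rw [H.hcop] at this
    have := Nat.dvd_one.mp this
    have := H.hn
    omega
  have heq : cs (g * a) = cs a := by rw [ha]; exact H.eq_n_of_dvd hdvd hne
  have := eq_of_le_of_index_eq hle heq
  rw [← this, h1]
  exact inf_le_left

/-- L3: for `b` of class size `m`, elements of `C(b)` of coprime order centralize `C(b)`. -/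
theorem Hyp.centralizer_le_of_m {b g : G} (hb : cs b = m) (hg : g * b = b * g)
    (hco : (orderOf g).Coprime (orderOf b)) :
    Subgroup.centralizer ({b} : Set G) ≤ Subgroup.centralizer ({g} : Set G) := by
  have h1 := centralizer_mul_of_coprime (show Commute g b from hg) hco
  have hle : Subgroup.centralizer ({g * b} : Set G) ≤ Subgroup.centralizer ({b} : Set G) := by
    rw [h1]; exact inf_le_right
  have hdvd : m ∣ cs (g * b) := hb ▸ cs_dvd_of_le hle
  have heq : cs (g * b) = cs b := by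
    rw [hb]
    exact le_antisymm (H.htop _) (Nat.le_of_dvd (Nat.pos_of_ne_zero (cs_ne_zero _)) hdvd)
  have := eq_of_le_of_index_eq hle heq
  rw [← this, h1]
  exact inf_le_left

omit H [Finite G] in
/-- Replace `a` by its `q'`-part when the `q`-part is central. -/
theorem centralizer_pow_eq_of_mul {a : G} {k l : ℕ} (hkl : a ^ k * a ^ l = a)
    (hk : a ^ k ∈ Subgroup.center G) :
    Subgroup.centralizer ({a ^ l} : Set G) = Subgroup.centralizer ({a} : Set G) := by
  apply le_antisymm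
  · intro g hg
    rw [Subgroup.mem_centralizer_singleton_iff] at hg ⊢
    have h1 := (Subgroup.mem_center_iff.mp hk) g
    calc g * a = g * (a ^ k * a ^ l) := by rw [hkl]
      _ = (g * a ^ k) * a ^ l := by group
      _ = (a ^ k * g) * a ^ l := by rw [h1]
      _ = a ^ k * (g * a ^ l) := by group
      _ = a ^ k * (a ^ l * g) := by rw [hg]
      _ = (a ^ k * a ^ l) * g := by group
      _ = a * g := by rw [hkl]
  · exact centralizer_le_pow a l

include hy

/-- L2: for `a` of class size `n`, a `q`-element of `C(a)` with `q ∤ m` is central. -/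
theorem Hyp.mem_center_of_commute_n {a g : G} (ha : cs a = n) (hg : g * a = a * g) {q j : ℕ}
    (hq : q.Prime) (hqm : ¬ q ∣ m) (hgo : orderOf g = q ^ j) : g ∈ Subgroup.center G := by
  have haD : (cs a).Coprime m := by rw [ha]; exact H.hcop.symm
  obtain ⟨k, l, hkl, ⟨e, he⟩, hl⟩ := exists_pPart_pPrimePart a (isOfFinOrder_of_finite a) q hq
  have hqm' : m.Coprime q := (Nat.Prime.coprime_iff_not_dvd hq).mpr hqm |>.symm
  have hk : a ^ k ∈ Subgroup.center G := by
    have h1 : (a ^ k) ^ m ∈ Subgroup.center G := by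
      rw [← pow_mul, mul_comm, pow_mul]
      exact Subgroup.pow_mem _ (H.pow_mem_center_D hy haD) k
    have hco : m.Coprime (orderOf (a ^ k)) := by rw [he]; exact hqm'.pow_right e
    obtain ⟨t, ht⟩ := exists_pow_eq_self_of_coprime hco
    rw [← ht]
    exact Subgroup.pow_mem _ h1 t
  have hC := centralizer_pow_eq_of_mul hkl hk
  have ha1 : cs (a ^ l) = n := by unfold cs; rw [hC]; exact ha
  have hg1 : g * a ^ l = a ^ l * g := by
    have : Commute g a := hg
    exact (this.pow_right l).eq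
  have hco : (orderOf g).Coprime (orderOf (a ^ l)) := by
    rw [hgo]; exact (hl.symm).pow_left j
  have hle := H.centralizer_le_of_n ha1 hg1 hco
  have hgD : (cs g).Coprime m := by
    have : cs g ∣ n := by
      have := cs_dvd_of_le hle
      rwa [ha1] at this
    exact Nat.Coprime.coprime_dvd_left this H.hcop.symm
  apply H.mem_center_of_D_of_coprime hy hgD
  rw [hgo]
  exact hqm'.pow_right j

end hyp

end Cfsg.Agent.Lib.H20.BGC
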