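import Cfsg.Agent.Lib.H20.FG19CASEB7
import Cfsg.Agent.Lib.H2.FG19BLOCK7

set_option autoImplicit false

/-! S4404 piece CASEB7 (helper20), exact signature: `caseB7_aux` + helper2's BLOCK7. -/

namespace Cfsg.Agent.Lib.H20.FG19

open Cfsg Cfsg.Agent.Lib.H1.FG19
open scoped IsMulCommutative

variable {S : Type*} [Group S] (M : Subgroup S) [M.Normal]

theorem caseB7 [Finite S] [IsMulCommutative ↥M] (h2 : ∀ m ∈ M, m * m = 1) (H : Subgroup S) (b : S)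
    (hbH : b ∈ H) (hb : ∃ k : ℕ, b ^ 7 ^ k = 1) (hb7 : (MulAut.conjNormal b : MulAut ↥M) ^ 7 = 1)
    (hcb : Nat.card (cm (MulAut.conjNormal b : MulAut ↥M)) = 8) (V : Subgroup S)
    (hV : V ≤ (cm (MulAut.conjNormal b : MulAut ↥M)).map M.subtype) (E : Subgroup S) (hEH : E ≤ H)
    (hE : IsElementaryAbelian 7 E) (hEc : Nat.card E = 7 ^ 3) :
    ∃ F : Subgroup S, IsElementaryAbelian 7 F ∧ Nat.card F = 7 ^ 3 ∧
      7 ^ 2 ≤ Nat.card ↥(F ⊓ Subgroup.centralizer (V : Set S)) :=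
  caseB7_aux M (fun P F hP hFP hFn hFc B hBP hB hcB Φ hΦ =>
    Cfsg.Agent.Lib.H2.FG19.block7 (fun a => Subtype.ext (h2 a a.2)) P F hP hFP hFn hFc B hBP hB hcB
      Φ hΦ) H b hbH hb hb7 hcb V hV E hEH hE hEc

end Cfsg.Agent.Lib.H20.FG19
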