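import Cfsg.Agent.Lib.H1.FG19.Defs
import Cfsg.Prelude.Def_Transfer
import Cfsg.Prelude.Def_CaseTheorems

set_option autoImplicit false

/-! S4404 piece FRAT (helper20): Frattini + Sylow, a Sylow `p`-subgroup centralising `x` modulo `C`. -/

namespace Cfsg.Agent.Lib.H20.FG19

open Cfsg

theorem exists_sylow_comm_mod {H : Type*} [Group H] [Finite H] (C : Subgroup H) [C.Normal] {p a b : ℕ}
    [Fact p.Prime] (hp3 : p ≠ 3) (hH : Nat.card H = 3 ^ a * p ^ b) (x : H) (hx : x ^ 3 ∈ C)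
    (hcomm : ∀ h : H, x * (h * x * h⁻¹) * x⁻¹ * (h * x * h⁻¹)⁻¹ ∈ C)
    (hAut : ∀ T : Subgroup H, IsPGroup 3 T → ∀ y : H, (∃ k : ℕ, y ^ p ^ k = 1) →
      (∀ t ∈ T, y * t * y⁻¹ ∈ T) → ∀ t ∈ T, y * t = t * y) :
    ∃ P : Sylow p H, ∀ y ∈ P, x * y * x⁻¹ * y⁻¹ ∈ C := by
  classical
  haveI : Fact (Nat.Prime 3) := ⟨Nat.prime_three⟩
  let π : H →* H ⧸ C := QuotientGroup.mk' C
  have hπs : Function.Surjective π := QuotientGroup.mk'_surjective C
  have hker : ∀ g : H, π g = 1 ↔ g ∈ C := fun g => QuotientGroup.eq_one_iff g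
  set xb : H ⧸ C := π x with hxb
  have hxb3 : xb ^ 3 = 1 := by rw [hxb, ← map_pow]; exact (hker _).mpr hx
  -- conjugates of xb commute with xb
  have hc1 : ∀ q : H ⧸ C, Commute xb (q * xb * q⁻¹) := by
    intro q
    obtain ⟨h, rfl⟩ := hπs q
    have h1 : π (x * (h * x * h⁻¹) * x⁻¹ * (h * x * h⁻¹)⁻¹) = 1 := (hker _).mpr (hcomm h)
    simp only [map_mul, map_inv] at h1
    have h2 := mul_inv_eq_one.mp h1
    show xb * (π h * xb * (π h)⁻¹) = (π h * xb * (π h)⁻¹) * xb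
    calc xb * (π h * xb * (π h)⁻¹) = xb * (π h * xb * (π h)⁻¹) * xb⁻¹ * xb := by group
      _ = _ := by rw [h2]
  have hc2 : ∀ q₁ q₂ : H ⧸ C, Commute (q₁ * xb * q₁⁻¹) (q₂ * xb * q₂⁻¹) := by
    intro q₁ q₂
    have h1 := (hc1 (q₁⁻¹ * q₂)).map (MulAut.conj q₁)
    simp only [MulAut.conj_apply] at h1
    have e : q₁ * (q₁⁻¹ * q₂ * xb * (q₁⁻¹ * q₂)⁻¹) * q₁⁻¹ = q₂ * xb * q₂⁻¹ := by group
    rw [e] at h1
    exact h1
  -- the normal closure of xb
  set Nb : Subgroup (H ⧸ C) := Subgroup.normalClosure ({xb} : Set (H ⧸ C)) with hNb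
  have hgen : ∀ s ∈ Group.conjugatesOfSet ({xb} : Set (H ⧸ C)), ∃ q, s = q * xb * q⁻¹ := by
    intro s hs
    obtain ⟨b', hb', hconj⟩ := Group.mem_conjugatesOfSet_iff.mp hs
    rw [Set.mem_singleton_iff] at hb'
    subst hb'
    obtain ⟨c, hc⟩ := isConj_iff.mp hconj
    exact ⟨c, hc.symm⟩
  have hcent : Nb ≤ Subgroup.centralizer (Group.conjugatesOfSet ({xb} : Set (H ⧸ C))) := by
    rw [hNb, Subgroup.normalClosure, Subgroup.closure_le]
    intro s hs
    rw [SetLike.mem_coe, Subgroup.mem_centralizer_iff]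
    intro t ht
    obtain ⟨q₁, rfl⟩ := hgen s hs
    obtain ⟨q₂, rfl⟩ := hgen t ht
    exact (hc2 q₂ q₁).eq
  have hNbcomm : ∀ u ∈ Nb, ∀ v ∈ Nb, Commute u v := by
    intro u hu v hv
    have h1 : Nb ≤ Subgroup.centralizer (Nb : Set (H ⧸ C)) := by
      rw [hNb, Subgroup.normalClosure, Subgroup.closure_le]
      intro s hs
      rw [SetLike.mem_coe, Subgroup.mem_centralizer_iff]
      intro t ht
      have := Subgroup.mem_centralizer_iff.mp (hcent ht) s hs
      exact this.symm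
    exact (Subgroup.mem_centralizer_iff.mp (h1 hv) u hu)
  have hNb3 : ∀ u ∈ Nb, u ^ 3 = 1 := by
    intro u hu
    rw [hNb, Subgroup.normalClosure] at hu
    refine Subgroup.closure_induction (p := fun u _ => u ^ 3 = 1) ?_ ?_ ?_ ?_ hu
    · intro s hs
      obtain ⟨q, rfl⟩ := hgen s hs
      rw [conj_pow, hxb3, mul_one, mul_inv_cancel]
    · exact one_pow 3
    · intro u v hu' hv' h1 h2
      have hu'' : u ∈ Nb := by rw [hNb, Subgroup.normalClosure]; exact hu'
      have hv'' : v ∈ Nb := by rw [hNb, Subgroup.normalClosure]; exact hv'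
      rw [(hNbcomm u hu'' v hv'').mul_pow, h1, h2, one_mul]
    · intro u _ h1
      rw [inv_pow, h1, inv_one]
  have hNbp : IsPGroup 3 Nb := by
    intro g
    refine ⟨1, Subtype.ext ?_⟩
    have := hNb3 g g.2
    simpa using this
  -- N, the preimage
  set N : Subgroup H := Nb.comap π with hN
  haveI : N.Normal := by rw [hN]; infer_instance
  let R : Sylow 3 N := default
  set R' : Subgroup H := (R : Subgroup N).map N.subtype with hR'
  have hR'3 : IsPGroup 3 R' := R.isPGroup'.map _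
  have hF : Subgroup.normalizer (R' : Set H) ⊔ N = ⊤ := Sylow.normalizer_sup_eq_top R
  -- π R' = Nb
  let f : N →* Nb := π.subgroupComap Nb
  have hf : Function.Surjective f := MonoidHom.subgroupComap_surjective_of_surjective π Nb hπs
  have hRtop : (R : Subgroup N).map f = ⊤ := by
    have h1 := (R.mapSurjective hf).is_maximal' (Q := ⊤) (hNbp.to_subgroup ⊤) le_top
    rw [Sylow.coe_mapSurjective] at h1
    exact h1.symm
  have hlift : ∀ z ∈ Nb, ∃ r ∈ R', π r = z := by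
    intro z hz
    have : (⟨z, hz⟩ : Nb) ∈ (R : Subgroup N).map f := by rw [hRtop]; trivial
    obtain ⟨r, hr, hfr⟩ := Subgroup.mem_map.mp this
    refine ⟨(r : H), Subgroup.mem_map.mpr ⟨r, hr, rfl⟩, ?_⟩
    exact congrArg Subtype.val hfr
  have hxbN : xb ∈ Nb := Subgroup.subset_normalClosure (Set.mem_singleton xb)
  obtain ⟨r0, hr0, hr0x⟩ := hlift xb hxbN
  -- the normaliser
  set L : Subgroup H := Subgroup.normalizer (R' : Set H) with hL
  have hR'L : R' ≤ L := Subgroup.le_normalizer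
  let g : L →* H ⧸ C := π.comp L.subtype
  have hg : Function.Surjective g := by
    intro q
    obtain ⟨h, rfl⟩ := hπs q
    have hh : h ∈ L ⊔ N := by rw [hF]; trivial
    have hh' : h ∈ ((L ⊔ N : Subgroup H) : Set H) := hh
    rw [Subgroup.mul_normal] at hh'
    obtain ⟨l, hl, n, hn, rfl⟩ := Set.mem_mul.mp hh'
    have hn' : π n ∈ Nb := hn
    obtain ⟨r1, hr1, hr1n⟩ := hlift (π n) hn'
    refine ⟨⟨l * r1, L.mul_mem hl (hR'L hr1)⟩, ?_⟩
    show π (l * r1) = π (l * n)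
    rw [map_mul, map_mul, hr1n]
  let P₁ : Sylow p L := default
  have hP₁ : ∀ l ∈ P₁, Commute xb (g l) := by
    intro l hl
    obtain ⟨k, hk⟩ := P₁.isPGroup' ⟨l, hl⟩
    have hk' : (l : H) ^ p ^ k = 1 := by
      have := congrArg (fun t : P₁ => ((t : L) : H)) hk
      simpa using this
    have hnorm : ∀ t ∈ R', (l : H) * t * (l : H)⁻¹ ∈ R' := fun t ht =>
      (Subgroup.mem_normalizer_iff.mp l.2 t).mp ht
    have h1 := hAut R' hR'3 (l : H) ⟨k, hk'⟩ hnorm r0 hr0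
    show xb * π (l : H) = π (l : H) * xb
    rw [← hr0x, ← map_mul, ← map_mul, h1]
  obtain ⟨P, hP⟩ := Sylow.mapSurjective_surjective hπs p (P₁.mapSurjective hg)
  refine ⟨P, fun y hy => ?_⟩
  have h1 : π y ∈ ((P.mapSurjective hπs : Sylow p (H ⧸ C)) : Subgroup (H ⧸ C)) := by
    rw [Sylow.coe_mapSurjective]
    exact Subgroup.mem_map_of_mem π hy
  rw [hP, Sylow.coe_mapSurjective] at h1
  obtain ⟨l, hl, hgl⟩ := Subgroup.mem_map.mp h1
  have h2 := hP₁ l hl
  rw [hgl] at h2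
  rw [← hker]
  simp only [map_mul, map_inv]
  have h3 : xb * π y = π y * xb := h2
  rw [h3, mul_inv_cancel_right, mul_inv_cancel]
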