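import Cfsg.Agent.Lib.H1.FG19.Defs
import Cfsg.Prelude.Def_Transfer
import Cfsg.Prelude.Def_CaseTheorems

set_option autoImplicit false

/-! S4404 piece A2 (helper20): `Φ` stabilises `[A, X]` when `Φ X Φ⁻¹ = X Γ`. -/

namespace Cfsg.Agent.Lib.H20.FG19

open Cfsg Cfsg.Agent.Lib.H1.FG19

variable {A : Type*} [CommGroup A]

/-- `Φ [A, X] = [A, Φ X Φ⁻¹]`. -/
theorem a2_map_cm (X Φ : MulAut A) : (cm X).map Φ.toMonoidHom = cm (Φ * X * Φ⁻¹) := by
  ext a
  rw [Subgroup.mem_map, mem_cm]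
  constructor
  · rintro ⟨b, hb, rfl⟩
    obtain ⟨m, rfl⟩ := mem_cm.mp hb
    refine ⟨Φ m, ?_⟩
    simp [MulAut.mul_apply]
  · rintro ⟨m, rfl⟩
    refine ⟨X (Φ⁻¹ m) * (Φ⁻¹ m)⁻¹, mem_cm.mpr ⟨_, rfl⟩, ?_⟩
    simp [MulAut.mul_apply]

/-- an automorphism commuting with `W` stabilises `[A, W]`. -/
theorem a2_stab {Z W : MulAut A} (h : Z * W = W * Z) {a : A} (ha : a ∈ cm W) : Z a ∈ cm W := by
  obtain ⟨m, rfl⟩ := mem_cm.mp ha
  refine mem_cm.mpr ⟨Z m, ?_⟩
  have h1 : Z (W m) = W (Z m) := by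
    have := DFunLike.congr_fun h m
    simpa [MulAut.mul_apply] using this
  rw [map_mul, map_inv, h1]

/-- `[A, W] ∩ C_A(W) = 1` for `W³ = 1` on a group of exponent 2. -/
theorem a2_triv (h2 : ∀ a : A, a * a = 1) {W : MulAut A} (hW : W ^ 3 = 1) {w : A} (hw : w ∈ cm W)
    (hfix : W w = w) : w = 1 := by
  obtain ⟨m, rfl⟩ := mem_cm.mp hw
  have e1 : W (W (W m)) = m := by
    have := DFunLike.congr_fun hW m
    simpa [pow_succ, MulAut.mul_apply] using this
  have e2 : W (W m * m⁻¹) = W (W m) * (W m)⁻¹ := by rw [map_mul, map_inv]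
  have e3 : W (W (W m * m⁻¹)) = m * (W (W m))⁻¹ := by
    rw [e2, map_mul, map_inv, e1]
  have e4 : (W m * m⁻¹) * W (W m * m⁻¹) * W (W (W m * m⁻¹)) = 1 := by
    rw [e3, e2]
    have : W m * m⁻¹ * (W (W m) * (W m)⁻¹) * (m * (W (W m))⁻¹)
        = (W m * (W m)⁻¹) * (m⁻¹ * m) * (W (W m) * (W (W m))⁻¹) := by
      simp only [mul_comm, mul_left_comm, mul_assoc]
    rw [this, mul_inv_cancel, inv_mul_cancel, mul_inv_cancel, one_mul, one_mul]
  rw [hfix, hfix, h2, one_mul] at e4
  exact e4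

/-- a non-identity element `u` of the four-group `[A, X]` and `X u` generate it. -/
theorem a2_four (h2 : ∀ a : A, a * a = 1) {X : MulAut A} (hX : X ^ 3 = 1)
    (hV : Nat.card (cm X) = 4) {u : A} (hu : u ∈ cm X) (hu1 : u ≠ 1) (K : Subgroup A)
    (huK : u ∈ K) (hXuK : X u ∈ K) : cm X ≤ K := by
  classical
  have hXu : X u ∈ cm X := a2_stab rfl hu
  have hXu1 : X u ≠ 1 := by
    intro h
    apply hu1
    have : X u = X 1 := by rw [h, map_one]
    exact X.injective this
  have hXuu : X u ≠ u := fun h => hu1 (a2_triv h2 hX hu h)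
  have huinv : u⁻¹ = u := by
    rw [inv_eq_iff_mul_eq_one]; exact h2 u
  let s : Finset A := {1, u, X u, u * X u}
  have hs : s.card = 4 := by
    have n1 : (1 : A) ∉ ({u, X u, u * X u} : Finset A) := by
      simp only [Finset.mem_insert, Finset.mem_singleton, not_or]
      refine ⟨fun h => hu1 h.symm, fun h => hXu1 h.symm, fun h => ?_⟩
      apply hXuu
      have : X u = u⁻¹ := by
        rw [eq_inv_iff_mul_eq_one, mul_comm]; exact h.symm
      rw [this, huinv]
    have n2 : u ∉ ({X u, u * X u} : Finset A) := by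
      simp only [Finset.mem_insert, Finset.mem_singleton, not_or]
      refine ⟨fun h => hXuu h.symm, fun h => ?_⟩
      apply hXu1
      have := h.symm
      rwa [mul_eq_left] at this
    have n3 : X u ∉ ({u * X u} : Finset A) := by
      simp only [Finset.mem_singleton]
      intro h
      apply hu1
      have := h.symm
      rwa [mul_eq_right] at this
    show (insert 1 (insert u (insert (X u) {u * X u})) : Finset A).card = 4
    rw [Finset.card_insert_of_notMem n1, Finset.card_insert_of_notMem n2,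
      Finset.card_insert_of_notMem n3, Finset.card_singleton]
  have hsub : (s : Set A) ⊆ (cm X : Set A) := by
    intro a ha
    simp only [s, Finset.coe_insert, Finset.coe_singleton, Set.mem_insert_iff,
      Set.mem_singleton_iff] at ha
    rcases ha with rfl | rfl | rfl | rfl
    · exact (cm X).one_mem
    · exact hu
    · exact hXu
    · exact (cm X).mul_mem hu hXu
  have hsK : (s : Set A) ⊆ (K : Set A) := by
    intro a ha
    simp only [s, Finset.coe_insert, Finset.coe_singleton, Set.mem_insert_iff,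
      Set.mem_singleton_iff] at ha
    rcases ha with rfl | rfl | rfl | rfl
    · exact K.one_mem
    · exact huK
    · exact hXuK
    · exact K.mul_mem huK hXuK
  have heq : (s : Set A) = (cm X : Set A) := by
    have hfin : Finite (cm X) := Nat.finite_of_card_ne_zero (by rw [hV]; norm_num)
    have hfin' : ((cm X : Subgroup A) : Set A).Finite := Set.toFinite _
    apply Set.eq_of_subset_of_ncard_le hsub _ hfin'
    rw [Set.ncard_coe_finset, hs]
    have : ((cm X : Subgroup A) : Set A).ncard = Nat.card (cm X) := (Nat.card_coe_set_eq _).symm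
    rw [this, hV]
  intro a ha
  have : a ∈ (s : Set A) := by rw [heq]; exact ha
  exact hsK this

theorem map_cm_eq [Finite A] (h2 : ∀ a : A, a * a = 1) (X Γ Φ : MulAut A) (hX : X ^ 3 = 1)
    (hΓ : Γ ^ 3 = 1) (hXΓ : X * Γ = Γ * X) (hΦΓ : Φ * Γ = Γ * Φ) (hΦX : Φ * X * Φ⁻¹ = X * Γ)
    (hV : Nat.card (cm X) = 4) : (cm X).map Φ.toMonoidHom = cm X := by
  classical
  have hmap : (cm X).map Φ.toMonoidHom = cm (X * Γ) := by rw [a2_map_cm, hΦX]
  have hY3 : (X * Γ) ^ 3 = 1 := by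
    rw [(show Commute X Γ from hXΓ).mul_pow, hX, hΓ, one_mul]
  have hcardY : Nat.card (cm (X * Γ)) = 4 := by
    rw [← hmap, Subgroup.card_map_of_injective Φ.injective, hV]
  have hXY : X * (X * Γ) = (X * Γ) * X := by rw [mul_assoc, hXΓ]
  have hYX : (X * Γ) * X = X * (X * Γ) := hXY.symm
  have hΓY : Γ * (X * Γ) = (X * Γ) * Γ := by rw [← mul_assoc, hXΓ]
  rw [hmap]
  -- it suffices to show `cm X ≤ cm (X * Γ)`
  by_contra hne
  have hnle : ¬ cm X ≤ cm (X * Γ) := by
    intro hle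
    apply hne
    exact (Subgroup.eq_of_le_of_card_ge hle (by rw [hcardY, hV])).symm
  -- the intersection is trivial
  have hK : ∀ u, u ∈ cm X → u ∈ cm (X * Γ) → u = 1 := by
    intro u hu hu'
    by_contra hu1
    apply hnle
    exact a2_four h2 hX hV hu hu1 (cm (X * Γ)) hu' (a2_stab hXY hu')
  have hV1fx : ∀ w ∈ cm (X * Γ), X w = w := by
    intro w hw
    have h1 : X w * w⁻¹ ∈ cm X := mem_cm.mpr ⟨w, rfl⟩
    have h2' : X w * w⁻¹ ∈ cm (X * Γ) :=
      (cm (X * Γ)).mul_mem (a2_stab hXY hw) ((cm (X * Γ)).inv_mem hw)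
    exact mul_inv_eq_one.mp (hK _ h1 h2')
  have hV0fy : ∀ v ∈ cm X, (X * Γ) v = v := by
    intro v hv
    have h1 : (X * Γ) v * v⁻¹ ∈ cm (X * Γ) := mem_cm.mpr ⟨v, rfl⟩
    have h2' : (X * Γ) v * v⁻¹ ∈ cm X :=
      (cm X).mul_mem (a2_stab hYX hv) ((cm X).inv_mem hv)
    exact mul_inv_eq_one.mp (hK _ h2' h1)
  -- every element of `cm (X * Γ)` is trivial
  have hall : ∀ w ∈ cm (X * Γ), w = 1 := by
    intro w hw
    have hw' : w ∈ (cm X).map Φ.toMonoidHom := by rw [hmap]; exact hw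
    obtain ⟨v, hv, rfl⟩ := Subgroup.mem_map.mp hw'
    have hw0 : Φ v ∈ cm (X * Γ) := hw
    have hΦX' : Φ * X = (X * Γ) * Φ := by
      rw [← hΦX, inv_mul_cancel_right]
    have e1 : (X * Γ) (Γ (Φ v)) = Φ v := by
      have a1 : Γ (Φ v) = Φ (Γ v) := by
        have := DFunLike.congr_fun hΦΓ v
        simpa [MulAut.mul_apply] using this.symm
      have a2 : (X * Γ) (Φ (Γ v)) = Φ (X (Γ v)) := by
        have := DFunLike.congr_fun hΦX' (Γ v)
        simpa [MulAut.mul_apply] using this.symm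
      have a3 : X (Γ v) = v := by
        have := hV0fy v hv
        simpa [MulAut.mul_apply] using this
      rw [a1, a2, a3]
    have hΓw : Γ (Φ v) ∈ cm (X * Γ) := a2_stab hΓY hw0
    have hΓΓw : Γ (Γ (Φ v)) ∈ cm (X * Γ) := a2_stab hΓY hΓw
    have e2 : Γ (Γ (Φ v)) = Φ v := by
      have : (X * Γ) (Γ (Φ v)) = X (Γ (Γ (Φ v))) := by simp [MulAut.mul_apply]
      rw [this, hV1fx _ hΓΓw] at e1
      exact e1
    have e3 : Γ (Γ (Γ (Φ v))) = Φ v := by
      have := DFunLike.congr_fun hΓ (Φ v)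
      simpa [pow_succ, MulAut.mul_apply] using this
    have e4 : Γ (Φ v) = Φ v := by
      rw [e2] at e3
      exact e3
    have e5 : (X * Γ) (Φ v) = Φ v := by
      rw [MulAut.mul_apply, e4, hV1fx _ hw0]
    exact a2_triv h2 hY3 hw0 e5
  have hbot : cm (X * Γ) = ⊥ := by
    rw [eq_bot_iff]
    intro w hw
    rw [Subgroup.mem_bot]
    exact hall w hw
  rw [hbot, Subgroup.card_bot] at hcardY
  omega
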