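import Mathlib

set_option autoImplicit false

namespace Cfsg.Agent.Lib.H20

/-- Equal order types give an order-preserving bijection. -/
theorem exists_equiv_orderOf {G H : Type*} [Group G] [Finite G] [Group H] [Finite H]
    (hT : ∀ m : ℕ, Nat.card {g : G // orderOf g = m} = Nat.card {h : H // orderOf h = m}) :
    ∃ e : G ≃ H, ∀ g, orderOf (e g) = orderOf g := by
  have h1 : ∀ m : ℕ, Nonempty ({g : G // orderOf g = m} ≃ {h : H // orderOf h = m}) := by
    intro m
    exact Finite.card_eq.mp (hT m)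
  let e : ∀ m : ℕ, {g : G // orderOf g = m} ≃ {h : H // orderOf h = m} := fun m => (h1 m).some
  refine ⟨(Equiv.sigmaFiberEquiv (orderOf : G → ℕ)).symm.trans
    ((Equiv.sigmaCongrRight e).trans (Equiv.sigmaFiberEquiv (orderOf : H → ℕ))), ?_⟩
  intro g
  simp only [Equiv.trans_apply, Equiv.sigmaFiberEquiv, Equiv.coe_fn_symm_mk, Equiv.sigmaCongrRight_apply,
    Equiv.coe_fn_mk]
  exact (e (orderOf g) ⟨g, rfl⟩).2

/-- A `p`-element lies in any normal Sylow `p`-subgroup. -/
theorem mem_sylow_of_normal_of_orderOf {G : Type*} [Group G] [Finite G] {p : ℕ} [Fact p.Prime]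
    (P : Sylow p G) (hP : (P : Subgroup G).Normal) {g : G} {k : ℕ} (hg : orderOf g = p ^ k) :
    g ∈ (P : Subgroup G) := by
  have hz : IsPGroup p (Subgroup.zpowers g) := by
    apply IsPGroup.of_card (n := k)
    rw [Nat.card_zpowers, hg]
  obtain ⟨Q, hQ⟩ := hz.exists_le_sylow
  have : Subsingleton (Sylow p G) := (Sylow.unique_of_normal P hP).instSubsingleton
  have : Q = P := Subsingleton.elim _ _
  rw [← this]
  exact hQ (Subgroup.mem_zpowers g)

/-- Elements of a Sylow `p`-subgroup have `p`-power order. -/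
theorem exists_orderOf_eq_of_mem_sylow {G : Type*} [Group G] {p : ℕ} [Fact p.Prime]
    (P : Sylow p G) {g : G} (hg : g ∈ (P : Subgroup G)) : ∃ k : ℕ, orderOf g = p ^ k := by
  obtain ⟨k, hk⟩ := (IsPGroup.iff_orderOf.mp P.isPGroup') ⟨g, hg⟩
  exact ⟨k, by rw [← hk, Subgroup.orderOf_mk]⟩

end Cfsg.Agent.Lib.H20
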