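import Cfsg.Agent.Lib.H20.PowDecomp
import Cfsg.Agent.Lib.H20.Basic

set_option autoImplicit false

namespace Cfsg.Agent.Lib.H20

theorem closure_normal_of_conj {G : Type*} [Group G] {s : Set G}
    (h : ∀ g x, x ∈ s → g * x * g⁻¹ ∈ s) : (Subgroup.closure s).Normal := by
  constructor
  intro n hn g
  induction hn using Subgroup.closure_induction with
  | mem x hx => exact Subgroup.subset_closure (h g x hx)
  | one => simp
  | mul a b _ _ iha ihb =>
    have : g * (a * b) * g⁻¹ = (g * a * g⁻¹) * (g * b * g⁻¹) := by group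
    rw [this]; exact Subgroup.mul_mem _ iha ihb
  | inv a _ iha =>
    have : g * a⁻¹ * g⁻¹ = (g * a * g⁻¹)⁻¹ := by group
    rw [this]; exact Subgroup.inv_mem _ iha

theorem orderOf_conj' {G : Type*} [Group G] (g x : G) : orderOf (g * x * g⁻¹) = orderOf x := by
  have : g * x * g⁻¹ = MulAut.conj g x := by simp [MulAut.conj_apply]
  rw [this, MulEquiv.orderOf_eq]

/-- The subgroup generated by the elements of prime power order for primes other than `p`. -/
def pPrimeGen (p : ℕ) (G : Type*) [Group G] : Subgroup G :=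
  Subgroup.closure {y : G | ∃ q b : ℕ, q.Prime ∧ q ≠ p ∧ orderOf y = q ^ b}

theorem pPrimeGen_normal (p : ℕ) (G : Type*) [Group G] : (pPrimeGen p G).Normal := by
  apply closure_normal_of_conj
  rintro g x ⟨q, b, hq, hqp, hx⟩
  exact ⟨q, b, hq, hqp, by rw [orderOf_conj', hx]⟩

/-- Every element of order prime to `p` lies in `pPrimeGen p G`. -/
theorem mem_pPrimeGen_of_coprime {G : Type*} [Group G] [Finite G] (p : ℕ) :
    ∀ (n : ℕ) (g : G), orderOf g = n → n.Coprime p → g ∈ pPrimeGen p G := by
  intro n
  induction n using Nat.strong_induction_on with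
  | _ n ih =>
    intro g hg hcop
    by_cases hn1 : n = 1
    · rw [hn1, orderOf_eq_one_iff] at hg
      rw [hg]; exact Subgroup.one_mem _
    obtain ⟨q, hq, hqn⟩ := Nat.exists_prime_and_dvd hn1
    have hqp : q ≠ p := by
      rintro rfl
      have := Nat.Coprime.eq_one_of_dvd hcop.symm hqn
      exact hq.one_lt.ne' this
    obtain ⟨k, l, hkl, ⟨e, he⟩, hl⟩ := exists_pPart_pPrimePart g (isOfFinOrder_of_finite g) q hq
    rw [← hkl]
    apply Subgroup.mul_mem
    · exact Subgroup.subset_closure ⟨q, e, hq, hqp, he⟩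
    · have hdvd : orderOf (g ^ l) ∣ n := hg ▸ orderOf_pow_dvd l
      have hlt : orderOf (g ^ l) < n := by
        have hn0 : 0 < n := hg ▸ orderOf_pos g
        rcases (Nat.le_of_dvd hn0 hdvd).lt_or_eq with h | h
        · exact h
        · exfalso
          rw [h] at hl
          have := Nat.Coprime.eq_one_of_dvd hl.symm hqn
          exact hq.one_lt.ne' this
      exact ih _ hlt (g ^ l) rfl (Nat.Coprime.coprime_dvd_left hdvd hcop)

/-- If every `p`-element commutes with every element of prime power order for other primes,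
then every Sylow `p`-subgroup is a direct factor. -/
theorem sylow_direct_factor_of_commute {G : Type*} [Group G] [Finite G] (p : ℕ) [Fact p.Prime]
    (h : ∀ x y : G, (∃ a : ℕ, orderOf x = p ^ a) →
      (∃ q b : ℕ, q.Prime ∧ q ≠ p ∧ orderOf y = q ^ b) → x * y = y * x)
    (P : Sylow p G) :
    (P : Subgroup G).Normal ∧ ∃ K : Subgroup G, K.Normal ∧ (P : Subgroup G) ⊓ K = ⊥ ∧
      (P : Subgroup G) ⊔ K = ⊤ ∧ (Nat.card K).Coprime p := by
  have hp : p.Prime := Fact.out
  set K := pPrimeGen p G with hK
  haveI hKn : K.Normal := pPrimeGen_normal p G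
  -- K centralizes every p-element
  have hKc : ∀ x : G, (∃ a : ℕ, orderOf x = p ^ a) → K ≤ Subgroup.centralizer {x} := by
    intro x hx
    rw [hK, pPrimeGen, Subgroup.closure_le]
    intro y hy
    rw [SetLike.mem_coe, Subgroup.mem_centralizer_iff]
    intro z hz
    rw [Set.mem_singleton_iff] at hz
    subst hz
    exact h z y hx hy
  have hKP : K ≤ Subgroup.centralizer ((P : Subgroup G) : Set G) := by
    intro k hk
    rw [Subgroup.mem_centralizer_iff]
    intro x hx
    have := hKc x (exists_orderOf_eq_of_mem_sylow P hx) hk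
    rw [Subgroup.mem_centralizer_iff] at this
    exact this x rfl
  -- G / K is a p-group
  have hquot : IsPGroup p (G ⧸ K) := by
    intro x
    obtain ⟨g, rfl⟩ := QuotientGroup.mk_surjective x
    obtain ⟨k, l, hkl, ⟨e, he⟩, hl⟩ := exists_pPart_pPrimePart g (isOfFinOrder_of_finite g) p hp
    refine ⟨e, ?_⟩
    have hl' : g ^ l ∈ K := mem_pPrimeGen_of_coprime p _ _ rfl hl
    have : (QuotientGroup.mk g : G ⧸ K) = QuotientGroup.mk (g ^ k) := by
      rw [QuotientGroup.eq]
      have : (g)⁻¹ * g ^ k = (g ^ l)⁻¹ := by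
        nth_rw 1 [← hkl]; group
      rw [this]
      exact Subgroup.inv_mem _ hl'
    rw [this, ← QuotientGroup.mk_pow, ← he, pow_orderOf_eq_one]
    rfl
  obtain ⟨n, hn⟩ := IsPGroup.iff_card.mp hquot
  have hKidx : K.index = p ^ n := by rw [Subgroup.index, hn]
  -- P ⊔ K = ⊤
  have hsup : (P : Subgroup G) ⊔ K = ⊤ := by
    rw [← Subgroup.index_eq_one]
    have h1 : ((P : Subgroup G) ⊔ K).index ∣ (P : Subgroup G).index := Subgroup.index_dvd_of_le le_sup_left
    have h2 : ((P : Subgroup G) ⊔ K).index ∣ p ^ n := hKidx ▸ Subgroup.index_dvd_of_le le_sup_right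
    have hcop : Nat.Coprime (P : Subgroup G).index (p ^ n) := by
      apply Nat.Coprime.pow_right
      rw [Nat.coprime_comm, Nat.Prime.coprime_iff_not_dvd hp]
      exact P.not_dvd_index
    exact Nat.eq_one_of_dvd_coprimes hcop h1 h2
  -- P normal
  have hPn : (P : Subgroup G).Normal := by
    rw [← Subgroup.normalizer_eq_top_iff, eq_top_iff, ← hsup]
    apply sup_le Subgroup.le_normalizer
    exact hKP.trans (Subgroup.centralizer_le_normalizer _)
  refine ⟨hPn, ?_⟩
  haveI := hPn
  obtain ⟨H, hH⟩ := Subgroup.exists_right_complement'_of_coprime P.card_coprime_index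
  have hHcard : Nat.card H = (P : Subgroup G).index := (hH.symm.index_eq_card).symm
  have hHcop : (Nat.card H).Coprime p := by
    rw [hHcard, Nat.coprime_comm, Nat.Prime.coprime_iff_not_dvd hp]
    exact P.not_dvd_index
  have hHK : H ≤ K := by
    intro x hx
    apply mem_pPrimeGen_of_coprime p _ _ rfl
    have : orderOf x ∣ Nat.card H := by
      have := orderOf_dvd_natCard (⟨x, hx⟩ : H)
      rwa [Subgroup.orderOf_mk] at this
    exact Nat.Coprime.coprime_dvd_left this hHcop
  have hHn : H.Normal := by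
    rw [← Subgroup.normalizer_eq_top_iff, eq_top_iff, ← hH.sup_eq_top]
    apply sup_le _ Subgroup.le_normalizer
    intro x hx
    rw [Subgroup.mem_normalizer_iff]
    intro y
    -- x ∈ P commutes with y ∈ H
    constructor
    · intro hy
      have := hKP (hHK hy)
      rw [Subgroup.mem_centralizer_iff] at this
      have h1 : x * y * x⁻¹ = y := by rw [this x hx]; group
      rwa [h1]
    · intro hy
      have := hKP (hHK hy)
      rw [Subgroup.mem_centralizer_iff] at this
      have h1 := this x hx
      have h2 : y = x⁻¹ * (x * y * x⁻¹) * x := by group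
      have h3 : x * y * x⁻¹ = x⁻¹ * (x * y * x⁻¹) * x := by
        rw [mul_assoc x⁻¹, ← h1]; group
      rw [h2, ← h3]; exact hy
  exact ⟨H, hHn, hH.disjoint.eq_bot, hH.sup_eq_top, hHcop⟩

end Cfsg.Agent.Lib.H20
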