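import Mathlib
import Cfsg.Prelude.Def_Characters

/-!
# Fourier analysis on a finite abelian group, for S4958 (k(GV), abelian point stabiliser)

`coeff f φ` : the Fourier coefficient of `f : H → ℂ` at the character `φ : H →* ℂˣ`
(it is `Cfsg.classInner f φ`); `IntF f` : all Fourier coefficients are integers (i.e. `f` is a
ℤ-combination of characters); `Good μ κ` : the weighted quadratic form `∑ h, μ h * ‖f h‖ ^ 2` is
at least `κ` on the non-zero `f` with integer coefficients.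
Basic facts: `sum_char`, `sum_dual`, `inversion`, `parseval`.
-/

set_option autoImplicit false

namespace Cfsg.Agent.Lib.H20.KGV

open scoped ComplexConjugate

variable {H : Type*} [CommGroup H] [Fintype H]

/-- Fourier coefficient of `f` at the character `φ`. -/
noncomputable def coeff (f : H → ℂ) (φ : H →* ℂˣ) : ℂ :=
  Cfsg.classInner f (fun h => (φ h : ℂ))

/-- All Fourier coefficients of `f` are integers. -/
def IntF (f : H → ℂ) : Prop := ∀ φ : H →* ℂˣ, ∃ n : ℤ, coeff f φ = n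

/-- The weighted form `∑ h, μ h * ‖f h‖ ^ 2` is `≥ κ` on non-zero integral `f`. -/
def Good (μ : H → ℝ) (κ : ℝ) : Prop :=
  ∀ f : H → ℂ, IntF f → f ≠ 0 → κ ≤ ∑ h, μ h * ‖f h‖ ^ 2

theorem coeff_eq (f : H → ℂ) (φ : H →* ℂˣ) :
    coeff f φ = (Fintype.card H : ℂ)⁻¹ * ∑ h, f h * conj ((φ h : ℂ)) := by
  unfold coeff Cfsg.classInner
  rw [Nat.card_eq_fintype_card]

theorem card_ne_zero : (Fintype.card H : ℂ) ≠ 0 := by
  exact_mod_cast (Fintype.card_pos (α := H)).ne'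

theorem char_pow_card (φ : H →* ℂˣ) (h : H) : ((φ h : ℂˣ) : ℂ) ^ Fintype.card H = 1 := by
  rw [← Units.val_pow_eq_pow_val, ← map_pow, pow_card_eq_one, map_one, Units.val_one]

theorem norm_char (φ : H →* ℂˣ) (h : H) : ‖((φ h : ℂˣ) : ℂ)‖ = 1 :=
  Complex.norm_eq_one_of_pow_eq_one (char_pow_card φ h) (Fintype.card_pos (α := H)).ne'

theorem conj_char (φ : H →* ℂˣ) (h : H) : conj ((φ h : ℂˣ) : ℂ) = ((φ h⁻¹ : ℂˣ) : ℂ) := by
  rw [map_inv, Units.val_inv_eq_inv_val]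
  have h1 : ((φ h : ℂˣ) : ℂ) * conj ((φ h : ℂˣ) : ℂ) = 1 := by
    rw [Complex.mul_conj, Complex.normSq_eq_norm_sq, norm_char]; simp
  exact eq_inv_of_mul_eq_one_right h1

theorem sum_char (φ : H →* ℂˣ) :
    ∑ h, ((φ h : ℂˣ) : ℂ) = if φ = 1 then (Fintype.card H : ℂ) else 0 := by
  split_ifs with hφ
  · subst hφ; simp
  · obtain ⟨h₀, hh₀⟩ : ∃ h₀, φ h₀ ≠ 1 := by
      by_contra hcon
      push Not at hcon
      exact hφ (MonoidHom.ext fun x => by simpa using hcon x)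
    have h1 : ((φ h₀ : ℂˣ) : ℂ) * ∑ h, ((φ h : ℂˣ) : ℂ) = ∑ h, ((φ h : ℂˣ) : ℂ) := by
      rw [Finset.mul_sum]
      rw [← Equiv.sum_comp (Equiv.mulLeft h₀) (fun h => ((φ h : ℂˣ) : ℂ))]
      refine Finset.sum_congr rfl fun h _ => ?_
      simp [map_mul]
    have h2 : (((φ h₀ : ℂˣ) : ℂ) - 1) * ∑ h, ((φ h : ℂˣ) : ℂ) = 0 := by
      rw [sub_mul, h1, one_mul, sub_self]
    rcases mul_eq_zero.mp h2 with h3 | h3
    · exfalso
      apply hh₀
      apply Units.ext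
      simpa [sub_eq_zero] using h3
    · exact h3

theorem card_dual [Fintype (H →* ℂˣ)] : Fintype.card (H →* ℂˣ) = Fintype.card H := by
  rw [← Nat.card_eq_fintype_card, ← Nat.card_eq_fintype_card]
  exact CommGroup.card_monoidHom_of_hasEnoughRootsOfUnity H ℂ

theorem sum_dual [Fintype (H →* ℂˣ)] [DecidableEq H] (h : H) :
    ∑ φ : H →* ℂˣ, ((φ h : ℂˣ) : ℂ) = if h = 1 then (Fintype.card H : ℂ) else 0 := by
  split_ifs with hh
  · subst hh; simp [card_dual]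
  · obtain ⟨φ₀, hφ₀⟩ := CommGroup.exists_apply_ne_one_of_hasEnoughRootsOfUnity H ℂ hh
    have h1 : ((φ₀ h : ℂˣ) : ℂ) * ∑ φ : H →* ℂˣ, ((φ h : ℂˣ) : ℂ) =
        ∑ φ : H →* ℂˣ, ((φ h : ℂˣ) : ℂ) := by
      rw [Finset.mul_sum]
      rw [← Equiv.sum_comp (Equiv.mulLeft φ₀) (fun φ : H →* ℂˣ => ((φ h : ℂˣ) : ℂ))]
      refine Finset.sum_congr rfl fun φ _ => ?_
      simp [MonoidHom.mul_apply]
    have h2 : (((φ₀ h : ℂˣ) : ℂ) - 1) * ∑ φ : H →* ℂˣ, ((φ h : ℂˣ) : ℂ) = 0 := by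
      rw [sub_mul, h1, one_mul, sub_self]
    rcases mul_eq_zero.mp h2 with h3 | h3
    · exfalso
      apply hφ₀
      apply Units.ext
      simpa [sub_eq_zero] using h3
    · exact h3

/-- Fourier inversion. -/
theorem inversion [Fintype (H →* ℂˣ)] (f : H → ℂ) (h : H) :
    f h = ∑ φ : H →* ℂˣ, coeff f φ * ((φ h : ℂˣ) : ℂ) := by
  classical
  have h1 : ∀ φ : H →* ℂˣ, coeff f φ * ((φ h : ℂˣ) : ℂ) =
      (Fintype.card H : ℂ)⁻¹ * ∑ x, f x * ((φ (x⁻¹ * h) : ℂˣ) : ℂ) := by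
    intro φ
    rw [coeff_eq, mul_assoc, Finset.sum_mul]
    congr 1
    refine Finset.sum_congr rfl fun x _ => ?_
    rw [conj_char, map_mul, Units.val_mul, mul_assoc]
  simp_rw [h1]
  rw [← Finset.mul_sum, Finset.sum_comm]
  simp_rw [← Finset.mul_sum, sum_dual]
  rw [Finset.sum_eq_single h]
  · simp only [inv_mul_cancel, if_true]
    field_simp [card_ne_zero (H := H)]
  · intro x _ hx
    have : ¬ x⁻¹ * h = 1 := by
      intro h2
      apply hx
      rw [inv_mul_eq_one] at h2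
      exact h2
    simp [this]
  · intro hh; exact absurd (Finset.mem_univ h) hh

/-- Parseval. -/
theorem parseval [Fintype (H →* ℂˣ)] (f : H → ℂ) :
    ∑ h, ‖f h‖ ^ 2 = (Fintype.card H : ℝ) * ∑ φ : H →* ℂˣ, ‖coeff f φ‖ ^ 2 := by
  have key : ∑ φ : H →* ℂˣ, coeff f φ * conj (coeff f φ) =
      (Fintype.card H : ℂ)⁻¹ * ∑ h, f h * conj (f h) := by
    have h1 : ∀ φ : H →* ℂˣ, coeff f φ * conj (coeff f φ) =
        (Fintype.card H : ℂ)⁻¹ * ∑ h, conj (f h) * (coeff f φ * ((φ h : ℂˣ) : ℂ)) := by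
      intro φ
      have hc : conj (coeff f φ) =
          (Fintype.card H : ℂ)⁻¹ * ∑ x, conj (f x) * ((φ x : ℂˣ) : ℂ) := by
        rw [coeff_eq f φ, map_mul, map_inv₀, Complex.conj_natCast, map_sum]
        congr 1
        refine Finset.sum_congr rfl fun x _ => ?_
        rw [map_mul, Complex.conj_conj]
      rw [hc, mul_left_comm, Finset.mul_sum]
      congr 1
      refine Finset.sum_congr rfl fun x _ => ?_
      ring
    simp_rw [h1]
    rw [← Finset.mul_sum, Finset.sum_comm]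
    congr 1
    refine Finset.sum_congr rfl fun x _ => ?_
    rw [← Finset.mul_sum, ← inversion, mul_comm]
  have h2 : ∀ z : ℂ, z * conj z = ((‖z‖ ^ 2 : ℝ) : ℂ) := by
    intro z
    rw [Complex.mul_conj, Complex.normSq_eq_norm_sq]
  simp_rw [h2] at key
  have h3 : ((∑ φ : H →* ℂˣ, ‖coeff f φ‖ ^ 2 : ℝ) : ℂ) =
      (Fintype.card H : ℂ)⁻¹ * ((∑ h, ‖f h‖ ^ 2 : ℝ) : ℂ) := by
    push_cast
    push_cast at key
    exact key
  have h4 : ((∑ h, ‖f h‖ ^ 2 : ℝ) : ℂ) =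
      (((Fintype.card H : ℝ) * ∑ φ : H →* ℂˣ, ‖coeff f φ‖ ^ 2 : ℝ) : ℂ) := by
    rw [Complex.ofReal_mul, h3, ← mul_assoc]
    simp [card_ne_zero (H := H)]
  exact_mod_cast h4

theorem coeff_add (f g : H → ℂ) (φ : H →* ℂˣ) : coeff (f + g) φ = coeff f φ + coeff g φ := by
  simp only [coeff_eq, Pi.add_apply, add_mul, Finset.sum_add_distrib, mul_add]

theorem coeff_neg (f : H → ℂ) (φ : H →* ℂˣ) : coeff (-f) φ = - coeff f φ := by
  simp only [coeff_eq, Pi.neg_apply, neg_mul, Finset.sum_neg_distrib, mul_neg]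

theorem coeff_sub (f g : H → ℂ) (φ : H →* ℂˣ) : coeff (f - g) φ = coeff f φ - coeff g φ := by
  rw [sub_eq_add_neg, coeff_add, coeff_neg, sub_eq_add_neg]

theorem coeff_smul (c : ℂ) (f : H → ℂ) (φ : H →* ℂˣ) : coeff (c • f) φ = c * coeff f φ := by
  simp only [coeff_eq, Pi.smul_apply, smul_eq_mul, mul_assoc, ← Finset.mul_sum]
  ring

theorem intF_zero : IntF (0 : H → ℂ) := by
  intro φ
  exact ⟨0, by simp [coeff_eq]⟩

theorem IntF.add {f g : H → ℂ} (hf : IntF f) (hg : IntF g) : IntF (f + g) := by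
  intro φ
  obtain ⟨m, hm⟩ := hf φ
  obtain ⟨n, hn⟩ := hg φ
  exact ⟨m + n, by rw [coeff_add, hm, hn]; push_cast; rfl⟩

theorem IntF.neg {f : H → ℂ} (hf : IntF f) : IntF (-f) := by
  intro φ
  obtain ⟨m, hm⟩ := hf φ
  exact ⟨-m, by rw [coeff_neg, hm]; push_cast; rfl⟩

theorem IntF.sub {f g : H → ℂ} (hf : IntF f) (hg : IntF g) : IntF (f - g) := by
  rw [sub_eq_add_neg]; exact hf.add hg.neg

/-- The value at `1` of an integral function is an integer. -/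
theorem IntF.apply_one {f : H → ℂ} (hf : IntF f) : ∃ n : ℤ, f 1 = n := by
  classical
  have : Fintype (H →* ℂˣ) := Fintype.ofFinite _
  choose c hc using hf
  refine ⟨∑ φ : H →* ℂˣ, c φ, ?_⟩
  rw [inversion f 1]
  push_cast
  refine Finset.sum_congr rfl fun φ _ => ?_
  rw [hc φ]; simp

theorem exists_coeff_ne_zero {f : H → ℂ} (hf : f ≠ 0) : ∃ φ : H →* ℂˣ, coeff f φ ≠ 0 := by
  classical
  have : Fintype (H →* ℂˣ) := Fintype.ofFinite _
  by_contra hcon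
  push Not at hcon
  apply hf
  funext h
  rw [inversion f h]
  simp [hcon]

theorem one_le_norm_sq_of_int {n : ℤ} (hn : n ≠ 0) : (1 : ℝ) ≤ ‖((n : ℤ) : ℂ)‖ ^ 2 := by
  rw [Complex.norm_intCast]
  have h1 : (1 : ℝ) ≤ |(n : ℝ)| := by
    have : (1 : ℤ) ≤ |n| := Int.one_le_abs hn
    exact_mod_cast this
  nlinarith [abs_nonneg (n : ℝ)]

/-- `Good` for the constant weight `1` (no subgroups). -/
theorem good_one : Good (fun _ : H => (1 : ℝ)) (Fintype.card H) := by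
  classical
  have : Fintype (H →* ℂˣ) := Fintype.ofFinite _
  intro f hf hne
  simp only [one_mul]
  rw [parseval]
  obtain ⟨φ, hφ⟩ := exists_coeff_ne_zero hne
  obtain ⟨n, hn⟩ := hf φ
  have hn0 : n ≠ 0 := by
    rintro rfl
    apply hφ
    rw [hn]; simp
  have h1 : (1 : ℝ) ≤ ∑ φ : H →* ℂˣ, ‖coeff f φ‖ ^ 2 := by
    calc (1 : ℝ) ≤ ‖coeff f φ‖ ^ 2 := by rw [hn]; exact one_le_norm_sq_of_int hn0
      _ ≤ ∑ φ : H →* ℂˣ, ‖coeff f φ‖ ^ 2 :=
        Finset.single_le_sum (f := fun φ : H →* ℂˣ => ‖coeff f φ‖ ^ 2)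
          (fun _ _ => by positivity) (Finset.mem_univ φ)
  have h2 : (0 : ℝ) ≤ (Fintype.card H : ℝ) := by positivity
  nlinarith

end Cfsg.Agent.Lib.H20.KGV
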