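import Mathlib
import Cfsg.Prelude.Def_Solvable
import Cfsg.Agent.S0042
import Cfsg.Agent.S4296
import Cfsg.Agent.Lib.H3.Herstein
import Cfsg.Agent.Lib.H18.FrobeniusThm
import Cfsg.Agent.Lib.H18.FrobStructure
import Cfsg.Agent.Lib.H23.FrobGroup

/-!
# Frobenius groups with a *given* kernel subgroup (helper20)

Setting: `F` finite, `C ≤ F` with `Cfsg.IsFrobeniusComplement C` and a subgroup `N` whose carrier
is `Cfsg.frobeniusKernel C`.  We collect the standard facts in this form.
-/

set_option autoImplicit false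

namespace Cfsg.Agent.Lib.H20.FG

open Cfsg Cfsg.Agent.Lib.H18

variable {F : Type*} [Group F] [Finite F] {C N : Subgroup F}

theorem frobKer_eq (hC : IsFrobeniusComplement C) (hN : frobeniusKernel C = (N : Set F)) :
    frobKer C hC = N :=
  SetLike.coe_injective ((coe_frobKer C hC).trans hN)

theorem normal (hC : IsFrobeniusComplement C) (hN : frobeniusKernel C = (N : Set F)) :
    N.Normal := by
  rw [← frobKer_eq hC hN]; infer_instance

theorem inf (hC : IsFrobeniusComplement C) (hN : frobeniusKernel C = (N : Set F)) :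
    N ⊓ C = ⊥ := by
  rw [← frobKer_eq hC hN]; exact frobKer_inf C hC

theorem sup (hC : IsFrobeniusComplement C) (hN : frobeniusKernel C = (N : Set F)) :
    N ⊔ C = ⊤ := by
  rw [← frobKer_eq hC hN]; exact frobKer_sup C hC

theorem isComplement' (hC : IsFrobeniusComplement C) (hN : frobeniusKernel C = (N : Set F)) :
    Subgroup.IsComplement' N C := by
  rw [← frobKer_eq hC hN]; exact frobKer_isComplement' C hC

theorem card_mul (hC : IsFrobeniusComplement C) (hN : frobeniusKernel C = (N : Set F)) :
    Nat.card N * Nat.card C = Nat.card F :=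
  (isComplement' hC hN).card_mul

theorem card_eq_index (hC : IsFrobeniusComplement C) (hN : frobeniusKernel C = (N : Set F)) :
    Nat.card N = C.index := by
  rw [← frobKer_eq hC hN]; exact card_frobKer C hC

theorem coprime (hC : IsFrobeniusComplement C) (hN : frobeniusKernel C = (N : Set F)) :
    (Nat.card N).Coprime (Nat.card C) := by
  rw [card_eq_index hC hN]
  exact (Cfsg.Agent.Lib.H3.coprime_card_index_of_malnormal C hC.2.2).symm

theorem exists_mul (hC : IsFrobeniusComplement C) (hN : frobeniusKernel C = (N : Set F)) (g : F) :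
    ∃ k ∈ N, ∃ s ∈ C, g = k * s := by
  have := frob_exists_mul hC g
  rwa [frobKer_eq hC hN] at this

/-- nonidentity complement elements act fixed-point-freely on the kernel -/
theorem fpf (hC : IsFrobeniusComplement C) (hN : frobeniusKernel C = (N : Set F)) :
    ∀ c ∈ C, c ≠ 1 → ∀ n ∈ N, c * n = n * c → n = 1 := by
  intro c hc hc1 n hn hcomm
  have h1 : n ∈ C := frob_commute_mem hC hc hc1 hcomm.symm
  have h2 : n ∈ N ⊓ C := ⟨hn, h1⟩
  rw [inf hC hN, Subgroup.mem_bot] at h2
  exact h2

/-- the centralizer of a nonidentity kernel element lies in the kernel -/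
theorem mem_of_commute (hC : IsFrobeniusComplement C) (hN : frobeniusKernel C = (N : Set F))
    {n g : F} (hn : n ∈ N) (hn1 : n ≠ 1) (hcomm : g * n = n * g) : g ∈ N := by
  haveI := normal hC hN
  have h := Cfsg.Agent.Lib.H23.centralizer_le_of_frobenius N C (sup hC hN) (fpf hC hN) n hn hn1
  apply h
  rw [Subgroup.mem_centralizer_singleton_iff]
  exact hcomm

theorem nilpotent (hC : IsFrobeniusComplement C) (hN : frobeniusKernel C = (N : Set F)) :
    Group.IsNilpotent N := by
  obtain ⟨N', hN', -, hnil⟩ := Cfsg.Agent.S0042.result C hC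
  have : N' = N := SetLike.coe_injective (hN'.trans hN)
  rw [← this]; exact hnil

theorem ne_bot (hC : IsFrobeniusComplement C) (hN : frobeniusKernel C = (N : Set F)) :
    N ≠ ⊥ := by
  intro h
  have h1 := sup hC hN
  rw [h, bot_sup_eq] at h1
  exact hC.2.1 h1

/-- abelian subgroups of a Frobenius complement are cyclic -/
theorem isCyclic_of_comm (hC : IsFrobeniusComplement C) (hN : frobeniusKernel C = (N : Set F))
    (A : Subgroup F) (hAC : A ≤ C) (hA : ∀ a ∈ A, ∀ b ∈ A, a * b = b * a) : IsCyclic A := by
  haveI := normal hC hN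
  haveI : IsMulCommutative A := ⟨⟨fun a b => Subtype.ext (hA a a.2 b b.2)⟩⟩
  apply Cfsg.Agent.S4296.isCyclic_of_fpf_abelian (K := N) (ne_bot hC hN)
  · rw [Subgroup.normalizer_eq_top_iff.2 (normal hC hN)]; exact le_top
  · intro a ha ha1
    rw [Subgroup.eq_bot_iff_forall]
    intro n hn
    obtain ⟨hn1, hn2⟩ := Subgroup.mem_inf.mp hn
    rw [Subgroup.mem_centralizer_singleton_iff] at hn2
    exact fpf hC hN a (hAC ha) ha1 n hn1 hn2.symm

end Cfsg.Agent.Lib.H20.FG
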