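import Mathlib
import Cfsg.Agent.Lib.H20.ConjClass

/-!
# Frobenius' theorem on the number of solutions of `x ^ n = 1` (helper20 library)

Proof after Isaacs–Robinson.
-/

set_option autoImplicit false

namespace Cfsg.Agent.Lib.H20

open Finset

universe u

section decomp

variable {G : Type*} [Group G]

/-- Coprime decomposition: exponents `α β` with `x = x^α * x^β`, `(x^α)^r = 1`, `(x^β)^s = 1`
whenever `x^(r*s) = 1`; and recovering `u`, `v` from `u * v`. -/
theorem exists_decomp_exponents {r s : ℕ} (h : r.Coprime s) :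
    ∃ α β : ℕ, (∀ x : G, x ^ (r * s) = 1 → (x ^ α) ^ r = 1 ∧ (x ^ β) ^ s = 1 ∧ x ^ α * x ^ β = x) ∧
      (∀ u v : G, u ^ r = 1 → v ^ s = 1 → Commute u v → (u * v) ^ α = u ∧ (u * v) ^ β = v) := by
  obtain ⟨α, hα1, hα0⟩ := Nat.chineseRemainder h 1 0
  obtain ⟨β, hβ0, hβ1⟩ := Nat.chineseRemainder h 0 1
  have hsα : s ∣ α := (Nat.modEq_zero_iff_dvd).mp hα0
  have hrβ : r ∣ β := (Nat.modEq_zero_iff_dvd).mp hβ0
  have hsum : α + β ≡ 1 [MOD r * s] := by
    rw [← Nat.modEq_and_modEq_iff_modEq_mul h]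
    constructor
    · simpa using hα1.add hβ0
    · simpa using hα0.add hβ1
  refine ⟨α, β, ?_, ?_⟩
  · intro x hx
    refine ⟨?_, ?_, ?_⟩
    · obtain ⟨c, rfl⟩ := hsα
      rw [← pow_mul, mul_comm s c, mul_assoc, mul_comm s r, mul_comm c, pow_mul, hx, one_pow]
    · obtain ⟨c, rfl⟩ := hrβ
      rw [← pow_mul, mul_assoc, mul_comm c s, ← mul_assoc, pow_mul, hx, one_pow]
    · rw [← pow_add]
      have hd : orderOf x ∣ r * s := orderOf_dvd_of_pow_eq_one hx
      have := (pow_eq_pow_iff_modEq (x := x)).mpr (hsum.of_dvd hd)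
      rw [this, pow_one]
  · intro u v hu hv huv
    have hu' : orderOf u ∣ r := orderOf_dvd_of_pow_eq_one hu
    have hv' : orderOf v ∣ s := orderOf_dvd_of_pow_eq_one hv
    constructor
    · rw [huv.mul_pow]
      have h1 : v ^ α = 1 := by
        obtain ⟨c, rfl⟩ := hsα
        rw [pow_mul, hv, one_pow]
      have h2 : u ^ α = u ^ 1 := (pow_eq_pow_iff_modEq (x := u)).mpr (hα1.of_dvd hu')
      rw [h1, h2, pow_one, mul_one]
    · rw [huv.mul_pow]
      have h1 : u ^ β = 1 := by
        obtain ⟨c, rfl⟩ := hrβ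
        rw [pow_mul, hu, one_pow]
      have h2 : v ^ β = v ^ 1 := (pow_eq_pow_iff_modEq (x := v)).mpr (hβ1.of_dvd hv')
      rw [h1, h2, pow_one, one_mul]

/-- Counting form of the coprime decomposition. -/
theorem card_decomp [Fintype G] [DecidableEq G] {r s : ℕ} (h : r.Coprime s) (P : G → Prop)
    [DecidablePred P] :
    (univ.filter (fun x : G => x ^ (r * s) = 1 ∧ P x)).card =
      ∑ u ∈ univ.filter (fun u : G => u ^ r = 1),
        (univ.filter (fun v : G => v ^ s = 1 ∧ u * v = v * u ∧ P (u * v))).card := by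
  obtain ⟨α, β, h1, h2⟩ := exists_decomp_exponents (G := G) h
  rw [← Finset.card_sigma]
  apply Finset.card_nbij' (fun x => (⟨x ^ α, x ^ β⟩ : Σ _ : G, G)) (fun uv => uv.1 * uv.2)
  · intro x hx
    simp only [coe_filter, mem_univ, true_and, Set.mem_setOf_eq] at hx
    obtain ⟨hx1, hx2⟩ := hx
    obtain ⟨ha, hb, hab⟩ := h1 x hx1
    simp only [coe_sigma, coe_filter, mem_univ, true_and, Set.mem_sigma_iff, Set.mem_setOf_eq]
    refine ⟨ha, hb, ((Commute.refl x).pow_pow α β).eq, ?_⟩
    rw [hab]; exact hx2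
  · rintro ⟨u, v⟩ huv
    simp only [coe_sigma, coe_filter, mem_univ, true_and, Set.mem_sigma_iff,
      Set.mem_setOf_eq] at huv
    obtain ⟨hu, hv, hc, hP⟩ := huv
    have hc : Commute u v := hc
    simp only [coe_filter, mem_univ, true_and, Set.mem_setOf_eq]
    refine ⟨?_, hP⟩
    rw [hc.mul_pow, pow_mul, hu, one_pow, one_mul, mul_comm r s, pow_mul, hv, one_pow]
  · intro x hx
    simp only [coe_filter, mem_univ, true_and, Set.mem_setOf_eq] at hx
    exact (h1 x hx.1).2.2
  · rintro ⟨u, v⟩ huv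
    simp only [coe_sigma, coe_filter, mem_univ, true_and, Set.mem_sigma_iff,
      Set.mem_setOf_eq] at huv
    obtain ⟨hu, hv, hc, hP⟩ := huv
    have hc : Commute u v := hc
    obtain ⟨e1, e2⟩ := h2 u v hu hv hc
    simp only
    rw [e1, e2]

end decomp

section totient

variable {G : Type*} [Group G]

/-- The number of elements of order `d` is a multiple of `φ(d)`. -/
theorem totient_dvd_card_orderOf [Fintype G] [DecidableEq G] (d : ℕ) :
    Nat.totient d ∣ (univ.filter (fun x : G => orderOf x = d)).card := by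
  classical
  rw [Finset.card_eq_sum_card_fiberwise (f := fun x => Subgroup.zpowers x)
    (t := (univ : Finset (Subgroup G))) (fun x _ => mem_coe.mpr (mem_univ _))]
  apply Finset.dvd_sum
  intro Z _
  by_cases hne : ((univ.filter (fun x : G => orderOf x = d)).filter
      (fun x => Subgroup.zpowers x = Z)).Nonempty
  · obtain ⟨x₀, hx₀⟩ := hne
    simp only [mem_filter, mem_univ, true_and] at hx₀
    obtain ⟨hx₀d, rfl⟩ := hx₀
    have hcard : Fintype.card (Subgroup.zpowers x₀) = d := by
      rw [← Nat.card_eq_fintype_card, Nat.card_zpowers, hx₀d]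
    have h1 := IsCyclic.card_orderOf_eq_totient (α := Subgroup.zpowers x₀) (d := d)
      (by rw [hcard])
    rw [← h1]
    apply dvd_of_eq
    apply Finset.card_bij (fun (z : Subgroup.zpowers x₀) _ => (z : G))
    · intro z hz
      simp only [mem_filter, mem_univ, true_and] at hz ⊢
      have hzo : orderOf (z : G) = d := by rw [Subgroup.orderOf_coe]; exact hz
      refine ⟨hzo, ?_⟩
      apply Subgroup.eq_of_le_of_card_ge
      · rw [Subgroup.zpowers_le]; exact z.2
      · rw [Nat.card_zpowers, Nat.card_zpowers, hzo, hx₀d]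
    · intro z₁ _ z₂ _ h
      exact Subtype.ext h
    · intro x hx
      simp only [mem_filter, mem_univ, true_and] at hx
      have hxm : x ∈ Subgroup.zpowers x₀ := hx.2 ▸ Subgroup.mem_zpowers x
      refine ⟨⟨x, hxm⟩, ?_, rfl⟩
      simp only [mem_filter, mem_univ, true_and]
      rw [← Subgroup.orderOf_coe]
      exact hx.1
  · rw [not_nonempty_iff_eq_empty] at hne
    rw [hne, card_empty]
    exact dvd_zero _

end totient

section quotient

/-- For a central subgroup `Z` of order prime to `m`, solutions of `x ^ m = 1` in `H` and in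
`H ⧸ Z` correspond bijectively. -/
theorem card_pow_eq_one_quotient {H : Type*} [Group H] [Finite H] (Z : Subgroup H) [Z.Normal]
    (hZ : Z ≤ Subgroup.center H) (m : ℕ) (hm : (Nat.card Z).Coprime m) :
    Nat.card {q : H ⧸ Z // q ^ m = 1} = Nat.card {z : H // z ^ m = 1} := by
  symm
  let φ : {z : H // z ^ m = 1} → {q : H ⧸ Z // q ^ m = 1} := fun z =>
    ⟨QuotientGroup.mk' Z z.1, by rw [← map_pow, z.2, map_one]⟩
  apply Nat.card_congr (Equiv.ofBijective φ ⟨?_, ?_⟩)
  · rintro ⟨z, hz⟩ ⟨z', hz'⟩ hzz'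
    have h1 : QuotientGroup.mk' Z z = QuotientGroup.mk' Z z' := congrArg Subtype.val hzz'
    have hw : z⁻¹ * z' ∈ Z := QuotientGroup.eq.mp h1
    set w := z⁻¹ * z' with hwdef
    have hwc : ∀ g : H, g * w = w * g := fun g => Subgroup.mem_center_iff.mp (hZ hw) g
    have hz'eq : z' = z * w := by rw [hwdef]; group
    have hcomm : Commute z w := hwc z
    have hwm : w ^ m = 1 := by
      have := hz'
      rw [hz'eq, hcomm.mul_pow, hz, one_mul] at this
      exact this
    have hwZ : w ^ Nat.card Z = 1 := by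
      have := pow_card_eq_one' (G := Z) (x := ⟨w, hw⟩)
      exact congrArg Subtype.val this
    have hw1 : w = 1 := by
      have h2 : orderOf w ∣ Nat.gcd (Nat.card Z) m :=
        Nat.dvd_gcd (orderOf_dvd_of_pow_eq_one hwZ) (orderOf_dvd_of_pow_eq_one hwm)
      rw [hm.gcd_eq_one, Nat.dvd_one, orderOf_eq_one_iff] at h2
      exact h2
    apply Subtype.ext
    show z = z'
    rw [hz'eq, hw1, mul_one]
  · rintro ⟨q, hq⟩
    obtain ⟨c, rfl⟩ := QuotientGroup.mk'_surjective Z q
    have hcm : c ^ m ∈ Z := by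
      rw [← QuotientGroup.eq_one_iff]
      exact hq
    obtain ⟨w, hw⟩ := (powCoprime hm).surjective (⟨c ^ m, hcm⟩⁻¹ : Z)
    have hw' : (w : H) ^ m = (c ^ m)⁻¹ := by
      have := congrArg Subtype.val hw
      simpa [powCoprime] using this
    have hwc : Commute c (w : H) := Subgroup.mem_center_iff.mp (hZ w.2) c
    refine ⟨⟨c * w, ?_⟩, ?_⟩
    · rw [hwc.mul_pow, hw', mul_inv_cancel]
    · apply Subtype.ext
      show QuotientGroup.mk' Z (c * w) = QuotientGroup.mk' Z c
      rw [map_mul]
      have : QuotientGroup.mk' Z (w : H) = 1 := (QuotientGroup.eq_one_iff _).mpr w.2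
      rw [this, mul_one]

end quotient

section classsum

variable {G : Type*} [Group G]

/-- Summing a conjugation-invariant function over a conjugation-invariant set: if each class
contributes a multiple of `m`, so does the sum. -/
theorem dvd_sum_of_conj_invariant [Fintype G] [DecidableEq G] (m : ℕ) (Q : G → Prop)
    [DecidablePred Q] (f : G → ℕ)
    (hQ : ∀ g y : G, Q y → Q (g * y * g⁻¹)) (hf : ∀ g y : G, Q y → f (g * y * g⁻¹) = f y)
    (h : ∀ y : G, Q y → m ∣ (Subgroup.centralizer ({y} : Set G)).index * f y) :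
    m ∣ ∑ y ∈ univ.filter Q, f y := by
  classical
  rw [← Finset.sum_fiberwise (s := univ.filter Q) (g := fun y => ConjClasses.mk y) (f := f)]
  apply Finset.dvd_sum
  intro c _
  by_cases hne : ((univ.filter Q).filter (fun y => ConjClasses.mk y = c)).Nonempty
  · obtain ⟨y₀, hy₀⟩ := hne
    simp only [mem_filter, mem_univ, true_and] at hy₀
    obtain ⟨hQy₀, rfl⟩ := hy₀
    have hset : (univ.filter Q).filter (fun y => ConjClasses.mk y = ConjClasses.mk y₀) =
        univ.filter (fun y => IsConj y₀ y) := by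
      ext y
      simp only [mem_filter, mem_univ, true_and]
      rw [ConjClasses.mk_eq_mk_iff_isConj]
      constructor
      · rintro ⟨_, h⟩; exact h.symm
      · intro h
        refine ⟨?_, h.symm⟩
        obtain ⟨g, hg⟩ := isConj_iff.mp h
        rw [← hg]; exact hQ g y₀ hQy₀
    rw [hset]
    have hconst : ∀ y ∈ univ.filter (fun y => IsConj y₀ y), f y = f y₀ := by
      intro y hy
      simp only [mem_filter, mem_univ, true_and] at hy
      obtain ⟨g, hg⟩ := isConj_iff.mp hy
      rw [← hg]; exact hf g y₀ hQy₀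
    rw [Finset.sum_congr rfl hconst, Finset.sum_const, smul_eq_mul]
    have hc : (univ.filter (fun y => IsConj y₀ y)).card =
        (Subgroup.centralizer ({y₀} : Set G)).index := by
      rw [index_centralizer_eq_ncard_conj, Set.ncard_eq_toFinset_card']
      congr 1
      ext y; simp
    rw [hc]
    exact h y₀ hQy₀
  · rw [not_nonempty_iff_eq_empty] at hne
    rw [hne, sum_empty]
    exact dvd_zero _

end classsum

section main

theorem card_subtype_eq_card_filter {G : Type*} [Fintype G] (P : G → Prop) [DecidablePred P] :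
    Nat.card {g : G // P g} = (univ.filter P).card := by
  rw [Nat.card_eq_fintype_card, Fintype.card_subtype]

theorem pow_eq_one_iff_pow_gcd_card {G : Type*} [Group G] [Finite G] (x : G) (k : ℕ) :
    x ^ k = 1 ↔ x ^ (Nat.gcd k (Nat.card G)) = 1 := by
  rw [← orderOf_dvd_iff_pow_eq_one, ← orderOf_dvd_iff_pow_eq_one, Nat.dvd_gcd_iff]
  exact ⟨fun h => ⟨h, orderOf_dvd_natCard x⟩, fun h => h.1⟩

theorem card_pow_eq_one_gcd {G : Type*} [Group G] [Finite G] (k : ℕ) :
    Nat.card {g : G // g ^ k = 1} = Nat.card {g : G // g ^ (Nat.gcd k (Nat.card G)) = 1} :=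
  Nat.card_congr (Equiv.subtypeEquivRight (fun x => pow_eq_one_iff_pow_gcd_card x k))

/-- `f y` in terms of the centralizer. -/
theorem card_filter_centralizer {G : Type*} [Group G] [Fintype G] [DecidableEq G] (y : G) (m : ℕ) :
    (univ.filter (fun v : G => v ^ m = 1 ∧ y * v = v * y)).card =
      Nat.card {z : Subgroup.centralizer ({y} : Set G) // z ^ m = 1} := by
  rw [← card_subtype_eq_card_filter]
  apply Nat.card_congr
  refine ⟨fun v => ⟨⟨v.1, ?_⟩, ?_⟩, fun z => ⟨z.1.1, ?_, ?_⟩, ?_, ?_⟩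
  · rw [Subgroup.mem_centralizer_singleton_iff]; exact v.2.2.symm
  · apply Subtype.ext
    simp only [SubmonoidClass.coe_pow, OneMemClass.coe_one]
    exact v.2.1
  · have := congrArg Subtype.val z.2
    simpa using this
  · have := Subgroup.mem_centralizer_singleton_iff.mp z.1.2
    exact this.symm
  · intro v; rfl
  · intro z; rfl

theorem gcd_dvd_card_centralizer_of_ih {G : Type u} [Group G] [Finite G]
    (ih : ∀ (H : Type u) [Group H] [Finite H], Nat.card H < Nat.card G →
      ∀ k : ℕ, Nat.gcd k (Nat.card H) ∣ Nat.card {h : H // h ^ k = 1})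
    (y : G) (hy1 : y ≠ 1) (m : ℕ) (hm : (orderOf y).Coprime m) :
    Nat.gcd m (Nat.card (Subgroup.centralizer ({y} : Set G))) ∣
      Nat.card {z : Subgroup.centralizer ({y} : Set G) // z ^ m = 1} := by
  have hyH : y ∈ Subgroup.centralizer ({y} : Set G) := by
    rw [Subgroup.mem_centralizer_singleton_iff]
  obtain ⟨Z, hZdef⟩ : ∃ Z : Subgroup (Subgroup.centralizer ({y} : Set G)),
      Z = Subgroup.zpowers ⟨y, hyH⟩ := ⟨_, rfl⟩
  have hZc : Z ≤ Subgroup.center (Subgroup.centralizer ({y} : Set G)) := by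
    rw [hZdef, Subgroup.zpowers_le, Subgroup.mem_center_iff]
    intro h
    apply Subtype.ext
    have := Subgroup.mem_centralizer_singleton_iff.mp h.2
    exact this
  haveI hZn : Z.Normal := by
    refine ⟨fun n hn g => ?_⟩
    have := Subgroup.mem_center_iff.mp (hZc hn) g
    rw [this, mul_assoc, mul_inv_cancel, mul_one]
    exact hn
  have hZcard : Nat.card Z = orderOf y := by
    rw [hZdef, Nat.card_zpowers, Subgroup.orderOf_mk]
  have hZ2 : 2 ≤ Nat.card Z := by
    rw [hZcard]
    have h1 : orderOf y ≠ 1 := by rwa [Ne, orderOf_eq_one_iff]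
    have h0 : 0 < orderOf y := orderOf_pos y
    omega
  have hcardH := Subgroup.card_eq_card_quotient_mul_card_subgroup Z
  have hlt : Nat.card (Subgroup.centralizer ({y} : Set G) ⧸ Z) < Nat.card G := by
    have h1 : Nat.card (Subgroup.centralizer ({y} : Set G)) ≤ Nat.card G :=
      Subgroup.card_le_card_group _
    have h2 : 0 < Nat.card (Subgroup.centralizer ({y} : Set G) ⧸ Z) := Nat.card_pos
    nlinarith
  have h3 := ih _ hlt m
  rw [card_pow_eq_one_quotient Z hZc m (hZcard ▸ hm)] at h3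
  rw [hcardH, Nat.Coprime.gcd_mul_right_cancel_right _ (hZcard ▸ hm)]
  exact h3

theorem dvd_mul_gcd_of_dvd_mul' {k a b : ℕ} (h : k ∣ a * b) : k ∣ a * Nat.gcd k b := by
  have h1 : k ∣ Nat.gcd (a * k) (a * b) := Nat.dvd_gcd (dvd_mul_left k a) h
  rwa [Nat.gcd_mul_left] at h1

theorem dvd_sum_card_centralizer {G : Type*} [Group G] [Fintype G] [DecidableEq G] (s : ℕ)
    (hs : s ∣ Nat.card G) (Q : G → Prop) [DecidablePred Q]
    (hQ : ∀ g y : G, Q y → Q (g * y * g⁻¹))
    (hC : ∀ y : G, Q y → Nat.gcd s (Nat.card (Subgroup.centralizer ({y} : Set G))) ∣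
      Nat.card {z : Subgroup.centralizer ({y} : Set G) // z ^ s = 1}) :
    s ∣ ∑ y ∈ univ.filter Q, (univ.filter (fun v : G => v ^ s = 1 ∧ y * v = v * y)).card := by
  apply dvd_sum_of_conj_invariant s Q
    (fun y => (univ.filter (fun v : G => v ^ s = 1 ∧ y * v = v * y)).card) hQ
  · intro g y _
    apply Finset.card_nbij' (fun v => g⁻¹ * v * g) (fun v => g * v * g⁻¹)
    · intro v hv
      simp only [coe_filter, mem_univ, true_and, Set.mem_setOf_eq] at hv ⊢
      obtain ⟨hv1, hv2⟩ := hv
      constructor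
      · have : g⁻¹ * v * g = g⁻¹ * v * g⁻¹⁻¹ := by rw [inv_inv]
        rw [this, conj_pow, hv1]; group
      · have e1 : y * (g⁻¹ * v * g) = g⁻¹ * (g * y * g⁻¹ * v) * g := by group
        have e2 : g⁻¹ * v * g * y = g⁻¹ * (v * (g * y * g⁻¹)) * g := by group
        rw [e1, e2, hv2]
    · intro v hv
      simp only [coe_filter, mem_univ, true_and, Set.mem_setOf_eq] at hv ⊢
      obtain ⟨hv1, hv2⟩ := hv
      constructor
      · rw [conj_pow, hv1]; group
      · have e1 : g * y * g⁻¹ * (g * v * g⁻¹) = g * (y * v) * g⁻¹ := by group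
        have e2 : g * v * g⁻¹ * (g * y * g⁻¹) = g * (v * y) * g⁻¹ := by group
        rw [e1, e2, hv2]
    · intro v _; simp only; group
    · intro v _; simp only; group
  · intro y hy
    rw [card_filter_centralizer]
    have h1 : s ∣ (Subgroup.centralizer ({y} : Set G)).index *
        Nat.card (Subgroup.centralizer ({y} : Set G)) := by
      rw [Subgroup.index_mul_card]; exact hs
    exact (dvd_mul_gcd_of_dvd_mul' h1).trans (mul_dvd_mul_left _ (hC y hy))

theorem pow_dvd_of_dvd_mul_of_not_dvd {p a m d : ℕ} (hp : p.Prime) (hpm : ¬ p ∣ m)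
    (h1 : d ∣ p ^ (a + 1) * m) (h2 : ¬ d ∣ p ^ a * m) : p ^ (a + 1) ∣ d := by
  obtain ⟨d₁, d₂, hd₁, hd₂, rfl⟩ := exists_dvd_and_dvd_of_dvd_mul h1
  obtain ⟨j, hj, rfl⟩ := (Nat.dvd_prime_pow hp).mp hd₁
  have hja : j = a + 1 := by
    by_contra hne
    apply h2
    have : j ≤ a := by omega
    exact mul_dvd_mul (pow_dvd_pow p this) hd₂
  rw [hja]
  exact dvd_mul_right _ _

theorem claimA {G : Type*} [Group G] [Fintype G] [DecidableEq G] {p a m : ℕ} (hp : p.Prime)
    (hpm : ¬ p ∣ m) :
    p ^ a ∣ (univ.filter (fun x : G => x ^ (p ^ (a + 1) * m) = 1 ∧ x ^ (p ^ a * m) ≠ 1)).card := by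
  have hm0 : m ≠ 0 := fun h => hpm (h ▸ dvd_zero p)
  rw [Finset.card_eq_sum_card_fiberwise (f := fun x => orderOf x)
    (t := (p ^ (a + 1) * m).divisors.filter (fun d => ¬ d ∣ p ^ a * m))]
  · apply Finset.dvd_sum
    intro d hd
    rw [mem_filter, Nat.mem_divisors] at hd
    obtain ⟨⟨hd1, _⟩, hd2⟩ := hd
    have hset : (univ.filter (fun x : G => x ^ (p ^ (a + 1) * m) = 1 ∧ x ^ (p ^ a * m) ≠ 1)).filter
        (fun x => orderOf x = d) = univ.filter (fun x : G => orderOf x = d) := by
      ext x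
      simp only [mem_filter, mem_univ, true_and]
      constructor
      · rintro ⟨_, h⟩; exact h
      · intro h
        refine ⟨⟨?_, ?_⟩, h⟩
        · rw [← orderOf_dvd_iff_pow_eq_one, h]; exact hd1
        · rw [Ne, ← orderOf_dvd_iff_pow_eq_one, h]; exact hd2
    rw [hset]
    have h1 : p ^ (a + 1) ∣ d := pow_dvd_of_dvd_mul_of_not_dvd hp hpm hd1 hd2
    have h2 : p ^ a ∣ Nat.totient d := by
      refine dvd_trans ?_ (Nat.totient_dvd_of_dvd h1)
      rw [Nat.totient_prime_pow_succ hp]
      exact dvd_mul_right _ _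
    exact h2.trans (totient_dvd_card_orderOf d)
  · intro x hx
    simp only [coe_filter, mem_univ, true_and, Set.mem_setOf_eq] at hx
    simp only [coe_filter, Set.mem_setOf_eq, Nat.mem_divisors]
    refine ⟨⟨orderOf_dvd_of_pow_eq_one hx.1, ?_⟩, ?_⟩
    · exact mul_ne_zero (pow_ne_zero _ hp.ne_zero) hm0
    · rw [orderOf_dvd_iff_pow_eq_one]; exact hx.2

theorem claimB {G : Type*} [Group G] [Fintype G] [DecidableEq G] {p a m : ℕ} (hp : p.Prime)
    (hpm : ¬ p ∣ m) (hmG : m ∣ Nat.card G)
    (hC : ∀ y : G, y ≠ 1 → (orderOf y).Coprime m →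
      Nat.gcd m (Nat.card (Subgroup.centralizer ({y} : Set G))) ∣
        Nat.card {z : Subgroup.centralizer ({y} : Set G) // z ^ m = 1}) :
    m ∣ (univ.filter (fun x : G => x ^ (p ^ (a + 1) * m) = 1 ∧ x ^ (p ^ a * m) ≠ 1)).card := by
  have hcop1 : p.Coprime m := (Nat.Prime.coprime_iff_not_dvd hp).mpr hpm
  have hcop : (p ^ (a + 1)).Coprime m := Nat.Coprime.pow_left _ hcop1
  rw [card_decomp hcop (fun x => x ^ (p ^ a * m) ≠ 1)]
  have hinner : ∀ u ∈ univ.filter (fun u : G => u ^ (p ^ (a + 1)) = 1),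
      (univ.filter (fun v : G => v ^ m = 1 ∧ u * v = v * u ∧ (u * v) ^ (p ^ a * m) ≠ 1)).card =
      if u ^ (p ^ a) ≠ 1 then (univ.filter (fun v : G => v ^ m = 1 ∧ u * v = v * u)).card
      else 0 := by
    intro u hu
    simp only [mem_filter, mem_univ, true_and] at hu
    have key : ∀ v : G, v ^ m = 1 → u * v = v * u →
        ((u * v) ^ (p ^ a * m) ≠ 1 ↔ u ^ (p ^ a) ≠ 1) := by
      intro v hv hc
      have hc' : Commute u v := hc
      rw [hc'.mul_pow]
      have hvv : v ^ (p ^ a * m) = 1 := by rw [mul_comm, pow_mul, hv, one_pow]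
      rw [hvv, mul_one, not_iff_not]
      constructor
      · intro h
        have h1 : orderOf u ∣ p ^ a * m := orderOf_dvd_of_pow_eq_one h
        have h2 : orderOf u ∣ p ^ (a + 1) := orderOf_dvd_of_pow_eq_one hu
        obtain ⟨j, hj, hjo⟩ := (Nat.dvd_prime_pow hp).mp h2
        rw [hjo] at h1
        have h3 : p ^ j ∣ p ^ a :=
          Nat.Coprime.dvd_of_dvd_mul_right (Nat.Coprime.pow_left _ hcop1) h1
        rw [← orderOf_dvd_iff_pow_eq_one, hjo]; exact h3
      · intro h; rw [pow_mul, h, one_pow]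
    split_ifs with hu'
    · congr 1; ext v; simp only [mem_filter, mem_univ, true_and]
      constructor
      · rintro ⟨h1, h2, _⟩; exact ⟨h1, h2⟩
      · rintro ⟨h1, h2⟩; exact ⟨h1, h2, (key v h1 h2).mpr hu'⟩
    · rw [Finset.card_eq_zero, Finset.filter_eq_empty_iff]
      rintro v _ ⟨h1, h2, h3⟩
      exact hu' ((key v h1 h2).mp h3)
  rw [Finset.sum_congr rfl hinner, ← Finset.sum_filter, Finset.filter_filter]
  apply dvd_sum_card_centralizer m hmG (fun u => u ^ (p ^ (a + 1)) = 1 ∧ u ^ (p ^ a) ≠ 1)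
  · intro g y hy
    rw [conj_pow, conj_pow]
    refine ⟨by rw [hy.1]; group, ?_⟩
    intro h; apply hy.2
    have : y ^ (p ^ a) = g⁻¹ * (g * y ^ (p ^ a) * g⁻¹) * g := by group
    rw [this, h]; group
  · intro y hy
    apply hC y
    · rintro rfl; exact hy.2 (one_pow _)
    · have h2 : orderOf y ∣ p ^ (a + 1) := orderOf_dvd_of_pow_eq_one hy.1
      exact Nat.Coprime.coprime_dvd_left h2 hcop

/-- **Frobenius' theorem** (general exponent): `gcd k |G|` divides the number of solutions of
`x ^ k = 1`. -/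
theorem frobenius_gcd : ∀ (N : ℕ) (G : Type u) [Group G] [Finite G], Nat.card G = N →
    ∀ k : ℕ, Nat.gcd k (Nat.card G) ∣ Nat.card {g : G // g ^ k = 1} := by
  intro N
  induction N using Nat.strong_induction_on with
  | _ N ih =>
  intro G _ _ hN
  classical
  haveI : Fintype G := Fintype.ofFinite G
  have hNpos : 0 < N := hN ▸ Nat.card_pos
  have ih' : ∀ (H : Type u) [Group H] [Finite H], Nat.card H < Nat.card G →
      ∀ k : ℕ, Nat.gcd k (Nat.card H) ∣ Nat.card {h : H // h ^ k = 1} := by
    intro H _ _ hlt k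
    exact ih (Nat.card H) (hN ▸ hlt) H rfl k
  have inner : ∀ t : ℕ, ∀ n : ℕ, n ∣ N → N / n = t → n ∣ Nat.card {g : G // g ^ n = 1} := by
    intro t
    induction t using Nat.strong_induction_on with
    | _ t iht =>
    intro n hn ht
    have hnpos : 0 < n := Nat.pos_of_dvd_of_pos hn hNpos
    by_cases hnN : n = N
    · have : Nat.card {g : G // g ^ n = 1} = N := by
        rw [← hN]
        apply Nat.card_congr
        apply Equiv.subtypeUnivEquiv
        intro g
        rw [hnN, ← hN]
        exact pow_card_eq_one'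
      rw [this, hnN]
    · have hlt : n < N := lt_of_le_of_ne (Nat.le_of_dvd hNpos hn) hnN
      obtain ⟨q, hq⟩ := hn
      have hq2 : 2 ≤ q := by
        by_contra hcon
        have : q = 0 ∨ q = 1 := by omega
        rcases this with h | h
        · rw [h, mul_zero] at hq; omega
        · rw [h, mul_one] at hq; omega
      have hNn : N / n = q := by rw [hq, Nat.mul_div_cancel_left _ hnpos]
      obtain ⟨p, hp, hpq⟩ := Nat.exists_prime_and_dvd (show q ≠ 1 by omega)
      have hnp : n * p ∣ N := by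
        rw [hq]; exact mul_dvd_mul_left n hpq
      have ht' : N / (n * p) < t := by
        rw [← ht, ← Nat.div_div_eq_div_mul, hNn]
        exact Nat.div_lt_self (by omega) hp.one_lt
      have IH1 := iht _ ht' (n * p) hnp rfl
      obtain ⟨a, m, hmp, hnam⟩ := Nat.exists_eq_pow_mul_and_not_dvd hnpos.ne' p hp.ne_one
      have hmN : m ∣ Nat.card G := by
        rw [hN]
        exact dvd_trans (hnam ▸ dvd_mul_left m (p ^ a)) ⟨q, hq⟩
      -- counting
      have hexp : n * p = p ^ (a + 1) * m := by rw [hnam]; ring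
      have hsplit : (univ.filter (fun x : G => x ^ (n * p) = 1)).card =
          (univ.filter (fun x : G => x ^ n = 1)).card +
          (univ.filter (fun x : G => x ^ (p ^ (a + 1) * m) = 1 ∧ x ^ (p ^ a * m) ≠ 1)).card := by
        rw [← Finset.card_filter_add_card_filter_not (s := univ.filter (fun x : G => x ^ (n * p) = 1))
          (fun x : G => x ^ n = 1)]
        congr 1
        · congr 1
          ext x
          simp only [mem_filter, mem_univ, true_and]
          constructor
          · rintro ⟨_, h⟩; exact h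
          · intro h; exact ⟨by rw [pow_mul, h, one_pow], h⟩
        · congr 1
          ext x
          simp only [mem_filter, mem_univ, true_and]
          rw [hexp, hnam]
      have hA : p ^ a ∣ (univ.filter (fun x : G => x ^ (p ^ (a + 1) * m) = 1 ∧
          x ^ (p ^ a * m) ≠ 1)).card := claimA hp hmp
      have hB : m ∣ (univ.filter (fun x : G => x ^ (p ^ (a + 1) * m) = 1 ∧
          x ^ (p ^ a * m) ≠ 1)).card := by
        apply claimB hp hmp hmN
        intro y hy1 hym
        exact gcd_dvd_card_centralizer_of_ih ih' y hy1 m hym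
      have hT : n ∣ (univ.filter (fun x : G => x ^ (p ^ (a + 1) * m) = 1 ∧
          x ^ (p ^ a * m) ≠ 1)).card := by
        rw [hnam]
        exact Nat.Coprime.mul_dvd_of_dvd_of_dvd
          (Nat.Coprime.pow_left _ ((Nat.Prime.coprime_iff_not_dvd hp).mpr hmp)) hA hB
      rw [card_subtype_eq_card_filter] at IH1 ⊢
      have h1 : n ∣ (univ.filter (fun x : G => x ^ (n * p) = 1)).card :=
        dvd_trans (dvd_mul_right n p) IH1
      rw [hsplit] at h1
      exact (Nat.dvd_add_iff_left hT).mpr h1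
  intro k
  rw [card_pow_eq_one_gcd]
  exact inner _ _ (hN ▸ Nat.gcd_dvd_right k (Nat.card G)) rfl

/-- **Frobenius' theorem**: if `m ∣ |G|` then `m` divides the number of solutions of `x ^ m = 1`. -/
theorem frobenius_dvd {G : Type u} [Group G] [Finite G] (m : ℕ) (hm : m ∣ Nat.card G) :
    m ∣ Nat.card {g : G // g ^ m = 1} := by
  have := frobenius_gcd _ G rfl m
  rwa [Nat.gcd_eq_left hm] at this

end main

end Cfsg.Agent.Lib.H20
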