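import Mathlib
import Cfsg.Agent.Lib.H1.M11U.Defs

/-!
# S0420, QREG part A (helper20): basic facts on `Q = N(P) ∩ N(P')` and piece P3a `exists_sylow2_ge`
-/

set_option autoImplicit false
open scoped Pointwise

universe u

namespace Cfsg.Agent.Lib.H20.M11U

open Cfsg.Agent.Lib.H1.M11U

variable {G : Type u} [Group G] [Finite G]

/-- a Sylow `3`-subgroup of a group of order `7920` has order `9` -/
theorem card_sylow3_sub' (h : Hyp G) (P : Sylow 3 G) : Nat.card (P : Subgroup G) = 9 := by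
  haveI : Fact (Nat.Prime 3) := ⟨Nat.prime_three⟩
  obtain ⟨k, hk⟩ := P.2.exists_card_eq
  have h1 : Nat.card (P : Subgroup G) * (P : Subgroup G).index = 7920 := by
    rw [← h.card]; exact Subgroup.card_mul_index _
  have h2 : ¬ 3 ∣ (P : Subgroup G).index := P.not_dvd_index
  rw [hk] at h1 ⊢
  have hk8 : k ≤ 8 := by
    by_contra hcon
    have hk9 : 9 ≤ k := by omega
    have : 3 ^ 9 ≤ 3 ^ k := Nat.pow_le_pow_right (by norm_num) hk9
    have hpos : 0 < (P : Subgroup G).index := Nat.pos_of_ne_zero (fun h0 => by rw [h0] at h1; omega)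
    nlinarith
  interval_cases k <;> omega

/-- `Q = N(P) ∩ N(P')` is a `2`-group when `P, P'` are adjacent -/
theorem isPGroup_Q {P P' : Sylow 3 G} (hadj : Adj P P') : IsPGroup 2 ↥(Nrm P ⊓ Nrm P') := by
  haveI : Fact (Nat.Prime 2) := ⟨Nat.prime_two⟩
  exact IsPGroup.of_card (n := 3) (by rw [hadj]; norm_num)

/-- the order of an element of `Q` divides `8` -/
theorem orderOf_dvd_eight {P P' : Sylow 3 G} (hadj : Adj P P') {q : G} (hq : q ∈ Nrm P ⊓ Nrm P') :
    orderOf q ∣ 8 := by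
  have := orderOf_dvd_natCard (⟨q, hq⟩ : ↥(Nrm P ⊓ Nrm P'))
  rwa [Subgroup.orderOf_mk, hadj] at this

/-- conjugation by an element of `N(P)` preserves `P` -/
theorem conj_mem_of_mem_nrm {P : Sylow 3 G} {n : G} (hn : n ∈ Nrm P) {v : G}
    (hv : v ∈ (P : Subgroup G)) : n * v * n⁻¹ ∈ (P : Subgroup G) :=
  (Subgroup.mem_normalizer_iff.1 hn v).1 hv

/-- (P3a) Sylow. -/
theorem exists_sylow2_ge (h : Hyp G) {P P' : Sylow 3 G} (hadj : Adj P P') :
    ∃ S : Subgroup G, S ≤ Nrm P ∧ Nat.card S = 16 ∧ Nrm P ⊓ Nrm P' ≤ S := by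
  haveI : Fact (Nat.Prime 2) := ⟨Nat.prime_two⟩
  set N := Nrm P with hN
  set Q := Nrm P ⊓ Nrm P' with hQ
  have hQN : Q ≤ N := inf_le_left
  have hQ2 : IsPGroup 2 ↥(Q.subgroupOf N) := by
    have hc : Nat.card ↥(Q.subgroupOf N) = 8 := by
      rw [← hadj]
      exact Nat.card_congr (Subgroup.subgroupOfEquivOfLe hQN).toEquiv
    exact IsPGroup.of_card (n := 3) (by rw [hc]; norm_num)
  obtain ⟨S', hS'⟩ := hQ2.exists_le_sylow
  have hcardN : Nat.card N = 144 := h.norm3 P
  -- the order of `S'`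
  have hS16 : Nat.card (S' : Subgroup N) = 16 := by
    obtain ⟨k, hk⟩ := S'.2.exists_card_eq
    have h1 : Nat.card (S' : Subgroup N) * (S' : Subgroup N).index = 144 := by
      rw [← hcardN]; exact Subgroup.card_mul_index _
    have h2 : ¬ 2 ∣ (S' : Subgroup N).index := S'.not_dvd_index
    rw [hk] at h1 ⊢
    have hk8 : k ≤ 7 := by
      by_contra hcon
      have hk9 : 8 ≤ k := by omega
      have : 2 ^ 8 ≤ 2 ^ k := Nat.pow_le_pow_right (by norm_num) hk9
      have hpos : 0 < (S' : Subgroup N).index :=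
        Nat.pos_of_ne_zero (fun h0 => by rw [h0] at h1; omega)
      nlinarith
    interval_cases k <;> omega
  refine ⟨(S' : Subgroup N).map N.subtype, ?_, ?_, ?_⟩
  · exact Subgroup.map_subtype_le _
  · rw [← hS16]
    exact Nat.card_congr
      ((S' : Subgroup N).equivMapOfInjective _ (Subgroup.subtype_injective _)).symm.toEquiv
  · intro q hq
    refine Subgroup.mem_map.2 ⟨⟨q, hQN hq⟩, hS' ?_, rfl⟩
    exact Subgroup.mem_subgroupOf.2 hq

end Cfsg.Agent.Lib.H20.M11U
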