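import Mathlib
import Cfsg.Agent.Lib.H20.M11QA

/-!
# S0420, QREG part B (helper20): piece P3d `invol_count` (core, with P3c as a hypothesis)
-/

set_option autoImplicit false
open scoped Pointwise

universe u

namespace Cfsg.Agent.Lib.H20.M11U

open Cfsg.Agent.Lib.H1.M11U

/-- fixed points of a map of prime order -/
theorem card_modEq_fixed {α : Type*} [Fintype α] [DecidableEq α] (f : α → α) (p : ℕ) [Fact p.Prime]
    (hf : ∀ x, f^[p] x = x) :
    Fintype.card α ≡ Fintype.card {x // f x = x} [MOD p] := by
  let F : Function.End α := f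
  have h1 : F ^ p ^ 1 = 1 := by
    rw [pow_one]
    funext x
    show f^[p] x = x
    exact hf x
  have h := Equiv.Perm.card_fixedPoints_modEq (f := F) (p := p) (n := 1) h1
  have e : Fintype.card {x // f x = x} = Fintype.card ↑(Function.fixedPoints F) :=
    Fintype.card_congr (Equiv.subtypeEquivRight (fun x => Iff.rfl))
  rw [e]
  exact h

/-- the same on an invariant subset -/
theorem card_modEq_fixed_on {α : Type*} [Fintype α] [DecidableEq α] (f : α → α) (p : ℕ)
    [Fact p.Prime] (hf : ∀ x, f^[p] x = x) (S : α → Prop) [DecidablePred S]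
    (hS : ∀ x, S x → S (f x)) :
    Fintype.card {x // S x} ≡ Fintype.card {x // S x ∧ f x = x} [MOD p] := by
  let g : {x // S x} → {x // S x} := fun x => ⟨f x.1, hS x.1 x.2⟩
  have hgi : ∀ n : ℕ, ∀ x : {x // S x}, ((g^[n] x : {x // S x}) : α) = f^[n] x.1 := by
    intro n
    induction n with
    | zero => intro x; rfl
    | succ n ih =>
      intro x
      rw [Function.iterate_succ_apply, Function.iterate_succ_apply, ih]
  have hg : ∀ x, g^[p] x = x := fun x => Subtype.ext (by rw [hgi, hf])
  have h := card_modEq_fixed g p hg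
  have e : Fintype.card {y : {x // S x} // g y = y} = Fintype.card {x // S x ∧ f x = x} := by
    refine Fintype.card_congr ?_
    refine (Equiv.subtypeEquivRight (fun y => ?_)).trans
      (Equiv.subtypeSubtypeEquivSubtypeInter S (fun x => f x = x))
    exact Subtype.ext_iff
  rw [e] at h
  exact h

/-- membership in the centralizer of a singleton, conjugation form -/
theorem mem_centralizer_singleton_conj {G : Type*} [Group G] {d g : G} :
    g ∈ Subgroup.centralizer ({d} : Set G) ↔ d * g * d⁻¹ = g := by
  rw [Subgroup.mem_centralizer_iff]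
  constructor
  · intro h
    have h1 := h d (Set.mem_singleton d)
    rw [h1]; group
  · intro h k hk
    rw [Set.mem_singleton_iff] at hk
    subst hk
    calc k * g = k * g * k⁻¹ * k := by group
      _ = g * k := by rw [h]

variable {G : Type u} [Group G] [Finite G]

/-- (P3d), core: the number of involutions of `Q` is `1` or `7`. -/
theorem invol_count_core (h : Hyp G) {P P' : Sylow 3 G} (hadj : Adj P P')
    (hd : ∃ d : G, orderOf d = 3 ∧ ∀ q ∈ Nrm P ⊓ Nrm P', d * q * d⁻¹ ∈ Nrm P ⊓ Nrm P') :
    (∃! z, z ∈ Nrm P ⊓ Nrm P' ∧ orderOf z = 2) ∨ (∀ q ∈ Nrm P ⊓ Nrm P', q * q = 1) := by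
  classical
  haveI : Fact (Nat.Prime 2) := ⟨Nat.prime_two⟩
  haveI : Fact (Nat.Prime 3) := ⟨Nat.prime_three⟩
  obtain ⟨d, hd3, hdQ⟩ := hd
  set Q := Nrm P ⊓ Nrm P' with hQ
  haveI : Fintype ↥Q := Fintype.ofFinite _
  have hcardQ : Fintype.card ↥Q = 8 := by rw [← Nat.card_eq_fintype_card]; exact hadj
  have hd3' : d ^ 3 = 1 := by rw [← hd3]; exact pow_orderOf_eq_one d
  -- conjugation by `d` on `Q`
  let f : ↥Q → ↥Q := fun q => ⟨d * q * d⁻¹, hdQ q q.2⟩
  have hf3 : ∀ q, f^[3] q = q := by
    intro q
    apply Subtype.ext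
    show d * (d * (d * (q : G) * d⁻¹) * d⁻¹) * d⁻¹ = q
    have hc : d * d * d = 1 := by rw [← hd3']; simp [pow_succ]
    have hc' : d⁻¹ * d⁻¹ * d⁻¹ = 1 := by
      have : d⁻¹ * d⁻¹ * d⁻¹ = (d * d * d)⁻¹ := by simp [mul_inv_rev, mul_assoc]
      rw [this, hc, inv_one]
    calc d * (d * (d * (q : G) * d⁻¹) * d⁻¹) * d⁻¹
        = (d * d * d) * q * (d⁻¹ * d⁻¹ * d⁻¹) := by simp only [mul_assoc]
      _ = q := by rw [hc, hc', one_mul, mul_one]
  -- inversion on `Q`
  let ι : ↥Q → ↥Q := fun q => q⁻¹
  have hι2 : ∀ q, ι^[2] q = q := fun q => inv_inv q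
  -- the involutions
  let I : ↥Q → Prop := fun q => orderOf (q : G) = 2
  have hIf : ∀ q, I q → I (f q) := by
    intro q hq
    show orderOf (d * (q : G) * d⁻¹) = 2
    have : d * (q : G) * d⁻¹ = MulAut.conj d (q : G) := by simp [MulAut.conj_apply]
    rw [this, MulEquiv.orderOf_eq]
    exact hq
  -- Step 1-2: the fixed points of `f` are exactly two
  have hfix_dvd8 : Fintype.card {q : ↥Q // f q = q} ≤ 2 ∧ 1 ≤ Fintype.card {q : ↥Q // f q = q} := by
    -- the subgroup `Q ⊓ C(d)`
    set CQ : Subgroup G := Q ⊓ Subgroup.centralizer ({d} : Set G) with hCQ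
    haveI : Fintype ↥CQ := Fintype.ofFinite _
    have e : Fintype.card {q : ↥Q // f q = q} = Nat.card ↥CQ := by
      rw [Nat.card_eq_fintype_card]
      refine Fintype.card_congr ?_
      have hto : ∀ x : {q : ↥Q // f q = q}, ((x.1 : ↥Q) : G) ∈ CQ := by
        intro x
        have h1 : d * ((x.1 : ↥Q) : G) * d⁻¹ = x.1 := congrArg Subtype.val x.2
        exact Subgroup.mem_inf.2 ⟨x.1.2, mem_centralizer_singleton_conj.2 h1⟩
      have hinv : ∀ y : ↥CQ, f ⟨y.1, (Subgroup.mem_inf.1 y.2).1⟩ = ⟨y.1, (Subgroup.mem_inf.1 y.2).1⟩ := by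
        intro y
        apply Subtype.ext
        show d * (y.1 : G) * d⁻¹ = y.1
        exact mem_centralizer_singleton_conj.1 (Subgroup.mem_inf.1 y.2).2
      refine
        { toFun := fun x => ⟨x.1.1, hto x⟩
          invFun := fun y => ⟨⟨y.1, (Subgroup.mem_inf.1 y.2).1⟩, hinv y⟩
          left_inv := fun x => rfl
          right_inv := fun y => rfl }
    rw [e]
    have h8 : Nat.card ↥CQ ∣ 8 := by
      have := Subgroup.card_dvd_of_le (inf_le_left : CQ ≤ Q)
      rwa [hadj] at this
    have h18 : Nat.card ↥CQ ∣ 18 := by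
      have := Subgroup.card_dvd_of_le (inf_le_right : CQ ≤ Subgroup.centralizer ({d} : Set G))
      rwa [h.cent3 d hd3] at this
    have h2 : Nat.card ↥CQ ∣ 2 := by
      have hg : Nat.gcd 8 18 = 2 := by norm_num
      have := Nat.dvd_gcd h8 h18
      rwa [hg] at this
    have hpos : 0 < Nat.card ↥CQ := Nat.card_pos
    exact ⟨Nat.le_of_dvd (by norm_num) h2, hpos⟩
  have hfix2 : Fintype.card {q : ↥Q // f q = q} = 2 := by
    have h1 := card_modEq_fixed f 3 hf3
    rw [hcardQ] at h1
    unfold Nat.ModEq at h1
    obtain ⟨hle, hge⟩ := hfix_dvd8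
    interval_cases (Fintype.card {q : ↥Q // f q = q}) <;> simp_all
  -- Step 3: exactly one involution is fixed by `f`
  have hfixI : Fintype.card {q : ↥Q // I q ∧ f q = q} = 1 := by
    -- the fixed points are `1` and the involutions among them
    have hsplit : Fintype.card {q : ↥Q // f q = q} =
        Fintype.card {q : ↥Q // I q ∧ f q = q} + 1 := by
      have hone : f 1 = 1 := by
        apply Subtype.ext
        show d * ((1 : ↥Q) : G) * d⁻¹ = ((1 : ↥Q) : G)
        simp
      rw [Fintype.card_subtype, Fintype.card_subtype]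
      have hdisj : (Finset.univ.filter (fun q : ↥Q => f q = q)) =
          insert (1 : ↥Q) (Finset.univ.filter (fun q : ↥Q => I q ∧ f q = q)) := by
        ext q
        simp only [Finset.mem_filter, Finset.mem_univ, true_and, Finset.mem_insert]
        constructor
        · intro hq
          by_cases hq1 : q = 1
          · exact Or.inl hq1
          · right
            refine ⟨?_, hq⟩
            -- `q` lies in a group of order `2`
            show orderOf (q : G) = 2
            have hqC : (q : G) ∈ Subgroup.centralizer ({d} : Set G) :=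
              mem_centralizer_singleton_conj.2 (congrArg Subtype.val hq)
            have h8 : orderOf (q : G) ∣ 8 := orderOf_dvd_eight hadj q.2
            have h18 : orderOf (q : G) ∣ 18 := by
              have := orderOf_dvd_natCard (⟨(q : G), hqC⟩ : ↥(Subgroup.centralizer ({d} : Set G)))
              rwa [Subgroup.orderOf_mk, h.cent3 d hd3] at this
            have h2 : orderOf (q : G) ∣ 2 := by
              have hg : Nat.gcd 8 18 = 2 := by norm_num
              have := Nat.dvd_gcd h8 h18
              rwa [hg] at this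
            rcases (Nat.dvd_prime Nat.prime_two).1 h2 with h | h
            · exfalso
              apply hq1
              apply Subtype.ext
              exact orderOf_eq_one_iff.1 h
            · exact h
        · rintro (rfl | ⟨_, hq⟩)
          · exact hone
          · exact hq
      rw [hdisj, Finset.card_insert_of_notMem]
      simp only [Finset.mem_filter, Finset.mem_univ, true_and, not_and]
      intro h1
      exfalso
      have : orderOf ((1 : ↥Q) : G) = 2 := h1
      simp at this
    omega
  -- Step 3': `#I ≡ 1 mod 3`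
  have hI3 : Fintype.card {q : ↥Q // I q} % 3 = 1 := by
    have := card_modEq_fixed_on f 3 hf3 I hIf
    rw [hfixI] at this
    exact this
  -- Step 4: `#I` is odd
  have hI2 : Fintype.card {q : ↥Q // I q} % 2 = 1 := by
    have h1 := card_modEq_fixed ι 2 hι2
    rw [hcardQ] at h1
    have hsplit : Fintype.card {q : ↥Q // ι q = q} = Fintype.card {q : ↥Q // I q} + 1 := by
      rw [Fintype.card_subtype, Fintype.card_subtype]
      have hdisj : (Finset.univ.filter (fun q : ↥Q => ι q = q)) =
          insert (1 : ↥Q) (Finset.univ.filter (fun q : ↥Q => I q)) := by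
        ext q
        simp only [Finset.mem_filter, Finset.mem_univ, true_and, Finset.mem_insert]
        constructor
        · intro hq
          by_cases hq1 : q = 1
          · exact Or.inl hq1
          · right
            show orderOf (q : G) = 2
            have hq' : (q : G)⁻¹ = q := congrArg Subtype.val hq
            have hsq : (q : G) ^ 2 = 1 := by
              rw [sq]
              calc (q : G) * q = (q : G)⁻¹ * q := by rw [hq']
                _ = 1 := inv_mul_cancel _
            have hne : (q : G) ≠ 1 := fun h0 => hq1 (Subtype.ext h0)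
            exact orderOf_eq_prime hsq hne
        · rintro (rfl | hq)
          · show (1 : ↥Q)⁻¹ = 1
            simp
          · show q⁻¹ = q
            apply Subtype.ext
            have h2 : orderOf (q : G) = 2 := hq
            have hsq : (q : G) ^ 2 = 1 := by rw [← h2]; exact pow_orderOf_eq_one _
            rw [sq] at hsq
            show (q : G)⁻¹ = q
            exact inv_eq_of_mul_eq_one_left hsq
      rw [hdisj, Finset.card_insert_of_notMem]
      simp only [Finset.mem_filter, Finset.mem_univ, true_and]
      intro h1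
      have : orderOf ((1 : ↥Q) : G) = 2 := h1
      simp at this
    rw [hsplit] at h1
    unfold Nat.ModEq at h1
    omega
  -- Step 5: `#I ≤ 7`
  have hI7 : Fintype.card {q : ↥Q // I q} ≤ 7 := by
    have h1 : Fintype.card {q : ↥Q // I q} ≤ Fintype.card {q : ↥Q // q ≠ 1} := by
      refine Fintype.card_le_of_injective (fun x => ⟨x.1, ?_⟩) ?_
      · intro h0
        have : orderOf ((x.1 : ↥Q) : G) = 2 := x.2
        rw [h0] at this
        simp at this
      · intro x y hxy
        apply Subtype.ext
        exact congrArg (fun z : {q : ↥Q // q ≠ 1} => z.1) hxy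
    have h2 : Fintype.card {q : ↥Q // q ≠ 1} = 7 := by
      rw [Fintype.card_subtype_compl, hcardQ]
      simp
    omega
  -- Step 6
  have hI17 : Fintype.card {q : ↥Q // I q} = 1 ∨ Fintype.card {q : ↥Q // I q} = 7 := by omega
  rcases hI17 with h1 | h7
  · left
    obtain ⟨x, hx⟩ := Fintype.card_eq_one_iff.1 h1
    refine ⟨(x.1 : G), ⟨x.1.2, x.2⟩, ?_⟩
    rintro y ⟨hyQ, hy2⟩
    have := hx ⟨⟨y, hyQ⟩, hy2⟩
    exact congrArg (fun z : {q : ↥Q // I q} => ((z.1 : ↥Q) : G)) this
  · right
    intro q hq
    by_cases hq1 : q = 1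
    · rw [hq1, one_mul]
    · -- all seven nonidentity elements are involutions
      have hcard7 : Fintype.card {q : ↥Q // q ≠ 1} = 7 := by
        rw [Fintype.card_subtype_compl, hcardQ]
        simp
      let j : {q : ↥Q // I q} → {q : ↥Q // q ≠ 1} := fun x => ⟨x.1, by
        intro h0
        have : orderOf ((x.1 : ↥Q) : G) = 2 := x.2
        rw [h0] at this
        simp at this⟩
      have hjinj : Function.Injective j := by
        intro x y hxy
        apply Subtype.ext
        exact congrArg (fun z : {q : ↥Q // q ≠ 1} => z.1) hxy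
      have hjbij : Function.Bijective j :=
        (Fintype.bijective_iff_injective_and_card j).2 ⟨hjinj, by rw [h7, hcard7]⟩
      obtain ⟨x, hx⟩ := hjbij.2 ⟨⟨q, hq⟩, fun h0 => hq1 (congrArg Subtype.val h0)⟩
      have hx2 : orderOf ((x.1 : ↥Q) : G) = 2 := x.2
      have hxq : ((x.1 : ↥Q) : G) = q := by
        have := congrArg (fun z : {q : ↥Q // q ≠ 1} => ((z.1 : ↥Q) : G)) hx
        exact this
      rw [hxq] at hx2
      rw [← sq, ← hx2]
      exact pow_orderOf_eq_one q

end Cfsg.Agent.Lib.H20.M11U
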