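import Mathlib
import Cfsg.Agent.Lib.H20.M11QB

/-!
# S0420, QREG part C (helper20): `Q_semiregular` and `Q_trans` (cores, earlier pieces as hypotheses)
-/

set_option autoImplicit false
open scoped Pointwise

universe u

namespace Cfsg.Agent.Lib.H20.M11U

open Cfsg.Agent.Lib.H1.M11U

/-- `a` centralises `b` iff `b` centralises `a`, conjugation form -/
theorem conj_eq_swap {G : Type*} [Group G] {a b : G} (h : a * b * a⁻¹ = b) : b * a * b⁻¹ = a := by
  rw [mul_inv_eq_iff_eq_mul] at h ⊢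
  exact h.symm

/-- the order of a conjugate -/
theorem orderOf_conj' {G : Type*} [Group G] (s z : G) : orderOf (s * z * s⁻¹) = orderOf z := by
  have : s * z * s⁻¹ = MulAut.conj s z := by simp [MulAut.conj_apply]
  rw [this, MulEquiv.orderOf_eq]

/-- a subgroup of index two (by cardinalities) is normalised by the big group -/
theorem conj_mem_of_card_double {G : Type*} [Group G] [Finite G] {Q S : Subgroup G} (hQS : Q ≤ S)
    (hc : Nat.card S = 2 * Nat.card Q) {s z : G} (hs : s ∈ S) (hz : z ∈ Q) : s * z * s⁻¹ ∈ Q := by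
  have hidx : (Q.subgroupOf S).index = 2 := by
    have h1 := Subgroup.card_mul_index (Q.subgroupOf S)
    have h2 : Nat.card ↥(Q.subgroupOf S) = Nat.card Q :=
      Nat.card_congr (Subgroup.subgroupOfEquivOfLe hQS).toEquiv
    rw [h2, hc] at h1
    have hpos : 0 < Nat.card Q := Nat.card_pos
    nlinarith
  have hn : (Q.subgroupOf S).Normal := Subgroup.normal_of_index_eq_two hidx
  have := hn.conj_mem ⟨z, hQS hz⟩ (Subgroup.mem_subgroupOf.2 hz) ⟨s, hs⟩
  exact Subgroup.mem_subgroupOf.1 this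

variable {G : Type u} [Group G] [Finite G]

/-- an element of `P#` yields an element of order `3` of `P` with a larger centraliser -/
theorem exists_order3_of_mem (h : Hyp G) (P : Sylow 3 G) {v : G} (hv : v ∈ (P : Subgroup G))
    (hv1 : v ≠ 1) :
    ∃ w ∈ (P : Subgroup G), orderOf w = 3 ∧ ∀ q : G, q * v * q⁻¹ = v → q * w * q⁻¹ = w := by
  have h9 : orderOf v ∣ 9 := by
    have := orderOf_dvd_natCard (⟨v, hv⟩ : ↥(P : Subgroup G))
    rwa [Subgroup.orderOf_mk, card_sylow3_sub' h P] at this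
  have hdiv : orderOf v ∈ Nat.divisors 9 := Nat.mem_divisors.2 ⟨h9, by norm_num⟩
  have h9d : Nat.divisors 9 = {1, 3, 9} := by decide
  rw [h9d] at hdiv
  simp only [Finset.mem_insert, Finset.mem_singleton] at hdiv
  rcases hdiv with h1 | h3 | h9'
  · exact absurd (orderOf_eq_one_iff.1 h1) hv1
  · exact ⟨v, hv, h3, fun q hq => hq⟩
  · refine ⟨v ^ 3, Subgroup.pow_mem _ hv 3, ?_, ?_⟩
    · rw [orderOf_pow' v (by norm_num : 3 ≠ 0), h9']
      norm_num
    · intro q hq
      rw [← conj_pow, hq]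

/-- `|C_Q(w)|` divides `2` for `w` of order `3` -/
theorem card_inf_centralizer_dvd_two (h : Hyp G) {P P' : Sylow 3 G} (hadj : Adj P P') {w : G}
    (hw3 : orderOf w = 3) :
    Nat.card ↥((Nrm P ⊓ Nrm P') ⊓ Subgroup.centralizer ({w} : Set G)) ∣ 2 := by
  have h8 : Nat.card ↥((Nrm P ⊓ Nrm P') ⊓ Subgroup.centralizer ({w} : Set G)) ∣ 8 := by
    have := Subgroup.card_dvd_of_le
      (inf_le_left : (Nrm P ⊓ Nrm P') ⊓ Subgroup.centralizer ({w} : Set G) ≤ Nrm P ⊓ Nrm P')
    rwa [hadj] at this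
  have h18 : Nat.card ↥((Nrm P ⊓ Nrm P') ⊓ Subgroup.centralizer ({w} : Set G)) ∣ 18 := by
    have := Subgroup.card_dvd_of_le
      (inf_le_right : (Nrm P ⊓ Nrm P') ⊓ Subgroup.centralizer ({w} : Set G) ≤
        Subgroup.centralizer ({w} : Set G))
    rwa [h.cent3 w hw3] at this
  have hg : Nat.gcd 8 18 = 2 := by norm_num
  have := Nat.dvd_gcd h8 h18
  rwa [hg] at this

/-- a nontrivial element of `Q` centralising an element of order `3` is an involution -/
theorem orderOf_eq_two_of_centralizes (h : Hyp G) {P P' : Sylow 3 G} (hadj : Adj P P') {q : G}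
    (hq : q ∈ Nrm P ⊓ Nrm P') (hq1 : q ≠ 1) {w : G} (hw3 : orderOf w = 3)
    (hqw : q * w * q⁻¹ = w) : orderOf q = 2 := by
  have hqC : q ∈ (Nrm P ⊓ Nrm P') ⊓ Subgroup.centralizer ({w} : Set G) :=
    Subgroup.mem_inf.2 ⟨hq, mem_centralizer_singleton_conj.2 (conj_eq_swap hqw)⟩
  have h2 : orderOf q ∣ 2 := by
    have := orderOf_dvd_natCard
      (⟨q, hqC⟩ : ↥((Nrm P ⊓ Nrm P') ⊓ Subgroup.centralizer ({w} : Set G)))
    rw [Subgroup.orderOf_mk] at this
    exact this.trans (card_inf_centralizer_dvd_two h hadj hw3)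
  rcases (Nat.dvd_prime Nat.prime_two).1 h2 with h1 | h1
  · exact absurd (orderOf_eq_one_iff.1 h1) hq1
  · exact h1

/-- (P3 = QREG), core -/
theorem Q_semiregular_core (h : Hyp G) {P P' : Sylow 3 G} (hadj : Adj P P')
    (hS : ∃ S : Subgroup G, S ≤ Nrm P ∧ Nat.card S = 16 ∧ Nrm P ⊓ Nrm P' ≤ S)
    (hic : (∃! z, z ∈ Nrm P ⊓ Nrm P' ∧ orderOf z = 2) ∨ (∀ q ∈ Nrm P ⊓ Nrm P', q * q = 1))
    (hcent : Subgroup.centralizer ((P : Subgroup G) : Set G) = (P : Subgroup G))
    (hfpf : ∀ (S : Subgroup G), S ≤ Nrm P → Nat.card S = 16 → ∀ z : G, z ∈ S → orderOf z = 2 →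
      (∀ s ∈ S, s * z = z * s) → ∀ v : G, v ∈ (P : Subgroup G) → z * v * z⁻¹ = v → v = 1)
    {q : G} (hq : q ∈ Nrm P ⊓ Nrm P') (hq1 : q ≠ 1) {v : G} (hv : v ∈ (P : Subgroup G))
    (hv1 : v ≠ 1) : q * v * q⁻¹ ≠ v := by
  classical
  intro hqv
  obtain ⟨w, hwP, hw3, hww⟩ := exists_order3_of_mem h P hv hv1
  have hqw := hww q hqv
  have hq2 := orderOf_eq_two_of_centralizes h hadj hq hq1 hw3 hqw
  have hw1 : w ≠ 1 := by
    intro h0
    rw [h0, orderOf_one] at hw3
    omega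
  rcases hic with ⟨z, ⟨hzQ, hz2⟩, hzu⟩ | hexp
  · -- unique involution
    have hqz : q = z := hzu q ⟨hq, hq2⟩
    obtain ⟨S, hSN, hS16, hQS⟩ := hS
    have hzc : ∀ s ∈ S, s * z = z * s := by
      intro s hs
      have hnorm : s * z * s⁻¹ ∈ Nrm P ⊓ Nrm P' :=
        conj_mem_of_card_double hQS (by rw [hS16, hadj]) hs hzQ
      have h2 : orderOf (s * z * s⁻¹) = 2 := by rw [orderOf_conj']; exact hz2
      have h3 := hzu _ ⟨hnorm, h2⟩
      calc s * z = s * z * s⁻¹ * s := by group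
        _ = z * s := by rw [h3]
    rw [hqz] at hqv
    exact hv1 (hfpf S hSN hS16 z (hQS hzQ) hz2 hzc v hv hqv)
  · -- exponent 2: `Q` is abelian
    have hcomm : ∀ a ∈ Nrm P ⊓ Nrm P', ∀ b ∈ Nrm P ⊓ Nrm P', a * b = b * a := by
      intro a ha b hb
      have ha2 := hexp a ha
      have hb2 := hexp b hb
      have hab := hexp (a * b) (Subgroup.mul_mem _ ha hb)
      have hai : a⁻¹ = a := inv_eq_of_mul_eq_one_left ha2
      have hbi : b⁻¹ = b := inv_eq_of_mul_eq_one_left hb2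
      calc a * b = (a * b)⁻¹ := (inv_eq_of_mul_eq_one_left hab).symm
        _ = b⁻¹ * a⁻¹ := mul_inv_rev a b
        _ = b * a := by rw [hai, hbi]
    set Q := Nrm P ⊓ Nrm P' with hQ
    set F : Subgroup G := (P : Subgroup G) ⊓ Subgroup.centralizer ({q} : Set G) with hF
    set K : Subgroup G := Q ⊓ Subgroup.centralizer ({w} : Set G) with hK
    haveI : Fintype ↥Q := Fintype.ofFinite _
    haveI : Fintype ↥K := Fintype.ofFinite _
    have hcardQ : Fintype.card ↥Q = 8 := by rw [← Nat.card_eq_fintype_card]; exact hadj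
    have hK2 : Fintype.card ↥K ≤ 2 := by
      rw [← Nat.card_eq_fintype_card]
      exact Nat.le_of_dvd (by norm_num) (card_inf_centralizer_dvd_two h hadj hw3)
    let f : ↥Q → G := fun r => (r : G) * w * (r : G)⁻¹
    -- fibres have at most two elements
    have hfib : ∀ a ∈ Finset.univ.image f, (Finset.univ.filter (fun x => f x = a)).card ≤ 2 := by
      intro a ha
      obtain ⟨r0, -, rfl⟩ := Finset.mem_image.1 ha
      rw [← Fintype.card_subtype]
      refine le_trans ?_ hK2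
      have hmem : ∀ x : {x : ↥Q // f x = f r0}, (r0 : G)⁻¹ * ((x.1 : ↥Q) : G) ∈ K := by
        intro x
        refine Subgroup.mem_inf.2 ⟨Subgroup.mul_mem _ (Subgroup.inv_mem _ r0.2) x.1.2, ?_⟩
        apply mem_centralizer_singleton_conj.2
        apply conj_eq_swap
        have hx : ((x.1 : ↥Q) : G) * w * ((x.1 : ↥Q) : G)⁻¹ = (r0 : G) * w * (r0 : G)⁻¹ := x.2
        calc (r0 : G)⁻¹ * ((x.1 : ↥Q) : G) * w * ((r0 : G)⁻¹ * ((x.1 : ↥Q) : G))⁻¹
            = (r0 : G)⁻¹ * (((x.1 : ↥Q) : G) * w * ((x.1 : ↥Q) : G)⁻¹) * (r0 : G) := by group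
          _ = w := by rw [hx]; group
      refine Fintype.card_le_of_injective (fun x => (⟨_, hmem x⟩ : ↥K)) ?_
      intro x y hxy
      have h1 : (r0 : G)⁻¹ * ((x.1 : ↥Q) : G) = (r0 : G)⁻¹ * ((y.1 : ↥Q) : G) :=
        congrArg Subtype.val hxy
      exact Subtype.ext (Subtype.ext (mul_left_cancel h1))
    have himg : 4 ≤ (Finset.univ.image f).card := by
      have h1 := Finset.card_le_mul_card_image (f := f) Finset.univ 2 hfib
      rw [Finset.card_univ, hcardQ] at h1
      omega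
    -- the orbit lies in `F ∖ {1}`
    have hsub : ((insert (1 : G) (Finset.univ.image f) : Finset G) : Set G) ⊆ (F : Set G) := by
      intro x hx
      rw [Finset.mem_coe, Finset.mem_insert] at hx
      rcases hx with rfl | hx
      · exact F.one_mem
      · obtain ⟨r, -, rfl⟩ := Finset.mem_image.1 hx
        show (r : G) * w * (r : G)⁻¹ ∈ F
        refine Subgroup.mem_inf.2 ⟨conj_mem_of_mem_nrm (Subgroup.mem_inf.1 r.2).1 hwP, ?_⟩
        apply mem_centralizer_singleton_conj.2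
        have hqr : q * (r : G) = (r : G) * q := hcomm q hq r r.2
        calc q * ((r : G) * w * (r : G)⁻¹) * q⁻¹
            = (q * (r : G)) * w * (q * (r : G))⁻¹ := by group
          _ = (r : G) * (q * w * q⁻¹) * (r : G)⁻¹ := by rw [hqr]; group
          _ = (r : G) * w * (r : G)⁻¹ := by rw [hqw]
    have hnot1 : (1 : G) ∉ Finset.univ.image f := by
      intro h1
      obtain ⟨r, -, hr⟩ := Finset.mem_image.1 h1
      apply hw1
      have hr' : (r : G) * w * (r : G)⁻¹ = 1 := hr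
      calc w = (r : G)⁻¹ * ((r : G) * w * (r : G)⁻¹) * (r : G) := by group
        _ = 1 := by rw [hr']; group
    have hF5 : 5 ≤ Nat.card ↥F := by
      have h1 := Set.ncard_le_ncard hsub (Set.toFinite _)
      rw [Set.ncard_coe_finset, Finset.card_insert_of_notMem hnot1] at h1
      have h2 : Nat.card ↥F = (F : Set G).ncard := rfl
      omega
    have hF9 : Nat.card ↥F ∣ 9 := by
      have := Subgroup.card_dvd_of_le (inf_le_left : F ≤ (P : Subgroup G))
      rwa [card_sylow3_sub' h P] at this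
    have hF9' : Nat.card ↥F = 9 := by
      have hdiv : Nat.card ↥F ∈ Nat.divisors 9 := Nat.mem_divisors.2 ⟨hF9, by norm_num⟩
      have h9d : Nat.divisors 9 = {1, 3, 9} := by decide
      rw [h9d] at hdiv
      simp only [Finset.mem_insert, Finset.mem_singleton] at hdiv
      omega
    have hFP : F = (P : Subgroup G) :=
      Subgroup.eq_of_le_of_card_ge inf_le_left (by rw [hF9', card_sylow3_sub' h P])
    -- so `q` centralises `P`
    have hqP : q ∈ (P : Subgroup G) := by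
      rw [← hcent, Subgroup.mem_centralizer_iff]
      intro x hx
      have hxF : x ∈ F := by rw [hFP]; exact hx
      have hxq := mem_centralizer_singleton_conj.1 (Subgroup.mem_inf.1 hxF).2
      -- `q * x * q⁻¹ = x`
      calc x * q = q * x * q⁻¹ * q := by rw [hxq]
        _ = q * x := by group
    have h9 : orderOf q ∣ 9 := by
      have := orderOf_dvd_natCard (⟨q, hqP⟩ : ↥(P : Subgroup G))
      rwa [Subgroup.orderOf_mk, card_sylow3_sub' h P] at this
    rw [hq2] at h9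
    omega

/-- (QTRANS), core: `Q` is regular on `P#` -/
theorem Q_trans_core (h : Hyp G) {P P' : Sylow 3 G} (hadj : Adj P P')
    (hsr : ∀ {q : G}, q ∈ Nrm P ⊓ Nrm P' → q ≠ 1 → ∀ {v : G}, v ∈ (P : Subgroup G) → v ≠ 1 →
      q * v * q⁻¹ ≠ v)
    {u u' : G} (hu : u ∈ (P : Subgroup G)) (hu1 : u ≠ 1) (hu' : u' ∈ (P : Subgroup G))
    (hu'1 : u' ≠ 1) : ∃ q ∈ Nrm P ⊓ Nrm P', q * u * q⁻¹ = u' := by
  classical
  set Q := Nrm P ⊓ Nrm P' with hQ
  haveI : Fintype ↥Q := Fintype.ofFinite _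
  haveI : Fintype ↥(P : Subgroup G) := Fintype.ofFinite _
  have hcardQ : Fintype.card ↥Q = 8 := by rw [← Nat.card_eq_fintype_card]; exact hadj
  have hcardP : Fintype.card ↥(P : Subgroup G) = 9 := by
    rw [← Nat.card_eq_fintype_card]; exact card_sylow3_sub' h P
  have hcard8 : Fintype.card {x : ↥(P : Subgroup G) // x ≠ 1} = 8 := by
    rw [Fintype.card_subtype_compl, hcardP]
    simp
  let j : ↥Q → {x : ↥(P : Subgroup G) // x ≠ 1} := fun r =>
    ⟨⟨(r : G) * u * (r : G)⁻¹, conj_mem_of_mem_nrm (Subgroup.mem_inf.1 r.2).1 hu⟩, by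
      intro h0
      apply hu1
      have h1 : (r : G) * u * (r : G)⁻¹ = 1 := congrArg Subtype.val h0
      calc u = (r : G)⁻¹ * ((r : G) * u * (r : G)⁻¹) * (r : G) := by group
        _ = 1 := by rw [h1]; group⟩
  have hjinj : Function.Injective j := by
    intro r1 r2 h12
    have h1 : (r1 : G) * u * (r1 : G)⁻¹ = (r2 : G) * u * (r2 : G)⁻¹ :=
      congrArg (fun z : {x : ↥(P : Subgroup G) // x ≠ 1} => ((z.1 : ↥(P : Subgroup G)) : G)) h12
    by_contra hne
    have hk : (r2 : G)⁻¹ * (r1 : G) ∈ Q := Subgroup.mul_mem _ (Subgroup.inv_mem _ r2.2) r1.2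
    have hk1 : (r2 : G)⁻¹ * (r1 : G) ≠ 1 := by
      intro h0
      apply hne
      apply Subtype.ext
      have : (r1 : G) = (r2 : G) * ((r2 : G)⁻¹ * (r1 : G)) := by group
      rw [this, h0, mul_one]
    apply hsr hk hk1 hu hu1
    calc (r2 : G)⁻¹ * (r1 : G) * u * ((r2 : G)⁻¹ * (r1 : G))⁻¹
        = (r2 : G)⁻¹ * ((r1 : G) * u * (r1 : G)⁻¹) * (r2 : G) := by group
      _ = u := by rw [h1]; group
  have hjbij : Function.Bijective j :=
    (Fintype.bijective_iff_injective_and_card j).2 ⟨hjinj, by rw [hcardQ, hcard8]⟩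
  obtain ⟨r, hr⟩ := hjbij.2 ⟨⟨u', hu'⟩, fun h0 => hu'1 (congrArg Subtype.val h0)⟩
  refine ⟨(r : G), r.2, ?_⟩
  exact congrArg (fun z : {x : ↥(P : Subgroup G) // x ≠ 1} => ((z.1 : ↥(P : Subgroup G)) : G)) hr

end Cfsg.Agent.Lib.H20.M11U
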