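import Mathlib
import Cfsg.Agent.Lib.H1.M11U.Defs
import Cfsg.Agent.Lib.H19.M11LOCsig
import Cfsg.Agent.Lib.H26.M11QFIXsig
import Cfsg.Agent.Lib.H20.M11QC

/-!
# S0420, QREG (helper20): `invol_count`, `Q_semiregular`, `Q_trans` in the exact signatures of
`tools/blueprints/S0420_sigs.lean`, on the landed pieces P3a (own twin), LOC (helper19), P3c (helper26).
-/

set_option autoImplicit false
open scoped Pointwise

universe u

namespace Cfsg.Agent.Lib.H20.M11U

open Cfsg.Agent.Lib.H1.M11U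

variable {G : Type u} [Group G] [Finite G]

/-- (P3d) `|C_Q(d)| ≤ 2` (it is a 2-subgroup of `C_G(d)`, order 18) and `≡ 8 mod 3`, so `= 2`; the number of
involutions of `Q` is odd, `≤ 7` and `≡ 1 mod 3`: it is `1` or `7`. -/
theorem invol_count (h : Hyp G) {P P' : Sylow 3 G} (hadj : Adj P P') :
    (∃! z, z ∈ Nrm P ⊓ Nrm P' ∧ orderOf z = 2) ∨ (∀ q ∈ Nrm P ⊓ Nrm P', q * q = 1) :=
  invol_count_core h hadj (Cfsg.Agent.Lib.H26.M11U.exists_order3_normalizing h hadj)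

/-- (P3 = QREG) if `q ≠ 1` centralises `v ≠ 1` then `q` is an involution (2-element of `C_G(v)`, order 18).
Unique involution: it is the central involution `z` of `S`, fixed-point-free by LOC.  All of `Q` of exponent 2
(so `Q` abelian): the `Q`-orbit of `v` has size 4 and is fixed pointwise by `q`, so `|C_P(q)| ≥ 5`, `q ∈ C(P) = P`. -/
theorem Q_semiregular (h : Hyp G) {P P' : Sylow 3 G} (hadj : Adj P P') {q : G}
    (hq : q ∈ Nrm P ⊓ Nrm P') (hq1 : q ≠ 1) {v : G} (hv : v ∈ (P : Subgroup G)) (hv1 : v ≠ 1) :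
    q * v * q⁻¹ ≠ v :=
  Q_semiregular_core h hadj (exists_sylow2_ge h hadj) (invol_count h hadj)
    (Cfsg.Agent.Lib.H19.M11U.centralizer_eq h P)
    (fun S hS hS16 _ hzS hz2 hzc _ hv' hzv =>
      Cfsg.Agent.Lib.H19.M11U.central_invol_fpf h P S hS hS16 hzS hz2 hzc hv' hzv)
    hq hq1 hv hv1

/-- (QTRANS) hence `Q` (order 8) is regular on the 8 elements of `P#`. -/
theorem Q_trans (h : Hyp G) {P P' : Sylow 3 G} (hadj : Adj P P') {u u' : G}
    (hu : u ∈ (P : Subgroup G)) (hu1 : u ≠ 1) (hu' : u' ∈ (P : Subgroup G)) (hu'1 : u' ≠ 1) :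
    ∃ q ∈ Nrm P ⊓ Nrm P', q * u * q⁻¹ = u' :=
  Q_trans_core h hadj (fun hq hq1 _ hv hv1 => Q_semiregular h hadj hq hq1 hv hv1) hu hu1 hu' hu'1

end Cfsg.Agent.Lib.H20.M11U
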