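import Mathlib

set_option autoImplicit false

namespace Cfsg.Agent.Lib.H20

open Equiv

/-- An automorphism of prime order `r ≠ p` of a group of order `p ^ n` forces `r ∣ p ^ i - 1`
for some `1 ≤ i ≤ n`. -/
theorem exists_dvd_pow_sub_one_of_aut {V : Type*} [Group V] [Finite V] {p r n : ℕ}
    [hp : Fact p.Prime] [hr : Fact r.Prime] (hrp : r ≠ p) (hV : Nat.card V = p ^ n)
    (β : MulAut V) (hβ : β ^ r = 1) (hβ1 : β ≠ 1) :
    ∃ i, 1 ≤ i ∧ i ≤ n ∧ r ∣ p ^ i - 1 := by
  classical
  haveI : Fintype V := Fintype.ofFinite V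
  set σ : Perm V := MulAut.toPerm V β with hσ
  have hσr : σ ^ r ^ 1 = 1 := by
    rw [pow_one, hσ, ← map_pow, hβ, map_one]
  have hmod := Equiv.Perm.card_compl_support_modEq hσr
  -- fixed subgroup
  let F : Subgroup V :=
    { carrier := {v | β v = v}
      one_mem' := map_one β
      mul_mem' := by
        intro a b ha hb
        simp only [Set.mem_setOf_eq] at ha hb ⊢
        rw [map_mul, ha, hb]
      inv_mem' := by
        intro a ha
        simp only [Set.mem_setOf_eq] at ha ⊢
        rw [map_inv, ha] }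
  have hFmem : ∀ v, v ∈ F ↔ β v = v := fun v => Iff.rfl
  have hFcard : Nat.card F = (Perm.support σ)ᶜ.card := by
    rw [Nat.card_eq_fintype_card, Fintype.card_subtype]
    congr 1
    ext v
    simp only [Finset.mem_filter, Finset.mem_univ, true_and, Finset.mem_compl,
      Perm.mem_support, not_not, hFmem]
    rfl
  have hVp : IsPGroup p V := IsPGroup.of_card hV
  obtain ⟨f, hf⟩ := (hVp.to_subgroup F).exists_card_eq
  have hFne : F ≠ ⊤ := by
    intro h
    apply hβ1
    ext v
    have : v ∈ F := by rw [h]; exact Subgroup.mem_top v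
    simpa using (hFmem v).mp this
  have hlt : Nat.card F < Nat.card V := by
    rcases lt_or_eq_of_le (Subgroup.card_le_card_group F) with h | h
    · exact h
    · exact absurd (Subgroup.card_eq_iff_eq_top F |>.mp h) hFne
  rw [hf, hV] at hlt
  have hfn : f < n := (Nat.pow_lt_pow_iff_right hp.out.one_lt).mp hlt
  refine ⟨n - f, by omega, by omega, ?_⟩
  rw [← hFcard, hf, ← Nat.card_eq_fintype_card, hV] at hmod
  -- p^f ≡ p^n mod r
  have h1 : r ∣ p ^ n - p ^ f := (Nat.modEq_iff_dvd' (Nat.pow_le_pow_right hp.out.pos hfn.le)).mp hmod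
  have h2 : p ^ n - p ^ f = p ^ f * (p ^ (n - f) - 1) := by
    rw [Nat.mul_sub, mul_one, ← pow_add]
    congr 2
    omega
  rw [h2] at h1
  have hcop : Nat.Coprime r (p ^ f) :=
    Nat.Coprime.pow_right f ((Nat.coprime_primes hr.out hp.out).mpr hrp)
  exact hcop.dvd_of_dvd_mul_left h1

/-- The homomorphism `MulAut Q →* MulAut (Q ⧸ K)` for a characteristic subgroup `K`. -/
noncomputable def quotAutHom {Q : Type*} [Group Q] (K : Subgroup Q) [hK : K.Characteristic] :
    MulAut Q →* MulAut (Q ⧸ K) where
  toFun α := QuotientGroup.congr K K α (Subgroup.characteristic_iff_map_eq.mp hK α)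
  map_one' := by
    ext v
    induction v using QuotientGroup.induction_on with
    | H x => rfl
  map_mul' := by
    intro α β
    ext v
    induction v using QuotientGroup.induction_on with
    | H x => rfl

@[simp] theorem quotAutHom_mk {Q : Type*} [Group Q] (K : Subgroup Q) [hK : K.Characteristic]
    (α : MulAut Q) (x : Q) : quotAutHom K α (x : Q ⧸ K) = ((α x : Q) : Q ⧸ K) := rfl

end Cfsg.Agent.Lib.H20
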