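import Mathlib
import Cfsg.Prelude.Def_OddOrderLocal
import Cfsg.Prelude.Def_CaseTheorems
import Cfsg.Prelude.Def_PLocal
import Cfsg.Agent.Lib.H19.R2Defs
import Cfsg.Agent.Lib.H18.PGroupP4
import Cfsg.Agent.Lib.H22.UniqueOrderP

/-!
# S3888 piece C1SPLIT (architect helper19): `E = N⟨x⟩` normal ⇒ `StructA` or `StructB`
-/

set_option autoImplicit false

namespace Cfsg.Agent.Lib.H20.R2

open Cfsg Cfsg.Agent.Lib.H19.R2
open scoped commutatorElement

universe u

variable {p : ℕ} [Fact p.Prime] {G : Type u} [Group G] [Finite G]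

/-- a subgroup of order `p` inside a subgroup of order `p ^ 2`, together with an element outside it, generates -/
theorem sup_zpowers_eq_of_card {N Z : Subgroup G} (hN : Nat.card N = p ^ 2) (hZ : Nat.card Z = p)
    (hZN : Z ≤ N) {w : G} (hw : w ∈ N) (hwZ : w ∉ Z) : Z ⊔ Subgroup.zpowers w = N := by
  have hpp := (Fact.out : p.Prime)
  have hle : Z ⊔ Subgroup.zpowers w ≤ N := sup_le hZN (Subgroup.zpowers_le.2 hw)
  refine Subgroup.eq_of_le_of_card_ge hle ?_
  have hlt : Z < Z ⊔ Subgroup.zpowers w := by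
    refine lt_of_le_of_ne le_sup_left (fun h => hwZ ?_)
    rw [h]
    exact Subgroup.mem_sup_right (Subgroup.mem_zpowers w)
  have h1 := Cfsg.Agent.Lib.H18.card_lt_of_lt hlt
  have h2 : Nat.card ↥(Z ⊔ Subgroup.zpowers w) ∣ p ^ 2 := hN ▸ Subgroup.card_dvd_of_le hle
  obtain ⟨k, hk, hk'⟩ := (Nat.dvd_prime_pow hpp).1 h2
  rw [hZ, hk'] at h1
  rw [hN, hk']
  have : 1 < k := by
    by_contra hcon
    push Not at hcon
    have : p ^ k ≤ p ^ 1 := Nat.pow_le_pow_right hpp.pos hcon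
    rw [pow_one] at this
    omega
  have hk2 : k = 2 := by omega
  rw [hk2]

/-- rank at most two: an element of order dividing `p` centralizing `N` lies in `N` -/
theorem mem_of_rank {N : Subgroup G} (hNc : ∀ a ∈ N, ∀ b ∈ N, a * b = b * a)
    (hNe : ∀ a ∈ N, a ^ p = 1) (hNcard : Nat.card N = p ^ 2) (hrk : Cfsg.PRankLE p 2 G)
    {g : G} (hg : g ^ p = 1) (hgC : g ∈ Subgroup.centralizer (N : Set G)) : g ∈ N := by
  set S : Set G := (N : Set G) ∪ {g} with hS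
  have hcomm : ∀ a ∈ S, ∀ b ∈ S, a * b = b * a := by
    rw [Subgroup.mem_centralizer_iff] at hgC
    rintro a (ha | ha) b (hb | hb)
    · exact hNc a ha b hb
    · rw [Set.mem_singleton_iff] at hb; subst hb; exact hgC a ha
    · rw [Set.mem_singleton_iff] at ha; subst ha; exact (hgC b hb).symm
    · rw [Set.mem_singleton_iff] at ha hb; subst ha; subst hb; rfl
  haveI hAc : IsMulCommutative ↥(Subgroup.closure S) := Subgroup.isMulCommutative_closure hcomm
  have hAcomm : ∀ a ∈ Subgroup.closure S, ∀ b ∈ Subgroup.closure S, a * b = b * a := by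
    intro a ha b hb
    exact congrArg Subtype.val (hAc.is_comm.comm ⟨a, ha⟩ ⟨b, hb⟩)
  have hexp : ∀ a ∈ Subgroup.closure S, a ^ p = 1 := by
    intro a ha
    induction ha using Subgroup.closure_induction with
    | mem a ha =>
      rcases ha with ha | ha
      · exact hNe a ha
      · rw [Set.mem_singleton_iff] at ha; subst ha; exact hg
    | one => exact one_pow p
    | mul a b ha hb iha ihb =>
      have hc : Commute a b := hAcomm a ha b hb
      rw [hc.mul_pow, iha, ihb, one_mul]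
    | inv a _ iha => rw [inv_pow, iha, inv_one]
  have hcard := hrk (Subgroup.closure S) hAc hexp
  have hNle : N ≤ Subgroup.closure S := fun a ha => Subgroup.subset_closure (Or.inl ha)
  have heq : N = Subgroup.closure S := Subgroup.eq_of_le_of_card_ge hNle (by rw [hNcard]; exact hcard)
  rw [heq]
  exact Subgroup.subset_closure (Or.inr rfl)

theorem c1_split (hp2 : p ≠ 2) (hG : IsPGroup p G) {N : Subgroup G} {x : G} (h : C1 p G N x)
    (hEn : (N ⊔ Subgroup.zpowers x).Normal) : StructA N x ∨ StructB N x := by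
  classical
  obtain ⟨⟨hNn, hNc, hNe, hNcard⟩, hx, hxC, hrk⟩ := h
  haveI := hNn
  haveI : Group.IsNilpotent G := hG.isNilpotent
  have hpp := (Fact.out : p.Prime)
  -- `Z = [N, G]`
  obtain ⟨Z, hZ⟩ : ∃ Z : Subgroup G, Z = ⁅N, (⊤ : Subgroup G)⁆ := ⟨_, rfl⟩
  have hZN : Z ≤ N := by rw [hZ]; exact Subgroup.commutator_le_left N ⊤
  haveI hZn : Z.Normal := by rw [hZ]; infer_instance
  have hN1 : N ≠ ⊥ := by
    intro h0
    rw [h0, Subgroup.card_bot] at hNcard
    have : 1 < p ^ 2 := Nat.one_lt_pow (by norm_num) hpp.one_lt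
    omega
  have hZneN : Z ≠ N := by
    intro h0
    apply hN1
    apply Cfsg.Agent.Lib.H18.eq_bot_of_le_commutator_top N
    rw [← hZ, h0]
  have hZbot : Z ≠ ⊥ := by
    intro h0
    rw [hZ, Subgroup.commutator_top_right_eq_bot_iff_le_center] at h0
    apply hxC
    rw [Subgroup.mem_centralizer_iff]
    intro a ha
    exact (Subgroup.mem_center_iff.1 (h0 ha) x).symm
  have hZcard : Nat.card Z = p := by
    have h2 : Nat.card Z ∣ p ^ 2 := hNcard ▸ Subgroup.card_dvd_of_le hZN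
    obtain ⟨k, hk, hk'⟩ := (Nat.dvd_prime_pow hpp).1 h2
    have hk0 : k ≠ 0 := by
      intro h0
      rw [h0, pow_zero] at hk'
      exact hZbot (Subgroup.card_eq_one.1 hk')
    have hk2 : k ≠ 2 := by
      intro h0
      rw [h0] at hk'
      exact hZneN (Subgroup.eq_of_le_of_card_ge hZN (by rw [hk', hNcard]))
    have : k = 1 := by omega
    rw [hk', this, pow_one]
  have hZcen : Z ≤ Subgroup.center G :=
    Cfsg.Agent.Lib.H18.le_center_of_normal_of_card_prime p hG Z hZcard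
  have hZc : ∀ ζ ∈ Z, ∀ g : G, g * ζ = ζ * g := fun ζ hζ g =>
    Subgroup.mem_center_iff.1 (hZcen hζ) g
  have hcommZ : ∀ a ∈ N, ∀ g : G, a * g * a⁻¹ * g⁻¹ ∈ Z := by
    intro a ha g
    rw [hZ, ← commutatorElement_def]
    exact Subgroup.commutator_mem_commutator ha (Subgroup.mem_top g)
  -- `y ∈ N` not commuting with `x`
  obtain ⟨y, hyN, hyx⟩ : ∃ y ∈ N, y * x ≠ x * y := by
    by_contra hcon
    push Not at hcon
    apply hxC
    rw [Subgroup.mem_centralizer_iff]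
    exact hcon
  have hyZ : y ∉ Z := fun hy => hyx (hZc y hy x).symm
  have hNy : Z ⊔ Subgroup.zpowers y = N := sup_zpowers_eq_of_card hNcard hZcard hZN hyN hyZ
  -- commuting with `y` is enough to centralize `N`
  have hCy : ∀ g : G, g * y = y * g → g ∈ Subgroup.centralizer (N : Set G) := by
    intro g hg
    have : N ≤ Subgroup.centralizer ({g} : Set G) := by
      rw [← hNy]
      refine sup_le ?_ ?_
      · intro ζ hζ
        rw [Subgroup.mem_centralizer_singleton_iff]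
        exact (hZc ζ hζ g).symm
      · rw [Subgroup.zpowers_le, Subgroup.mem_centralizer_singleton_iff]
        exact hg.symm
    rw [Subgroup.mem_centralizer_iff]
    intro a ha
    have := this ha
    rw [Subgroup.mem_centralizer_singleton_iff] at this
    exact this
  have hNC : N ≤ Subgroup.centralizer (N : Set G) := by
    intro a ha
    rw [Subgroup.mem_centralizer_iff]
    intro b hb
    exact hNc b hb a ha
  -- the homomorphism `c g = g y g⁻¹ y⁻¹`
  have hcZ : ∀ g : G, g * y * g⁻¹ * y⁻¹ ∈ Z := by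
    intro g
    have h1 := hcommZ y hyN g
    have h2 : g * y * g⁻¹ * y⁻¹ = (y * g * y⁻¹ * g⁻¹)⁻¹ := by group
    rw [h2]
    exact Z.inv_mem h1
  let c : G →* G := MonoidHom.mk' (fun g => g * y * g⁻¹ * y⁻¹) (by
    intro g k
    have hk := hZc _ (hcZ k)
    calc g * k * y * (g * k)⁻¹ * y⁻¹ = g * (k * y * k⁻¹ * y⁻¹) * y * g⁻¹ * y⁻¹ := by group
      _ = (k * y * k⁻¹ * y⁻¹) * g * y * g⁻¹ * y⁻¹ := by rw [hk g]
      _ = (k * y * k⁻¹ * y⁻¹) * (g * y * g⁻¹ * y⁻¹) := by group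
      _ = (g * y * g⁻¹ * y⁻¹) * (k * y * k⁻¹ * y⁻¹) := by rw [hk (g * y * g⁻¹ * y⁻¹)])
  have hc_apply : ∀ g, c g = g * y * g⁻¹ * y⁻¹ := fun g => rfl
  have hc_mem : ∀ g, c g ∈ Z := fun g => hcZ g
  have hc_one : ∀ g, c g = 1 ↔ g * y = y * g := by
    intro g
    rw [hc_apply]
    constructor
    · intro h1
      have := congrArg (· * y * g) h1
      simpa [mul_assoc] using this
    · intro h1
      have : g * y * g⁻¹ * y⁻¹ = y * g * g⁻¹ * y⁻¹ := by rw [h1]
      rw [this]; group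
  have hcx : c x ≠ 1 := fun h1 => hyx ((hc_one x).1 h1).symm
  have hcxp : (c x) ^ p = 1 := hNe _ (hZN (hc_mem x))
  have hcxo : orderOf (c x) = p := orderOf_eq_prime hcxp hcx
  have hZgen : Subgroup.zpowers (c x) = Z := by
    refine Subgroup.eq_of_le_of_card_ge (Subgroup.zpowers_le.2 (hc_mem x)) ?_
    rw [Nat.card_zpowers, hcxo, hZcard]
  -- `G = C ⟨x⟩`
  have hGC : ∀ g : G, ∃ k : ℤ, g * x ^ k ∈ Subgroup.centralizer (N : Set G) := by
    intro g
    have h1 : (c g)⁻¹ ∈ Subgroup.zpowers (c x) := by rw [hZgen]; exact Z.inv_mem (hc_mem g)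
    obtain ⟨k, hk⟩ := Subgroup.mem_zpowers_iff.1 h1
    refine ⟨k, hCy _ ((hc_one _).1 ?_)⟩
    rw [map_mul, map_zpow, hk, mul_inv_cancel]
  have hxk : ∀ k : ℤ, x ^ k ∈ Subgroup.centralizer (N : Set G) → x ^ k = 1 := by
    intro k hk
    have h1 : c (x ^ k) = 1 := by
      rw [hc_one]
      rw [Subgroup.mem_centralizer_iff] at hk
      exact (hk y hyN).symm
    rw [map_zpow] at h1
    have h2 : (orderOf (c x) : ℤ) ∣ k := orderOf_dvd_iff_zpow_eq_one.2 h1
    rw [hcxo] at h2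
    obtain ⟨m, rfl⟩ := h2
    rw [zpow_mul, zpow_natCast, hx, one_zpow]
  -- the map `φ g = x⁻¹ g⁻¹ x g`
  have hφC : ∀ g : G, x⁻¹ * g⁻¹ * x * g ∈ Subgroup.centralizer (N : Set G) := by
    intro g
    apply hCy
    rw [← hc_one]
    have e : c (x⁻¹ * g⁻¹ * x * g) = (c x)⁻¹ * (c g)⁻¹ * c x * c g := by
      simp only [map_mul, map_inv]
    rw [e]
    have h1 := hZc _ (hc_mem x) (c g)⁻¹
    calc (c x)⁻¹ * (c g)⁻¹ * c x * c g = (c x)⁻¹ * ((c g)⁻¹ * c x) * c g := by group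
      _ = (c x)⁻¹ * (c x * (c g)⁻¹) * c g := by rw [h1]
      _ = 1 := by group
  have hEC : ∀ e ∈ N ⊔ Subgroup.zpowers x, e ∈ Subgroup.centralizer (N : Set G) → e ∈ N := by
    intro e he heC
    obtain ⟨a, ha, b, hb, rfl⟩ := Subgroup.mem_sup_of_normal_left.1 he
    obtain ⟨k, rfl⟩ := Subgroup.mem_zpowers_iff.1 hb
    have h1 : x ^ k ∈ Subgroup.centralizer (N : Set G) := by
      have := Subgroup.mul_mem _ (Subgroup.inv_mem _ (hNC ha)) heC
      simpa using this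
    rw [hxk k h1, mul_one]
    exact ha
  have hφN : ∀ g : G, x⁻¹ * g⁻¹ * x * g ∈ N := by
    intro g
    apply hEC _ _ (hφC g)
    have hxE : x ∈ N ⊔ Subgroup.zpowers x := Subgroup.mem_sup_right (Subgroup.mem_zpowers x)
    have h1 : g⁻¹ * x * g⁻¹⁻¹ ∈ N ⊔ Subgroup.zpowers x := hEn.conj_mem x hxE g⁻¹
    rw [inv_inv] at h1
    have h2 := Subgroup.mul_mem _ (Subgroup.inv_mem _ hxE) h1
    have h3 : x⁻¹ * (g⁻¹ * x * g) = x⁻¹ * g⁻¹ * x * g := by group
    rw [h3] at h2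
    exact h2
  obtain ⟨C, hC⟩ : ∃ C : Subgroup G, C = Subgroup.centralizer (N : Set G) := ⟨_, rfl⟩
  rw [← hC] at hφC hGC hxk hCy hNC hEC
  have hCcomm : ∀ k ∈ C, ∀ a ∈ N, k * a = a * k := by
    intro k hk a ha
    rw [hC, Subgroup.mem_centralizer_iff] at hk
    exact (hk a ha).symm
  -- `φ` as a homomorphism on `C`
  have hφmul : ∀ g k : G, k ∈ C → x⁻¹ * (g * k)⁻¹ * x * (g * k) =
      (x⁻¹ * g⁻¹ * x * g) * (x⁻¹ * k⁻¹ * x * k) := by
    intro g k hk
    have h1 := hCcomm k hk _ (hφN g)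
    have h2 := hNc _ (hφN k) _ (hφN g)
    calc x⁻¹ * (g * k)⁻¹ * x * (g * k) = x⁻¹ * k⁻¹ * x * ((x⁻¹ * g⁻¹ * x * g) * k) := by group
      _ = x⁻¹ * k⁻¹ * x * (k * (x⁻¹ * g⁻¹ * x * g)) := by rw [h1]
      _ = (x⁻¹ * k⁻¹ * x * k) * (x⁻¹ * g⁻¹ * x * g) := by group
      _ = _ := h2
  let φ : ↥C →* G := MonoidHom.mk' (fun g => x⁻¹ * (g : G)⁻¹ * x * (g : G)) (by
    intro g k
    exact hφmul g k k.2)
  have hφ_apply : ∀ g : ↥C, φ g = x⁻¹ * (g : G)⁻¹ * x * (g : G) := fun g => rfl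
  have hφ_N : ∀ g : ↥C, φ g ∈ N := fun g => hφN g
  have hφ_one : ∀ g : ↥C, φ g = 1 ↔ x * (g : G) = (g : G) * x := by
    intro g
    rw [hφ_apply]
    constructor
    · intro h1
      have := congrArg (fun t => (g : G) * x * t) h1
      simp only [mul_one] at this
      rw [← this]; group
    · intro h1
      calc x⁻¹ * (g : G)⁻¹ * x * (g : G) = x⁻¹ * (g : G)⁻¹ * (x * (g : G)) := by group
        _ = x⁻¹ * (g : G)⁻¹ * ((g : G) * x) := by rw [h1]
        _ = 1 := by group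
  have hyC : y ∈ C := hNC hyN
  have hφy : φ ⟨y, hyC⟩ ≠ 1 := by
    rw [Ne, hφ_one]
    exact fun h1 => hyx h1.symm
  have hφyZ : φ ⟨y, hyC⟩ ∈ Z := by
    rw [hφ_apply]
    have h1 := hcommZ y⁻¹ (N.inv_mem hyN) x⁻¹
    have h2 : x⁻¹ * y⁻¹ * x * y = (y⁻¹ * x⁻¹ * y⁻¹⁻¹ * x⁻¹⁻¹)⁻¹ := by group
    show x⁻¹ * y⁻¹ * x * y ∈ Z
    rw [h2]
    exact Z.inv_mem h1
  have hφyo : orderOf (φ ⟨y, hyC⟩) = p := orderOf_eq_prime (hNe _ (hφ_N _)) hφy
  have hZgen' : Subgroup.zpowers (φ ⟨y, hyC⟩) = Z := by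
    refine Subgroup.eq_of_le_of_card_ge (Subgroup.zpowers_le.2 hφyZ) ?_
    rw [Nat.card_zpowers, hφyo, hZcard]
  -- preimages
  let pre : Subgroup G → Subgroup G := fun K => (K.comap φ).map C.subtype
  have hmem_pre : ∀ (K : Subgroup G) (w : G), w ∈ pre K ↔ ∃ hw : w ∈ C, φ ⟨w, hw⟩ ∈ K := by
    intro K w
    constructor
    · rintro ⟨w', hw', rfl⟩
      exact ⟨w'.2, hw'⟩
    · rintro ⟨hw, hw'⟩
      exact ⟨⟨w, hw⟩, hw', rfl⟩
  have hpreC : ∀ K : Subgroup G, pre K ≤ C := by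
    intro K w hw
    obtain ⟨hw1, -⟩ := (hmem_pre K w).1 hw
    exact hw1
  -- key: `pre K` is cyclic when it misses `y`
  have hWcard : ∀ K : Subgroup G, y ∉ pre K → Nat.card ↥(N ⊓ pre K) ≤ p := by
    intro K hyK
    have hWN : N ⊓ pre K ≤ N := inf_le_left
    have h2 : Nat.card ↥(N ⊓ pre K) ∣ p ^ 2 := hNcard ▸ Subgroup.card_dvd_of_le hWN
    obtain ⟨k, hk, hk'⟩ := (Nat.dvd_prime_pow hpp).1 h2
    have hk2 : k ≠ 2 := by
      intro h0
      rw [h0] at hk'
      have : N ⊓ pre K = N := Subgroup.eq_of_le_of_card_ge hWN (by rw [hk', hNcard])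
      apply hyK
      have hy' : y ∈ N ⊓ pre K := by rw [this]; exact hyN
      exact hy'.2
    rw [hk']
    have hk1 : k ≤ 1 := by omega
    calc p ^ k ≤ p ^ 1 := Nat.pow_le_pow_right hpp.pos hk1
      _ = p := pow_one p
  have hcyc : ∀ K : Subgroup G, y ∉ pre K → IsCyclic ↥(pre K) := by
    intro K hyK
    have hW := hWcard K hyK
    have huniq : Cfsg.Agent.Lib.H22.AtMostOneOrderP p ↥(pre K) := by
      have key : ∀ H : Subgroup ↥(pre K), Nat.card H = p → H.map (pre K).subtype = N ⊓ pre K := by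
        intro H hH
        have hle : H.map (pre K).subtype ≤ N ⊓ pre K := by
          rintro _ ⟨w, hw, rfl⟩
          refine ⟨?_, w.2⟩
          have hwp : w ^ p = 1 := by
            have := pow_card_eq_one' (G := H) (x := ⟨w, hw⟩)
            rw [hH] at this
            exact congrArg Subtype.val this
          have hwp' : ((w : G)) ^ p = 1 := by
            have := congrArg Subtype.val hwp
            simpa using this
          have hwC : (w : G) ∈ Subgroup.centralizer (N : Set G) := by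
            rw [← hC]; exact hpreC K w.2
          exact mem_of_rank hNc hNe hNcard hrk hwp' hwC
        refine Subgroup.eq_of_le_of_card_ge hle ?_
        rw [Subgroup.card_map_of_injective (Subgroup.subtype_injective _), hH]
        exact hW
      intro H H' hH hH'
      apply Subgroup.map_injective (Subgroup.subtype_injective (pre K))
      rw [key H hH, key H' hH']
    exact Cfsg.Agent.Lib.H22.isCyclic_of_atMostOne_of_odd hp2 _ ↥(pre K) rfl
      (hG.to_subgroup (pre K)) huniq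
  have hy0 : y ∉ pre ⊥ := by
    intro hy
    obtain ⟨hw, hw'⟩ := (hmem_pre ⊥ y).1 hy
    rw [Subgroup.mem_bot] at hw'
    exact hφy hw'
  have hZC : Z ≤ C := hZN.trans hNC
  have hNx : ∀ a ∈ N, x * a = a * x → a ∈ Z := by
    intro a ha hax
    have hZW : Z ≤ N ⊓ pre ⊥ := by
      intro ζ hζ
      refine ⟨hZN hζ, (hmem_pre ⊥ ζ).2 ⟨hZC hζ, ?_⟩⟩
      rw [Subgroup.mem_bot, hφ_one]
      exact hZc ζ hζ x
    have heq : Z = N ⊓ pre ⊥ :=
      Subgroup.eq_of_le_of_card_ge hZW (by rw [hZcard]; exact hWcard ⊥ hy0)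
    rw [heq]
    refine ⟨ha, (hmem_pre ⊥ a).2 ⟨hNC ha, ?_⟩⟩
    rw [Subgroup.mem_bot, hφ_one]
    exact hax
  have hxmem : ∀ k : ℤ, x ^ k ∈ N ⊔ Subgroup.zpowers x := fun k =>
    Subgroup.mem_sup_right (Subgroup.zpow_mem _ (Subgroup.mem_zpowers x) k)
  have hymem : ∀ k : ℤ, y ^ k ∈ N ⊔ Subgroup.zpowers x := fun k =>
    Subgroup.mem_sup_left (N.zpow_mem hyN k)
  by_cases hcase : ∀ g : ↥C, φ g ∈ Z
  · left
    haveI := hcyc ⊥ hy0
    obtain ⟨z₀, hz₀⟩ := IsCyclic.exists_generator (α := ↥(pre ⊥))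
    obtain ⟨hz₀C, hz₀φ⟩ := (hmem_pre ⊥ z₀).1 z₀.2
    rw [Subgroup.mem_bot, hφ_one] at hz₀φ
    refine ⟨(z₀ : G), hz₀φ.symm, fun a ha => hCcomm _ hz₀C a ha, ?_⟩
    rw [eq_top_iff]
    intro g _
    obtain ⟨k, hk⟩ := hGC g
    have h1 : φ ⟨g * x ^ k, hk⟩ ∈ Subgroup.zpowers (φ ⟨y, hyC⟩) := by
      rw [hZgen']; exact hcase _
    obtain ⟨j, hj⟩ := Subgroup.mem_zpowers_iff.1 h1
    have h2 : φ (⟨g * x ^ k, hk⟩ * (⟨y, hyC⟩ : ↥C) ^ (-j)) = 1 := by
      rw [map_mul, map_zpow, zpow_neg, hj, mul_inv_cancel]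
    have h3 : ((⟨g * x ^ k, hk⟩ * (⟨y, hyC⟩ : ↥C) ^ (-j) : ↥C) : G) ∈ pre ⊥ :=
      (hmem_pre ⊥ _).2 ⟨Subtype.property _, by rw [Subgroup.mem_bot]; exact h2⟩
    obtain ⟨m, hm⟩ := Subgroup.mem_zpowers_iff.1 (hz₀ ⟨_, h3⟩)
    have hm' : (z₀ : G) ^ m = g * x ^ k * y ^ (-j) := by
      have := congrArg Subtype.val hm
      simpa using this
    have hg : g = (z₀ : G) ^ m * y ^ j * x ^ (-k) := by rw [hm']; group
    rw [hg]
    refine Subgroup.mul_mem _ (Subgroup.mul_mem _ ?_ ?_) ?_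
    · exact Subgroup.mem_sup_right (Subgroup.zpow_mem _ (Subgroup.mem_zpowers _) m)
    · exact Subgroup.mem_sup_left (hymem j)
    · exact Subgroup.mem_sup_left (hxmem (-k))
  · right
    push Not at hcase
    obtain ⟨g, hgZ⟩ := hcase
    have hgp : (φ g) ^ p = 1 := hNe _ (hφ_N g)
    have hyK : y ∉ pre (Subgroup.zpowers (φ g)) := by
      intro hy
      obtain ⟨hw, hw'⟩ := (hmem_pre _ y).1 hy
      obtain ⟨i, hi⟩ := Subgroup.mem_zpowers_iff.1 hw'
      by_cases hpi : (p : ℤ) ∣ i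
      · obtain ⟨m, rfl⟩ := hpi
        rw [zpow_mul, zpow_natCast, hgp, one_zpow] at hi
        exact hφy hi.symm
      · have hcop : Int.gcd i p = 1 := by
          by_contra hg1
          apply hpi
          have h1 : (Int.gcd i p : ℤ) ∣ p := Int.gcd_dvd_right i p
          have h2 : Int.gcd i p ∣ p := Int.natCast_dvd_natCast.1 h1
          rcases (Nat.dvd_prime hpp).1 h2 with h3 | h3
          · exact absurd h3 hg1
          · rw [← h3]; exact Int.gcd_dvd_left i p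
        have hbez := Int.gcd_eq_gcd_ab i p
        rw [hcop] at hbez
        apply hgZ
        have h4 : φ g = (φ g) ^ (i * Int.gcdA i p + p * Int.gcdB i p) := by
          rw [← hbez]; simp
        rw [h4, zpow_add, zpow_mul, zpow_mul, zpow_natCast, hgp, one_zpow, mul_one, hi]
        exact Z.zpow_mem hφyZ _
    haveI := hcyc _ hyK
    obtain ⟨z₁, hz₁⟩ := IsCyclic.exists_generator (α := ↥(pre (Subgroup.zpowers (φ g))))
    obtain ⟨hz₁C, -⟩ := (hmem_pre _ z₁).1 z₁.2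
    have hgpre : (g : G) ∈ pre (Subgroup.zpowers (φ g)) :=
      (hmem_pre _ _).2 ⟨g.2, Subgroup.mem_zpowers (φ g)⟩
    obtain ⟨m, hm⟩ := Subgroup.mem_zpowers_iff.1 (hz₁ ⟨_, hgpre⟩)
    have hm' : (⟨(z₁ : G), hz₁C⟩ : ↥C) ^ m = g := by
      apply Subtype.ext
      have := congrArg Subtype.val hm
      simpa using this
    have hz₁Z : φ ⟨(z₁ : G), hz₁C⟩ ∉ Z := by
      intro hcon
      apply hgZ
      rw [← hm', map_zpow]
      exact Z.zpow_mem hcon m
    have hinv : φ (⟨(z₁ : G), hz₁C⟩ : ↥C)⁻¹ = x⁻¹ * (z₁ : G) * x * (z₁ : G)⁻¹ := by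
      rw [hφ_apply]
      simp
    refine ⟨x⁻¹ * (z₁ : G) * x * (z₁ : G)⁻¹, (z₁ : G), ?_, ?_, fun a ha => hCcomm _ hz₁C a ha,
      by group, ?_⟩
    · rw [← hinv]; exact hφ_N _
    · intro hcon
      apply hz₁Z
      have h1 : x⁻¹ * (z₁ : G) * x * (z₁ : G)⁻¹ ∈ Z := by
        refine hNx _ ?_ hcon.symm
        rw [← hinv]; exact hφ_N _
      rw [← hinv, map_inv] at h1
      have := Z.inv_mem h1
      rwa [inv_inv] at this
    · rw [eq_top_iff]
      intro g' _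
      obtain ⟨k, hk⟩ := hGC g'
      have hNz : Z ⊔ Subgroup.zpowers (φ ⟨(z₁ : G), hz₁C⟩) = N :=
        sup_zpowers_eq_of_card hNcard hZcard hZN (hφ_N _) hz₁Z
      have h1 : φ ⟨g' * x ^ k, hk⟩ ∈ Z ⊔ Subgroup.zpowers (φ ⟨(z₁ : G), hz₁C⟩) := by
        rw [hNz]; exact hφ_N _
      obtain ⟨ζ, hζ, b, hb, hζb⟩ := Subgroup.mem_sup_of_normal_left.1 h1
      obtain ⟨i, rfl⟩ := Subgroup.mem_zpowers_iff.1 hb
      have hζ' : ζ ∈ Subgroup.zpowers (φ ⟨y, hyC⟩) := by rw [hZgen']; exact hζ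
      obtain ⟨j, rfl⟩ := Subgroup.mem_zpowers_iff.1 hζ'
      have h2 : φ (⟨g' * x ^ k, hk⟩ * (⟨(z₁ : G), hz₁C⟩ : ↥C) ^ (-i) * (⟨y, hyC⟩ : ↥C) ^ (-j)) = 1 := by
        rw [map_mul, map_mul, map_zpow, map_zpow, ← hζb, zpow_neg, zpow_neg]
        group
      have h3 : ((⟨g' * x ^ k, hk⟩ * (⟨(z₁ : G), hz₁C⟩ : ↥C) ^ (-i) * (⟨y, hyC⟩ : ↥C) ^ (-j) : ↥C) : G) ∈
          pre (Subgroup.zpowers (φ g)) :=
        (hmem_pre _ _).2 ⟨Subtype.property _, by rw [h2]; exact Subgroup.one_mem _⟩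
      obtain ⟨m', hm2⟩ := Subgroup.mem_zpowers_iff.1 (hz₁ ⟨_, h3⟩)
      have hm3 : (z₁ : G) ^ m' = g' * x ^ k * (z₁ : G) ^ (-i) * y ^ (-j) := by
        have := congrArg Subtype.val hm2
        simpa using this
      have hg : g' = (z₁ : G) ^ m' * y ^ j * (z₁ : G) ^ i * x ^ (-k) := by rw [hm3]; group
      rw [hg]
      refine Subgroup.mul_mem _ (Subgroup.mul_mem _ (Subgroup.mul_mem _ ?_ ?_) ?_) ?_
      · exact Subgroup.mem_sup_right (Subgroup.zpow_mem _ (Subgroup.mem_zpowers _) m')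
      · exact Subgroup.mem_sup_left (hymem j)
      · exact Subgroup.mem_sup_right (Subgroup.zpow_mem _ (Subgroup.mem_zpowers _) i)
      · exact Subgroup.mem_sup_left (hxmem (-k))

end Cfsg.Agent.Lib.H20.R2
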