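import Mathlib
import Cfsg.Prelude.Def_Local
import Cfsg.Prelude.Def_Balance
import Cfsg.Prelude.Def_Transfer

/-!
# Closed solvable signalizer functors are complete; abstract k-balanced functors (helper20)

Definitions for the S1299 farm-out (`tools/blueprints/S1299.md`).
-/

set_option autoImplicit false

namespace Cfsg.Agent.Lib.H20.SigC

open Cfsg

universe u

/-- "Closed ⟹ complete" for all triples `(G, A, θ)` in universe `u` whose closure has order `≤ n`. -/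
def ClosedCompleteUpTo (n : ℕ) : Prop :=
  ∀ (G : Type u) [Group G] [Finite G] (p : ℕ) [Fact p.Prime] (A : Subgroup G),
    Cfsg.IsElementaryAbelian p A → p ^ 3 ≤ Nat.card ↥A →
    ∀ θ : G → Subgroup G, Cfsg.IsSolvableSignalizerFunctor p A θ →
      Nat.card ↥(Cfsg.signalizerClosure A θ) ≤ n →
      Group.IsSolvable ↥(Cfsg.signalizerClosure A θ) →
      ¬ p ∣ Nat.card ↥(Cfsg.signalizerClosure A θ) →
      ∀ a ∈ A, a ≠ 1 → Cfsg.signalizerClosure A θ ⊓ Subgroup.centralizer {a} ≤ θ a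

variable {G : Type u} [Group G]

/-- The functor induced on the quotient by a normal subgroup `N` (used when `N ⊓ A = ⊥`). -/
noncomputable def quotTheta (A N : Subgroup G) [N.Normal] (θ : G → Subgroup G) :
    G ⧸ N → Subgroup (G ⧸ N) := by
  classical
  exact fun z => if h : ∃ a ∈ A, a ≠ 1 ∧ (QuotientGroup.mk' N a = z) then
    (θ h.choose).map (QuotientGroup.mk' N) else ⊥

/-- `Δ(E)` for an abstract family `Kf`. -/
def dlt (Kf : G → Subgroup G) (E : Subgroup G) : Subgroup G :=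
  ⨅ e : {e : G // e ∈ E ∧ e ≠ 1}, Kf (e : G)

/-- `k`-balance of an abstract family with respect to `A`. -/
def KBal (p k : ℕ) (A : Subgroup G) (Kf : G → Subgroup G) : Prop :=
  ∀ D : Subgroup G, D ≤ A → p ^ k ≤ Nat.card ↥D →
    ∀ e ∈ A, e ≠ 1 → dlt Kf D ⊓ Subgroup.centralizer {e} ≤ Kf e

/-- The abstract `k`-balanced functor: generated by the `Δ(E)`, `a ∈ E ≤ A`, `|E| ≥ p^k`. -/
def thk (p k : ℕ) (A : Subgroup G) (Kf : G → Subgroup G) (a : G) : Subgroup G :=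
  ⨆ E : {E : Subgroup G // E ≤ A ∧ a ∈ E ∧ p ^ k ≤ Nat.card ↥E}, dlt Kf (E : Subgroup G)

/-- Admissible family: `A`-invariant solvable `p'`-subgroups `Kf e ≤ C(e)`. -/
structure Adm (p : ℕ) (A : Subgroup G) (Kf : G → Subgroup G) : Prop where
  le_cent : ∀ e ∈ A, e ≠ 1 → Kf e ≤ Subgroup.centralizer {e}
  pprime : ∀ e ∈ A, e ≠ 1 → ¬ p ∣ Nat.card ↥(Kf e)
  solv : ∀ e ∈ A, e ≠ 1 → Group.IsSolvable ↥(Kf e)
  inv : ∀ e ∈ A, e ≠ 1 → ∀ b ∈ A, ∀ x ∈ Kf e, b * x * b⁻¹ ∈ Kf e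

end Cfsg.Agent.Lib.H20.SigC
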