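/-
S2347 (`Sp_2n(q)`, `q` odd, `n ≥ 2`: the smallest degree of a non-linear complex irreducible representation is `(q^n - 1)/2`;
architect helper20, blueprint tools/blueprints/S2347.md).  Common definitions.

* `pA u`, `pB u` : the two halves of a vector `u : Fin n ⊕ Fin n → F` of the phase space `F^n ⊕ F^n`.
* `om u v = pA u ⬝ᵥ pB v - pA v ⬝ᵥ pB u` : the symplectic form preserved by `Matrix.symplecticGroup (Fin n) F` (through `mulVec`).
* `hop ψ u` : the Schroedinger operator on `(Fin n → F) → ℂ`, `(hop ψ u f) x = ψ (pB u ⬝ᵥ x + 2⁻¹ * (pA u ⬝ᵥ pB u)) * f (x + pA u)`;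
  `hop ψ u * hop ψ v = ψ (2⁻¹ * om u v) • hop ψ (u + v)`.
* `Yop ψ g = ∑ u, hop ψ (g *ᵥ u) * hop ψ (-u)` : the canonical intertwiner, `hop ψ (g *ᵥ v) * Yop ψ g = Yop ψ g * hop ψ v`.
* `par` : the parity operator `f ↦ f (- ·)`;  `Splus`, `Sminus` : even and odd functions.
* `sact g X = g X gᵀ` on symmetric matrices (`Symm n F` of Lib/H12/LS2Defs).
-/
import Cfsg.Agent.Lib.H12.LS2Defs

set_option autoImplicit false

namespace Cfsg.Agent.Lib.H20.Weil

open Matrix Cfsg.Agent.Lib.H12.LS2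

variable {F : Type*} [Field F] {n : ℕ}

/-- the first half of a phase-space vector -/
def pA (u : Fin n ⊕ Fin n → F) : Fin n → F := fun i => u (Sum.inl i)

/-- the second half of a phase-space vector -/
def pB (u : Fin n ⊕ Fin n → F) : Fin n → F := fun i => u (Sum.inr i)

theorem pA_apply (u : Fin n ⊕ Fin n → F) (i : Fin n) : pA u i = u (Sum.inl i) := rfl

theorem pB_apply (u : Fin n ⊕ Fin n → F) (i : Fin n) : pB u i = u (Sum.inr i) := rfl

/-- the symplectic form -/
def om (u v : Fin n ⊕ Fin n → F) : F := pA u ⬝ᵥ pB v - pA v ⬝ᵥ pB u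

/-- the Schroedinger operators -/
noncomputable def hop (ψ : AddChar F ℂ) (u : Fin n ⊕ Fin n → F) :
    Module.End ℂ ((Fin n → F) → ℂ) where
  toFun f := fun x => ψ (pB u ⬝ᵥ x + 2⁻¹ * (pA u ⬝ᵥ pB u)) * f (x + pA u)
  map_add' f f' := by
    funext x
    simp only [Pi.add_apply, mul_add]
  map_smul' c f := by
    funext x
    simp only [Pi.smul_apply, smul_eq_mul, RingHom.id_apply]
    ring

theorem hop_apply (ψ : AddChar F ℂ) (u : Fin n ⊕ Fin n → F) (f : (Fin n → F) → ℂ) (x : Fin n → F) :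
    hop ψ u f x = ψ (pB u ⬝ᵥ x + 2⁻¹ * (pA u ⬝ᵥ pB u)) * f (x + pA u) := rfl

/-- the canonical intertwiner attached to a matrix `g` -/
noncomputable def Yop [Fintype F] (ψ : AddChar F ℂ) (g : Matrix (Fin n ⊕ Fin n) (Fin n ⊕ Fin n) F) :
    Module.End ℂ ((Fin n → F) → ℂ) :=
  ∑ u : Fin n ⊕ Fin n → F, hop ψ (g *ᵥ u) * hop ψ (-u)

/-- the parity operator -/
def par : Module.End ℂ ((Fin n → F) → ℂ) where
  toFun f := fun x => f (-x)
  map_add' f f' := rfl
  map_smul' c f := rfl

theorem par_apply (f : (Fin n → F) → ℂ) (x : Fin n → F) : (par f : (Fin n → F) → ℂ) x = f (-x) := rfl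

/-- the even functions -/
def Splus (n : ℕ) (F : Type*) [Field F] : Submodule ℂ ((Fin n → F) → ℂ) where
  carrier := {f | ∀ x, f (-x) = f x}
  add_mem' := by
    intro f f' hf hf' x
    simp only [Pi.add_apply, hf x, hf' x]
  zero_mem' := fun x => rfl
  smul_mem' := by
    intro c f hf x
    simp only [Pi.smul_apply, hf x]

/-- the odd functions -/
def Sminus (n : ℕ) (F : Type*) [Field F] : Submodule ℂ ((Fin n → F) → ℂ) where
  carrier := {f | ∀ x, f (-x) = - f x}
  add_mem' := by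
    intro f f' hf hf' x
    simp only [Pi.add_apply, hf x, hf' x, neg_add]
  zero_mem' := fun x => by simp
  smul_mem' := by
    intro c f hf x
    simp only [Pi.smul_apply, hf x, smul_neg]

theorem mem_Splus (f : (Fin n → F) → ℂ) : f ∈ Splus n F ↔ ∀ x, f (-x) = f x := Iff.rfl

theorem mem_Sminus (f : (Fin n → F) → ℂ) : f ∈ Sminus n F ↔ ∀ x, f (-x) = - f x := Iff.rfl

/-- the action `X ↦ g X gᵀ` of `GL_n` on symmetric matrices -/
def sact (g : GL (Fin n) F) (X : Symm n F) : Symm n F :=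
  ⟨g.1 * (X : Matrix (Fin n) (Fin n) F) * g.1ᵀ, mul_mul_transpose_mem g.1 X.2⟩

theorem sact_val (g : GL (Fin n) F) (X : Symm n F) :
    ((sact g X : Symm n F) : Matrix (Fin n) (Fin n) F) = g.1 * (X : Matrix (Fin n) (Fin n) F) * g.1ᵀ := rfl

theorem sact_one (X : Symm n F) : sact (1 : GL (Fin n) F) X = X := by
  apply Subtype.ext
  rw [sact_val]
  simp

theorem sact_mul (g h : GL (Fin n) F) (X : Symm n F) : sact (g * h) X = sact g (sact h X) := by
  apply Subtype.ext
  rw [sact_val, sact_val, sact_val, Units.val_mul, Matrix.transpose_mul]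
  simp only [Matrix.mul_assoc]

theorem sact_add (g : GL (Fin n) F) (X X' : Symm n F) :
    sact g (X + X') = sact g X + sact g X' := by
  apply Subtype.ext
  rw [AddSubgroup.coe_add, sact_val, sact_val, sact_val, AddSubgroup.coe_add, Matrix.mul_add,
    Matrix.add_mul]

end Cfsg.Agent.Lib.H20.Weil
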