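import Mathlib

set_option autoImplicit false

namespace Cfsg.Agent.Lib.H20

/-- A nontrivial solvable group has a nontrivial abelian normal (indeed characteristic) subgroup. -/
theorem exists_normal_abelian_of_solvable {G : Type*} [Group G] [Group.IsSolvable G] [Nontrivial G] :
    ∃ A : Subgroup G, A.Characteristic ∧ A ≠ ⊥ ∧ ∀ a ∈ A, ∀ b ∈ A, a * b = b * a := by
  classical
  have hs : ∃ n : ℕ, derivedSeries G n = ⊥ := Group.IsSolvable.solvable
  set n := Nat.find hs with hn
  have hn_spec : derivedSeries G n = ⊥ := Nat.find_spec hs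
  have hn0 : n ≠ 0 := by
    intro h0
    rw [h0, derivedSeries_zero] at hn_spec
    exact top_ne_bot hn_spec
  obtain ⟨m, hm⟩ : ∃ m, n = m + 1 := Nat.exists_eq_succ_of_ne_zero hn0
  refine ⟨derivedSeries G m, inferInstance, ?_, ?_⟩
  · intro h
    have : n ≤ m := Nat.find_min' hs h
    omega
  · intro a ha b hb
    rw [hm, derivedSeries_succ, Subgroup.commutator_eq_bot_iff_le_centralizer] at hn_spec
    have := hn_spec ha
    rw [Subgroup.mem_centralizer_iff] at this
    exact (this b hb).symm

/-- A nontrivial finite solvable group has a nontrivial normal `p`-subgroup for some prime `p`. -/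
theorem exists_normal_pGroup_of_solvable {G : Type*} [Group G] [Finite G] [Group.IsSolvable G]
    [Nontrivial G] :
    ∃ (p : ℕ) (M : Subgroup G), p.Prime ∧ M.Normal ∧ M ≠ ⊥ ∧ IsPGroup p M := by
  obtain ⟨A, hAc, hA1, hAcomm⟩ := exists_normal_abelian_of_solvable (G := G)
  haveI : A.Normal := Subgroup.normal_of_characteristic A
  have hcard : Nat.card A ≠ 1 := by
    intro h
    exact hA1 (Subgroup.card_eq_one.mp h)
  obtain ⟨p, hp, hpd⟩ := Nat.exists_prime_and_dvd hcard
  haveI : Fact p.Prime := ⟨hp⟩
  let P : Sylow p A := default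
  have hPn : (P : Subgroup A).Normal := by
    constructor
    intro x hx g
    have : g * x * g⁻¹ = x := by
      apply Subtype.ext
      have := hAcomm g g.2 x x.2
      simp only [Subgroup.coe_mul, Subgroup.coe_inv]
      rw [this]; group
    rw [this]; exact hx
  haveI hPc : (P : Subgroup A).Characteristic := Sylow.characteristic_of_normal P hPn
  refine ⟨p, (P : Subgroup A).map A.subtype, hp, ConjAct.normal_of_characteristic_of_normal, ?_, ?_⟩
  · intro h
    have h2 : (P : Subgroup A) = ⊥ := by
      rw [Subgroup.map_eq_bot_iff_of_injective _ (Subgroup.subtype_injective A)] at h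
      exact h
    exact P.ne_bot_of_dvd_card hpd h2
  · exact P.isPGroup'.map A.subtype

end Cfsg.Agent.Lib.H20
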