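import Mathlib
import Cfsg.Agent.Lib.H7.BG10c

/-! # Bender–Glauberman Theorem 10.2(b): `M_σ` is a Hall `σ(M)`-subgroup of `M` and of `G` (helper20) -/

set_option autoImplicit false
set_option linter.style.haveILetI false
set_option linter.unusedSectionVars false
set_option linter.unusedVariables false

open Cfsg

namespace Cfsg.Agent.Lib.H20.BGS

open Cfsg.Agent.Lib.H16.BG
open Cfsg.Agent.Lib.H7.BG7
open Cfsg.Agent.Lib.H7.BG10
open Cfsg.Agent.Lib.H19 (IsPiCard)

universe u
variable {G : Type u} [Group G] [Finite G]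

theorem sigmaCore_eq_piCoreOf (M : Subgroup G) : sigmaCore M = piCoreOf (sigma M) M := rfl

theorem sigmaCore_le (M : Subgroup G) : sigmaCore M ≤ M := Subgroup.map_subtype_le _

theorem sigmaCore_isPiCard (M : Subgroup G) : IsPiCard (sigma M) (Nat.card (sigmaCore M)) :=
  piCoreOf_isPiCard (sigma M) M

theorem le_normalizer_sigmaCore (M : Subgroup G) :
    M ≤ Subgroup.normalizer ((sigmaCore M : Subgroup G) : Set G) :=
  le_normalizer_piCoreOf (sigma M) M

/-- For `p ∈ σ(M)`, the Sylow `p`-subgroups of `M` are Sylow in `G`, lie in `M'`. -/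
theorem sigma_core_hall (hG : IsMinSimpleOddOrder G) (hU : Uniq3 G) {M : Subgroup G}
    (hM : IsCoatom M) :
    IsPiHallOf (sigma M) (sigmaCore M) M ∧ IsPiHall (sigma M) (sigmaCore M) ∧
      ∀ N : Subgroup G, M ≤ Subgroup.normalizer (N : Set G) → IsPiHallOf (sigma M) N M →
        N = sigmaCore M := by
  have hs : Group.IsSolvable ↥M := solvable_of_coatom hG hM
  have hodd : Odd (Nat.card ↥M) := odd_card_subgroup hG M
  have hsub := alpha_subset_sigma hG hU hM
  have hrk : ∀ q : ℕ, q.Prime → q ∉ sigma M → PRankLE q 2 ↥M := by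
    intro q hq hqσ
    by_contra h
    exact hqσ (hsub ⟨hq, h⟩)
  have hkey : ∀ p : ℕ, p.Prime → p ∈ sigma M →
      ∃ P : Subgroup G, SylIn p P M ∧ SylIn p P ⊤ ∧ P ≤ ⁅M, M⁆ := by
    intro p hp hpσ
    haveI : Fact p.Prime := ⟨hp⟩
    exact sylow_le_commutator_of_sigma hG hU hM hpσ
  have hsyl : ∀ p : ℕ, p.Prime → p ∈ sigma M →
      ∃ P : Subgroup ↥M, IsPGroup p P ∧ ¬ p ∣ P.index ∧ P ≤ commutator ↥M := by
    intro p hp hpσ
    obtain ⟨P, hPM, _, hPc⟩ := hkey p hp hpσ
    haveI : Fact p.Prime := ⟨hp⟩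
    refine ⟨P.subgroupOf M, hPM.isPGroup.comap_subtype, hPM.2.2, ?_⟩
    rw [← Subgroup.map_subtype_le_map_subtype, Subgroup.map_subgroupOf_eq_of_le hPM.le,
      Subgroup.map_subtype_commutator]
    exact hPc
  obtain ⟨hHall, -, -⟩ := alpha_core_abstract hs hodd (sigma M) hrk hsyl
  have hpi : ∀ p : ℕ, p.Prime → p ∣ Nat.card ↥(sigmaCore M) → p ∈ sigma M :=
    sigmaCore_isPiCard M
  have hle : sigmaCore M ≤ M := sigmaCore_le M
  have hrel : (sigmaCore M).relIndex M = (piCore (sigma M) ↥M).index := by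
    unfold sigmaCore Subgroup.relIndex
    rw [Subgroup.subgroupOf, Subgroup.comap_map_eq_self_of_injective M.subtype_injective]
  have hH1 : ∀ p : ℕ, p.Prime → p ∈ sigma M → ¬ p ∣ (sigmaCore M).relIndex M := by
    intro p hp hpσ
    rw [hrel]
    exact hHall p hp hpσ
  refine ⟨⟨hle, hpi, hH1⟩, ⟨hpi, ?_⟩, ?_⟩
  · intro p hp hpσ hdvd
    obtain ⟨P, hPM, hPtop, _⟩ := hkey p hp hpσ
    rw [← Subgroup.relIndex_mul_index hle, Nat.Prime.dvd_mul hp] at hdvd
    rcases hdvd with h | h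
    · exact hH1 p hp hpσ h
    · haveI : Fact p.Prime := ⟨hp⟩
      exact hPtop.top_not_dvd_index (dvd_trans h (Subgroup.index_dvd_of_le hPM.le))
  · rintro N hMN ⟨hNM, hNpi, hNrel⟩
    have hNS : N ≤ sigmaCore M := le_piCoreOf hNM hMN hNpi
    apply le_antisymm hNS
    have h1 : N.relIndex (sigmaCore M) = 1 := by
      by_contra hne
      obtain ⟨p, hp, hpd⟩ := Nat.exists_prime_and_dvd hne
      have h2 : N.relIndex (sigmaCore M) ∣ Nat.card ↥(sigmaCore M) := by
        rw [← SylIn.card_mul_relIndex hNS]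
        exact dvd_mul_left _ _
      have h3 : p ∈ sigma M := hpi p hp (dvd_trans hpd h2)
      apply hNrel p hp h3
      rw [← Subgroup.relIndex_mul_relIndex N (sigmaCore M) M hNS hle]
      exact Dvd.dvd.mul_right hpd _
    exact Subgroup.relIndex_eq_one.1 h1

end Cfsg.Agent.Lib.H20.BGS
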