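import Mathlib
import Cfsg.Agent.Lib.H7.BG10c
import Cfsg.Agent.Lib.H1.Hall
import Cfsg.Agent.Lib.H15.RankOne
import Cfsg.Agent.S1403

/-! # Bender–Glauberman §12 (end) toolkit, part 1 (helper20)

Abstract lemmas: factorisation `T = K N_T(S)` when the image of `T'` in `T / K` is nilpotent and the Sylow
subgroup `S` lies in `T'`; Hall-type conjugation into a supplement of a normal Hall subgroup. -/

set_option autoImplicit false
set_option linter.style.haveILetI false
set_option linter.unusedSectionVars false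
set_option linter.unusedVariables false

open Cfsg

namespace Cfsg.Agent.Lib.H20.BGT

universe u v

section Abstract

variable {T : Type v} [Group T] [Finite T]

/-- If `T'K/K` is nilpotent and the Sylow `q`-subgroup `S` of `T` lies in `T'`, then `SK ⊴ T` and
`T = N_T(S) K`. -/
theorem normalizer_sup_eq_top_of_nilpotent_quotient {q : ℕ} [hq : Fact q.Prime]
    (K : Subgroup T) [hK : K.Normal] (S : Subgroup T) (hSq : IsPGroup q S) (hSi : ¬ q ∣ S.index)
    (hSc : S ≤ commutator T)
    (hnil : Group.IsNilpotent ↥((commutator T).map (QuotientGroup.mk' K))) :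
    Subgroup.normalizer (S : Set T) ⊔ K = ⊤ := by
  classical
  set π := QuotientGroup.mk' K with hπ
  have hπs : Function.Surjective π := QuotientGroup.mk'_surjective K
  set D : Subgroup (T ⧸ K) := (commutator T).map π with hD
  haveI hDn : D.Normal := by
    haveI : (commutator T).Normal := inferInstance
    exact Subgroup.Normal.map inferInstance π hπs
  set Sb : Subgroup (T ⧸ K) := S.map π with hSb
  have hSbD : Sb ≤ D := Subgroup.map_mono hSc
  have hSbq : IsPGroup q Sb := hSq.map π
  have hSbi : ¬ q ∣ Sb.index := fun h => hSi (h.trans (Subgroup.index_map_dvd S hπs))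
  -- the Sylow subgroup of `D`
  have hSDq : IsPGroup q (Sb.subgroupOf D) := hSbq.comap_subtype
  have hSDi : ¬ q ∣ (Sb.subgroupOf D).index := by
    intro h
    apply hSbi
    rw [← Subgroup.relIndex_mul_index hSbD]
    exact Dvd.dvd.mul_right h _
  let P : Sylow q D := hSDq.toSylow hSDi
  have hPcoe : (P : Subgroup D) = Sb.subgroupOf D := hSDq.toSylow_coe hSDi
  have hPn : (P : Subgroup D).Normal := by
    have h03 := (Group.isNilpotent_of_finite_tfae (G := D)).out 0 3
    exact (h03.1 hnil) q hq P
  haveI hPc : (P : Subgroup D).Characteristic := Sylow.characteristic_of_normal P hPn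
  have hSbn : Sb.Normal := by
    have h1 : ((P : Subgroup D).map D.subtype).Normal :=
      ConjAct.normal_of_characteristic_of_normal
    rwa [hPcoe, Subgroup.map_subgroupOf_eq_of_le hSbD] at h1
  -- pull back
  have hN : (S ⊔ K).Normal := by
    have h1 : (Sb.comap π).Normal := Subgroup.Normal.comap hSbn π
    rwa [hSb, Subgroup.comap_map_eq, hπ, QuotientGroup.ker_mk'] at h1
  haveI := hN
  have hSN : S ≤ S ⊔ K := le_sup_left
  have hSNq : IsPGroup q (S.subgroupOf (S ⊔ K)) := hSq.comap_subtype
  have hSNi : ¬ q ∣ (S.subgroupOf (S ⊔ K)).index := by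
    intro h
    apply hSi
    rw [← Subgroup.relIndex_mul_index hSN]
    exact Dvd.dvd.mul_right h _
  let P' : Sylow q ↥(S ⊔ K) := hSNq.toSylow hSNi
  have hP'coe : (P' : Subgroup ↥(S ⊔ K)) = S.subgroupOf (S ⊔ K) := hSNq.toSylow_coe hSNi
  have hfr := Sylow.normalizer_sup_eq_top P'
  rw [hP'coe, Subgroup.map_subgroupOf_eq_of_le hSN] at hfr
  rw [eq_top_iff, ← hfr]
  apply sup_le le_sup_left
  apply sup_le (Subgroup.le_normalizer.trans le_sup_left) le_sup_right

/-- Hall-type conjugation: `K ⊴ T` a normal Hall subgroup of the solvable group `T`, `T = K D`;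
a subgroup `Y` of order prime to `|K|` is conjugate into `D`. -/
theorem exists_conj_le_of_supplement [hs : Group.IsSolvable T] (K : Subgroup T) [hK : K.Normal]
    (hHall : (Nat.card K).Coprime K.index) (D : Subgroup T) (hKD : K ⊔ D = ⊤)
    (Y : Subgroup T) (hY : (Nat.card Y).Coprime (Nat.card K)) :
    ∃ t : T, Y.map (MulAut.conj t).toMonoidHom ≤ D := by
  classical
  have hcard : Nat.card T = K.index * Nat.card K := by
    rw [mul_comm]; exact (Subgroup.card_mul_index K).symm
  obtain ⟨H, hHc, hYH⟩ := Cfsg.Agent.Lib.H1.hall_contain hcard hHall.symm Y hY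
  -- Hall subgroup inside `D`
  have hDcard : Nat.card D = K.index * Nat.card ↥(K ⊓ D) := by
    have h1 : (K ⊓ D).relIndex D = K.relIndex D := by
      rw [Subgroup.inf_relIndex_right]
    have h2 : K.relIndex D = K.index := by
      rw [← Subgroup.relIndex_sup_left D K, hKD, Subgroup.relIndex_top_right]
    have h3 : Nat.card ↥(K ⊓ D) * (K ⊓ D).relIndex D = Nat.card D :=
      Cfsg.Agent.Lib.H16.BG.SylIn.card_mul_relIndex inf_le_right
    rw [← h3, h1, h2, mul_comm]
  have hcop : (K.index).Coprime (Nat.card ↥(K ⊓ D)) :=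
    (hHall.symm).coprime_dvd_right (Subgroup.card_dvd_of_le inf_le_left)
  haveI : Group.IsSolvable ↥D := inferInstance
  obtain ⟨HD, hHD⟩ := Cfsg.Agent.Lib.H1.hall_exists (G := ↥D) hDcard hcop
  have hHD' : Nat.card (HD.map D.subtype) = K.index := by
    rw [Subgroup.card_map_of_injective D.subtype_injective]; exact hHD
  obtain ⟨g, hg⟩ := Cfsg.Agent.Lib.H1.hall_conj hcard hHall.symm H (HD.map D.subtype) hHc hHD'
  refine ⟨g, ?_⟩
  have h1 : Y.map (MulAut.conj g).toMonoidHom ≤ H.map (MulAut.conj g).toMonoidHom :=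
    Subgroup.map_mono hYH
  have h2 : H.map (MulAut.conj g).toMonoidHom = HD.map D.subtype := by
    rw [← hg]
    ext x
    rw [Subgroup.mem_pointwise_smul_iff_inv_smul_mem, Cfsg.Agent.Lib.H10.mem_map_conj]
    rw [MulAut.smul_def, ← map_inv, MulAut.conj_apply, inv_inv]
  rw [h2] at h1
  exact h1.trans (Subgroup.map_subtype_le _)

end Abstract

end Cfsg.Agent.Lib.H20.BGT
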