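import Mathlib
import Cfsg.Agent.Lib.H20.BGT1
import Cfsg.Agent.Lib.H20.BGS1

/-! # Bender–Glauberman §12 (end) toolkit, part 2 (helper20): Lemma 12.17 (a), (b), (c)

Earlier frozen statements not yet available are taken as explicit hypotheses (`H1416a` etc.). -/

set_option autoImplicit false
set_option linter.style.haveILetI false
set_option linter.unusedSectionVars false
set_option linter.unusedVariables false

open Cfsg

namespace Cfsg.Agent.Lib.H20.BGT

open Cfsg.Agent.Lib.H16.BG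
open Cfsg.Agent.Lib.H7.BG7
open Cfsg.Agent.Lib.H7.BG10

universe u
variable {G : Type u} [Group G] [Finite G]

local notation:max "cj(" g ", " X ")" => Subgroup.map (MulEquiv.toMonoidHom (MulAut.conj g)) X

/-- The rank three uniqueness theorem, from S1403. -/
theorem uniq3 (hG : IsMinSimpleOddOrder G) : Uniq3 G :=
  uniq3_of_uniqueness (fun K hK h2 h3 => Cfsg.Agent.S1403.result hG K hK h2 h3)

/-- First part of S1416 (BG Lemma 12.3) as a hypothesis: the centralizer of an elementary abelian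
subgroup of order `p²` of a maximal subgroup `M` lies in `M`. -/
def H1416a (G : Type u) [Group G] : Prop :=
  ∀ (M : Subgroup G), IsCoatom M → ∀ (p : ℕ) [Fact p.Prime] (A : Subgroup G), A ≤ M →
    IsElementaryAbelian p A → Nat.card A = p ^ 2 → Subgroup.centralizer (A : Set G) ≤ M

theorem prime_ne_two' (hG : IsMinSimpleOddOrder G) {p : ℕ} [hp : Fact p.Prime] {P : Subgroup G}
    (hP : IsPGroup p P) (hP1 : P ≠ ⊥) : p ≠ 2 := by
  apply prime_ne_two hG
  obtain ⟨k, hk⟩ := IsPGroup.iff_card.1 hP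
  have hk0 : k ≠ 0 := by
    rintro rfl
    rw [pow_zero] at hk
    exact hP1 (Subgroup.eq_bot_of_card_eq P hk)
  refine dvd_trans ?_ (Subgroup.card_subgroup_dvd_card P)
  rw [hk]
  exact dvd_pow_self p hk0

/-- A noncyclic `p`-subgroup (`p` odd) contains an elementary abelian subgroup of order `p²`. -/
theorem exists_elemAb_sq_of_not_cyclic {p : ℕ} [hp : Fact p.Prime] (hp2 : p ≠ 2) {P : Subgroup G}
    (hP : IsPGroup p P) (hnc : ¬ IsCyclic P) :
    ∃ A : Subgroup G, A ≤ P ∧ IsElementaryAbelian p A ∧ Nat.card A = p ^ 2 := by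
  have hr : ¬ PRankLE p 1 ↥P := by
    intro hr
    apply hnc
    have hPt : IsPGroup p (⊤ : Subgroup ↥P) := hP.to_subgroup _
    have h1 : IsCyclic ↥(⊤ : Subgroup ↥P) :=
      Cfsg.Agent.Lib.H15.isCyclic_of_pRankLE_one hp2 hr hPt
    exact isCyclic_of_surjective (Subgroup.topEquiv : (⊤ : Subgroup ↥P) ≃* ↥P)
      (Subgroup.topEquiv : (⊤ : Subgroup ↥P) ≃* ↥P).surjective
  obtain ⟨B, hBP, hBe, hBc⟩ := exists_elemAb_of_not_pRankLE hp.out hr
  have hBp : IsPGroup p B := isPGroup_of_elemAb hBe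
  obtain ⟨j, hj⟩ := IsPGroup.iff_card.1 hBp
  have h2j : 2 ≤ j := by
    rw [hj] at hBc
    exact (Nat.pow_le_pow_iff_right hp.out.one_lt).1 hBc
  have hdvd : p ^ 2 ∣ Nat.card B := by rw [hj]; exact pow_dvd_pow p h2j
  obtain ⟨K, hK⟩ := Sylow.exists_subgroup_card_pow_prime p hdvd
  refine ⟨K.map B.subtype, (Subgroup.map_subtype_le K).trans hBP, ⟨⟨⟨?_⟩⟩, ?_⟩, ?_⟩
  · rintro ⟨_, x, hx, rfl⟩ ⟨_, y, hy, rfl⟩
    apply Subtype.ext
    have := hBe.1.is_comm.comm x y
    show B.subtype x * B.subtype y = B.subtype y * B.subtype x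
    rw [← map_mul, ← map_mul, this]
  · rintro _ ⟨x, hx, rfl⟩
    exact hBe.2 _ x.2
  · rw [Subgroup.card_map_of_injective B.subtype_injective]; exact hK

/-- For `q ∈ σ(M)`, every Sylow `q`-subgroup of `M` has its normalizer in `M` and is a Sylow
subgroup of `G`. -/
theorem normalizer_le_of_sylIn_sigma {M : Subgroup G} {q : ℕ} [Fact q.Prime] (hq : q ∈ sigma M)
    {T : Subgroup G} (hT : SylIn q T M) :
    Subgroup.normalizer (T : Set G) ≤ M ∧ SylIn q T ⊤ := by
  obtain ⟨-, -, P₀, hNP⟩ := hq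
  have hP : SylIn q ((P₀ : Subgroup M).map M.subtype) M := SylIn.of_sylow P₀
  obtain ⟨m, hm, hle⟩ := hP.exists_conj_le hT.isPGroup hT.le
  have heq : cj(m, T) = (P₀ : Subgroup M).map M.subtype := by
    apply Subgroup.eq_of_le_of_card_ge hle
    rw [Cfsg.Agent.Lib.H10.card_map_conj, hP.card_eq, hT.card_eq]
  have hN : Subgroup.normalizer (T : Set G) ≤ M := by
    intro g hg
    have h1 : m * g * m⁻¹ ∈ Subgroup.normalizer ((cj(m, T) : Subgroup G) : Set G) := by
      rw [Cfsg.Agent.Lib.H10.normalizer_map_conj]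
      exact Cfsg.Agent.Lib.H10.conj_mem_map_conj hg
    rw [heq] at h1
    have h2 : m * g * m⁻¹ ∈ M := hNP h1
    have h3 : m⁻¹ * (m * g * m⁻¹) * m ∈ M := M.mul_mem (M.mul_mem (M.inv_mem hm) h2) hm
    have h4 : m⁻¹ * (m * g * m⁻¹) * m = g := by group
    rwa [h4] at h3
  exact ⟨hN, sylIn_top_of_normalizer_le hT hN⟩

/-- **BG Corollary 12.10(d)** (third part of S1420) from 10.1 and 12.3: for `p ∈ σ(M)`, the normalizer
of a noncyclic `p`-subgroup of `M` lies in `M`. -/
theorem normalizer_le_of_not_cyclic (hG : IsMinSimpleOddOrder G) (h16 : H1416a G) {M : Subgroup G}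
    (hM : IsCoatom M) {p : ℕ} [Fact p.Prime] (hp : p ∈ sigma M) {P : Subgroup G} (hPp : IsPGroup p P)
    (hPM : P ≤ M) (hnc : ¬ IsCyclic P) : Subgroup.normalizer (P : Set G) ≤ M := by
  have hP1 : P ≠ ⊥ := by
    rintro rfl
    exact hnc inferInstance
  have hp2 : p ≠ 2 := prime_ne_two' hG hPp hP1
  obtain ⟨A, hAP, hAe, hAc⟩ := exists_elemAb_sq_of_not_cyclic hp2 hPp hnc
  have hCA : Subgroup.centralizer (A : Set G) ≤ M := h16 M hM p A (hAP.trans hPM) hAe hAc
  have hCP : Subgroup.centralizer (P : Set G) ≤ M :=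
    (Subgroup.centralizer_le (by exact_mod_cast hAP)).trans hCA
  rw [(sigma_fusion hG (uniq3 hG) hM hp hPp hP1 hPM).2]
  exact sup_le inf_le_left hCP

/-- Subgroups of a cyclic subgroup are normalized by its normalizer. -/
theorem normalizer_le_normalizer_of_le_cyclic {S X : Subgroup G} (hS : IsCyclic S) (hXS : X ≤ S) :
    Subgroup.normalizer (S : Set G) ≤ Subgroup.normalizer (X : Set G) := by
  obtain ⟨s, hs⟩ := hS.exists_generator
  apply Cfsg.Agent.Lib.H16.le_normalizer_of_conj_mem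
  intro g hg x hx
  have hsg : g * (s : G) * g⁻¹ ∈ S := ((Subgroup.mem_normalizer_iff.1 hg) (s : G)).1 s.2
  obtain ⟨k, hk⟩ := Subgroup.mem_zpowers_iff.1 (hs ⟨_, hsg⟩)
  have hk' : (s : G) ^ k = g * (s : G) * g⁻¹ := by
    have := congrArg Subtype.val hk
    simpa using this
  obtain ⟨j, hj⟩ := Subgroup.mem_zpowers_iff.1 (hs ⟨x, hXS hx⟩)
  have hj' : (s : G) ^ j = x := by
    have := congrArg Subtype.val hj
    simpa using this
  have h1 : g * x * g⁻¹ = x ^ k := by
    rw [← hj', ← zpow_mul, mul_comm, zpow_mul, hk']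
    rw [← MulAut.conj_apply, ← MulAut.conj_apply, map_zpow]
  rw [h1]
  exact Subgroup.zpow_mem _ hx k

/-- **BG Lemma 12.17 (a), (b), (c)** (S1424). -/
theorem sigma_subgroup_embedding (hG : IsMinSimpleOddOrder G) (h16 : H1416a G) {M : Subgroup G}
    (hM : IsCoatom M) {q : ℕ} [Fact q.Prime] (hq : q ∈ sigma M) {X : Subgroup G}
    (hXq : IsPGroup q X) (hX1 : X ≠ ⊥) (hXM : X ≤ M) {Mstar : Subgroup G} (hMs : IsCoatom Mstar)
    (hne : Mstar ≠ M) (hNX : Subgroup.normalizer (X : Set G) ≤ Mstar) {S : Subgroup G}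
    (hS : SylIn q S (M ⊓ Mstar)) (hXS : X ≤ S) :
    (∀ g : G, Mstar ≠ cj(g, M)) ∧ Subgroup.normalizer (S : Set G) ≤ M ∧ SylIn q S Mstar := by
  have hU := uniq3 hG
  have hXMs : X ≤ Mstar := Subgroup.le_normalizer.trans hNX
  have hCX : Subgroup.centralizer (X : Set G) ≤ Mstar :=
    (Subgroup.centralizer_le_normalizer _).trans hNX
  have hSM : S ≤ M := hS.le.trans inf_le_left
  have hb : Subgroup.normalizer (S : Set G) ≤ M := by
    by_cases hc : IsCyclic S
    · have h1 : Subgroup.normalizer (S : Set G) ≤ Mstar :=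
        (normalizer_le_normalizer_of_le_cyclic hc hXS).trans hNX
      have h2 : SylIn q S M :=
        hS.of_normalizer_le inf_le_left (le_inf inf_le_left (inf_le_right.trans h1))
      exact (normalizer_le_of_sylIn_sigma hq h2).1
    · exact normalizer_le_of_not_cyclic hG h16 hM hq hS.isPGroup hSM hc
  refine ⟨?_, hb, ?_⟩
  · intro g hg
    have h1 : cj(g⁻¹, X) ≤ M := by
      rw [map_conj_le_iff, inv_inv, ← hg]; exact hXMs
    obtain ⟨m, hm, c, hc, hgmc⟩ := (sigma_fusion hG hU hM hq hXq hX1 hXM).1 g⁻¹ h1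
    have hg' : g = c⁻¹ * m⁻¹ := by
      have := congrArg (fun t => t⁻¹) hgmc
      simpa using this
    have h2 : cj(g, M) = cj(c⁻¹, M) := by
      rw [hg', ← Cfsg.Agent.Lib.H10.map_conj_map_conj, map_conj_eq_self_of_mem (M.inv_mem hm)]
    have h3 : cj(c, Mstar) = M := by
      rw [hg, h2, Cfsg.Agent.Lib.H10.map_conj_map_conj, mul_inv_cancel,
        Cfsg.Agent.Lib.H10.map_conj_one]
    have h4 : cj(c, Mstar) = Mstar := map_conj_eq_self_of_mem (hCX hc)
    exact hne (h4.symm.trans h3)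
  · exact hS.of_normalizer_le inf_le_right (le_inf (inf_le_right.trans hb) inf_le_left)

end Cfsg.Agent.Lib.H20.BGT
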