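import Mathlib
import Cfsg.Agent.Lib.H20.BGT2

/-! # Bender–Glauberman §12 (end) toolkit, part 3 (helper20): preparation for Lemma 12.18 -/

set_option autoImplicit false
set_option linter.style.haveILetI false
set_option linter.unusedSectionVars false
set_option linter.unusedVariables false

open Cfsg

namespace Cfsg.Agent.Lib.H20.BGT

open Cfsg.Agent.Lib.H16.BG
open Cfsg.Agent.Lib.H7.BG7
open Cfsg.Agent.Lib.H7.BG10
open Cfsg.Agent.Lib.H19 (IsPiCard)

universe u v
variable {G : Type u} [Group G] [Finite G]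

local notation:max "cj(" g ", " X ")" => Subgroup.map (MulEquiv.toMonoidHom (MulAut.conj g)) X

section Abstract

variable {T : Type v} [Group T] [Finite T]

/-- A `π`-subgroup lies in `O_π(T)` when the latter is a Hall subgroup. -/
theorem le_piCore_of_hall (π : Set ℕ)
    (hHall : ∀ p : ℕ, p.Prime → p ∈ π → ¬ p ∣ (piCore π T).index) {Y : Subgroup T}
    (hY : IsPiCard π (Nat.card Y)) : Y ≤ piCore π T := by
  have hK := Cfsg.Agent.Lib.H19.piCore_isPiCard (G := T) π
  have hle : piCore π T ≤ Y ⊔ piCore π T := le_sup_right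
  have hcard : IsPiCard π (Nat.card (Y ⊔ piCore π T : Subgroup T)) :=
    Cfsg.Agent.Lib.H19.isPiCard_of_dvd (Cfsg.Agent.Lib.H19.card_sup_dvd_mul' Y (piCore π T))
      (Cfsg.Agent.Lib.H19.isPiCard_mul hY hK)
  have h1 : (piCore π T).relIndex (Y ⊔ piCore π T) = 1 := by
    by_contra hne
    obtain ⟨p, hp, hpd⟩ := Nat.exists_prime_and_dvd hne
    have h2 : (piCore π T).relIndex (Y ⊔ piCore π T) ∣ Nat.card (Y ⊔ piCore π T : Subgroup T) := by
      rw [← SylIn.card_mul_relIndex hle]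
      exact dvd_mul_left _ _
    have h3 : p ∈ π := hcard p hp (hpd.trans h2)
    apply hHall p hp h3
    rw [← Subgroup.relIndex_mul_index hle]
    exact Dvd.dvd.mul_right hpd _
  exact le_sup_left.trans (Subgroup.relIndex_eq_one.1 h1)

end Abstract

/-- A `σ(M)`-subgroup of `M` lies in `M_σ`. -/
theorem le_sigmaCore_of_isPiCard (hG : IsMinSimpleOddOrder G) {M : Subgroup G} (hM : IsCoatom M)
    {Y : Subgroup G} (hYM : Y ≤ M) (hY : IsPiCard (sigma M) (Nat.card Y)) : Y ≤ sigmaCore M := by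
  obtain ⟨⟨-, -, hH⟩, -, -⟩ := Cfsg.Agent.Lib.H20.BGS.sigma_core_hall hG (uniq3 hG) hM
  have hrel : (sigmaCore M).relIndex M = (piCore (sigma M) ↥M).index := by
    unfold sigmaCore Subgroup.relIndex
    rw [Subgroup.subgroupOf, Subgroup.comap_map_eq_self_of_injective M.subtype_injective]
  have hc : Nat.card (Y.subgroupOf M) = Nat.card Y :=
    Nat.card_congr (Subgroup.subgroupOfEquivOfLe hYM).toEquiv
  have h1 : Y.subgroupOf M ≤ piCore (sigma M) ↥M :=
    le_piCore_of_hall (sigma M) (fun p hp hpσ => by rw [← hrel]; exact hH p hp hpσ)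
      (by rw [hc]; exact hY)
  have h2 := Subgroup.map_mono (f := M.subtype) h1
  rwa [Subgroup.map_subgroupOf_eq_of_le hYM] at h2

/-- `σ(M)` and `α(M*)` are disjoint when `M*` is not conjugate to `M`. -/
theorem not_mem_alpha_of_mem_sigma (hG : IsMinSimpleOddOrder G) {M Mstar : Subgroup G}
    (hM : IsCoatom M) (hMs : IsCoatom Mstar) (hnc : ∀ g : G, Mstar ≠ cj(g, M)) {r : ℕ}
    (hr : r ∈ sigma M) : r ∉ alpha Mstar := by
  intro hrα
  have hU := uniq3 hG
  haveI : Fact r.Prime := ⟨hr.1⟩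
  have hrσ' : r ∈ sigma Mstar := alpha_subset_sigma hG hU hMs hrα
  obtain ⟨T, hT⟩ := SylIn.exists_sylIn r Mstar
  have hrT : ¬ PRankLE r 2 ↥T := fun h => hrα.2 (pRankLE_of_sylIn hT h)
  have hTt : T ≠ ⊤ := by
    rintro rfl
    exact hMs.1 (top_le_iff.1 hT.le)
  obtain ⟨M', ⟨hM'c, hTM'⟩, huniq⟩ := hU T hTt (fun h => hrT (h r hr.1))
  have hTtop : SylIn r T ⊤ := (normalizer_le_of_sylIn_sigma hrσ' hT).2
  obtain ⟨P, hP⟩ := SylIn.exists_sylIn r M
  have hPtop : SylIn r P ⊤ := (normalizer_le_of_sylIn_sigma hr hP).2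
  obtain ⟨g, -, hle⟩ := hTtop.exists_conj_le hPtop.isPGroup le_top
  have heq : cj(g, P) = T := by
    apply Subgroup.eq_of_le_of_card_ge hle
    rw [Cfsg.Agent.Lib.H10.card_map_conj, hPtop.card_eq, hTtop.card_eq]
  have h1 : T ≤ cj(g, M) := by rw [← heq]; exact Subgroup.map_mono hP.le
  have h2 : cj(g, M) = M' := huniq _ ⟨isCoatom_map_conj hM g, h1⟩
  have h3 : Mstar = M' := huniq _ ⟨hMs, hT.le⟩
  exact hnc g (h3.trans h2.symm)

end Cfsg.Agent.Lib.H20.BGT
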