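import Mathlib

set_option autoImplicit false

/-!
# Conjugacy of subgroups of the same order: basic API
-/

namespace Cfsg.Agent.Lib.H20.SOC

open Pointwise

universe u

variable {G : Type*} [Group G]

/-- The conjugate `g K g⁻¹`. -/
abbrev cj (g : G) (K : Subgroup G) : Subgroup G := K.map (MulAut.conj g).toMonoidHom

theorem mem_cj {g x : G} {K : Subgroup G} : x ∈ cj g K ↔ g⁻¹ * x * g ∈ K := by
  constructor
  · rintro ⟨y, hy, rfl⟩
    have : g⁻¹ * ((MulAut.conj g).toMonoidHom y) * g = y := by
      simp [MulAut.conj_apply, mul_assoc]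
    rw [this]; exact hy
  · intro h
    refine ⟨g⁻¹ * x * g, h, ?_⟩
    simp [MulAut.conj_apply, mul_assoc]

theorem cj_eq_smul (g : G) (K : Subgroup G) : cj g K = MulAut.conj g • K := rfl

theorem cj_mul (g h : G) (K : Subgroup G) : cj (g * h) K = cj g (cj h K) := by
  ext x
  simp only [mem_cj]
  rw [show h⁻¹ * (g⁻¹ * x * g) * h = (g * h)⁻¹ * x * (g * h) by group]

theorem cj_one (K : Subgroup G) : cj 1 K = K := by
  ext x; simp [mem_cj]

theorem cj_inv_cj (g : G) (K : Subgroup G) : cj g⁻¹ (cj g K) = K := by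
  rw [← cj_mul, inv_mul_cancel, cj_one]

theorem cj_cj_inv (g : G) (K : Subgroup G) : cj g (cj g⁻¹ K) = K := by
  rw [← cj_mul, mul_inv_cancel, cj_one]

theorem cj_mono (g : G) {K L : Subgroup G} (h : K ≤ L) : cj g K ≤ cj g L :=
  Subgroup.map_mono h

theorem card_cj (g : G) (K : Subgroup G) : Nat.card (cj g K) = Nat.card K :=
  Subgroup.card_map_of_injective (MulAut.conj g).injective

theorem cj_sup (g : G) (K L : Subgroup G) : cj g (K ⊔ L) = cj g K ⊔ cj g L :=
  Subgroup.map_sup K L _

theorem cj_eq_self_of_mem_normalizer {g : G} {K : Subgroup G}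
    (hg : g ∈ Subgroup.normalizer (K : Set G)) : cj g K = K := by
  ext x
  rw [mem_cj]
  have hg' : g⁻¹ ∈ Subgroup.normalizer (K : Set G) := Subgroup.inv_mem _ hg
  rw [Subgroup.mem_normalizer_iff] at hg'
  have := hg' x
  rw [inv_inv] at this
  exact this.symm

theorem cj_eq_self_of_normal (g : G) (K : Subgroup G) [hK : K.Normal] : cj g K = K := by
  apply cj_eq_self_of_mem_normalizer
  rw [Subgroup.normalizer_eq_top_iff.mpr hK]
  exact Subgroup.mem_top g

theorem cj_inf_normal (g : G) (K N : Subgroup G) [hN : N.Normal] : cj g (K ⊓ N) = cj g K ⊓ N := by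
  ext x
  simp only [mem_cj, Subgroup.mem_inf]
  constructor
  · rintro ⟨h1, h2⟩
    refine ⟨h1, ?_⟩
    have := hN.conj_mem _ h2 g
    have e : g * (g⁻¹ * x * g) * g⁻¹ = x := by group
    rw [e] at this; exact this
  · rintro ⟨h1, h2⟩
    refine ⟨h1, ?_⟩
    have := hN.conj_mem _ h2 g⁻¹
    rw [inv_inv] at this; exact this

theorem isPGroup_cj {p : ℕ} (g : G) {K : Subgroup G} (hK : IsPGroup p K) : IsPGroup p (cj g K) :=
  hK.map _

/-- conjugation by an element centralizing `K` fixes `K` -/
theorem cj_eq_self_of_commute {g : G} {K : Subgroup G} (h : ∀ x ∈ K, g * x = x * g) :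
    cj g K = K := by
  apply cj_eq_self_of_mem_normalizer
  rw [Subgroup.mem_normalizer_iff]
  intro x
  constructor
  · intro hx
    have : g * x * g⁻¹ = x := by rw [h x hx]; group
    rw [this]; exact hx
  · intro hx
    have h1 := h _ hx
    have h2 : g * x = x * g := by
      have : g * (g * x * g⁻¹) = g * x * g⁻¹ * g := h1
      have e1 : g * x * g⁻¹ * g = g * x := by group
      rw [e1] at this
      have e2 : g * (g * x * g⁻¹) = g * (g * x) * g⁻¹ := by group
      rw [e2] at this
      have e3 : g * (g * x) = g * x * g := by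
        calc g * (g * x) = g * (g * x) * g⁻¹ * g := by group
          _ = g * x * g := by rw [this]
      exact mul_left_cancel (a := g) (by rw [e3]; group)
    have : g * x * g⁻¹ = x := by rw [h2]; group
    rw [this] at hx; exact hx

/-- In a finite cyclic group, subgroups of the same order are equal. -/
theorem eq_of_card_eq_of_isCyclic {C : Type*} [Group C] [Finite C] [IsCyclic C]
    (A B : Subgroup C) (h : Nat.card A = Nat.card B) : A = B := by
  obtain ⟨a, ha⟩ := (A.isCyclic_iff_exists_zpowers_eq_top).mp inferInstance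
  obtain ⟨b, hb⟩ := (B.isCyclic_iff_exists_zpowers_eq_top).mp inferInstance
  obtain ⟨c, hc⟩ := IsCyclic.exists_generator (α := C)
  have hoa : orderOf a = Nat.card A := by rw [← ha, Nat.card_zpowers]
  have hob : orderOf b = Nat.card B := by rw [← hb, Nat.card_zpowers]
  -- both are the set of solutions of `x ^ d = 1`
  have key : ∀ (X : Subgroup C) (x : C), Subgroup.zpowers x = X →
      ∀ y : C, y ^ Nat.card X = 1 → y ∈ X := by
    intro X x hx y hy
    classical
    haveI := Fintype.ofFinite C
    set d := Nat.card X with hd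
    have hdpos : 0 < d := Nat.card_pos
    have hle : (Finset.univ.filter fun z : C => z ^ d = 1).card ≤ d :=
      IsCyclic.card_pow_eq_one_le hdpos
    have hsub : (Finset.univ.filter fun z : C => z ∈ X) ⊆ Finset.univ.filter fun z : C => z ^ d = 1 := by
      intro z hz
      rw [Finset.mem_filter] at hz ⊢
      refine ⟨hz.1, ?_⟩
      have h1 : (⟨z, hz.2⟩ : X) ^ Nat.card X = 1 := pow_card_eq_one'
      have h2 := congrArg Subtype.val h1
      rw [Subgroup.coe_pow, Subgroup.coe_one] at h2
      exact h2
    have hcardX : (Finset.univ.filter fun z : C => z ∈ X).card = d := by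
      rw [hd, Nat.card_eq_fintype_card, Fintype.card_subtype]
    have heq : (Finset.univ.filter fun z : C => z ∈ X) = Finset.univ.filter fun z : C => z ^ d = 1 :=
      Finset.eq_of_subset_of_card_le hsub (by rw [hcardX]; exact hle)
    have : y ∈ Finset.univ.filter fun z : C => z ^ d = 1 := by
      rw [Finset.mem_filter]; exact ⟨Finset.mem_univ _, hy⟩
    rw [← heq, Finset.mem_filter] at this
    exact this.2
  apply le_antisymm
  · intro y hy
    apply key B b hb
    rw [← h]
    have h1 : (⟨y, hy⟩ : A) ^ Nat.card A = 1 := pow_card_eq_one'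
    have h2 := congrArg Subtype.val h1
    rw [Subgroup.coe_pow, Subgroup.coe_one] at h2
    exact h2
  · intro y hy
    apply key A a ha
    rw [h]
    have h1 : (⟨y, hy⟩ : B) ^ Nat.card B = 1 := pow_card_eq_one'
    have h2 := congrArg Subtype.val h1
    rw [Subgroup.coe_pow, Subgroup.coe_one] at h2
    exact h2

/-- `p`-subgroups of the same order are conjugate, for every prime `p`. -/
def PConj (G : Type*) [Group G] : Prop :=
  ∀ p : ℕ, p.Prime → ∀ H K : Subgroup G, IsPGroup p H → IsPGroup p K → Nat.card H = Nat.card K →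
    ∃ g : G, K = cj g H

/-- Sylow `p`-subgroups are cyclic for all primes `p ≠ r`. -/
def CycExc (r : ℕ) (G : Type*) [Group G] : Prop :=
  ∀ p : ℕ, p.Prime → p ≠ r → ∀ P : Sylow p G, IsCyclic P

/-- Any two subgroups of the same order are conjugate. -/
def SameOrderConj (G : Type*) [Group G] : Prop :=
  ∀ H K : Subgroup G, Nat.card H = Nat.card K → ∃ g : G, K = cj g H

/-- In a finite group with cyclic Sylow subgroups, `p`-subgroups of the same order are
conjugate. -/
theorem pconj_of_isZGroup [Finite G] [IsZGroup G] : PConj G := by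
  intro p hp H K hH hK hcard
  haveI : Fact p.Prime := ⟨hp⟩
  obtain ⟨P, hHP⟩ := hH.exists_le_sylow
  obtain ⟨Q, hKQ⟩ := hK.exists_le_sylow
  obtain ⟨g, hg⟩ := MulAction.exists_smul_eq G P Q
  have hg' : (Q : Subgroup G) = cj g (P : Subgroup G) := by
    rw [← hg]; rfl
  refine ⟨g, ?_⟩
  have h1 : cj g H ≤ (Q : Subgroup G) := by rw [hg']; exact cj_mono g hHP
  have h2 : (cj g H).subgroupOf (Q : Subgroup G) = K.subgroupOf (Q : Subgroup G) := by
    apply eq_of_card_eq_of_isCyclic
    rw [Nat.card_congr (Subgroup.subgroupOfEquivOfLe h1).toEquiv,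
      Nat.card_congr (Subgroup.subgroupOfEquivOfLe hKQ).toEquiv, card_cj, hcard]
  rw [Subgroup.subgroupOf_inj, inf_eq_left.mpr h1, inf_eq_left.mpr hKQ] at h2
  exact h2.symm

end Cfsg.Agent.Lib.H20.SOC
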