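import Mathlib
import Cfsg.Agent.Lib.H20.BGT3
import Cfsg.Agent.Lib.H7.BG10f

/-! # Bender–Glauberman §12 (end) toolkit, part 4 (helper20): supplements `M* = M*_α (M ∩ M*)`,
`M* = M*_σ (M ∩ M*)` (extended Lemma 12.17) -/

set_option autoImplicit false
set_option linter.style.haveILetI false
set_option linter.unusedSectionVars false
set_option linter.unusedVariables false

open Cfsg

namespace Cfsg.Agent.Lib.H20.BGT

open Cfsg.Agent.Lib.H16.BG
open Cfsg.Agent.Lib.H7.BG7
open Cfsg.Agent.Lib.H7.BG10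
open Cfsg.Agent.Lib.H19 (IsPiCard)

universe u v
variable {G : Type u} [Group G] [Finite G]

open scoped Pointwise

local notation:max "cj(" g ", " X ")" => Subgroup.map (MulEquiv.toMonoidHom (MulAut.conj g)) X

section Abstract

variable {T : Type v} [Group T] [Finite T]

/-- Frattini argument for a relative Sylow subgroup of a normal subgroup. -/
theorem frattini_rel {q : ℕ} [hq : Fact q.Prime] (W : Subgroup T) [hW : W.Normal] (A : Subgroup T)
    (hAW : A ≤ W) (hAq : IsPGroup q A) (hAi : ¬ q ∣ A.relIndex W) :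
    Subgroup.normalizer (A : Set T) ⊔ W = ⊤ := by
  have hq' : IsPGroup q (A.subgroupOf W) := hAq.comap_subtype
  let P' : Sylow q ↥W := hq'.toSylow hAi
  have hP'coe : (P' : Subgroup ↥W) = A.subgroupOf W := hq'.toSylow_coe hAi
  have hfr := Sylow.normalizer_sup_eq_top P'
  rwa [hP'coe, Subgroup.map_subgroupOf_eq_of_le hAW] at hfr

/-- All Sylow `q`-subgroups lie in `T'` if one does. -/
theorem le_commutator_of_sylow {q : ℕ} [hq : Fact q.Prime] {P S : Subgroup T} (hP : IsPGroup q P)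
    (hPi : ¬ q ∣ P.index) (hPc : P ≤ commutator T) (hS : IsPGroup q S) (hSi : ¬ q ∣ S.index) :
    S ≤ commutator T := by
  obtain ⟨g, hg⟩ := MulAction.exists_smul_eq T (hP.toSylow hPi) (hS.toSylow hSi)
  have h1 : S = MulAut.conj g • P := by
    have := congrArg (fun Q : Sylow q T => (Q : Subgroup T)) hg
    simp only [Sylow.coe_subgroup_smul, IsPGroup.toSylow_coe] at this
    exact this.symm
  intro x hx
  rw [h1, Subgroup.mem_pointwise_smul_iff_inv_smul_mem] at hx
  have h2 : (MulAut.conj g)⁻¹ • x ∈ commutator T := hPc hx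
  rw [MulAut.smul_def, ← map_inv, MulAut.conj_apply, inv_inv] at h2
  have h3 := (inferInstance : (commutator T).Normal).conj_mem _ h2 g
  have h4 : g * (g⁻¹ * x * g) * g⁻¹ = x := by group
  rwa [h4] at h3

/-- Hall coprimality from "prime divisors in `π`, no prime of `π` divides the index". -/
theorem coprime_card_index_of_hall {π : Set ℕ} {K : Subgroup T} (h1 : IsPiCard π (Nat.card K))
    (h2 : ∀ p : ℕ, p.Prime → p ∈ π → ¬ p ∣ K.index) : (Nat.card K).Coprime K.index :=
  Nat.coprime_of_dvd (fun p hp hpK => h2 p hp (h1 p hp hpK))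

end Abstract

/-- Conjugation into a supplement, ambient version. -/
theorem exists_conj_le_of_supplement_amb {N : Subgroup G} (hs : Group.IsSolvable N)
    (K : Subgroup ↥N) [K.Normal] (hHall : (Nat.card K).Coprime K.index) (D : Subgroup G)
    (hKD : K ⊔ D.subgroupOf N = ⊤) {Y : Subgroup G} (hYN : Y ≤ N)
    (hY : (Nat.card Y).Coprime (Nat.card K)) : ∃ h ∈ N, cj(h, Y) ≤ D := by
  have hc : Nat.card (Y.subgroupOf N) = Nat.card Y :=
    Nat.card_congr (Subgroup.subgroupOfEquivOfLe hYN).toEquiv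
  obtain ⟨t, ht⟩ := exists_conj_le_of_supplement K hHall (D.subgroupOf N) hKD (Y.subgroupOf N)
    (by rw [hc]; exact hY)
  refine ⟨(t : G), t.2, ?_⟩
  rintro _ ⟨y, hy, rfl⟩
  have h1 : (MulAut.conj t).toMonoidHom ⟨y, hYN hy⟩ ∈ D.subgroupOf N :=
    ht ⟨⟨y, hYN hy⟩, by rw [SetLike.mem_coe, Subgroup.mem_subgroupOf]; exact hy, rfl⟩
  rw [Subgroup.mem_subgroupOf] at h1
  simpa using h1

/-- `N_{↥N}(S ∩ N) ≤ N_G(S)` for `S ≤ N`. -/
theorem coe_mem_normalizer_of_mem_normalizer_subgroupOf {N S : Subgroup G} (hSN : S ≤ N) {t : ↥N}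
    (ht : t ∈ Subgroup.normalizer ((S.subgroupOf N : Subgroup ↥N) : Set ↥N)) :
    (t : G) ∈ Subgroup.normalizer (S : Set G) := by
  rw [Subgroup.mem_normalizer_iff] at ht ⊢
  intro h
  constructor
  · intro hh
    have := (ht ⟨h, hSN hh⟩).1 (by rw [Subgroup.mem_subgroupOf]; exact hh)
    rw [Subgroup.mem_subgroupOf] at this
    simpa using this
  · intro hh
    have hhN : h ∈ N := by
      have h1 : (t : G)⁻¹ * ((t : G) * h * (t : G)⁻¹) * (t : G) ∈ N :=
        N.mul_mem (N.mul_mem (N.inv_mem t.2) (hSN hh)) t.2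
      have h2 : (t : G)⁻¹ * ((t : G) * h * (t : G)⁻¹) * (t : G) = h := by group
      rwa [h2] at h1
    have := (ht ⟨h, hhN⟩).2 (by rw [Subgroup.mem_subgroupOf]; simpa using hh)
    rwa [Subgroup.mem_subgroupOf] at this

/-- **Extended 12.17, case `q ∈ σ(M*)`**: `M* = M*_α (M ∩ M*)` in supplement form. -/
theorem supplement_alpha (hG : IsMinSimpleOddOrder G) {M Mstar : Subgroup G}
    (hMs : IsCoatom Mstar) {q : ℕ} [Fact q.Prime] (hq : q ∈ sigma Mstar) {S : Subgroup G}
    (hS : SylIn q S Mstar) (hNS : Subgroup.normalizer (S : Set G) ≤ M) :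
    piCore (alpha Mstar) ↥Mstar ⊔ (M ⊓ Mstar).subgroupOf Mstar = ⊤ := by
  have hU := uniq3 hG
  obtain ⟨-, -, -, -, hnil⟩ := alpha_core_hall hG hU hMs
  obtain ⟨P, hPq, hPi, hPc⟩ := exists_sylow_le_commutator_type hG hU hMs hq.1 hq
  have hSq : IsPGroup q (S.subgroupOf Mstar) := hS.isPGroup.comap_subtype
  have hSi : ¬ q ∣ (S.subgroupOf Mstar).index := hS.2.2
  have hSc : S.subgroupOf Mstar ≤ commutator ↥Mstar := le_commutator_of_sylow hPq hPi hPc hSq hSi
  have h1 := normalizer_sup_eq_top_of_nilpotent_quotient (piCore (alpha Mstar) ↥Mstar)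
    (S.subgroupOf Mstar) hSq hSi hSc hnil
  rw [eq_top_iff, ← h1]
  apply sup_le _ le_sup_left
  refine le_trans ?_ le_sup_right
  intro t ht
  rw [Subgroup.mem_subgroupOf]
  exact ⟨hNS (coe_mem_normalizer_of_mem_normalizer_subgroupOf hS.le ht), t.2⟩

end Cfsg.Agent.Lib.H20.BGT
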