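import Mathlib
import Cfsg.Agent.Lib.H20.BGT4

/-! # Bender–Glauberman §12 (end) toolkit, part 5 (helper20): case `q ∉ σ(M*)` of extended 12.17 -/

set_option autoImplicit false
set_option linter.style.haveILetI false
set_option linter.unusedSectionVars false
set_option linter.unusedVariables false

open Cfsg

namespace Cfsg.Agent.Lib.H20.BGT

open Cfsg.Agent.Lib.H16.BG
open Cfsg.Agent.Lib.H7.BG7
open Cfsg.Agent.Lib.H7.BG10
open Cfsg.Agent.Lib.H19 (IsPiCard)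

universe u v
variable {G : Type u} [Group G] [Finite G]

local notation:max "cj(" g ", " X ")" => Subgroup.map (MulEquiv.toMonoidHom (MulAut.conj g)) X

/-- S1417 (BG Theorem 12.5) as a hypothesis. -/
def H1417 (G : Type u) [Group G] : Prop :=
  ∀ (M : Subgroup G) (hM : IsCoatom M) (p : ℕ) [Fact p.Prime] (hp : p ∈ Cfsg.tau2 M) (A : Subgroup G)
    (hA : (A ≤ M ∧ Cfsg.IsElementaryAbelian p A ∧ Nat.card A = p ^ 2)),
    Group.IsNilpotent (Cfsg.sigmaCore M) ∧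
      (∀ P : Sylow p M, IsMulCommutative (P : Subgroup M) ∧
        (A ≤ (P : Subgroup M).map M.subtype →
          (∀ x ∈ (P : Subgroup M).map M.subtype, x ^ p = 1 ↔ x ∈ A) ∧
          ¬ Subgroup.normalizer ((((P : Subgroup M).map M.subtype : Subgroup G)) : Set G) ≤ M)) ∧
      M ≤ Subgroup.normalizer ((Cfsg.sigmaCore M ⊔ A : Subgroup G) : Set G) ∧
      Cfsg.sigmaCore M ⊓ Subgroup.centralizer (A : Set G) = ⊥ ∧
      (∀ Mstar : Subgroup G, IsCoatom Mstar → Mstar ≠ M → A ≤ Mstar → Cfsg.sigmaCore M ⊓ Mstar = ⊥) ∧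
      ∃ A₁ : Subgroup G, A₁ ≤ A ∧ Nat.card A₁ = p ∧ Cfsg.sigmaCore M ⊓ Subgroup.centralizer (A₁ : Set G) = ⊥

theorem not_isCyclic_of_elemAb_sq {p : ℕ} [hp : Fact p.Prime] {A : Subgroup G}
    (hAe : IsElementaryAbelian p A) (hAc : Nat.card A = p ^ 2) : ¬ IsCyclic A := by
  intro hc
  obtain ⟨g, hg⟩ := hc.exists_generator
  have h1 : orderOf g = Nat.card A := orderOf_eq_card_of_forall_mem_zpowers hg
  have h2 : g ^ p = 1 := Subtype.ext (by rw [Subgroup.coe_pow]; exact hAe.2 _ g.2)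
  have h3 : orderOf g ∣ p := orderOf_dvd_of_pow_eq_one h2
  rw [h1, hAc] at h3
  have h4 := Nat.le_of_dvd hp.out.pos h3
  have h5 : p < p ^ 2 := by
    have := hp.out.one_lt
    nlinarith
  omega

theorem mem_tau2_of_elemAb_sq (hG : IsMinSimpleOddOrder G) {M : Subgroup G} (hM : IsCoatom M)
    {p : ℕ} [hp : Fact p.Prime] (hpσ : p ∉ sigma M) {A : Subgroup G} (hAM : A ≤ M)
    (hAe : IsElementaryAbelian p A) (hAc : Nat.card A = p ^ 2) : p ∈ tau2 M := by
  refine ⟨hp.out, hpσ, ?_, ?_⟩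
  · by_contra h
    exact hpσ (alpha_subset_sigma hG (uniq3 hG) hM ⟨hp.out, h⟩)
  · apply not_pRankLE_of_elemAb hAM hAe
    rw [hAc, pow_one]
    have := hp.out.one_lt
    nlinarith

/-- **Extended 12.17, case `q ∉ σ(M*)`**: `M*_σ` is nilpotent and `M* = M*_σ (M ∩ M*)`. -/
theorem supplement_sigma (hG : IsMinSimpleOddOrder G) (h16 : H1416a G) (h17 : H1417 G)
    {M Mstar : Subgroup G} (hM : IsCoatom M) (hMs : IsCoatom Mstar) {q : ℕ} [hqp : Fact q.Prime]
    (hq : q ∈ sigma M) (hqs : q ∉ sigma Mstar) {S : Subgroup G} (hS : SylIn q S Mstar)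
    (hSM : S ≤ M) (hnc : ¬ IsCyclic S) :
    Group.IsNilpotent (sigmaCore Mstar) ∧
      piCore (sigma Mstar) ↥Mstar ⊔ (M ⊓ Mstar).subgroupOf Mstar = ⊤ := by
  have hS1 : S ≠ ⊥ := by
    rintro rfl
    exact hnc inferInstance
  have hq2 : q ≠ 2 := prime_ne_two' hG hS.isPGroup hS1
  obtain ⟨A, hAS, hAe, hAc⟩ := exists_elemAb_sq_of_not_cyclic hq2 hS.isPGroup hnc
  have hAMs : A ≤ Mstar := hAS.trans hS.le
  have hAM : A ≤ M := hAS.trans hSM
  have hτ : q ∈ tau2 Mstar := mem_tau2_of_elemAb_sq hG hMs hqs hAMs hAe hAc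
  obtain ⟨hnil, -, hnorm, -, -, -⟩ := h17 Mstar hMs q hτ A ⟨hAMs, hAe, hAc⟩
  refine ⟨hnil, ?_⟩
  have hAq : IsPGroup q A := isPGroup_of_elemAb hAe
  have hNA : Subgroup.normalizer (A : Set G) ≤ M :=
    normalizer_le_of_not_cyclic hG h16 hM hq hAq hAM (not_isCyclic_of_elemAb_sq hAe hAc)
  have hFle : sigmaCore Mstar ≤ Mstar := Cfsg.Agent.Lib.H20.BGS.sigmaCore_le Mstar
  have hWle : sigmaCore Mstar ⊔ A ≤ Mstar := sup_le hFle hAMs
  have hK' : (sigmaCore Mstar).subgroupOf Mstar = piCore (sigma Mstar) ↥Mstar := by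
    unfold sigmaCore
    rw [Subgroup.subgroupOf, Subgroup.comap_map_eq_self_of_injective Mstar.subtype_injective]
  have hW' : (sigmaCore Mstar ⊔ A).subgroupOf Mstar =
      A.subgroupOf Mstar ⊔ piCore (sigma Mstar) ↥Mstar := by
    rw [Subgroup.subgroupOf_sup hFle hAMs, hK', sup_comm]
  haveI hWn : (A.subgroupOf Mstar ⊔ piCore (sigma Mstar) ↥Mstar).Normal := by
    rw [← hW']
    exact (Subgroup.normal_subgroupOf_iff_le_normalizer hWle).2 hnorm
  have hA'q : IsPGroup q (A.subgroupOf Mstar) := hAq.comap_subtype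
  have hA'le : A.subgroupOf Mstar ≤ A.subgroupOf Mstar ⊔ piCore (sigma Mstar) ↥Mstar := le_sup_left
  have hrel : ¬ q ∣ (A.subgroupOf Mstar).relIndex
      (A.subgroupOf Mstar ⊔ piCore (sigma Mstar) ↥Mstar) := by
    intro hd
    have h1 := Cfsg.Agent.Lib.H19.card_sup_dvd_mul' (A.subgroupOf Mstar)
      (piCore (sigma Mstar) ↥Mstar)
    rw [← SylIn.card_mul_relIndex hA'le] at h1
    have h2 : (A.subgroupOf Mstar).relIndex (A.subgroupOf Mstar ⊔ piCore (sigma Mstar) ↥Mstar) ∣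
        Nat.card ↥(piCore (sigma Mstar) ↥Mstar) :=
      Nat.dvd_of_mul_dvd_mul_left Nat.card_pos h1
    exact hqs (Cfsg.Agent.Lib.H19.piCore_isPiCard (sigma Mstar) q hqp.out (hd.trans h2))
  have hfr := frattini_rel (A.subgroupOf Mstar ⊔ piCore (sigma Mstar) ↥Mstar)
    (A.subgroupOf Mstar) hA'le hA'q hrel
  rw [eq_top_iff, ← hfr]
  have hA'D : A.subgroupOf Mstar ≤ (M ⊓ Mstar).subgroupOf Mstar := by
    intro t ht
    rw [Subgroup.mem_subgroupOf] at ht ⊢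
    exact ⟨hAM ht, t.2⟩
  apply sup_le
  · refine le_trans ?_ le_sup_right
    intro t ht
    rw [Subgroup.mem_subgroupOf]
    exact ⟨hNA (coe_mem_normalizer_of_mem_normalizer_subgroupOf hAMs ht), t.2⟩
  · exact sup_le (hA'D.trans le_sup_right) le_sup_left

end Cfsg.Agent.Lib.H20.BGT
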