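import Mathlib
import Cfsg.Agent.Lib.H20.BGT5
import Cfsg.Agent.Lib.H1.SolvableBasic

/-! # Bender–Glauberman Lemma 12.18 (first part; S1425) (helper20) -/

set_option autoImplicit false
set_option linter.style.haveILetI false
set_option linter.unusedSectionVars false
set_option linter.unusedVariables false

open Cfsg

namespace Cfsg.Agent.Lib.H20.BGT

open Cfsg.Agent.Lib.H16.BG
open Cfsg.Agent.Lib.H7.BG7
open Cfsg.Agent.Lib.H7.BG10
open Cfsg.Agent.Lib.H19 (IsPiCard)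

universe u v
variable {G : Type u} [Group G] [Finite G]

local notation:max "cj(" g ", " X ")" => Subgroup.map (MulEquiv.toMonoidHom (MulAut.conj g)) X

/-- A Sylow subgroup of a nilpotent subgroup `F` is normalized by `F`. -/
theorem conj_mem_of_sylIn_nilpotent {r : ℕ} [hr : Fact r.Prime] {F T : Subgroup G}
    (hnil : Group.IsNilpotent F) (hT : SylIn r T F) {f t : G} (hf : f ∈ F) (ht : t ∈ T) :
    f * t * f⁻¹ ∈ T := by
  have hTq : IsPGroup r (T.subgroupOf F) := hT.isPGroup.comap_subtype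
  have hTi : ¬ r ∣ (T.subgroupOf F).index := hT.2.2
  have h03 := (Group.isNilpotent_of_finite_tfae (G := ↥F)).out 0 3
  have hn : ((hTq.toSylow hTi : Sylow r ↥F) : Subgroup ↥F).Normal := (h03.1 hnil) r hr _
  rw [hTq.toSylow_coe hTi] at hn
  have h1 := hn.conj_mem ⟨t, hT.le ht⟩ (by rw [Subgroup.mem_subgroupOf]; exact ht) ⟨f, hf⟩
  rw [Subgroup.mem_subgroupOf] at h1
  simpa using h1

/-- `σ(M)` and `σ(M*)` are disjoint when `M*_σ` is nilpotent and `M*` is not conjugate to `M`. -/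
theorem not_mem_sigma_of_mem_sigma (hG : IsMinSimpleOddOrder G) {M Mstar : Subgroup G}
    (hM : IsCoatom M) (hMs : IsCoatom Mstar) (hnc : ∀ g : G, Mstar ≠ cj(g, M))
    (hnil : Group.IsNilpotent (sigmaCore Mstar)) {r : ℕ} (hr : r ∈ sigma M) : r ∉ sigma Mstar := by
  intro hrs
  haveI : Fact r.Prime := ⟨hr.1⟩
  obtain ⟨T, hT⟩ := SylIn.exists_sylIn r Mstar
  obtain ⟨hNT, hTtop⟩ := normalizer_le_of_sylIn_sigma hrs hT
  have hFle : sigmaCore Mstar ≤ Mstar := Cfsg.Agent.Lib.H20.BGS.sigmaCore_le Mstar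
  have hTF : T ≤ sigmaCore Mstar :=
    le_sigmaCore_of_isPiCard hG hMs hT.le (isPiCard_of_isPGroup hr.1 hrs hT.isPGroup)
  have hTsF : SylIn r T (sigmaCore Mstar) := hT.mono hTF hFle
  have hnorm : Mstar ≤ Subgroup.normalizer (T : Set G) := by
    apply Cfsg.Agent.Lib.H16.le_normalizer_of_conj_mem
    intro m hm t ht
    have hmF := Cfsg.Agent.Lib.H20.BGS.le_normalizer_sigmaCore Mstar hm
    have h1 : cj(m, T) ≤ sigmaCore Mstar := by
      rintro _ ⟨x, hx, rfl⟩
      exact ((Subgroup.mem_normalizer_iff.1 hmF) x).1 (hTF hx)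
    obtain ⟨f, hf, hle⟩ := hTsF.exists_conj_le (hT.isPGroup.map _) h1
    have h2 : f * (m * t * m⁻¹) * f⁻¹ ∈ T := by
      apply hle
      exact ⟨m * t * m⁻¹, ⟨t, ht, by simp⟩, by simp⟩
    have h3 := conj_mem_of_sylIn_nilpotent hnil hTsF ((sigmaCore Mstar).inv_mem hf) h2
    have h4 : f⁻¹ * (f * (m * t * m⁻¹) * f⁻¹) * f⁻¹⁻¹ = m * t * m⁻¹ := by group
    rwa [h4] at h3
  obtain ⟨P, hP⟩ := SylIn.exists_sylIn r M
  obtain ⟨hNP, hPtop⟩ := normalizer_le_of_sylIn_sigma hr hP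
  obtain ⟨g, -, hle⟩ := hTtop.exists_conj_le hPtop.isPGroup le_top
  have heq : cj(g, P) = T := by
    apply Subgroup.eq_of_le_of_card_ge hle
    rw [Cfsg.Agent.Lib.H10.card_map_conj, hPtop.card_eq, hTtop.card_eq]
  have h1 : Subgroup.normalizer (T : Set G) ≤ cj(g, M) := by
    rw [← heq, Cfsg.Agent.Lib.H10.normalizer_map_conj]
    exact Subgroup.map_mono hNP
  have h2 : Mstar ≤ cj(g, M) := hnorm.trans h1
  rcases (hMs.le_iff).1 h2 with h3 | h3
  · exact (isCoatom_map_conj hM g).1 h3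
  · exact hnc g h3.symm

/-- Main step of 12.18: `Y` normalizes its nontrivial `q`-subgroup `X ≤ M`. -/
theorem sigma_conj_aux (hG : IsMinSimpleOddOrder G) (h16 : H1416a G) (h17 : H1417 G)
    {M : Subgroup G} (hM : IsCoatom M) {Y X : Subgroup G} {q : ℕ} [hqp : Fact q.Prime]
    (hY : IsPiCard (sigma M) (Nat.card Y)) (hXY : X ≤ Y)
    (hYX : Y ≤ Subgroup.normalizer (X : Set G)) (hXq : IsPGroup q X) (hX1 : X ≠ ⊥) (hXM : X ≤ M) :
    ∃ g : G, cj(g, Y) ≤ M := by
  have hU := uniq3 hG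
  have hq : q ∈ sigma M := by
    apply hY q hqp.out
    obtain ⟨k, hk⟩ := IsPGroup.iff_card.1 hXq
    have hk0 : k ≠ 0 := by
      rintro rfl
      rw [pow_zero] at hk
      exact hX1 (Subgroup.eq_bot_of_card_eq X hk)
    refine dvd_trans ?_ (Subgroup.card_dvd_of_le hXY)
    rw [hk]; exact dvd_pow_self q hk0
  have hXt : X ≠ ⊤ := by
    rintro rfl
    exact hM.1 (top_le_iff.1 hXM)
  obtain ⟨Mstar, hMs, hNX⟩ := exists_coatom_ge (normalizer_ne_top hG hX1 hXt)
  have hYMs : Y ≤ Mstar := hYX.trans hNX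
  by_cases hne : Mstar = M
  · exact ⟨1, by rw [Cfsg.Agent.Lib.H10.map_conj_one, ← hne]; exact hYMs⟩
  have hXMs : X ≤ Mstar := Subgroup.le_normalizer.trans hNX
  obtain ⟨S, hS, hXS⟩ := SylIn.exists_ge hXq (le_inf hXM hXMs)
  obtain ⟨hnc, hNS, hSs⟩ := sigma_subgroup_embedding hG h16 hM hq hXq hX1 hXM hMs hne hNX hS hXS
  have hsolv : Group.IsSolvable ↥Mstar := solvable_of_coatom hG hMs
  by_cases hqs : q ∈ sigma Mstar
  · -- case A
    have hKD := supplement_alpha hG (M := M) hMs hqs hSs hNS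
    obtain ⟨⟨-, -, hH⟩, -, -, -, -⟩ := alpha_core_hall hG hU hMs
    have hrel : (alphaCore Mstar).relIndex Mstar = (piCore (alpha Mstar) ↥Mstar).index := by
      unfold alphaCore Subgroup.relIndex
      rw [Subgroup.subgroupOf, Subgroup.comap_map_eq_self_of_injective Mstar.subtype_injective]
    have hHall : (Nat.card ↥(piCore (alpha Mstar) ↥Mstar)).Coprime
        (piCore (alpha Mstar) ↥Mstar).index :=
      coprime_card_index_of_hall (Cfsg.Agent.Lib.H19.piCore_isPiCard (alpha Mstar))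
        (fun p hp hpα => by rw [← hrel]; exact hH p hp hpα)
    have hcop : (Nat.card Y).Coprime (Nat.card ↥(piCore (alpha Mstar) ↥Mstar)) := by
      apply Nat.coprime_of_dvd
      intro r hr hrY hrK
      exact not_mem_alpha_of_mem_sigma hG hM hMs hnc (hY r hr hrY)
        (Cfsg.Agent.Lib.H19.piCore_isPiCard (alpha Mstar) r hr hrK)
    obtain ⟨h, -, hle⟩ := exists_conj_le_of_supplement_amb hsolv _ hHall (M ⊓ Mstar) hKD hYMs hcop
    exact ⟨h, hle.trans inf_le_left⟩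
  · -- case B
    have hSnc : ¬ IsCyclic S := by
      intro hc
      apply hqs
      obtain ⟨P, hP⟩ := hSs.exists_sylow
      refine ⟨hqp.out, dvd_card_of_ne_bot hXq hXMs hX1, P, ?_⟩
      rw [hP]
      exact (normalizer_le_normalizer_of_le_cyclic hc hXS).trans hNX
    have hSM : S ≤ M := hS.le.trans inf_le_left
    obtain ⟨hnil, hKD⟩ := supplement_sigma hG h16 h17 hM hMs hq hqs hSs hSM hSnc
    obtain ⟨⟨-, -, hH⟩, -, -⟩ := Cfsg.Agent.Lib.H20.BGS.sigma_core_hall hG hU hMs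
    have hrel : (sigmaCore Mstar).relIndex Mstar = (piCore (sigma Mstar) ↥Mstar).index := by
      unfold sigmaCore Subgroup.relIndex
      rw [Subgroup.subgroupOf, Subgroup.comap_map_eq_self_of_injective Mstar.subtype_injective]
    have hHall : (Nat.card ↥(piCore (sigma Mstar) ↥Mstar)).Coprime
        (piCore (sigma Mstar) ↥Mstar).index :=
      coprime_card_index_of_hall (Cfsg.Agent.Lib.H19.piCore_isPiCard (sigma Mstar))
        (fun p hp hpσ => by rw [← hrel]; exact hH p hp hpσ)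
    have hcop : (Nat.card Y).Coprime (Nat.card ↥(piCore (sigma Mstar) ↥Mstar)) := by
      apply Nat.coprime_of_dvd
      intro r hr hrY hrK
      exact not_mem_sigma_of_mem_sigma hG hM hMs hnc hnil (hY r hr hrY)
        (Cfsg.Agent.Lib.H19.piCore_isPiCard (sigma Mstar) r hr hrK)
    obtain ⟨h, -, hle⟩ := exists_conj_le_of_supplement_amb hsolv _ hHall (M ⊓ Mstar) hKD hYMs hcop
    exact ⟨h, hle.trans inf_le_left⟩

/-- **BG Lemma 12.18**, first part (S1425): a nontrivial `σ(M)`-subgroup of `G` is conjugate to a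
subgroup of `M_σ`. -/
theorem sigma_conj (hG : IsMinSimpleOddOrder G) (h16 : H1416a G) (h17 : H1417 G)
    {M : Subgroup G} (hM : IsCoatom M) {Y : Subgroup G} (hY1 : Y ≠ ⊥)
    (hY : ∀ p : ℕ, p.Prime → p ∣ Nat.card Y → p ∈ sigma M) :
    ∃ g : G, cj(g, Y) ≤ sigmaCore M := by
  have hU := uniq3 hG
  have hcard : Nat.card Y ≠ 1 := fun h => hY1 (Subgroup.card_eq_one.1 h)
  obtain ⟨p₀, hp₀, hp₀d⟩ := Nat.exists_prime_and_dvd hcard
  have hM1 : M ≠ ⊥ := by
    rintro rfl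
    have := (hY p₀ hp₀ hp₀d).2.1
    rw [Subgroup.card_bot] at this
    exact hp₀.one_lt.ne' (Nat.dvd_one.1 this)
  have hYt : Y ≠ ⊤ := by
    rintro rfl
    obtain ⟨q, hq, hqM, hqσ⟩ := exists_prime_not_sigma hG hU hM hM1
    apply hqσ
    apply hY q hq
    rw [Subgroup.card_top]
    exact hqM.trans (Subgroup.card_subgroup_dvd_card M)
  haveI : Group.IsSolvable ↥Y := solvable_of_ne_top hG hYt
  haveI : Nontrivial ↥Y := (Subgroup.nontrivial_iff_ne_bot Y).2 hY1
  obtain ⟨p, hpf, R, hRn, hRp, hR1⟩ :=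
    Cfsg.Agent.Lib.H1.exists_normal_isPGroup_ne_bot_of_isSolvable (G := ↥Y)
  haveI := hpf
  haveI := hRn
  set X : Subgroup G := R.map Y.subtype with hX
  have hXY : X ≤ Y := Subgroup.map_subtype_le R
  have hYX : Y ≤ Subgroup.normalizer (X : Set G) :=
    Cfsg.Agent.Lib.H7.PrimPair.le_normalizer_map_subtype R
  have hXp : IsPGroup p X := hRp.map _
  have hX1 : X ≠ ⊥ := by
    intro h
    apply hR1
    rw [hX, Subgroup.map_eq_bot_iff_of_injective _ Y.subtype_injective] at h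
    exact h
  have hpσ : p ∈ sigma M := by
    apply hY p hpf.out
    exact (dvd_card_of_ne_bot hXp hXY hX1)
  obtain ⟨P₀, hP₀⟩ := SylIn.exists_sylIn p M
  obtain ⟨-, hP₀top⟩ := normalizer_le_of_sylIn_sigma hpσ hP₀
  obtain ⟨g₀, -, hle₀⟩ := hP₀top.exists_conj_le hXp le_top
  have hYc : IsPiCard (sigma M) (Nat.card (cj(g₀, Y) : Subgroup G)) := by
    rw [Cfsg.Agent.Lib.H10.card_map_conj]; exact hY
  have hX1' : cj(g₀, X) ≠ ⊥ := by
    intro h
    apply hX1
    rw [Subgroup.map_eq_bot_iff_of_injective _ (MulAut.conj g₀).injective] at h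
    exact h
  have hYX' : cj(g₀, Y) ≤ Subgroup.normalizer ((cj(g₀, X) : Subgroup G) : Set G) := by
    rw [Cfsg.Agent.Lib.H10.normalizer_map_conj]
    exact Subgroup.map_mono hYX
  obtain ⟨g, hg⟩ := sigma_conj_aux hG h16 h17 hM hYc (Subgroup.map_mono hXY) hYX' (hXp.map _) hX1'
    (hle₀.trans hP₀.le)
  rw [Cfsg.Agent.Lib.H10.map_conj_map_conj] at hg
  refine ⟨g * g₀, le_sigmaCore_of_isPiCard hG hM hg ?_⟩
  rw [Cfsg.Agent.Lib.H10.card_map_conj]; exact hY

end Cfsg.Agent.Lib.H20.BGT
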