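import Mathlib
import Cfsg.Agent.Lib.H20.BGT6
import Cfsg.Agent.Lib.H7.FrobNil

/-! # Bender–Glauberman Corollary 12.6-type statement (S1429) (helper20) -/

set_option autoImplicit false
set_option linter.style.haveILetI false
set_option linter.unusedSectionVars false
set_option linter.unusedVariables false

open Cfsg

namespace Cfsg.Agent.Lib.H20.BGT

open Cfsg.Agent.Lib.H16.BG
open Cfsg.Agent.Lib.H7.BG7
open Cfsg.Agent.Lib.H7.BG10
open Cfsg.Agent.Lib.H19 (IsPiCard)

universe u v
variable {G : Type u} [Group G] [Finite G]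

local notation:max "cj(" g ", " X ")" => Subgroup.map (MulEquiv.toMonoidHom (MulAut.conj g)) X

/-- In a cyclic subgroup `T`, the elements with `x ^ p = 1` form a subgroup of order at most `p`. -/
theorem omega_cyclic {p : ℕ} (hp : p.Prime) {T : Subgroup G} (hT : IsCyclic T) :
    ∃ W : Subgroup G, (W : Set G) = {x : G | x ∈ T ∧ x ^ p = 1} ∧ Nat.card W ≤ p := by
  have hcomm : ∀ a ∈ T, ∀ b ∈ T, a * b = b * a := by
    intro a ha b hb
    haveI := hT
    have := (IsCyclic.commGroup (α := ↥T)).mul_comm ⟨a, ha⟩ ⟨b, hb⟩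
    exact congrArg Subtype.val this
  let W : Subgroup G :=
    { carrier := {x : G | x ∈ T ∧ x ^ p = 1}
      mul_mem' := by
        rintro a b ⟨ha, ha1⟩ ⟨hb, hb1⟩
        refine ⟨T.mul_mem ha hb, ?_⟩
        have hc : Commute a b := hcomm a ha b hb
        rw [hc.mul_pow, ha1, hb1, one_mul]
      one_mem' := ⟨T.one_mem, one_pow _⟩
      inv_mem' := by
        rintro a ⟨ha, ha1⟩
        exact ⟨T.inv_mem ha, by rw [inv_pow, ha1, inv_one]⟩ }
  refine ⟨W, rfl, ?_⟩
  have hWT : W ≤ T := fun x hx => hx.1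
  have hWc : IsCyclic W := isCyclic_of_le' hWT hT
  obtain ⟨g, hg⟩ := hWc.exists_generator
  have h1 : orderOf g = Nat.card W := orderOf_eq_card_of_forall_mem_zpowers hg
  have h2 : g ^ p = 1 := Subtype.ext (by rw [Subgroup.coe_pow]; exact g.2.2)
  have h3 : orderOf g ∣ p := orderOf_dvd_of_pow_eq_one h2
  rw [← h1]
  exact Nat.le_of_dvd hp.pos h3

/-- **S1429** modulo S1417. -/
theorem omega_small (hG : IsMinSimpleOddOrder G) (h17 : H1417 G) {M : Subgroup G}
    (hM : IsCoatom M) (p : ℕ) [hp : Fact p.Prime] (hpM : p ∣ Nat.card M)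
    (hpn : p ∉ sigma M ∪ kappa M) (S : Sylow p M) :
    Nat.card ↥(Subgroup.closure {x : G | x ∈ (S : Subgroup M).map M.subtype ∧ x ^ p = 1}) ≤ p ^ 2 ∧
      sigmaCore M ⊓ Subgroup.centralizer ((Subgroup.closure
        {x : G | x ∈ (S : Subgroup M).map M.subtype ∧ x ^ p = 1} : Subgroup G) : Set G) = ⊥ ∧
      Group.IsNilpotent (sigmaCore M) := by
  have hpσ : p ∉ sigma M := fun h => hpn (Or.inl h)
  have hpκ : p ∉ kappa M := fun h => hpn (Or.inr h)
  set S' : Subgroup G := (S : Subgroup M).map M.subtype with hS'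
  have hS'M : S' ≤ M := Subgroup.map_subtype_le _
  have hS'p : IsPGroup p S' := S.isPGroup'.map _
  by_cases hcyc : IsCyclic S'
  · -- cyclic case
    obtain ⟨W, hWset, hWcard⟩ := omega_cyclic hp.out hcyc
    have hcl : Subgroup.closure {x : G | x ∈ S' ∧ x ^ p = 1} = W := by
      rw [← hWset]; exact Subgroup.closure_eq W
    rw [hcl]
    -- an element of order p in W
    obtain ⟨x0, hx0⟩ : ∃ x : G, x ∈ W ∧ x ≠ 1 := by
      haveI : Fact p.Prime := hp
      have hdvd : p ∣ Nat.card (S : Subgroup M) := by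
        by_contra hnd
        have h1 := S.card_eq_multiplicity
        have h2 : (Nat.card ↥M).factorization p ≠ 0 := by
          have hpos : 0 < Nat.card ↥M := Nat.card_pos
          exact (Nat.Prime.factorization_pos_of_dvd hp.out hpos.ne' hpM).ne'
        apply hnd
        rw [h1]
        exact dvd_pow_self p h2
      obtain ⟨x, hx⟩ := exists_prime_orderOf_dvd_card' (G := ↥(S : Subgroup M)) p hdvd
      refine ⟨((x : M) : G), ?_, ?_⟩
      · have : ((x : M) : G) ∈ (W : Set G) := by
          rw [hWset]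
          refine ⟨⟨(x : M), x.2, rfl⟩, ?_⟩
          have h1 : x ^ p = 1 := by
            have := pow_orderOf_eq_one x
            rwa [hx] at this
          have h2 := congrArg (fun y : ↥(S : Subgroup M) => ((y : M) : G)) h1
          simpa using h2
        exact this
      · intro h1
        have h2 : x = 1 := by
          apply Subtype.ext; apply Subtype.ext; simpa using h1
        rw [h2, orderOf_one] at hx
        exact hp.out.one_lt.ne hx
    -- fixed-point-freeness from p ∉ κ(M)
    have hfree : ∀ x ∈ S', x ≠ 1 → ∀ y ∈ sigmaCore M, (x : G) * y = y * x → y = 1 := by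
      by_contra hcon
      push Not at hcon
      obtain ⟨x, hxS, hx1, y, hy, hxy, hy1⟩ := hcon
      apply hpκ
      refine ⟨hp.out, hpM, hpσ, ?_⟩
      intro P
      obtain ⟨g, hg⟩ := MulAction.exists_smul_eq M S P
      have hPmem : ∀ z : M, z ∈ (P : Subgroup M) ↔ g⁻¹ * z * g ∈ (S : Subgroup M) := by
        intro z
        rw [← hg, Sylow.coe_subgroup_smul, Subgroup.mem_pointwise_smul_iff_inv_smul_mem]
        simp [MulAut.smul_def, MulAut.conj_apply]
      constructor
      · -- P cyclic
        have hSc : IsCyclic (S : Subgroup M) := by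
          have e : ↥(S : Subgroup M) ≃* ↥S' :=
            (S : Subgroup M).equivMapOfInjective M.subtype M.subtype_injective
          haveI := hcyc
          exact isCyclic_of_surjective e.symm.toMonoidHom e.symm.surjective
        have e2 : ↥(S : Subgroup M) ≃* ↥(P : Subgroup M) := by
          rw [← hg]
          exact Sylow.equivSMul S g
        haveI := hSc
        exact isCyclic_of_surjective e2.toMonoidHom e2.surjective
      · obtain ⟨xm, hxm, rfl⟩ := hxS
        refine ⟨g * xm * g⁻¹, ?_, ?_, (g : G) * y * (g : G)⁻¹, ?_, ?_, ?_⟩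
        · rw [hPmem]
          have : g⁻¹ * (g * xm * g⁻¹) * g = xm := by group
          rw [this]; exact hxm
        · intro h
          apply hx1
          have : xm = 1 := by
            have h2 : g⁻¹ * (g * xm * g⁻¹) * g = g⁻¹ * 1 * g := by rw [h]
            have h3 : g⁻¹ * (g * xm * g⁻¹) * g = xm := by group
            rw [h3] at h2
            rw [h2]; group
          rw [this]; rfl
        · have hgn := Cfsg.Agent.Lib.H20.BGS.le_normalizer_sigmaCore M g.2
          exact ((Subgroup.mem_normalizer_iff.1 hgn) y).1 hy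
        · intro h
          apply hy1
          have h2 : (g : G)⁻¹ * ((g : G) * y * (g : G)⁻¹) * (g : G) = (g : G)⁻¹ * 1 * g := by rw [h]
          have h3 : (g : G)⁻¹ * ((g : G) * y * (g : G)⁻¹) * (g : G) = y := by group
          rw [h3] at h2
          rw [h2]; group
        · have hxy' : (M.subtype xm) * y = y * (M.subtype xm) := hxy
          have hcoe : ((g * xm * g⁻¹ : M) : G) = (g : G) * (M.subtype xm) * (g : G)⁻¹ := by
            simp
          rw [hcoe]
          calc (g : G) * (M.subtype xm) * (g : G)⁻¹ * ((g : G) * y * (g : G)⁻¹)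
              = (g : G) * ((M.subtype xm) * y) * (g : G)⁻¹ := by group
            _ = (g : G) * (y * (M.subtype xm)) * (g : G)⁻¹ := by rw [hxy']
            _ = (g : G) * y * (g : G)⁻¹ * ((g : G) * (M.subtype xm) * (g : G)⁻¹) := by group
    have hx0S : x0 ∈ S' ∧ x0 ^ p = 1 := by
      have : x0 ∈ (W : Set G) := hx0.1
      rw [hWset] at this
      exact this
    refine ⟨?_, ?_, ?_⟩
    · have := hp.out.one_lt
      calc Nat.card W ≤ p := hWcard
        _ ≤ p ^ 2 := by nlinarith
    · rw [eq_bot_iff]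
      intro y hy
      rw [Subgroup.mem_bot]
      have hyc := Subgroup.mem_centralizer_iff.1 hy.2 x0 hx0.1
      exact hfree x0 hx0S.1 hx0.2 y hy.1 hyc
    · refine Cfsg.Agent.Lib.H7.FrobNil.isNilpotent_of_fpf (x := x0) hp.out
        (Cfsg.Agent.Lib.H20.BGS.le_normalizer_sigmaCore M (hS'M hx0S.1)) hx0S.2 ?_
      intro k hk hxk
      exact hfree x0 hx0S.1 hx0.2 k hk hxk
  · -- noncyclic case
    have hS'1 : S' ≠ ⊥ := by
      intro h
      apply hcyc
      rw [h]
      exact isCyclic_of_subsingleton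
    have hp2 : p ≠ 2 := prime_ne_two' hG hS'p hS'1
    obtain ⟨A, hAS, hAe, hAc⟩ := exists_elemAb_sq_of_not_cyclic hp2 hS'p hcyc
    have hAM : A ≤ M := hAS.trans hS'M
    have hτ : p ∈ tau2 M := mem_tau2_of_elemAb_sq hG hM hpσ hAM hAe hAc
    obtain ⟨hnil, hP, -, hcent, -, -⟩ := h17 M hM p hτ A ⟨hAM, hAe, hAc⟩
    obtain ⟨-, hS2⟩ := hP S
    obtain ⟨hiff, -⟩ := hS2 hAS
    have hset : {x : G | x ∈ S' ∧ x ^ p = 1} = (A : Set G) := by
      ext x
      constructor
      · rintro ⟨hx, hx1⟩
        exact (hiff x hx).1 hx1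
      · intro hx
        exact ⟨hAS hx, (hiff x (hAS hx)).2 hx⟩
    rw [hset, Subgroup.closure_eq]
    exact ⟨hAc.le, hcent, hnil⟩

end Cfsg.Agent.Lib.H20.BGT
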