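import Mathlib
import Cfsg.Agent.Lib.H16.BG11e
import Cfsg.Agent.Lib.H16.BGj
import Cfsg.Agent.Lib.H16.BGs
import Cfsg.Agent.Lib.H16.BGe
import Cfsg.Agent.Lib.H16.BGb
import Cfsg.Agent.Lib.H16.PGroupCenter
import Cfsg.Agent.Lib.H8.BG12b
import Cfsg.Agent.Lib.H20.BGT2
import Cfsg.Agent.S1409

/-! # BG §11 helper (helper20, for helper16): `O_r(M) ≠ 1`, `r ∉ σ(M)` makes `M` exceptional for `r`

If `M` is maximal, `r ∉ σ(M)` and `O_r(M) ≠ 1`, then `O_r(M)` is cyclic, and there are
`B₀ ≤ O_r(M)` of order `r`, normal in `M`, and `Ar` elementary abelian of order `r²` with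
`Exc M r Ar B₀`. -/

set_option autoImplicit false
set_option linter.unusedSectionVars false
set_option linter.unusedVariables false
set_option linter.style.haveILetI false

namespace Cfsg.Agent.Lib.H20.BGX

open Cfsg Cfsg.Agent.Lib.H16.BG Cfsg.Agent.Lib.H7.BG7 Cfsg.Agent.Lib.H7.BG10
open Cfsg.Agent.Lib.H9 (opAmb oppAmb)

universe u
variable {G : Type u} [Group G] [Finite G]

local notation:max "cj(" g ", " X ")" => Subgroup.map (MulEquiv.toMonoidHom (MulAut.conj g)) X

/-- an elementary abelian `p`-subgroup of a subgroup `M` of `p`-rank at most `k` has order at most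
`p ^ k`. -/
theorem card_le_of_elemAb_of_pRankLE {p k : ℕ} {B M : Subgroup G} (hBM : B ≤ M)
    (hB : IsElementaryAbelian p B) (hr : PRankLE p k ↥M) : Nat.card B ≤ p ^ k := by
  by_contra h
  push Not at h
  exact not_pRankLE_of_elemAb hBM hB h hr

/-- a nontrivial elementary abelian `r`-group of order at most `r²` has order `r` or `r²`. -/
theorem card_eq_or_of_le_sq {r : ℕ} [hr : Fact r.Prime] {Z : Subgroup G} (hZp : IsPGroup r Z)
    (hZ1 : Z ≠ ⊥) (hle : Nat.card Z ≤ r ^ 2) : Nat.card Z = r ∨ Nat.card Z = r ^ 2 := by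
  obtain ⟨k, hk⟩ := IsPGroup.iff_card.1 hZp
  have hk0 : k ≠ 0 := by
    rintro rfl
    rw [pow_zero] at hk
    exact hZ1 (Subgroup.eq_bot_of_card_eq Z hk)
  have hk2 : k ≤ 2 := by
    by_contra h
    push Not at h
    have : r ^ 2 < r ^ k := Nat.pow_lt_pow_right hr.out.one_lt h
    omega
  rcases (by omega : k = 1 ∨ k = 2) with rfl | rfl
  · left; rw [hk, pow_one]
  · right; exact hk

/-- a maximal subgroup normalizing a nontrivial proper subgroup is its full normalizer. -/
theorem normalizer_eq_of_le (hG : IsMinSimpleOddOrder G) {M X : Subgroup G} (hM : IsCoatom M)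
    (hX1 : X ≠ ⊥) (hXM : X ≤ M) (hMX : M ≤ Subgroup.normalizer (X : Set G)) :
    Subgroup.normalizer (X : Set G) = M := by
  have hXt : X ≠ ⊤ := by
    rintro rfl
    exact hM.1 (top_le_iff.1 hXM)
  exact eq_of_coatom_of_le hG hM (normalizer_ne_top hG hX1 hXt) hMX

/-- a normal `r`-subgroup of `M` lies in every Sylow `r`-subgroup of `M`. -/
theorem le_sylIn_of_normal {r : ℕ} [hr : Fact r.Prime] {M U R : Subgroup G} (hR : SylIn r R M)
    (hU : IsPGroup r U) (hUM : U ≤ M) (hMU : M ≤ Subgroup.normalizer (U : Set G)) : U ≤ R := by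
  obtain ⟨m, hm, hle⟩ := hR.exists_conj_le hU hUM
  have : cj(m, U) = U := cj_eq_self_of_mem_normalizer (hMU hm)
  rwa [this] at hle

/-- **Claim 1** (BG §11, for Theorem 12.5): if `r ∉ σ(M)` and `O_r(M) ≠ 1` then `O_r(M)` is cyclic
and `M` is exceptional for `r` with a normal line `B₀ ≤ O_r(M)`. -/
theorem exc_of_piCoreOf_ne_bot (hG : IsMinSimpleOddOrder G) {M : Subgroup G} (hM : IsCoatom M)
    {r : ℕ} [hr : Fact r.Prime] (hrσ : r ∉ sigma M) (hU : piCoreOf ({r} : Set ℕ) M ≠ ⊥) :
    IsCyclic ↥(piCoreOf ({r} : Set ℕ) M) ∧ ∃ B₀ Ar : Subgroup G,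
      B₀ ≤ piCoreOf ({r} : Set ℕ) M ∧ M ≤ Subgroup.normalizer (B₀ : Set G) ∧ Exc M r Ar B₀ := by
  have hU3 := Cfsg.Agent.Lib.H20.BGT.uniq3 hG
  have hrp := hr.out
  set U := piCoreOf ({r} : Set ℕ) M with hUdef
  have hUM : U ≤ M := piCoreOf_le _ _
  have hMU : M ≤ Subgroup.normalizer (U : Set G) := le_normalizer_piCoreOf _ _
  have hUp : IsPGroup r ↥U := isPGroup_piCoreOf_singleton r M
  have hr2 : r ≠ 2 := Cfsg.Agent.Lib.H20.BGT.prime_ne_two' hG hUp hU
  have hodd : Odd (Nat.card G) := hG.1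
  haveI hsolv : Group.IsSolvable ↥M := solvable_of_coatom hG hM
  -- the `r`-rank of `M` is at most two
  have hrank : PRankLE r 2 ↥M := by
    by_contra h
    exact hrσ (alpha_subset_sigma hG hU3 hM ⟨hrp, h⟩)
  -- `Z = Ω₁(Z(U))`
  set Z := omegaZ r U with hZdef
  have hZU : Z ≤ U := omegaZ_le r U
  have hZM : Z ≤ M := hZU.trans hUM
  have hZ1 : Z ≠ ⊥ := omegaZ_ne_bot hUp hU
  have hZe : IsElementaryAbelian r Z := omegaZ_elemAb r U
  have hZp : IsPGroup r ↥Z := hUp.to_le hZU
  have hMZ : M ≤ Subgroup.normalizer (Z : Set G) :=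
    hMU.trans (normalizer_le_normalizer_omegaZ r U)
  have hNZ : Subgroup.normalizer (Z : Set G) = M := normalizer_eq_of_le hG hM hZ1 hZM hMZ
  have hZle : Nat.card Z ≤ r ^ 2 := card_le_of_elemAb_of_pRankLE hZM hZe hrank
  -- STEP 1: an `M`-invariant line `X ≤ Z`
  have step1 : ∃ X : Subgroup G, X ≤ Z ∧ Nat.card X = r ∧
      M ≤ Subgroup.normalizer (X : Set G) := by
    rcases card_eq_or_of_le_sq hZp hZ1 hZle with hZc | hZc
    · exact ⟨Z, le_rfl, hZc, hMZ⟩
    · -- `|Z| = r²`
      obtain ⟨R1, hR1, hUR1⟩ := SylIn.exists_ge hUp hUM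
      have hR11 : R1 ≠ ⊥ := _root_.ne_bot_of_le_ne_bot hU hUR1
      have hnc : ¬ R1 ≤ Subgroup.centralizer (Z : Set G) := by
        intro hc
        -- then `Z = Ω₁(Z(R1))` and `N(R1) ≤ N(Z) = M`
        have hle : Z ≤ omegaZ r R1 := by
          intro z hz
          refine ⟨⟨hUR1 (hZU hz), ?_⟩, hZe.2 z hz⟩
          show z ∈ Subgroup.centralizer (R1 : Set G)
          rw [Subgroup.mem_centralizer_iff]
          intro x hx
          exact (Subgroup.mem_centralizer_iff.1 (hc hx) z hz).symm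
        have hle2 : Nat.card ↥(omegaZ r R1) ≤ r ^ 2 :=
          card_le_of_elemAb_of_pRankLE ((omegaZ_le r R1).trans hR1.le) (omegaZ_elemAb r R1) hrank
        have heq : Z = omegaZ r R1 := Subgroup.eq_of_le_of_card_ge hle (by rw [hZc]; exact hle2)
        have hN : Subgroup.normalizer (R1 : Set G) ≤ M := by
          rw [← hNZ, heq]
          exact normalizer_le_normalizer_omegaZ r R1
        exact hrσ (sigma_of_normalizer_le hR1 hR11 hN)
      set T := oppAmb r M with hTdef
      have hR1T : R1 ≤ T := sylow_le_oppAmb_of_rank hodd hsolv hR1 hR11 hrank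
      have hMT : M ≤ Subgroup.normalizer (T : Set G) :=
        Cfsg.Agent.Lib.H9.le_normalizer_oppAmb r M
      set X := Z ⊓ Subgroup.centralizer (T : Set G) with hXdef
      have hMX : M ≤ Subgroup.normalizer (X : Set G) :=
        le_normalizer_inf' hMZ (le_normalizer_centralizer_of_le hMT)
      have hXZ : X ≤ Z := inf_le_left
      have hXne : X ≠ Z := by
        intro h
        apply hnc
        intro x hx
        rw [Subgroup.mem_centralizer_iff]
        intro z hz
        have hz' : z ∈ X := by rw [h]; exact hz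
        exact (Subgroup.mem_centralizer_iff.1 hz'.2 x (hR1T hx)).symm
      have hX1 : X ≠ ⊥ := by
        obtain ⟨z, hzZ, hz1, hzc⟩ :=
          Cfsg.Agent.Lib.H16.exists_ne_one_central_of_le_normalizer hrp R1 Z hR1.isPGroup
            (hZU.trans hUR1) (hR1.le.trans hMZ) hZ1
        intro h
        apply hz1
        have hzX : z ∈ X := by
          refine ⟨hzZ, ?_⟩
          show z ∈ Subgroup.centralizer (T : Set G)
          rw [Subgroup.mem_centralizer_iff]
          intro l hl
          obtain ⟨k, hk, t, ht, rfl⟩ := oppAmb_eq_mul hR1 l hl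
          have hd : Disjoint (primesNotDvd r) ({r} : Set ℕ) := by
            rw [Set.disjoint_left]
            rintro q ⟨-, hq⟩ hq'
            rw [Set.mem_singleton_iff] at hq'
            exact hq (by rw [hq'])
          have h1 := piCoreOf_le_centralizer_piCoreOf hd M hk
          have h2 : k * z = z * k := (Subgroup.mem_centralizer_iff.1 h1 z (hZU hzZ)).symm
          have h3 : t * z = z * t := hzc t ht.1
          calc k * t * z = k * (t * z) := by group
            _ = k * (z * t) := by rw [h3]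
            _ = (k * z) * t := by group
            _ = z * k * t := by rw [h2]
            _ = z * (k * t) := by group
        rw [h, Subgroup.mem_bot] at hzX
        exact hzX
      -- `|X| = r`
      have hXp : IsPGroup r ↥X := hZp.to_le hXZ
      have hXle : Nat.card X ≤ r ^ 2 := (Subgroup.card_le_of_le hXZ).trans hZle
      rcases card_eq_or_of_le_sq hXp hX1 hXle with hXc | hXc
      · exact ⟨X, hXZ, hXc, hMX⟩
      · exfalso
        exact hXne (Subgroup.eq_of_le_of_card_ge hXZ (by rw [hXc, hZc]))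
  obtain ⟨X, hXZ, hXc, hMX⟩ := step1
  have hX1 : X ≠ ⊥ := by
    rintro rfl
    rw [Subgroup.card_bot] at hXc
    exact hrp.one_lt.ne hXc
  have hXM : X ≤ M := hXZ.trans hZM
  have hNX : Subgroup.normalizer (X : Set G) = M := normalizer_eq_of_le hG hM hX1 hXM hMX
  -- STEP 2: `Exc M r Ar X`
  obtain ⟨-, -, Ar, hAre, hArc, hXAr⟩ := Cfsg.Agent.S1409.result hG M hM r hrσ X hXc hNX.le
  have hArM : Ar ≤ M := by
    rw [← hNX]
    intro a ha
    apply mem_normalizer_of_map_conj_le
    rintro _ ⟨y, hy, rfl⟩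
    have := hAre.1.is_comm.comm ⟨a, ha⟩ ⟨y, hXAr hy⟩
    have h2 : a * y = y * a := congrArg Subtype.val this
    show a * y * a⁻¹ ∈ X
    rw [h2]
    have h3 : y * a * a⁻¹ = y := by group
    rw [h3]; exact hy
  have hExc : Exc M r Ar X := ⟨hM, hrσ, hArM, hAre, hArc, hXAr, hXc, hNX.le⟩
  refine ⟨?_, X, Ar, hXZ.trans hZU, hMX, hExc⟩
  -- STEP 3: `U` is cyclic
  obtain ⟨R2, hR2, hArR2⟩ := SylIn.exists_ge hExc.isPGroup hArM
  have hUR2 : U ≤ R2 := le_sylIn_of_normal hR2 hUp hUM hMU
  have hmem : ∀ x ∈ R2, x ^ r = 1 ↔ x ∈ Ar := fun x hx =>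
    hExc.mem_iff_pow_eq_one hG hR2 hArR2 hx
  set Ω := U ⊓ Ar with hΩdef
  have hΩne : Ω ≠ Ar := by
    intro h
    have hArU : Ar ≤ U := by rw [← h]; exact inf_le_left
    have hMAr : M ≤ Subgroup.normalizer (Ar : Set G) := by
      intro m hm
      apply mem_normalizer_of_map_conj_le
      rintro _ ⟨a, ha, rfl⟩
      have h1 : m * a * m⁻¹ ∈ U :=
        (Subgroup.mem_normalizer_iff.1 (hMU hm) a).1 (hArU ha)
      apply (hmem _ (hUR2 h1)).1
      show (m * a * m⁻¹) ^ r = 1
      rw [conj_pow, hAre.2 a ha]; group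
    have := normalizer_eq_of_le hG hM hExc.ne_bot hArM hMAr
    exact hExc.not_normalizer_le hG this.le
  have hΩc : Nat.card Ω ≤ r := by
    have h1 : Nat.card Ω ∣ r ^ 2 := hArc ▸ Subgroup.card_dvd_of_le (inf_le_right : Ω ≤ Ar)
    obtain ⟨k, hk, hkc⟩ := (Nat.dvd_prime_pow hrp).1 h1
    have hk2 : k ≠ 2 := by
      rintro rfl
      exact hΩne (Subgroup.eq_of_le_of_card_ge inf_le_right (by rw [hkc, hArc]))
    rcases (by omega : k = 0 ∨ k = 1) with rfl | rfl
    · rw [hkc, pow_zero]; exact hrp.one_lt.le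
    · rw [hkc, pow_one]
  have hrankU : PRankLE r 1 ↥U := by
    intro B hBc hBp
    have hle : B.map U.subtype ≤ Ω := by
      rintro _ ⟨b, hb, rfl⟩
      refine ⟨b.2, ?_⟩
      apply (hmem _ (hUR2 b.2)).1
      have := hBp b hb
      have h2 := congrArg Subtype.val this
      simpa using h2
    have hc : Nat.card (B.map U.subtype) = Nat.card B :=
      (Nat.card_congr (B.equivMapOfInjective U.subtype
        (Subgroup.subtype_injective U)).toEquiv).symm
    rw [pow_one, ← hc]
    exact (Subgroup.card_le_of_le hle).trans hΩc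
  exact Cfsg.Agent.Lib.H8.BG12.isCyclic_of_isPGroup_of_rank_one hr2 hUp hrankU

end Cfsg.Agent.Lib.H20.BGX
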