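import Mathlib
import Cfsg.Agent.Lib.H20.BGT6
import Cfsg.Agent.Lib.H7.CoprimeGen

/-! # Toolkit for BG Theorem 12.13-type statement S1422 (helper20), part 1:
groups of order `p³` and coprime generation modulo a centralizing normal subgroup -/

set_option autoImplicit false
set_option linter.style.haveILetI false
set_option linter.unusedSectionVars false
set_option linter.unusedVariables false

open Cfsg

namespace Cfsg.Agent.Lib.H20.BGU

open Cfsg.Agent.Lib.H16.BG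
open Cfsg.Agent.Lib.H7.BG7
open Cfsg.Agent.Lib.H7.BG10
open Cfsg.Agent.Lib.H19 (IsPiCard)

universe u v

/-- The centre of a nonabelian group of order `p³` has order `p` and contains the commutator
subgroup. -/
theorem center_of_card_cube {P : Type v} [Group P] [Finite P] {p : ℕ} [hp : Fact p.Prime]
    (hc : Nat.card P = p ^ 3) (hna : ¬ IsMulCommutative P) :
    Nat.card (Subgroup.center P) = p ∧ commutator P ≤ Subgroup.center P := by
  have hpp := hp.out
  have hP : IsPGroup p P := IsPGroup.of_card hc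
  haveI : Nontrivial P := by
    rw [← Finite.one_lt_card_iff_nontrivial, hc]
    exact Nat.one_lt_pow (by norm_num) hpp.one_lt
  have hdvd : Nat.card (Subgroup.center P) ∣ p ^ 3 := by
    rw [← hc]; exact Subgroup.card_subgroup_dvd_card _
  obtain ⟨k, hk3, hk⟩ := (Nat.dvd_prime_pow hpp).1 hdvd
  have hq : Nat.card P = Nat.card (P ⧸ Subgroup.center P) * Nat.card (Subgroup.center P) :=
    Subgroup.card_eq_card_quotient_mul_card_subgroup _
  have hk0 : k ≠ 0 := by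
    rintro rfl
    rw [pow_zero] at hk
    have h1 := hP.bot_lt_center
    exact h1.ne' (Subgroup.eq_bot_of_card_eq _ hk)
  have hk3' : k ≠ 3 := by
    rintro rfl
    apply hna
    have h1 : Subgroup.center P = ⊤ := Subgroup.eq_top_of_card_eq _ (by rw [hk, hc])
    refine ⟨⟨fun a b => ?_⟩⟩
    have hb : b ∈ Subgroup.center P := by rw [h1]; trivial
    exact (Subgroup.mem_center_iff.1 hb) a
  have hk2' : k ≠ 2 := by
    rintro rfl
    apply hna
    have h1 : Nat.card (P ⧸ Subgroup.center P) = p := by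
      rw [hk, hc] at hq
      have h2 : p * p ^ 2 = Nat.card (P ⧸ Subgroup.center P) * p ^ 2 := by rw [← hq]; ring
      exact (Nat.eq_of_mul_eq_mul_right (pow_pos hpp.pos 2) h2).symm
    haveI : IsCyclic (P ⧸ Subgroup.center P) := isCyclic_of_prime_card h1
    exact MonoidHom.isMulCommutative_of_isCyclic_of_ker_le_center
      (QuotientGroup.mk' (Subgroup.center P)) (by rw [QuotientGroup.ker_mk'])
  have hk1 : k = 1 := by omega
  subst hk1
  rw [pow_one] at hk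
  refine ⟨hk, ?_⟩
  have h1 : Nat.card (P ⧸ Subgroup.center P) = p ^ 2 := by
    rw [hk, hc] at hq
    have h2 : p ^ 2 * p = Nat.card (P ⧸ Subgroup.center P) * p := by rw [← hq]; ring
    exact (Nat.eq_of_mul_eq_mul_right hpp.pos h2).symm
  have h2 : IsMulCommutative (P ⧸ Subgroup.center P) :=
    IsPGroup.isMulCommutative_of_card_eq_prime_sq h1
  exact Subgroup.Normal.quotient_commutative_iff_commutator_le.1 h2

variable {G : Type u} [Group G] [Finite G]

local notation:max "cj(" g ", " X ")" => Subgroup.map (MulEquiv.toMonoidHom (MulAut.conj g)) X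

/-- Subgroup version: `Z = Z(P₁)` for a nonabelian subgroup `P₁` of order `p³`. -/
theorem center_of_card_cube' {p : ℕ} [hp : Fact p.Prime] {P₁ : Subgroup G}
    (hc : Nat.card P₁ = p ^ 3) (hna : ¬ IsMulCommutative P₁) :
    Nat.card ↥(P₁ ⊓ Subgroup.centralizer (P₁ : Set G)) = p ∧
      ∀ a ∈ P₁, ∀ b ∈ P₁, a * b * a⁻¹ * b⁻¹ ∈ P₁ ⊓ Subgroup.centralizer (P₁ : Set G) := by
  obtain ⟨h1, h2⟩ := center_of_card_cube hc hna
  have hmap : (Subgroup.center ↥P₁).map P₁.subtype = P₁ ⊓ Subgroup.centralizer (P₁ : Set G) := by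
    ext x
    constructor
    · rintro ⟨y, hy, rfl⟩
      refine ⟨y.2, ?_⟩
      show (y : G) ∈ Subgroup.centralizer (P₁ : Set G)
      rw [Subgroup.mem_centralizer_iff]
      intro g hg
      have := (Subgroup.mem_center_iff.1 hy) ⟨g, hg⟩
      exact congrArg Subtype.val this
    · rintro ⟨hx, hxc⟩
      refine ⟨⟨x, hx⟩, ?_, rfl⟩
      rw [SetLike.mem_coe, Subgroup.mem_center_iff]
      intro g
      apply Subtype.ext
      exact (Subgroup.mem_centralizer_iff.1 hxc) g g.2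
  constructor
  · rw [← hmap, Subgroup.card_map_of_injective P₁.subtype_injective]; exact h1
  · intro a ha b hb
    rw [← hmap]
    refine ⟨(⟨a, ha⟩ : ↥P₁) * ⟨b, hb⟩ * (⟨a, ha⟩ : ↥P₁)⁻¹ * (⟨b, hb⟩ : ↥P₁)⁻¹, h2 ?_, ?_⟩
    · have := Subgroup.commutator_mem_commutator (Subgroup.mem_top (⟨a, ha⟩ : ↥P₁))
        (Subgroup.mem_top (⟨b, hb⟩ : ↥P₁))
      rw [commutatorElement_def] at this
      exact this
    · simp

/-- In a group `P₁` with `P₁/Z(P₁)` abelian and `|Z(P₁)| = p`, a noncentral element `y` is conjugate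
to `z₀ y` for every `z₀ ∈ Z(P₁)`. -/
theorem exists_conj_mul {p : ℕ} [hp : Fact p.Prime] {P₁ : Subgroup G}
    (hZc : Nat.card ↥(P₁ ⊓ Subgroup.centralizer (P₁ : Set G)) = p)
    (hcomm : ∀ a ∈ P₁, ∀ b ∈ P₁, a * b * a⁻¹ * b⁻¹ ∈ P₁ ⊓ Subgroup.centralizer (P₁ : Set G))
    {y : G} (hy : y ∈ P₁) (hyZ : y ∉ P₁ ⊓ Subgroup.centralizer (P₁ : Set G)) {z₀ : G}
    (hz₀ : z₀ ∈ P₁ ⊓ Subgroup.centralizer (P₁ : Set G)) :
    ∃ u ∈ P₁, u * y * u⁻¹ = z₀ * y := by
  set Z := P₁ ⊓ Subgroup.centralizer (P₁ : Set G) with hZ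
  have hcent : ∀ z ∈ Z, ∀ g ∈ P₁, g * z = z * g := fun z hz g hg =>
    (Subgroup.mem_centralizer_iff.1 hz.2) g hg
  let K : Subgroup G :=
    { carrier := {z | ∃ u ∈ P₁, u * y * u⁻¹ * y⁻¹ = z}
      one_mem' := ⟨1, P₁.one_mem, by group⟩
      mul_mem' := by
        rintro _ _ ⟨u, hu, rfl⟩ ⟨v, hv, rfl⟩
        refine ⟨v * u, P₁.mul_mem hv hu, ?_⟩
        have hfu : u * y * u⁻¹ * y⁻¹ ∈ Z := hcomm u hu y hy
        have h1 := hcent _ hfu v hv
        calc v * u * y * (v * u)⁻¹ * y⁻¹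
            = (v * (u * y * u⁻¹ * y⁻¹)) * y * v⁻¹ * y⁻¹ := by group
          _ = ((u * y * u⁻¹ * y⁻¹) * v) * y * v⁻¹ * y⁻¹ := by rw [h1]
          _ = u * y * u⁻¹ * y⁻¹ * (v * y * v⁻¹ * y⁻¹) := by group
      inv_mem' := by
        rintro _ ⟨u, hu, rfl⟩
        refine ⟨u⁻¹, P₁.inv_mem hu, ?_⟩
        have hfu : u * y * u⁻¹ * y⁻¹ ∈ Z := hcomm u hu y hy
        have h1 := hcent _ (Z.inv_mem hfu) u⁻¹ (P₁.inv_mem hu)
        calc u⁻¹ * y * u⁻¹⁻¹ * y⁻¹ = (u⁻¹ * (u * y * u⁻¹ * y⁻¹)⁻¹) * u := by group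
          _ = ((u * y * u⁻¹ * y⁻¹)⁻¹ * u⁻¹) * u := by rw [h1]
          _ = (u * y * u⁻¹ * y⁻¹)⁻¹ := by group }
  have hKZ : K ≤ Z := by
    rintro _ ⟨u, hu, rfl⟩
    exact hcomm u hu y hy
  have hK1 : K ≠ ⊥ := by
    intro h
    apply hyZ
    refine ⟨hy, ?_⟩
    show y ∈ Subgroup.centralizer (P₁ : Set G)
    rw [Subgroup.mem_centralizer_iff]
    intro g hg
    have h1 : g * y * g⁻¹ * y⁻¹ ∈ K := ⟨g, hg, rfl⟩
    rw [h, Subgroup.mem_bot] at h1
    calc g * y = (g * y * g⁻¹ * y⁻¹) * y * g := by group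
      _ = y * g := by rw [h1, one_mul]
  have hKeq : K = Z := by
    apply Subgroup.eq_of_le_of_card_ge hKZ
    have hd : Nat.card K ∣ p := by rw [← hZc]; exact Subgroup.card_dvd_of_le hKZ
    rcases (Nat.dvd_prime hp.out).1 hd with h | h
    · exact absurd (Subgroup.eq_bot_of_card_eq K h) hK1
    · rw [h, hZc]
  have hz : z₀ ∈ K := by rw [hKeq]; exact hz₀
  obtain ⟨u, hu, hu2⟩ := hz
  refine ⟨u, hu, ?_⟩
  rw [← hu2]; group

/-- `Z(P₁) × ⟨x⟩` is elementary abelian of order `p²` for noncentral `x` (`P₁` of exponent `p`,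
`|Z(P₁)| = p`). -/
theorem elemAb_center_sup_zpowers {p : ℕ} [hp : Fact p.Prime] {P₁ : Subgroup G}
    (hZc : Nat.card ↥(P₁ ⊓ Subgroup.centralizer (P₁ : Set G)) = p)
    (hexp : ∀ a ∈ P₁, a ^ p = 1) {x : G} (hx : x ∈ P₁)
    (hxZ : x ∉ P₁ ⊓ Subgroup.centralizer (P₁ : Set G)) :
    IsElementaryAbelian p (P₁ ⊓ Subgroup.centralizer (P₁ : Set G) ⊔ Subgroup.zpowers x) ∧
      Nat.card ↥(P₁ ⊓ Subgroup.centralizer (P₁ : Set G) ⊔ Subgroup.zpowers x) = p ^ 2 ∧
      P₁ ⊓ Subgroup.centralizer (P₁ : Set G) ⊔ Subgroup.zpowers x ≤ P₁ := by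
  set Z := P₁ ⊓ Subgroup.centralizer (P₁ : Set G) with hZ
  have hpp := hp.out
  have hx1 : x ≠ 1 := by
    rintro rfl
    exact hxZ (Z.one_mem)
  have hxp : x ^ p = 1 := hexp x hx
  have hZe : IsElementaryAbelian p Z := by
    refine ⟨⟨⟨?_⟩⟩, fun a ha => hexp a ha.1⟩
    rintro ⟨a, ha⟩ ⟨b, hb⟩
    apply Subtype.ext
    exact ((Subgroup.mem_centralizer_iff.1 hb.2) a ha.1)
  have hXe : IsElementaryAbelian p (Subgroup.zpowers x) := by
    refine ⟨⟨⟨?_⟩⟩, ?_⟩
    · rintro ⟨a, ha⟩ ⟨b, hb⟩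
      apply Subtype.ext
      obtain ⟨i, rfl⟩ := Subgroup.mem_zpowers_iff.1 ha
      obtain ⟨j, rfl⟩ := Subgroup.mem_zpowers_iff.1 hb
      exact (Commute.refl x).zpow_zpow i j
    · intro a ha
      exact hexp a ((Subgroup.zpowers_le.2 hx) ha)
  have hZX : Z ≤ Subgroup.centralizer ((Subgroup.zpowers x : Subgroup G) : Set G) := by
    intro z hz
    rw [Subgroup.mem_centralizer_iff]
    intro a ha
    exact (Subgroup.mem_centralizer_iff.1 hz.2) a ((Subgroup.zpowers_le.2 hx) ha)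
  have hcx : Nat.card (Subgroup.zpowers x) = p := by
    rw [Nat.card_zpowers]; exact orderOf_eq_prime hxp hx1
  have hinf : Z ⊓ Subgroup.zpowers x = ⊥ := by
    rw [eq_bot_iff]
    intro y hy
    rw [Subgroup.mem_bot]
    by_contra hy1
    apply hxZ
    have h1 : Subgroup.zpowers y = Subgroup.zpowers x := by
      apply Subgroup.eq_of_le_of_card_ge (Subgroup.zpowers_le.2 hy.2)
      rw [hcx, Nat.card_zpowers, orderOf_eq_prime (hexp y hy.1.1) hy1]
    have h2 : x ∈ Subgroup.zpowers y := by rw [h1]; exact Subgroup.mem_zpowers x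
    exact (Subgroup.zpowers_le.2 hy.1) h2
  refine ⟨isElementaryAbelian_sup hZe hXe hZX, ?_, sup_le inf_le_left (Subgroup.zpowers_le.2 hx)⟩
  have h := card_sup_mul_card_inf (hZX.trans (Subgroup.centralizer_le_normalizer _))
  rw [hinf, Subgroup.card_bot, mul_one, hZc, hcx] at h
  rw [h, pow_two]

/-- **Coprime generation modulo a centralized normal subgroup.** `R` acts on the `p'`-group `X`,
`Z ⊴ R` is normalized by `X`, `R/Z` is elementary abelian of order more than `p`; then `X` is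
generated by the centralizers `C_X(x)`, `x ∈ R ∖ Z`. -/
theorem le_of_forall_centralizer_mod {H : Type u} [Group H] [Finite H] (p : ℕ) [hp : Fact p.Prime]
    {R X Z Y : Subgroup H} (hZR : Z ≤ R) (hRZ : R ≤ Subgroup.normalizer (Z : Set H))
    (hXZ : X ≤ Subgroup.normalizer (Z : Set H)) (hRX : R ≤ Subgroup.normalizer (X : Set H))
    (hXp : (Nat.card X).Coprime p) (hXZbot : X ⊓ Z = ⊥)
    (hc : ∀ a ∈ R, ∀ b ∈ R, a * b * a⁻¹ * b⁻¹ ∈ Z) (he : ∀ a ∈ R, a ^ p ∈ Z)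
    (hidx : p < Z.relIndex R)
    (hY : ∀ x ∈ R, x ∉ Z → X ⊓ Subgroup.centralizer ({x} : Set H) ≤ Y) : X ≤ Y := by
  set N := Subgroup.normalizer (Z : Set H) with hN
  haveI hnorm : (Z.subgroupOf N).Normal := Subgroup.normal_in_normalizer
  set π := QuotientGroup.mk' (Z.subgroupOf N) with hπ
  set A' := (R.subgroupOf N).map π with hA'
  set X' := (X.subgroupOf N).map π with hX'
  have hXcard : Nat.card (X.subgroupOf N) = Nat.card X :=
    Nat.card_congr (Subgroup.subgroupOfEquivOfLe hXZ).toEquiv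
  have hgen : X' ≤ Cfsg.Agent.Lib.H7.hypGen p A' X' := by
    apply Cfsg.Agent.Lib.H7.le_hypGen p
    · rintro _ ⟨a, ha, rfl⟩ _ ⟨b, hb, rfl⟩
      rw [SetLike.mem_coe, Subgroup.mem_subgroupOf] at ha hb
      have h1 : a * b * a⁻¹ * b⁻¹ ∈ Z.subgroupOf N := by
        rw [Subgroup.mem_subgroupOf]
        simpa using hc _ ha _ hb
      have h2 : π (a * b * a⁻¹ * b⁻¹) = 1 := by
        rw [hπ, QuotientGroup.mk'_apply, QuotientGroup.eq_one_iff]; exact h1
      have h3 : π a * π b * (π a)⁻¹ * (π b)⁻¹ = 1 := by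
        rw [← h2]; simp only [map_mul, map_inv]
      calc π a * π b = (π a * π b * (π a)⁻¹ * (π b)⁻¹) * (π b * π a) := by group
        _ = π b * π a := by rw [h3, one_mul]
    · rintro _ ⟨a, ha, rfl⟩
      rw [SetLike.mem_coe, Subgroup.mem_subgroupOf] at ha
      rw [← map_pow, hπ, QuotientGroup.mk'_apply, QuotientGroup.eq_one_iff,
        Subgroup.mem_subgroupOf]
      simpa using he _ ha
    · exact Nat.Coprime.coprime_dvd_left (Subgroup.card_map_dvd _ _) (by rw [hXcard]; exact hXp)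
    · refine le_trans (Subgroup.map_mono ?_) (Subgroup.le_normalizer_map _)
      intro a ha
      rw [Subgroup.mem_normalizer_iff]
      intro x
      rw [Subgroup.mem_subgroupOf, Subgroup.mem_subgroupOf]
      exact Subgroup.mem_normalizer_iff.1 (hRX (Subgroup.mem_subgroupOf.1 ha)) x
  have hpull : Cfsg.Agent.Lib.H7.hypGen p A' X' ≤ ((Y ⊓ X).subgroupOf N).map π := by
    apply iSup_le
    rintro ⟨Bbar, hBA, hBp⟩
    rintro y ⟨⟨x₁, hx₁, rfl⟩, hyB⟩
    have hx₁X : (x₁ : H) ∈ X := Subgroup.mem_subgroupOf.1 hx₁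
    -- a nontrivial element of `Bbar`
    have hB1 : Bbar ≠ ⊥ := by
      rintro rfl
      rw [Subgroup.relIndex_bot_left] at hBp
      have h1 : Nat.card A' = Z.relIndex R := by
        rw [hA', ← Subgroup.relIndex_ker, hπ, QuotientGroup.ker_mk',
          Subgroup.relIndex_subgroupOf hRZ]
      omega
    obtain ⟨⟨bb, hbb⟩, hbb1⟩ := (Subgroup.ne_bot_iff_exists_ne_one).1 hB1
    have hbb1' : bb ≠ 1 := fun h => hbb1 (Subtype.ext h)
    obtain ⟨b, hbR, rfl⟩ := hBA hbb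
    rw [SetLike.mem_coe, Subgroup.mem_subgroupOf] at hbR
    have hbZ : (b : H) ∉ Z := by
      intro h
      apply hbb1'
      rw [hπ, QuotientGroup.mk'_apply, QuotientGroup.eq_one_iff, Subgroup.mem_subgroupOf]
      exact h
    have h2 := Subgroup.mem_centralizer_iff.1 hyB _ hbb
    have h3 : (b : H) * (x₁ : H) * (b : H)⁻¹ * (x₁ : H)⁻¹ ∈ Z := by
      have h4 : π (b * x₁ * b⁻¹ * x₁⁻¹) = 1 := by
        simp only [map_mul, map_inv]
        rw [h2]; group
      rw [hπ, QuotientGroup.mk'_apply, QuotientGroup.eq_one_iff, Subgroup.mem_subgroupOf] at h4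
      simpa using h4
    have h5 : (b : H) * (x₁ : H) * (b : H)⁻¹ * (x₁ : H)⁻¹ ∈ X :=
      X.mul_mem (((Subgroup.mem_normalizer_iff.1 (hRX hbR)) _).1 hx₁X) (X.inv_mem hx₁X)
    have h6 : (b : H) * (x₁ : H) * (b : H)⁻¹ * (x₁ : H)⁻¹ = 1 := by
      have : (b : H) * (x₁ : H) * (b : H)⁻¹ * (x₁ : H)⁻¹ ∈ X ⊓ Z := ⟨h5, h3⟩
      rwa [hXZbot, Subgroup.mem_bot] at this
    have h7 : (x₁ : H) ∈ X ⊓ Subgroup.centralizer ({(b : H)} : Set H) := by
      refine ⟨hx₁X, ?_⟩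
      show (x₁ : H) ∈ Subgroup.centralizer ({(b : H)} : Set H)
      rw [Subgroup.mem_centralizer_singleton_iff]
      calc (x₁ : H) * (b : H) = ((b : H) * (x₁ : H) * (b : H)⁻¹ * (x₁ : H)⁻¹)⁻¹ * ((b : H) * (x₁ : H)) := by
            group
        _ = (b : H) * (x₁ : H) := by rw [h6, inv_one, one_mul]
    refine ⟨x₁, ?_, rfl⟩
    rw [SetLike.mem_coe, Subgroup.mem_subgroupOf]
    exact ⟨hY _ hbR hbZ h7, hx₁X⟩
  intro x hx
  have hxN : x ∈ N := hXZ hx
  have h1 : π ⟨x, hxN⟩ ∈ X' := Subgroup.mem_map_of_mem _ (Subgroup.mem_subgroupOf.2 hx)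
  obtain ⟨t, ht, hteq⟩ := hpull (hgen h1)
  rw [SetLike.mem_coe, Subgroup.mem_subgroupOf] at ht
  rw [hπ, QuotientGroup.mk'_apply, QuotientGroup.mk'_apply, QuotientGroup.eq,
    Subgroup.mem_subgroupOf] at hteq
  have h2 : (t : H)⁻¹ * x ∈ X ⊓ Z := ⟨X.mul_mem (X.inv_mem ht.2) hx, by simpa using hteq⟩
  rw [hXZbot, Subgroup.mem_bot] at h2
  have h3 : x = (t : H) := by
    calc x = (t : H) * ((t : H)⁻¹ * x) := by group
      _ = (t : H) := by rw [h2, mul_one]
  rw [h3]; exact ht.1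

end Cfsg.Agent.Lib.H20.BGU
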