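import Mathlib
import Cfsg.Agent.Lib.H20.BGU1
import Cfsg.Agent.Lib.H8.BG12b
import Cfsg.Agent.Lib.H16.BGs
import Cfsg.Agent.Lib.H16.BGp

/-! # Toolkit for S1422 (nonabelian `p`-subgroups lie in a unique maximal subgroup), part 2
(helper20): the two-maximal-subgroups configuration -/

set_option autoImplicit false
set_option linter.style.haveILetI false
set_option linter.unusedSectionVars false
set_option linter.unusedVariables false

open Cfsg

namespace Cfsg.Agent.Lib.H20.BGU

open Cfsg.Agent.Lib.H20.BGT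
open Cfsg.Agent.Lib.H16.BG
open Cfsg.Agent.Lib.H7.BG7
open Cfsg.Agent.Lib.H7.BG10
open Cfsg.Agent.Lib.H19 (IsPiCard)

universe u v
variable {G : Type u} [Group G] [Finite G]

local notation:max "cj(" g ", " X ")" => Subgroup.map (MulEquiv.toMonoidHom (MulAut.conj g)) X

/-- Second part of S1416 (BG Lemma 12.3) as a hypothesis. -/
def H1416b (G : Type u) [Group G] : Prop :=
  ∀ (M : Subgroup G), IsCoatom M → ∀ (p : ℕ) [Fact p.Prime] (A : Subgroup G), A ≤ M →
    IsElementaryAbelian p A → Nat.card A = p ^ 2 →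
    (∀ A₀ : Subgroup G, A₀ ≤ A → Nat.card A₀ = p →
        ¬ (Subgroup.normalizer (A₀ : Set G) ≤ M ∧
          ∀ L : Subgroup G, IsCoatom L → Subgroup.normalizer (A₀ : Set G) ≤ L → L = M)) →
      p ∈ sigma M ∧ alphaCore M = ⊥ ∧ Group.IsNilpotent (sigmaCore M)

theorem alphaCore_le (M : Subgroup G) : alphaCore M ≤ M := piCoreOf_le (alpha M) M

theorem le_normalizer_alphaCore (M : Subgroup G) :
    M ≤ Subgroup.normalizer ((alphaCore M : Subgroup G) : Set G) :=
  le_normalizer_piCoreOf (alpha M) M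

theorem alphaCore_isPiCard (M : Subgroup G) : IsPiCard (alpha M) (Nat.card (alphaCore M)) :=
  piCoreOf_isPiCard (alpha M) M

/-- `M = M_α N_M(S)` for a Sylow `p`-subgroup `S` of `M`, `p ∈ σ(M)`. -/
theorem alpha_mul_normalizer (hG : IsMinSimpleOddOrder G) {M : Subgroup G} (hM : IsCoatom M)
    {p : ℕ} [Fact p.Prime] (hp : p ∈ sigma M) {S : Subgroup G} (hS : SylIn p S M) :
    ∀ m ∈ M, ∃ k ∈ alphaCore M, ∃ n ∈ Subgroup.normalizer (S : Set G) ⊓ M, m = k * n := by
  have h := supplement_alpha hG (M := Subgroup.normalizer (S : Set G)) hM hp hS le_rfl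
  intro m hm
  have h1 : (⟨m, hm⟩ : ↥M) ∈
      piCore (alpha M) ↥M ⊔ (Subgroup.normalizer (S : Set G) ⊓ M).subgroupOf M := by
    rw [h]; trivial
  rw [← SetLike.mem_coe, Subgroup.normal_mul] at h1
  obtain ⟨k, hk, n, hn, hkn⟩ := h1
  refine ⟨k, ⟨k, hk, rfl⟩, n, Subgroup.mem_subgroupOf.1 hn, ?_⟩
  exact (congrArg Subtype.val hkn).symm

/-- Two distinct maximal subgroups sharing a Sylow subgroup of `G` whose normalizer lies in one of
them are not conjugate. -/
theorem not_conj_of_sylow {M H : Subgroup G} {p : ℕ} [Fact p.Prime] {S : Subgroup G}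
    (hS : SylIn p S ⊤) (hSM : S ≤ M) (hNM : Subgroup.normalizer (S : Set G) ≤ M) (hSH : S ≤ H)
    (hne : H ≠ M) : ∀ g : G, H ≠ cj(g, M) := by
  intro g hg
  have h1 : g ∈ M := mem_of_sylow_le_map_conj hS hSM hNM (by rw [← hg]; exact hSH)
  rw [map_conj_eq_self_of_mem h1] at hg
  exact hne hg

/-- `|M_α|` and `|H_α|` are coprime for nonconjugate maximal subgroups. -/
theorem coprime_card_alphaCore (hG : IsMinSimpleOddOrder G) {M H : Subgroup G} (hM : IsCoatom M)
    (hH : IsCoatom H) (hnc : ∀ g : G, H ≠ cj(g, M)) :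
    (Nat.card (alphaCore M)).Coprime (Nat.card (alphaCore H)) := by
  apply Nat.coprime_of_dvd
  intro r hr hrM hrH
  have h1 : r ∈ alpha M := alphaCore_isPiCard M r hr hrM
  have h2 : r ∈ alpha H := alphaCore_isPiCard H r hr hrH
  exact not_mem_alpha_of_mem_sigma hG hM hH hnc (alpha_subset_sigma hG (uniq3 hG) hM h1) h2

/-- In the two-maximal-subgroups configuration, `M ∩ H = N_G(S)`. -/
theorem inf_le_normalizer {M H S : Subgroup G}
    (hsupM : ∀ m ∈ M, ∃ k ∈ alphaCore M, ∃ n ∈ Subgroup.normalizer (S : Set G) ⊓ M, m = k * n)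
    (hsupH : ∀ m ∈ H, ∃ k ∈ alphaCore H, ∃ n ∈ Subgroup.normalizer (S : Set G) ⊓ H, m = k * n)
    (hNM : Subgroup.normalizer (S : Set G) ≤ M) (hNH : Subgroup.normalizer (S : Set G) ≤ H)
    (hcop : (Nat.card (alphaCore M)).Coprime (Nat.card (alphaCore H))) :
    M ⊓ H ≤ Subgroup.normalizer (S : Set G) := by
  set N := Subgroup.normalizer (S : Set G) with hN
  have hND : N ≤ M ⊓ H := le_inf hNM hNH
  -- generic step
  have key : ∀ (M' H' : Subgroup G), N ≤ M' → N ≤ H' →
      (∀ m ∈ M', ∃ k ∈ alphaCore M', ∃ n ∈ N ⊓ M', m = k * n) →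
      N.relIndex (M' ⊓ H') ∣ Nat.card (alphaCore M') := by
    intro M' H' hNM' hNH' hsup
    set X₁ := alphaCore M' ⊓ H' with hX₁
    have hD : M' ⊓ H' = N ⊔ X₁ := by
      apply le_antisymm
      · intro d hd
        obtain ⟨k, hk, n, hn, rfl⟩ := hsup d hd.1
        have hkH : k ∈ H' := by
          have := H'.mul_mem hd.2 (H'.inv_mem (hNH' hn.1))
          rwa [mul_inv_cancel_right] at this
        have hkn : k * n = n * (n⁻¹ * k * n) := by group
        rw [hkn]
        refine Subgroup.mul_mem _ (Subgroup.mem_sup_left hn.1) (Subgroup.mem_sup_right ⟨?_, ?_⟩)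
        · have := (Subgroup.mem_normalizer_iff.1
            (le_normalizer_alphaCore M' (M'.inv_mem (hNM' hn.1)))) k
          have h2 := this.1 hk
          rwa [inv_inv] at h2
        · exact H'.mul_mem (H'.mul_mem (H'.inv_mem (hNH' hn.1)) hkH) (hNH' hn.1)
      · exact sup_le (le_inf hNM' hNH')
          (le_inf (inf_le_left.trans (alphaCore_le M')) inf_le_right)
    have hNX : N ≤ Subgroup.normalizer ((X₁ : Subgroup G) : Set G) :=
      le_normalizer_inf' (hNM'.trans (le_normalizer_alphaCore M'))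
        (hNH'.trans Subgroup.le_normalizer)
    have hcard := card_sup_mul_card_inf hNX
    have h1 : Nat.card N * N.relIndex (M' ⊓ H') = Nat.card (M' ⊓ H' : Subgroup G) :=
      SylIn.card_mul_relIndex (le_inf hNM' hNH')
    rw [← hD, ← h1] at hcard
    have h2 : N.relIndex (M' ⊓ H') * Nat.card (N ⊓ X₁ : Subgroup G) = Nat.card X₁ := by
      have hpos : 0 < Nat.card N := Nat.card_pos
      apply Nat.eq_of_mul_eq_mul_left hpos
      rw [← hcard]; ring
    have h3 : N.relIndex (M' ⊓ H') ∣ Nat.card X₁ := ⟨_, h2.symm⟩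
    exact h3.trans (Subgroup.card_dvd_of_le inf_le_left)
  have k1 := key M H hNM hNH hsupM
  have k2 := key H M hNH hNM hsupH
  rw [inf_comm H M] at k2
  have h1 : N.relIndex (M ⊓ H) = 1 := Nat.eq_one_of_dvd_coprimes hcop k1 k2
  exact Subgroup.relIndex_eq_one.1 h1

end Cfsg.Agent.Lib.H20.BGU
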