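import Mathlib
import Cfsg.Agent.Lib.H20.BGU2

/-! # Toolkit for S1422, part 3 (helper20): the core generation argument -/

set_option autoImplicit false
set_option linter.style.haveILetI false
set_option linter.unusedSectionVars false
set_option linter.unusedVariables false

open Cfsg

namespace Cfsg.Agent.Lib.H20.BGU

open Cfsg.Agent.Lib.H20.BGT
open Cfsg.Agent.Lib.H16.BG
open Cfsg.Agent.Lib.H7.BG7
open Cfsg.Agent.Lib.H7.BG10
open Cfsg.Agent.Lib.H19 (IsPiCard)

universe u v
variable {G : Type u} [Group G] [Finite G]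

local notation:max "cj(" g ", " X ")" => Subgroup.map (MulEquiv.toMonoidHom (MulAut.conj g)) X

/-- `M_α ∩ H` centralizes `S` when `M ∩ H = N_G(S)`. -/
theorem alpha_inf_le_centralizer {M H S : Subgroup G} {p : ℕ} [hp : Fact p.Prime]
    (hD : M ⊓ H ≤ Subgroup.normalizer (S : Set G)) (hSM : S ≤ M) (hSH : S ≤ H)
    (hS : IsPGroup p S) (hpα : p ∉ alpha M) :
    alphaCore M ⊓ H ≤ Subgroup.centralizer (S : Set G) := by
  apply le_centralizer_of_inf_eq_bot
  · exact (le_inf (inf_le_left.trans (alphaCore_le M)) inf_le_right).trans hD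
  · exact le_normalizer_inf' (hSM.trans (le_normalizer_alphaCore M))
      (hSH.trans Subgroup.le_normalizer)
  · apply Subgroup.inf_eq_bot_of_coprime
    obtain ⟨k, hk⟩ := IsPGroup.iff_card.1 hS
    rw [hk]
    apply Nat.Coprime.pow_right
    apply Nat.Coprime.coprime_dvd_left (Subgroup.card_dvd_of_le inf_le_left)
    exact ((Nat.Prime.coprime_iff_not_dvd hp.out).2
      (fun h => hpα (alphaCore_isPiCard M p hp.out h))).symm

/-- `C_G(x) ≤ N_G(⟨x⟩)`. -/
theorem centralizer_singleton_le_normalizer_zpowers (x : G) :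
    Subgroup.centralizer ({x} : Set G) ≤
      Subgroup.normalizer ((Subgroup.zpowers x : Subgroup G) : Set G) := by
  rw [← centralizer_zpowers_eq]
  exact Subgroup.centralizer_le_normalizer _

/-- **Core of S1422.** If every noncentral cyclic subgroup of `P₁` has its normalizer in `H`,
then `M ≤ H`. -/
theorem core_le {M H S P₁ : Subgroup G} {p : ℕ} [hp : Fact p.Prime]
    (hP₁S : P₁ ≤ S) (hSM : S ≤ M)
    (hP₁c : Nat.card P₁ = p ^ 3) (hP₁na : ¬ IsMulCommutative P₁) (hexp : ∀ a ∈ P₁, a ^ p = 1)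
    (hpα : p ∉ alpha M)
    (hsupM : ∀ m ∈ M, ∃ k ∈ alphaCore M, ∃ n ∈ Subgroup.normalizer (S : Set G) ⊓ M, m = k * n)
    (hNH : Subgroup.normalizer (S : Set G) ≤ H)
    (hX : alphaCore M ⊓ H ≤ Subgroup.centralizer (S : Set G))
    (hPX : ∀ x ∈ P₁, x ∉ P₁ ⊓ Subgroup.centralizer (P₁ : Set G) →
      Subgroup.normalizer ((Subgroup.zpowers x : Subgroup G) : Set G) ≤ H) : M ≤ H := by
  have hpp := hp.out
  obtain ⟨hZc, hcomm⟩ := center_of_card_cube' hP₁c hP₁na
  set Z := P₁ ⊓ Subgroup.centralizer (P₁ : Set G) with hZ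
  have hcopr : (Nat.card (alphaCore M)).Coprime p :=
    ((Nat.Prime.coprime_iff_not_dvd hpp).2
      (fun h => hpα (alphaCore_isPiCard M p hpp h))).symm
  have hP₁M : P₁ ≤ M := hP₁S.trans hSM
  have hYx : ∀ x ∈ P₁, x ∉ Z →
      alphaCore M ⊓ Subgroup.centralizer ({x} : Set G) ≤ alphaCore M ⊓ H := by
    intro x hx hxZ
    exact le_inf inf_le_left
      (inf_le_right.trans ((centralizer_singleton_le_normalizer_zpowers x).trans (hPX x hx hxZ)))
  have hZS : Z ≤ S := inf_le_left.trans hP₁S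
  have hP₁CZ : P₁ ≤ Subgroup.centralizer (Z : Set G) := le_centralizer_comm inf_le_right
  -- a noncentral element
  obtain ⟨x₀, hx₀, hx₀Z⟩ : ∃ x₀ ∈ P₁, x₀ ∉ Z := by
    by_contra hcon
    push Not at hcon
    have h1 : P₁ ≤ Z := hcon
    have h2 := Subgroup.card_le_of_le h1
    rw [hZc, hP₁c] at h2
    have h3 : p < p ^ 3 := by
      calc p = p ^ 1 := (pow_one p).symm
        _ < p ^ 3 := Nat.pow_lt_pow_right hpp.one_lt (by norm_num)
    omega
  -- step III: `M_α ≤ C(Z)`
  have hαCZ : alphaCore M ≤ Subgroup.centralizer (Z : Set G) := by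
    obtain ⟨hAe, hAc, hAP⟩ := elemAb_center_sup_zpowers hZc hexp hx₀ hx₀Z
    set A := Z ⊔ Subgroup.zpowers x₀ with hA
    have hgen := Cfsg.Agent.Lib.H7.le_hypGen p (A := A) (X := alphaCore M)
      (fun a ha b hb => congrArg Subtype.val (hAe.1.is_comm.comm ⟨a, ha⟩ ⟨b, hb⟩))
      hAe.2 hcopr ((hAP.trans hP₁M).trans (le_normalizer_alphaCore M))
    refine hgen.trans ?_
    apply iSup_le
    rintro ⟨B, hBA, hBp⟩
    have hB1 : B ≠ ⊥ := by
      rintro rfl
      rw [Subgroup.relIndex_bot_left, hAc] at hBp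
      have : p < p ^ 2 := by nlinarith [hpp.one_lt]
      omega
    obtain ⟨⟨b, hb⟩, hb1⟩ := (Subgroup.ne_bot_iff_exists_ne_one).1 hB1
    have hb1' : b ≠ 1 := fun h => hb1 (Subtype.ext h)
    by_cases hbZ : b ∈ Z
    · have h1 : Subgroup.zpowers b = Z := zpowers_eq_of_card_prime hpp hZc hbZ hb1'
      refine inf_le_right.trans ?_
      apply Subgroup.centralizer_le
      rw [← h1]
      exact_mod_cast Subgroup.zpowers_le.2 hb
    · have h1 : alphaCore M ⊓ Subgroup.centralizer ((B : Subgroup G) : Set G) ≤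
          alphaCore M ⊓ Subgroup.centralizer ({b} : Set G) :=
        inf_le_inf_left _ (Subgroup.centralizer_le (by simpa using hb))
      refine h1.trans ((hYx b (hAP (hBA hb)) hbZ).trans (hX.trans ?_))
      exact Subgroup.centralizer_le (by exact_mod_cast hZS)
  -- step IV
  have hαH : alphaCore M ≤ alphaCore M ⊓ H := by
    apply le_of_forall_centralizer_mod p (R := P₁) (X := alphaCore M) (Z := Z)
      inf_le_left (hP₁CZ.trans (Subgroup.centralizer_le_normalizer _))
      (hαCZ.trans (Subgroup.centralizer_le_normalizer _))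
      (hP₁M.trans (le_normalizer_alphaCore M)) hcopr
    · apply Subgroup.inf_eq_bot_of_coprime
      rw [hZc]; exact hcopr
    · exact hcomm
    · intro a ha
      rw [hexp a ha]; exact Z.one_mem
    · have h1 : Nat.card Z * Z.relIndex P₁ = Nat.card P₁ :=
        SylIn.card_mul_relIndex inf_le_left
      rw [hZc, hP₁c] at h1
      have h2 : Z.relIndex P₁ = p ^ 2 := by
        apply Nat.eq_of_mul_eq_mul_left hpp.pos
        rw [h1]; ring
      rw [h2]
      nlinarith [hpp.one_lt]
    · exact hYx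
  intro m hm
  obtain ⟨k, hk, n, hn, rfl⟩ := hsupM m hm
  exact H.mul_mem (hαH hk).2 (hNH hn.1)

end Cfsg.Agent.Lib.H20.BGU
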