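import Mathlib
import Cfsg.Agent.Lib.H20.BGU3

/-! # S1422 (nonabelian `p`-subgroups lie in a unique maximal subgroup) modulo S1412, S1416, S1417
(helper20) -/

set_option autoImplicit false
set_option linter.style.haveILetI false
set_option linter.unusedSectionVars false
set_option linter.unusedVariables false
set_option linter.deprecated false

open Cfsg

namespace Cfsg.Agent.Lib.H20.BGU

open Cfsg.Agent.Lib.H20.BGT
open Cfsg.Agent.Lib.H16.BG
open Cfsg.Agent.Lib.H7.BG7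
open Cfsg.Agent.Lib.H7.BG10
open Cfsg.Agent.Lib.H8.BG12
open Cfsg.Agent.Lib.H19 (IsPiCard)

universe u v
variable {G : Type u} [Group G] [Finite G]

local notation:max "cj(" g ", " X ")" => Subgroup.map (MulEquiv.toMonoidHom (MulAut.conj g)) X

/-- S1412 (structure of Sylow subgroups of rank at most 2) as a hypothesis (only the needed part). -/
def H1412 (G : Type u) [Group G] : Prop :=
  ∀ (p : ℕ) [Fact p.Prime] (P : Sylow p G), PRankLE p 2 (P : Subgroup G) →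
    IsMulCommutative (P : Subgroup G) ∨ ∃ P₁ : Subgroup G, P₁ ≤ (P : Subgroup G) ∧
      ¬ IsMulCommutative P₁ ∧ Nat.card P₁ = p ^ 3 ∧ Monoid.exponent P₁ = p

/-- Transport of "normalizer in `L`" from a noncentral subgroup `A₁` of order `p` of `Z × ⟨x⟩` to
`⟨x⟩`, using `P₁`-conjugacy. -/
theorem normalizer_zpowers_le_of_conj {P₁ L : Subgroup G} {p : ℕ} [hp : Fact p.Prime]
    (hP₁L : P₁ ≤ L)
    (hZc : Nat.card ↥(P₁ ⊓ Subgroup.centralizer (P₁ : Set G)) = p)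
    (hcomm : ∀ a ∈ P₁, ∀ b ∈ P₁, a * b * a⁻¹ * b⁻¹ ∈ P₁ ⊓ Subgroup.centralizer (P₁ : Set G))
    (hexp : ∀ a ∈ P₁, a ^ p = 1) {x : G} (hx : x ∈ P₁)
    (hxZ : x ∉ P₁ ⊓ Subgroup.centralizer (P₁ : Set G)) {A₁ : Subgroup G}
    (hA₁ : A₁ ≤ P₁ ⊓ Subgroup.centralizer (P₁ : Set G) ⊔ Subgroup.zpowers x)
    (hA₁c : Nat.card A₁ = p) (hA₁Z : A₁ ≠ P₁ ⊓ Subgroup.centralizer (P₁ : Set G))
    (hN : Subgroup.normalizer (A₁ : Set G) ≤ L) :
    Subgroup.normalizer ((Subgroup.zpowers x : Subgroup G) : Set G) ≤ L := by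
  have hpp := hp.out
  obtain ⟨hAe, hAc, hAP⟩ := elemAb_center_sup_zpowers hZc hexp hx hxZ
  set Z := P₁ ⊓ Subgroup.centralizer (P₁ : Set G) with hZ
  set A := Z ⊔ Subgroup.zpowers x with hA
  have hP₁NZ : P₁ ≤ Subgroup.normalizer (Z : Set G) :=
    (le_centralizer_comm (inf_le_right : Z ≤ _)).trans (Subgroup.centralizer_le_normalizer _)
  have hA₁NZ : A₁ ≤ Subgroup.normalizer (Z : Set G) := (hA₁.trans hAP).trans hP₁NZ
  have hinf : A₁ ⊓ Z = ⊥ := by
    rcases eq_bot_or_eq_of_le_of_card_prime hpp hA₁c (inf_le_left : A₁ ⊓ Z ≤ A₁) with h | h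
    · exact h
    · exfalso
      apply hA₁Z
      have h1 : A₁ ≤ Z := by rw [← h]; exact inf_le_right
      exact Subgroup.eq_of_le_of_card_ge h1 (by rw [hA₁c, hZc])
  have hsup : Z ⊔ A₁ = A := by
    apply Subgroup.eq_of_le_of_card_ge (sup_le le_sup_left hA₁)
    have h := card_sup_mul_card_inf hA₁NZ
    rw [hinf, Subgroup.card_bot, mul_one, hA₁c, hZc] at h
    have h' : Nat.card (Z ⊔ A₁ : Subgroup G) = p * p := by rw [sup_comm]; exact h
    rw [h', hAc, pow_two]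
  have hxA : x ∈ Z ⊔ A₁ := by
    rw [hsup]; exact Subgroup.mem_sup_right (Subgroup.mem_zpowers x)
  obtain ⟨z, hz, a, ha, hxza⟩ := Cfsg.Agent.Lib.H1.mem_sup_of_le_normalizer hA₁NZ hxA
  have haP : a ∈ P₁ := hAP (hA₁ ha)
  have haZ : a ∉ Z := by
    intro h
    apply hxZ
    rw [hxza]; exact Z.mul_mem hz h
  have ha1 : a ≠ 1 := by
    rintro rfl
    exact haZ Z.one_mem
  have hA₁eq : Subgroup.zpowers a = A₁ := zpowers_eq_of_card_prime hpp hA₁c ha ha1
  obtain ⟨u, hu, hua⟩ := exists_conj_mul hZc hcomm haP haZ hz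
  have hconj : cj(u, A₁) = Subgroup.zpowers x := by
    rw [← hA₁eq, MonoidHom.map_zpowers]
    congr 1
    rw [hxza, ← hua]
    simp [MulAut.conj_apply]
  rw [← hconj, ← Subgroup.map_equiv_normalizer_eq]
  calc cj(u, Subgroup.normalizer (A₁ : Set G)) ≤ cj(u, L) := Subgroup.map_mono hN
    _ = L := map_conj_eq_self_of_mem (hP₁L hu)

/-- The dichotomy from S1416(2). -/
theorem exists_normalizer_unique (h16b : H1416b G) {M : Subgroup G} (hM : IsCoatom M)
    (hα : alphaCore M ≠ ⊥) {p : ℕ} [Fact p.Prime] {A : Subgroup G} (hAM : A ≤ M)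
    (hAe : IsElementaryAbelian p A) (hAc : Nat.card A = p ^ 2) :
    ∃ A₀ : Subgroup G, A₀ ≤ A ∧ Nat.card A₀ = p ∧ Subgroup.normalizer (A₀ : Set G) ≤ M ∧
      ∀ L : Subgroup G, IsCoatom L → Subgroup.normalizer (A₀ : Set G) ≤ L → L = M := by
  by_contra hcon
  apply hα
  refine (h16b M hM p A hAM hAe hAc ?_).2.1
  intro A₀ hA₀ hA₀c hN
  exact hcon ⟨A₀, hA₀, hA₀c, hN.1, hN.2⟩

/-- Either `N(Z)` or all `N(⟨x⟩)` (`x ∈ P₁ ∖ Z`) pick out `L`. -/
theorem center_or_noncentral (h16b : H1416b G) {L P₁ : Subgroup G} (hL : IsCoatom L)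
    (hα : alphaCore L ≠ ⊥) {p : ℕ} [hp : Fact p.Prime] (hP₁L : P₁ ≤ L)
    (hZc : Nat.card ↥(P₁ ⊓ Subgroup.centralizer (P₁ : Set G)) = p)
    (hcomm : ∀ a ∈ P₁, ∀ b ∈ P₁, a * b * a⁻¹ * b⁻¹ ∈ P₁ ⊓ Subgroup.centralizer (P₁ : Set G))
    (hexp : ∀ a ∈ P₁, a ^ p = 1) :
    (Subgroup.normalizer ((P₁ ⊓ Subgroup.centralizer (P₁ : Set G) : Subgroup G) : Set G) ≤ L ∧
      ∀ L' : Subgroup G, IsCoatom L' →
        Subgroup.normalizer ((P₁ ⊓ Subgroup.centralizer (P₁ : Set G) : Subgroup G) : Set G) ≤ L' →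
        L' = L) ∨
    ∀ x ∈ P₁, x ∉ P₁ ⊓ Subgroup.centralizer (P₁ : Set G) →
      Subgroup.normalizer ((Subgroup.zpowers x : Subgroup G) : Set G) ≤ L := by
  by_cases hz : (Subgroup.normalizer
      ((P₁ ⊓ Subgroup.centralizer (P₁ : Set G) : Subgroup G) : Set G) ≤ L ∧
      ∀ L' : Subgroup G, IsCoatom L' →
        Subgroup.normalizer ((P₁ ⊓ Subgroup.centralizer (P₁ : Set G) : Subgroup G) : Set G) ≤ L' →
        L' = L)
  · exact Or.inl hz
  · right
    intro x hx hxZ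
    obtain ⟨hAe, hAc, hAP⟩ := elemAb_center_sup_zpowers hZc hexp hx hxZ
    obtain ⟨A₀, hA₀A, hA₀c, hN, huniq⟩ :=
      exists_normalizer_unique h16b hL hα (hAP.trans hP₁L) hAe hAc
    have hA₀Z : A₀ ≠ P₁ ⊓ Subgroup.centralizer (P₁ : Set G) := by
      rintro rfl
      exact hz ⟨hN, huniq⟩
    exact normalizer_zpowers_le_of_conj hP₁L hZc hcomm hexp hx hxZ hA₀A hA₀c hA₀Z hN

/-- **S1422** modulo S1412, S1416, S1417 (via `HypTau2`). -/
theorem nonabelian_inUniqueMaximal (hG : IsMinSimpleOddOrder G) (h16 : H1416a G)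
    (h16b : H1416b G) (hT : HypTau2 G) (h12 : H1412 G) (p : ℕ) [hp : Fact p.Prime]
    (P : Subgroup G) (hP : IsPGroup p P) (hPna : ¬ IsMulCommutative P) : InUniqueMaximal P := by
  have hU := uniq3 hG
  have hpp := hp.out
  have hP1 : P ≠ ⊥ := by
    rintro rfl
    apply hPna
    exact ⟨⟨fun a b => Subsingleton.elim _ _⟩⟩
  have hPt : P ≠ ⊤ := by
    rintro rfl
    apply normalizer_ne_top_of_isPGroup hG hP hP1
    exact Subgroup.normalizer_eq_top _
  obtain ⟨M, hM, hPM⟩ := exists_coatom_ge hPt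
  rw [inUniqueMaximal_iff]
  refine ⟨M, hM, hPM, ?_⟩
  intro H hH hPH
  by_contra hne
  -- `p ∈ σ(L)` for every maximal `L ≥ P`
  have hσ : ∀ L : Subgroup G, IsCoatom L → P ≤ L → p ∈ sigma L := by
    intro L hL hPL
    by_contra hpσ
    apply hPna
    apply nilpotent_sigma'_abelian hG hU hT hL hPL hP.isNilpotent
    intro q hq hqd
    obtain ⟨k, hk⟩ := IsPGroup.iff_card.1 hP
    rw [hk] at hqd
    have := (Nat.prime_dvd_prime_iff_eq hq hpp).1 (hq.dvd_of_dvd_pow hqd)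
    rw [this]; exact hpσ
  have hpM := hσ M hM hPM
  have hpH := hσ H hH hPH
  obtain ⟨S, hS, hPS⟩ := SylIn.exists_ge hP (le_inf hPM hPH)
  have hSM : S ≤ M := hS.le.trans inf_le_left
  have hSH : S ≤ H := hS.le.trans inf_le_right
  have hSna : ¬ IsMulCommutative S := fun h => hPna (isMulCommutative_of_le hPS h)
  have hSnc : ¬ IsCyclic S := fun h => hSna (by haveI := h; exact isMulCommutative_of_isCyclic)
  have hNM : Subgroup.normalizer (S : Set G) ≤ M :=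
    normalizer_le_of_not_cyclic hG h16 hM hpM hS.isPGroup hSM hSnc
  have hNH : Subgroup.normalizer (S : Set G) ≤ H :=
    normalizer_le_of_not_cyclic hG h16 hH hpH hS.isPGroup hSH hSnc
  have hStop : SylIn p S ⊤ := hS.of_normalizer_le le_top (inf_le_right.trans (le_inf hNM hNH))
  have hSsM : SylIn p S M := hStop.mono hSM le_top
  have hSsH : SylIn p S H := hStop.mono hSH le_top
  have hr2 : PRankLE p 2 ↥S := by
    by_contra hr
    have hSt : S ≠ ⊤ := by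
      rintro rfl
      exact hM.1 (top_le_iff.1 hSM)
    obtain ⟨M', ⟨hM'c, hSM'⟩, huniq⟩ := hU S hSt (fun h => hr (h p hpp))
    exact hne ((huniq H ⟨hH, hSH⟩).trans (huniq M ⟨hM, hSM⟩).symm)
  obtain ⟨Ssyl, hSsyl⟩ := hStop.exists_sylow_top
  have hr2' : PRankLE p 2 ↥(Ssyl : Subgroup G) := by rw [hSsyl]; exact hr2
  rcases h12 p Ssyl hr2' with hab | ⟨P₁, hP₁S', hP₁na, hP₁c, hP₁e⟩
  · rw [hSsyl] at hab
    exact hSna hab
  have hP₁S : P₁ ≤ S := by rw [← hSsyl]; exact hP₁S'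
  have hexp : ∀ a ∈ P₁, a ^ p = 1 := by
    intro a ha
    have h1 := Monoid.pow_exponent_eq_one (⟨a, ha⟩ : ↥P₁)
    rw [hP₁e] at h1
    have h2 := congrArg Subtype.val h1
    simpa using h2
  have hpαM : p ∉ alpha M := fun h => h.2 (pRankLE_of_sylIn hSsM hr2)
  have hpαH : p ∉ alpha H := fun h => h.2 (pRankLE_of_sylIn hSsH hr2)
  have hsupM := alpha_mul_normalizer hG hM hpM hSsM
  have hsupH := alpha_mul_normalizer hG hH hpH hSsH
  have hncMH : ∀ g : G, H ≠ cj(g, M) := not_conj_of_sylow hStop hSM hNM hSH hne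
  have hcop := coprime_card_alphaCore hG hM hH hncMH
  have hD : M ⊓ H ≤ Subgroup.normalizer (S : Set G) :=
    inf_le_normalizer hsupM hsupH hNM hNH hcop
  have hD' : H ⊓ M ≤ Subgroup.normalizer (S : Set G) := by rw [inf_comm]; exact hD
  have hXM := alpha_inf_le_centralizer hD hSM hSH hS.isPGroup hpαM
  have hXH := alpha_inf_le_centralizer hD' hSH hSM hS.isPGroup hpαH
  have hHt : H ≠ ⊤ := hH.1
  have hMt : M ≠ ⊤ := hM.1
  have hαM : alphaCore M ≠ ⊥ := by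
    intro h
    apply hne
    apply eq_of_coatom_of_le hG hM hHt
    intro m hm
    obtain ⟨k, hk, n, hn, rfl⟩ := hsupM m hm
    rw [h, Subgroup.mem_bot] at hk
    rw [hk, one_mul]; exact hNH hn.1
  have hαH : alphaCore H ≠ ⊥ := by
    intro h
    apply hne
    symm
    apply eq_of_coatom_of_le hG hH hMt
    intro m hm
    obtain ⟨k, hk, n, hn, rfl⟩ := hsupH m hm
    rw [h, Subgroup.mem_bot] at hk
    rw [hk, one_mul]; exact hNM hn.1
  obtain ⟨hZc, hcomm⟩ := center_of_card_cube' hP₁c hP₁na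
  have hP₁M : P₁ ≤ M := hP₁S.trans hSM
  have hP₁H : P₁ ≤ H := hP₁S.trans hSH
  have hnotH : ¬ ∀ x ∈ P₁, x ∉ P₁ ⊓ Subgroup.centralizer (P₁ : Set G) →
      Subgroup.normalizer ((Subgroup.zpowers x : Subgroup G) : Set G) ≤ H := by
    intro hPX
    apply hne
    exact eq_of_coatom_of_le hG hM hHt
      (core_le hP₁S hSM hP₁c hP₁na hexp hpαM hsupM hNH hXM hPX)
  have hnotM : ¬ ∀ x ∈ P₁, x ∉ P₁ ⊓ Subgroup.centralizer (P₁ : Set G) →
      Subgroup.normalizer ((Subgroup.zpowers x : Subgroup G) : Set G) ≤ M := by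
    intro hPX
    apply hne
    symm
    exact eq_of_coatom_of_le hG hH hMt
      (core_le hP₁S hSH hP₁c hP₁na hexp hpαH hsupH hNM hXH hPX)
  rcases center_or_noncentral h16b hM hαM hP₁M hZc hcomm hexp with hzM | hxM
  · rcases center_or_noncentral h16b hH hαH hP₁H hZc hcomm hexp with hzH | hxH
    · exact hne (hzM.2 H hH hzH.1)
    · exact hnotH hxH
  · exact hnotM hxM

end Cfsg.Agent.Lib.H20.BGU
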