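import Mathlib
import Cfsg.Agent.Lib.H20.BGU4

/-! # Toolkit for BG Lemma 12.14 (S1423) (helper20), part 1: generic lemmas -/

set_option autoImplicit false
set_option linter.style.haveILetI false
set_option linter.unusedSectionVars false
set_option linter.unusedVariables false
set_option linter.deprecated false

open Cfsg

namespace Cfsg.Agent.Lib.H20.BGV

open Cfsg.Agent.Lib.H20.BGT
open Cfsg.Agent.Lib.H20.BGU
open Cfsg.Agent.Lib.H16.BG
open Cfsg.Agent.Lib.H7.BG7
open Cfsg.Agent.Lib.H19 (IsPiCard)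

universe u v

section TypeLevel

variable {F : Type v} [Group F] [Finite F]

/-- With a normal `p`-complement `N`, a Sylow `p`-subgroup `Q` satisfies `Q ∩ F' ≤ Q'`. -/
theorem inf_commutator_le_of_normal_complement {p : ℕ} [hp : Fact p.Prime]
    (hnpc : HasNormalPComplement p F) (Q : Subgroup F) (hQ : IsPGroup p Q)
    (hQi : ¬ p ∣ Q.index) : Q ⊓ commutator F ≤ ⁅Q, Q⁆ := by
  obtain ⟨S₀, N, hNn, hNc⟩ := hnpc
  haveI := hNn
  have hpp := hp.out
  have hNcard : Nat.card N = (S₀ : Subgroup F).index := hNc.index_eq_card.symm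
  have hNp : (Nat.card N).Coprime p := by
    rw [hNcard]
    exact ((Nat.Prime.coprime_iff_not_dvd hpp).2 S₀.not_dvd_index).symm
  have hNQ : N ⊓ Q = ⊥ := by
    apply Subgroup.inf_eq_bot_of_coprime
    obtain ⟨k, hk⟩ := IsPGroup.iff_card.1 hQ
    rw [hk]
    exact Nat.Coprime.pow_right k hNp
  set π := QuotientGroup.mk' N with hπ
  -- `π Q = ⊤`
  have hcardQ : Nat.card Q = Nat.card (S₀ : Subgroup F) := by
    have h2 := Sylow.card_eq_multiplicity (hQ.toSylow hQi)
    have h3 := Sylow.card_eq_multiplicity S₀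
    have h4 : Nat.card ((hQ.toSylow hQi : Sylow p F) : Subgroup F) = Nat.card Q := by
      rw [hQ.toSylow_coe hQi]
    rw [← h4, h2, h3]
  have hmapQ : Q.map π = ⊤ := by
    apply Subgroup.eq_top_of_card_eq
    have h1 : Nat.card (Q.map π) = N.relIndex Q := by
      rw [← Subgroup.relIndex_ker, hπ, QuotientGroup.ker_mk']
    have h2 : Nat.card (N ⊓ Q : Subgroup F) * (N ⊓ Q).relIndex Q = Nat.card Q :=
      SylIn.card_mul_relIndex inf_le_right
    rw [hNQ, Subgroup.card_bot, one_mul, ← hNQ, Subgroup.inf_relIndex_right] at h2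
    rw [h1, h2, hcardQ, ← Subgroup.index_eq_card]
    have h3 := hNc.card_mul
    have h4 := Subgroup.card_mul_index N
    have hpos : 0 < Nat.card N := Nat.card_pos
    apply Nat.eq_of_mul_eq_mul_left hpos
    rw [h3, h4]
  intro x hx
  have h1 : π x ∈ (commutator F).map π := Subgroup.mem_map_of_mem _ hx.2
  have h2 : (commutator F).map π = (⁅Q, Q⁆).map π := by
    rw [commutator_def, Subgroup.map_commutator, Subgroup.map_commutator, hmapQ]
    congr 1 <;> exact (Subgroup.map_top_of_surjective π (QuotientGroup.mk'_surjective N))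
  rw [h2] at h1
  obtain ⟨d, hd, hdx⟩ := h1
  have hdQ : d ∈ Q := Subgroup.commutator_le_self Q hd
  have h3 : d⁻¹ * x ∈ N := by
    rw [hπ, QuotientGroup.mk'_apply, QuotientGroup.mk'_apply, QuotientGroup.eq] at hdx
    exact hdx
  have h4 : d⁻¹ * x ∈ N ⊓ Q := ⟨h3, Q.mul_mem (Q.inv_mem hdQ) hx.1⟩
  rw [hNQ, Subgroup.mem_bot] at h4
  have h5 : x = d := by
    calc x = d * (d⁻¹ * x) := by group
      _ = d := by rw [h4, mul_one]
  rw [h5]; exact hd

/-- A normal subgroup of index dividing a prime contains the commutator subgroup. -/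
theorem commutator_le_of_index_dvd_prime {p : ℕ} [hp : Fact p.Prime] (C : Subgroup F) [C.Normal]
    (h : C.index ∣ p) : commutator F ≤ C := by
  rw [← Subgroup.Normal.quotient_commutative_iff_commutator_le]
  rcases (Nat.dvd_prime hp.out).1 h with h1 | h1
  · have : C = ⊤ := Subgroup.index_eq_one.1 h1
    subst this
    haveI : Subsingleton (F ⧸ (⊤ : Subgroup F)) := QuotientGroup.subsingleton_quotient_top
    exact ⟨⟨fun a b => Subsingleton.elim _ _⟩⟩
  · rw [Subgroup.index_eq_card] at h1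
    haveI : IsCyclic (F ⧸ C) := isCyclic_of_prime_card h1
    exact Cfsg.Agent.Lib.H8.BG12.isMulCommutative_of_isCyclic

end TypeLevel

variable {G : Type u} [Group G] [Finite G]

local notation:max "cj(" g ", " X ")" => Subgroup.map (MulEquiv.toMonoidHom (MulAut.conj g)) X

/-- Subgroup version of `inf_commutator_le_of_normal_complement`. -/
theorem inf_commutator_le_of_normal_complement' {p : ℕ} [hp : Fact p.Prime] {F Q : Subgroup G}
    (hnpc : HasNormalPComplement p ↥F) (hQ : SylIn p Q F) : Q ⊓ ⁅F, F⁆ ≤ ⁅Q, Q⁆ := by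
  have h := inf_commutator_le_of_normal_complement hnpc (Q.subgroupOf F)
    hQ.isPGroup.comap_subtype hQ.2.2
  intro x hx
  have hxF : x ∈ F := hQ.le hx.1
  have h1 : (⟨x, hxF⟩ : ↥F) ∈ Q.subgroupOf F ⊓ commutator ↥F := by
    refine ⟨Subgroup.mem_subgroupOf.2 hx.1, ?_⟩
    have h2 := hx.2
    rw [← Subgroup.map_subtype_commutator] at h2
    obtain ⟨y, hy, hyx⟩ := h2
    have : y = ⟨x, hxF⟩ := Subtype.ext hyx
    rwa [← this]
  have h3 := h h1
  have h4 : F.subtype ⟨x, hxF⟩ ∈ (⁅Q.subgroupOf F, Q.subgroupOf F⁆).map F.subtype :=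
    Subgroup.mem_map_of_mem _ h3
  rw [Subgroup.map_commutator, Subgroup.map_subgroupOf_eq_of_le hQ.le] at h4
  exact h4

/-- If `V ≤ Q` is `Q`-invariant and `|Q : C_Q(V)|` divides `p`, then `Q' ≤ C(V)`. -/
theorem commutator_le_centralizer_of_index {p : ℕ} [hp : Fact p.Prime] {Q V : Subgroup G}
    (hQV : Q ≤ Subgroup.normalizer (V : Set G))
    (hidx : Nat.card Q ∣ p * Nat.card (Q ⊓ Subgroup.centralizer (V : Set G) : Subgroup G)) :
    ⁅Q, Q⁆ ≤ Subgroup.centralizer (V : Set G) := by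
  set C := Q ⊓ Subgroup.centralizer (V : Set G) with hC
  have hCQ : C ≤ Q := inf_le_left
  have hQC : Q ≤ Subgroup.normalizer ((C : Subgroup G) : Set G) :=
    le_normalizer_inf' Subgroup.le_normalizer (le_normalizer_centralizer_of_le hQV)
  haveI hn : (C.subgroupOf Q).Normal := Subgroup.normal_subgroupOf_of_le_normalizer hQC
  have hindex : (C.subgroupOf Q).index ∣ p := by
    have h1 : Nat.card C * C.relIndex Q = Nat.card Q := SylIn.card_mul_relIndex hCQ
    rw [← h1, mul_comm p] at hidx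
    exact Nat.dvd_of_mul_dvd_mul_left Nat.card_pos hidx
  have h2 := commutator_le_of_index_dvd_prime (C.subgroupOf Q) hindex
  have h3 := Subgroup.map_mono (f := Q.subtype) h2
  rw [Subgroup.map_subtype_commutator, Subgroup.map_subgroupOf_eq_of_le hCQ] at h3
  exact h3.trans inf_le_right

/-- If `Y ≤ W ≠ ⊤` and `M` is the only maximal subgroup over `Y`, the same holds for `W`. -/
theorem unique_of_le {Y W M : Subgroup G} (hYW : Y ≤ W) (hW : W ≠ ⊤)
    (hY : ∀ L : Subgroup G, IsCoatom L → Y ≤ L → L = M) :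
    W ≤ M ∧ ∀ L : Subgroup G, IsCoatom L → W ≤ L → L = M := by
  have h2 : ∀ L : Subgroup G, IsCoatom L → W ≤ L → L = M := fun L hL hWL =>
    hY L hL (hYW.trans hWL)
  obtain ⟨L, hL, hWL⟩ := exists_coatom_ge hW
  refine ⟨?_, h2⟩
  rw [← h2 L hL hWL]; exact hWL

/-- A subgroup of prime order `p` is elementary abelian. -/
theorem isElementaryAbelian_of_card_prime {p : ℕ} [hp : Fact p.Prime] {X : Subgroup G}
    (hX : Nat.card X = p) : IsElementaryAbelian p X := by
  haveI : IsCyclic X := isCyclic_of_prime_card hX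
  refine ⟨Cfsg.Agent.Lib.H8.BG12.isMulCommutative_of_isCyclic, ?_⟩
  intro a ha
  have h1 : (⟨a, ha⟩ : ↥X) ^ Nat.card X = 1 := pow_card_eq_one'
  rw [hX] at h1
  have h2 := congrArg Subtype.val h1
  simpa using h2

/-- `X × ⟨y⟩` is elementary abelian of order `p²`. -/
theorem elemAb_sup_zpowers {p : ℕ} [hp : Fact p.Prime] {X : Subgroup G} (hX : Nat.card X = p)
    {y : G} (hyX : y ∉ X) (hyp : y ^ p = 1)
    (hyc : y ∈ Subgroup.centralizer (X : Set G)) :
    IsElementaryAbelian p (X ⊔ Subgroup.zpowers y) ∧ Nat.card ↥(X ⊔ Subgroup.zpowers y) = p ^ 2 := by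
  have hpp := hp.out
  have hy1 : y ≠ 1 := by
    rintro rfl
    exact hyX X.one_mem
  have hXe := isElementaryAbelian_of_card_prime hX
  have hYe : IsElementaryAbelian p (Subgroup.zpowers y) := isElementaryAbelian_zpowers hyp
  have hXY : X ≤ Subgroup.centralizer ((Subgroup.zpowers y : Subgroup G) : Set G) := by
    rw [centralizer_zpowers_eq]
    intro x hx
    rw [Subgroup.mem_centralizer_singleton_iff]
    exact (Subgroup.mem_centralizer_iff.1 hyc) x hx
  have hcy : Nat.card (Subgroup.zpowers y) = p := by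
    rw [Nat.card_zpowers]; exact orderOf_eq_prime hyp hy1
  have hinf : X ⊓ Subgroup.zpowers y = ⊥ := by
    rcases eq_bot_or_eq_of_le_of_card_prime hpp hcy
      (inf_le_right : X ⊓ Subgroup.zpowers y ≤ Subgroup.zpowers y) with h | h
    · exact h
    · exfalso
      apply hyX
      have h1 : Subgroup.zpowers y ≤ X := by rw [← h]; exact inf_le_left
      exact h1 (Subgroup.mem_zpowers y)
  refine ⟨isElementaryAbelian_sup hXe hYe hXY, ?_⟩
  have h := card_sup_mul_card_inf (hXY.trans (Subgroup.centralizer_le_normalizer _))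
  rw [hinf, Subgroup.card_bot, mul_one, hX, hcy] at h
  rw [h, pow_two]

/-- In a `p`-group `Q` with an elementary abelian subgroup of order more than `p`, every subgroup
of order `p` lies in an elementary abelian subgroup of order `p²`. -/
theorem exists_elemAb_sq_ge {p : ℕ} [hp : Fact p.Prime] {Q X B₀ : Subgroup G} (hQ : IsPGroup p Q)
    (hXQ : X ≤ Q) (hX : Nat.card X = p) (hB₀Q : B₀ ≤ Q) (hB₀e : IsElementaryAbelian p B₀)
    (hB₀c : p < Nat.card B₀) :
    ∃ A : Subgroup G, X ≤ A ∧ A ≤ Q ∧ IsElementaryAbelian p A ∧ Nat.card A = p ^ 2 := by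
  have hpp := hp.out
  have hX1 : X ≠ ⊥ := by
    intro h
    rw [h, Subgroup.card_bot] at hX
    exact hpp.one_lt.ne hX
  have hQ1 : Q ≠ ⊥ := Cfsg.Agent.Lib.H16.BG.ne_bot_of_le_ne_bot hX1 hXQ
  have hZ1 := inf_centralizer_self_ne_bot hQ hQ1
  -- an element of order `p` in the centre
  obtain ⟨z, hzZ, hz1, hzp⟩ : ∃ z : G, z ∈ Q ⊓ Subgroup.centralizer (Q : Set G) ∧ z ≠ 1 ∧
      z ^ p = 1 := by
    have hZp : IsPGroup p ↥(Q ⊓ Subgroup.centralizer (Q : Set G)) := hQ.to_le inf_le_left
    have hd : p ∣ Nat.card ↥(Q ⊓ Subgroup.centralizer (Q : Set G)) := by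
      obtain ⟨k, hk⟩ := IsPGroup.iff_card.1 hZp
      have hk0 : k ≠ 0 := by
        rintro rfl
        rw [pow_zero] at hk
        exact hZ1 (Subgroup.eq_bot_of_card_eq _ hk)
      rw [hk]; exact dvd_pow_self p hk0
    obtain ⟨w, hw⟩ := exists_prime_orderOf_dvd_card' (G := ↥(Q ⊓ Subgroup.centralizer (Q : Set G))) p hd
    refine ⟨(w : G), w.2, ?_, ?_⟩
    · intro h
      have : w = 1 := Subtype.ext h
      rw [this, orderOf_one] at hw
      exact hpp.one_lt.ne hw
    · have h1 : w ^ p = 1 := by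
        have := pow_orderOf_eq_one w
        rwa [hw] at this
      have h2 := congrArg Subtype.val h1
      simpa using h2
  by_cases hzX : z ∈ X
  · -- `X` is central
    have hXeq : Subgroup.zpowers z = X := zpowers_eq_of_card_prime hpp hX hzX hz1
    obtain ⟨y, hyB, hyX⟩ : ∃ y ∈ B₀, y ∉ X := by
      by_contra hcon
      push Not at hcon
      have h1 : B₀ ≤ X := hcon
      have := Subgroup.card_le_of_le h1
      omega
    have hyc : y ∈ Subgroup.centralizer (X : Set G) := by
      rw [← hXeq, centralizer_zpowers_eq, Subgroup.mem_centralizer_singleton_iff]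
      exact (Subgroup.mem_centralizer_iff.1 hzZ.2) y (hB₀Q hyB)
    obtain ⟨hAe, hAc⟩ := elemAb_sup_zpowers hX hyX (hB₀e.2 y hyB) hyc
    exact ⟨_, le_sup_left, sup_le hXQ (Subgroup.zpowers_le.2 (hB₀Q hyB)), hAe, hAc⟩
  · have hzc : z ∈ Subgroup.centralizer (X : Set G) :=
      Subgroup.centralizer_le (by exact_mod_cast hXQ) hzZ.2
    obtain ⟨hAe, hAc⟩ := elemAb_sup_zpowers hX hzX hzp hzc
    exact ⟨_, le_sup_left, sup_le hXQ (Subgroup.zpowers_le.2 hzZ.1), hAe, hAc⟩

end Cfsg.Agent.Lib.H20.BGV
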