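import Mathlib
import Cfsg.Agent.Lib.H20.BGV1
import Cfsg.Agent.Lib.H16.BGn
import Cfsg.Agent.Lib.H16.BGm

/-! # BG Lemma 12.14 (S1423) modulo S1412, S1414, S1422 (helper20) -/

set_option autoImplicit false
set_option linter.style.haveILetI false
set_option linter.unusedSectionVars false
set_option linter.unusedVariables false
set_option linter.deprecated false

open Cfsg

namespace Cfsg.Agent.Lib.H20.BGV

open Cfsg.Agent.Lib.H20.BGT
open Cfsg.Agent.Lib.H20.BGU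
open Cfsg.Agent.Lib.H16.BG
open Cfsg.Agent.Lib.H7.BG7
open Cfsg.Agent.Lib.H19 (IsPiCard)

universe u v
variable {G : Type u} [Group G] [Finite G]

local notation:max "cj(" g ", " X ")" => Subgroup.map (MulEquiv.toMonoidHom (MulAut.conj g)) X

/-- S1422 as a hypothesis. -/
def H1422 (G : Type u) [Group G] : Prop :=
  ∀ (p : ℕ) [Fact p.Prime] (P : Subgroup G), IsPGroup p P → ¬ IsMulCommutative P →
    InUniqueMaximal P

/-- The needed part of S1414: normal `p`-complements in `M_σ` for `p ∉ β(M)`. -/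
def H1414c (G : Type u) [Group G] : Prop :=
  ∀ (M : Subgroup G), IsCoatom M → ∀ p : ℕ, p.Prime → p ∣ Nat.card M → p ∉ beta M →
    HasNormalPComplement p ↥(sigmaCore M)

/-- S1412 as a hypothesis (without the last clause). -/
def H1412s (G : Type u) [Group G] : Prop :=
  ∀ (p : ℕ) [Fact p.Prime] (P : Sylow p G), PRankLE p 2 (P : Subgroup G) →
    IsMulCommutative (P : Subgroup G) ∨ ∃ P₁ P₂ : Subgroup G, P₁ ⊔ P₂ = (P : Subgroup G) ∧
      (∀ a ∈ P₁, ∀ b ∈ P₂, a * b = b * a) ∧ ¬ IsMulCommutative P₁ ∧ Nat.card P₁ = p ^ 3 ∧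
      IsCyclic P₂

/-- Commutators in a central product. -/
theorem central_product_commutator {a₁ a₂ b₁ b₂ : G} (h1 : Commute a₂ b₁) (h2 : Commute a₂ b₂)
    (h3 : Commute b₂ a₁) :
    (a₁ * a₂) * (b₁ * b₂) * (a₁ * a₂)⁻¹ * (b₁ * b₂)⁻¹ = a₁ * b₁ * a₁⁻¹ * b₁⁻¹ := by
  have e1 : a₂ * (b₁ * b₂) * a₂⁻¹ = b₁ * b₂ := by
    have : Commute a₂ (b₁ * b₂) := h1.mul_right h2
    rw [this.eq, mul_inv_cancel_right]
  have e2 : b₂ * a₁⁻¹ * b₂⁻¹ = a₁⁻¹ := by
    have : Commute b₂ a₁⁻¹ := h3.inv_right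
    rw [this.eq, mul_inv_cancel_right]
  calc (a₁ * a₂) * (b₁ * b₂) * (a₁ * a₂)⁻¹ * (b₁ * b₂)⁻¹
      = a₁ * (a₂ * (b₁ * b₂) * a₂⁻¹) * a₁⁻¹ * b₂⁻¹ * b₁⁻¹ := by group
    _ = a₁ * (b₁ * b₂) * a₁⁻¹ * b₂⁻¹ * b₁⁻¹ := by rw [e1]
    _ = a₁ * b₁ * (b₂ * a₁⁻¹ * b₂⁻¹) * b₁⁻¹ := by group
    _ = a₁ * b₁ * a₁⁻¹ * b₁⁻¹ := by rw [e2]

/-- In a central product `P₁ * P₂` with `|P₁| = p³` nonabelian and `P₂` cyclic, the derived subgroup
is central. -/
theorem commutator_le_centralizer_of_central_product {p : ℕ} [hp : Fact p.Prime]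
    {Q P₁ P₂ : Subgroup G} (hsup : P₁ ⊔ P₂ = Q) (hc : ∀ a ∈ P₁, ∀ b ∈ P₂, a * b = b * a)
    (hna : ¬ IsMulCommutative P₁) (hcard : Nat.card P₁ = p ^ 3) (hcyc : IsCyclic P₂) :
    ⁅Q, Q⁆ ≤ Subgroup.centralizer (Q : Set G) := by
  obtain ⟨hZc, hcomm⟩ := center_of_card_cube' hcard hna
  set Z := P₁ ⊓ Subgroup.centralizer (P₁ : Set G) with hZ
  have hP₂c : ∀ a ∈ P₂, ∀ b ∈ P₂, a * b = b * a := by
    intro a ha b hb
    haveI := hcyc
    have := (Cfsg.Agent.Lib.H8.BG12.isMulCommutative_of_isCyclic (α := ↥P₂)).is_comm.comm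
      ⟨a, ha⟩ ⟨b, hb⟩
    exact congrArg Subtype.val this
  have hZQ : Z ≤ Subgroup.centralizer (Q : Set G) := by
    rw [← hsup, centralizer_sup_eq]
    refine le_inf inf_le_right ?_
    intro z hz
    rw [Subgroup.mem_centralizer_iff]
    intro b hb
    exact (hc z hz.1 b hb).symm
  have hP₂N : P₂ ≤ Subgroup.normalizer (P₁ : Set G) := by
    refine le_trans ?_ (Subgroup.centralizer_le_normalizer _)
    intro b hb
    rw [Subgroup.mem_centralizer_iff]
    intro a ha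
    exact hc a ha b hb
  refine le_trans ?_ hZQ
  rw [Subgroup.commutator_le]
  intro a ha b hb
  rw [← hsup] at ha hb
  obtain ⟨a₁, ha₁, a₂, ha₂, rfl⟩ := Cfsg.Agent.Lib.H1.mem_sup_of_le_normalizer hP₂N ha
  obtain ⟨b₁, hb₁, b₂, hb₂, rfl⟩ := Cfsg.Agent.Lib.H1.mem_sup_of_le_normalizer hP₂N hb
  rw [commutatorElement_def, central_product_commutator (hc b₁ hb₁ a₂ ha₂).symm
    (hP₂c a₂ ha₂ b₂ hb₂) (hc a₁ ha₁ b₂ hb₂).symm]
  exact hcomm a₁ ha₁ b₁ hb₁

/-- `⁅F, F⁆` is normalized by `F`. -/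
theorem le_normalizer_commutator_self (F : Subgroup G) :
    F ≤ Subgroup.normalizer ((⁅F, F⁆ : Subgroup G) : Set G) := by
  rw [← Subgroup.map_subtype_commutator]
  exact Cfsg.Agent.Lib.H7.PrimPair.le_normalizer_map_subtype _

/-- For `p ∈ σ(M) ∖ β(M)` with `p` dividing `|(M_σ)'|`, the Sylow `p`-subgroups of `M` are
nonabelian. -/
theorem sylow_nonabelian (hG : IsMinSimpleOddOrder G) (h14 : H1414c G) {M : Subgroup G}
    (hM : IsCoatom M) {p : ℕ} [hp : Fact p.Prime] (hpσ : p ∈ sigma M) (hpβ : p ∉ beta M)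
    {Q : Subgroup G} (hQ : SylIn p Q M) {X : Subgroup G}
    (hX : X ≤ ⁅sigmaCore M, sigmaCore M⁆) (hXc : Nat.card X = p) : ¬ IsMulCommutative Q := by
  intro hab
  have hpp := hp.out
  set F := sigmaCore M with hF
  have hFM : F ≤ M := Cfsg.Agent.Lib.H20.BGS.sigmaCore_le M
  have hQF : Q ≤ F := le_sigmaCore_of_isPiCard hG hM hQ.le
    (isPiCard_of_isPGroup hpp hpσ hQ.isPGroup)
  have hQsF : SylIn p Q F := hQ.mono hQF hFM
  have hnpc := h14 M hM p hpp hpσ.2.1 hpβ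
  have hXF : X ≤ F := hX.trans (Subgroup.commutator_le_self F)
  have hXp : IsPGroup p X := IsPGroup.of_card (n := 1) (by rw [hXc, pow_one])
  obtain ⟨m, hm, hle⟩ := hQsF.exists_conj_le hXp hXF
  have h1 : cj(m, X) ≤ ⁅F, F⁆ := by
    rintro _ ⟨x, hx, rfl⟩
    exact ((Subgroup.mem_normalizer_iff.1 (le_normalizer_commutator_self F hm)) x).1 (hX hx)
  have h2 : cj(m, X) ≤ ⁅Q, Q⁆ :=
    (le_inf hle h1).trans (inf_commutator_le_of_normal_complement' hnpc hQsF)
  have h3 : ⁅Q, Q⁆ = ⊥ := by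
    rw [Subgroup.commutator_eq_bot_iff_le_centralizer]
    intro a ha
    rw [Subgroup.mem_centralizer_iff]
    intro b hb
    exact congrArg Subtype.val (hab.is_comm.comm ⟨b, hb⟩ ⟨a, ha⟩)
  rw [h3, le_bot_iff] at h2
  have h4 : Nat.card (cj(m, X)) = p := by
    rw [Cfsg.Agent.Lib.H10.card_map_conj]; exact hXc
  rw [h2, Subgroup.card_bot] at h4
  exact hpp.one_lt.ne h4

/-- **BG 12.14, second part**: the Sylow `p`-subgroups of `M` lie in no other maximal subgroup. -/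
theorem sylow_unique (hG : IsMinSimpleOddOrder G) (h14 : H1414c G) (h22 : H1422 G)
    {M : Subgroup G} (hM : IsCoatom M) {p : ℕ} [hp : Fact p.Prime] (hpσ : p ∈ sigma M)
    {Q : Subgroup G} (hQ : SylIn p Q M)
    (hyp : p ∈ beta M ∨ ∃ X : Subgroup G, X ≤ ⁅sigmaCore M, sigmaCore M⁆ ∧ Nat.card X = p) :
    ∀ L : Subgroup G, IsCoatom L → Q ≤ L → L = M := by
  have hpp := hp.out
  have hQt : Q ≠ ⊤ := by
    rintro rfl
    exact hM.1 (top_le_iff.1 hQ.le)
  have hU : InUniqueMaximal Q := by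
    by_cases hr : PRankLE p 2 ↥Q
    · have hpα : p ∉ alpha M := fun h => h.2 (pRankLE_of_sylIn hQ hr)
      have hpβ : p ∉ beta M := fun h => hpα h.1
      rcases hyp with h | ⟨X, hX, hXc⟩
      · exact absurd h hpβ
      · exact h22 p Q hQ.isPGroup (sylow_nonabelian hG h14 hM hpσ hpβ hQ hX hXc)
    · exact uniq3 hG Q hQt (fun h => hr (h p hpp))
  obtain ⟨M', hM', hQM', huniq⟩ := inUniqueMaximal_iff.1 hU
  intro L hL hQL
  rw [huniq L hL hQL, huniq M hM hQ.le]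

/-- **BG 12.14, first part**. -/
theorem centralizer_unique (hG : IsMinSimpleOddOrder G) (h12 : H1412s G) (h14 : H1414c G)
    (h22 : H1422 G) {M : Subgroup G} (hM : IsCoatom M) {p : ℕ} [hp : Fact p.Prime]
    (hpσ : p ∈ sigma M) {Q : Subgroup G} (hQ : SylIn p Q M) {X : Subgroup G} (hXQ : X ≤ Q)
    (hXc : Nat.card X = p)
    (hyp : p ∈ beta M ∨ X ≤ ⁅sigmaCore M, sigmaCore M⁆) :
    Subgroup.centralizer (X : Set G) ≤ M ∧
      ∀ L : Subgroup G, IsCoatom L → Subgroup.centralizer (X : Set G) ≤ L → L = M := by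
  have hpp := hp.out
  have hX1 : X ≠ ⊥ := by
    intro h
    rw [h, Subgroup.card_bot] at hXc
    exact hpp.one_lt.ne hXc
  have hCt : Subgroup.centralizer (X : Set G) ≠ ⊤ :=
    Cfsg.Agent.Lib.H16.BG.centralizer_ne_top_of_ne_bot hG hX1
  have hQtop : SylIn p Q ⊤ := (normalizer_le_of_sylIn_sigma hpσ hQ).2
  have hQp : IsPGroup p Q := hQ.isPGroup
  have hQuniq := sylow_unique hG h14 h22 hM hpσ hQ
    (hyp.imp id (fun h => ⟨X, h, hXc⟩))
  set F := sigmaCore M with hF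
  have hFM : F ≤ M := Cfsg.Agent.Lib.H20.BGS.sigmaCore_le M
  have hQF : Q ≤ F := le_sigmaCore_of_isPiCard hG hM hQ.le
    (isPiCard_of_isPGroup hpp hpσ hQ.isPGroup)
  have hQsF : SylIn p Q F := hQ.mono hQF hFM
  by_cases hβ : p ∈ beta M
  · -- ideal prime
    have hr : ¬ PRankLE p 2 ↥Q := fun h => hβ.1.2 (pRankLE_of_sylIn hQ h)
    obtain ⟨B₀, hB₀Q, hB₀e, hB₀c⟩ := exists_elemAb_of_not_pRankLE hpp hr
    have hB₀c' : p < Nat.card B₀ := by
      have : p < p ^ (2 + 1) := by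
        calc p = p ^ 1 := (pow_one p).symm
          _ < p ^ (2 + 1) := Nat.pow_lt_pow_right hpp.one_lt (by norm_num)
      omega
    obtain ⟨A, hXA, hAQ, hAe, hAc⟩ := exists_elemAb_sq_ge hQp hXQ hXc hB₀Q hB₀e hB₀c'
    obtain ⟨Ssyl, hSsyl⟩ := hQtop.exists_sylow_top
    obtain ⟨B, hBS, hBe, hAB⟩ := hβ.2.2.2 Ssyl A (by rw [hSsyl]; exact hAQ) hAe hAc
    rw [hSsyl] at hBS
    have hBc : p ^ 2 < Nat.card B := by
      rw [← hAc]
      exact Cfsg.Agent.Lib.H7.BG10.card_lt_of_lt hAB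
    have hBr : ¬ PRankLE p 2 ↥B := not_pRankLE_of_elemAb le_rfl hBe hBc
    have hBt : B ≠ ⊤ := by
      rintro rfl
      exact hM.1 (top_le_iff.1 (hBS.trans hQ.le))
    have hBU : InUniqueMaximal B := uniq3 hG B hBt (fun h => hBr (h p hpp))
    obtain ⟨M', hM', hBM', huniq⟩ := inUniqueMaximal_iff.1 hBU
    have hMM' : M = M' := huniq M hM (hBS.trans hQ.le)
    have hBX : B ≤ Subgroup.centralizer (X : Set G) := by
      intro b hb
      rw [Subgroup.mem_centralizer_iff]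
      intro x hx
      exact congrArg Subtype.val (hBe.1.is_comm.comm ⟨x, hAB.le (hXA hx)⟩ ⟨b, hb⟩)
    exact unique_of_le hBX hCt (fun L hL hBL => by rw [hMM']; exact huniq L hL hBL)
  · have hXF' : X ≤ ⁅F, F⁆ := by
      rcases hyp with h | h
      · exact absurd h hβ
      · exact h
    have hnpc := h14 M hM p hpp hpσ.2.1 hβ
    have hXQ' : X ≤ ⁅Q, Q⁆ :=
      (le_inf hXQ hXF').trans (inf_commutator_le_of_normal_complement' hnpc hQsF)
    have hQna : ¬ IsMulCommutative Q := sylow_nonabelian hG h14 hM hpσ hβ hQ hXF' hXc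
    by_cases hr : PRankLE p 2 ↥Q
    · -- rank at most 2: `X` is central in `Q`
      obtain ⟨Ssyl, hSsyl⟩ := hQtop.exists_sylow_top
      rcases h12 p Ssyl (by rw [hSsyl]; exact hr) with hab | ⟨P₁, P₂, hsup, hc, hna, hcard, hcyc⟩
      · rw [hSsyl] at hab
        exact absurd hab hQna
      · rw [hSsyl] at hsup
        have h1 := commutator_le_centralizer_of_central_product hsup hc hna hcard hcyc
        have h2 : Q ≤ Subgroup.centralizer (X : Set G) := le_centralizer_comm (hXQ'.trans h1)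
        exact unique_of_le h2 hCt hQuniq
    · -- rank at least 3
      have hQnc : ¬ IsCyclic Q := fun h =>
        hQna (by haveI := h; exact Cfsg.Agent.Lib.H8.BG12.isMulCommutative_of_isCyclic)
      have hQ1 : Q ≠ ⊥ := Cfsg.Agent.Lib.H16.BG.ne_bot_of_le_ne_bot hX1 hXQ
      have hp2 : p ≠ 2 := prime_ne_two' hG hQp hQ1
      obtain ⟨V, hVQ, hQV, hVe, hVc, hVidx⟩ := exists_normal_sq_rel hp2 hQp hQnc
      have hXV : X ≤ Subgroup.centralizer (V : Set G) :=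
        hXQ'.trans (commutator_le_centralizer_of_index hQV (hVidx Q le_rfl))
      have hVX : V ≤ Subgroup.centralizer (X : Set G) := le_centralizer_comm hXV
      obtain ⟨A₀, hA₀Q, hA₀e, hA₀c⟩ := exists_elemAb_of_not_pRankLE hpp hr
      rw [show (2 + 1 : ℕ) = 3 from rfl] at hA₀c
      have hA₀r : ¬ PRankLE p 2 ↥A₀ := by
        apply not_pRankLE_of_elemAb le_rfl hA₀e
        have : p ^ 2 < p ^ 3 := Nat.pow_lt_pow_right hpp.one_lt (by norm_num)
        omega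
      have hA₀t : A₀ ≠ ⊤ := by
        rintro rfl
        exact hM.1 (top_le_iff.1 (hA₀Q.trans hQ.le))
      have hA₀U : InUniqueMaximal A₀ := uniq3 hG A₀ hA₀t (fun h => hA₀r (h p hpp))
      have hA₀cent : A₀ ≤ Subgroup.centralizer (A₀ : Set G) := by
        intro a ha
        rw [Subgroup.mem_centralizer_iff]
        intro b hb
        exact congrArg Subtype.val (hA₀e.1.is_comm.comm ⟨b, hb⟩ ⟨a, ha⟩)
      have hK1 : InUniqueMaximal (A₀ ⊓ Subgroup.centralizer (V : Set G) : Subgroup G) := by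
        apply inUniqueMaximal_of_le_centralizer hG hA₀U (inf_le_left.trans hA₀cent)
        refine not_rankLE_one_of_elemAb (p := p)
          (B := A₀ ⊓ Subgroup.centralizer (V : Set G)) le_rfl ?_ ?_
        · exact isElementaryAbelian_of_le hA₀e inf_le_left
        · exact sq_le_card_inf (p := p) hA₀c (hVidx A₀ hA₀Q)
      have hVU : InUniqueMaximal V := by
        apply inUniqueMaximal_of_le_centralizer hG hK1
        · exact le_centralizer_comm inf_le_right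
        · exact not_rankLE_one_of_elemAb le_rfl hVe (by rw [hVc])
      obtain ⟨M', hM', hVM', huniq⟩ := inUniqueMaximal_iff.1 hVU
      have hMM' : M = M' := huniq M hM (hVQ.trans hQ.le)
      exact unique_of_le hVX hCt (fun L hL hVL => by rw [hMM']; exact huniq L hL hVL)

/-- a Sylow `q`-subgroup of a Hall `π`-subgroup, `q ∈ π`, is a Sylow `q`-subgroup. -/
theorem sylIn_of_hall {π : Set ℕ} {q : ℕ} [hq : Fact q.Prime] {Q H K : Subgroup G}
    (hH : IsPiHallOf π H K) (hqπ : q ∈ π) (hQ : SylIn q Q H) : SylIn q Q K := by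
  refine ⟨hQ.1.trans hH.1, hQ.2.1, ?_⟩
  rw [← Subgroup.relIndex_mul_relIndex Q H K hQ.1 hH.1]
  intro hd
  rcases (Nat.Prime.dvd_mul hq.out).1 hd with h | h
  · exact hQ.2.2 h
  · exact hH.2.2 q hq.out hqπ h

/-- **S1423** modulo S1412, S1414, S1422. -/
theorem lemma_12_14 (hG : IsMinSimpleOddOrder G) (h12 : H1412s G) (h14 : H1414c G)
    (h22 : H1422 G) (M : Subgroup G) (hM : IsCoatom M) (p : ℕ) [hp : Fact p.Prime]
    (hpσ : p ∈ sigma M) (X : Subgroup G) (hXM : X ≤ M) (hX : Nat.card X = p)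
    (P : Sylow p ↥(sigmaCore M))
    (h : p ∈ beta M ∨ X ≤ ⁅sigmaCore M, sigmaCore M⁆) :
    (Subgroup.centralizer (X : Set G) ≤ M ∧
        ∀ L : Subgroup G, IsCoatom L → Subgroup.centralizer (X : Set G) ≤ L → L = M) ∧
      InUniqueMaximal ((P : Subgroup ↥(sigmaCore M)).map (sigmaCore M).subtype) ∧
      (P : Subgroup ↥(sigmaCore M)).map (sigmaCore M).subtype ≤ M := by
  have hpp := hp.out
  have hFM : sigmaCore M ≤ M := Cfsg.Agent.Lib.H20.BGS.sigmaCore_le M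
  have hXp : IsPGroup p X := IsPGroup.of_card (n := 1) (by rw [hX, pow_one])
  obtain ⟨Q, hQ, hXQ⟩ := SylIn.exists_ge hXp hXM
  have hP' : SylIn p ((P : Subgroup ↥(sigmaCore M)).map (sigmaCore M).subtype) (sigmaCore M) :=
    SylIn.of_sylow P
  have hσhall := (Cfsg.Agent.Lib.H20.BGS.sigma_core_hall hG (uniq3 hG) hM).1
  have hP'M : SylIn p ((P : Subgroup ↥(sigmaCore M)).map (sigmaCore M).subtype) M :=
    sylIn_of_hall hσhall hpσ hP'
  refine ⟨centralizer_unique hG h12 h14 h22 hM hpσ hQ hXQ hX h, ?_, hP'M.le⟩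
  rw [inUniqueMaximal_iff]
  exact ⟨M, hM, hP'M.le, sylow_unique hG h14 h22 hM hpσ hP'M (h.imp id (fun h' => ⟨X, h', hX⟩))⟩

end Cfsg.Agent.Lib.H20.BGV
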