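import Mathlib
import Cfsg.Agent.Lib.H20.BGV2
import Cfsg.Agent.Lib.H1.CoprimeAbelian
import Cfsg.Agent.Lib.H7.BG10f
import Cfsg.Agent.Lib.H7.TypeP

/-! # BG Lemma 12.15-type statement S1426 (helper20) modulo S1416, S1423 -/

set_option autoImplicit false
set_option linter.style.haveILetI false
set_option linter.unusedSectionVars false
set_option linter.unusedVariables false
set_option linter.deprecated false

open Cfsg

namespace Cfsg.Agent.Lib.H20.BGW

open Cfsg.Agent.Lib.H20.BGT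
open Cfsg.Agent.Lib.H20.BGU
open Cfsg.Agent.Lib.H20.BGV
open Cfsg.Agent.Lib.H16.BG
open Cfsg.Agent.Lib.H7.BG7
open Cfsg.Agent.Lib.H7.BG10
open Cfsg.Agent.Lib.H19 (IsPiCard)

universe u v

section TypeLevel

variable {T : Type v} [Group T] [Finite T]

/-- If `R` acts coprimely on the normal subgroup `N` with `[N, R] = N`, then `C_N(R) ≤ N'`. -/
theorem centralizer_le_commutator_of_coprime (N R : Subgroup T) [hN : N.Normal]
    (hcop : (Nat.card R).Coprime (Nat.card N)) (hNR : ⁅N, R⁆ = N) :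
    N ⊓ Subgroup.centralizer (R : Set T) ≤ ⁅N, N⁆ := by
  haveI hD : (⁅N, N⁆ : Subgroup T).Normal := Subgroup.commutator_normal N N
  set π := QuotientGroup.mk' (⁅N, N⁆ : Subgroup T) with hπ
  have hπs : Function.Surjective π := QuotientGroup.mk'_surjective _
  set V := N.map π with hV
  set A := R.map π with hA
  haveI hVc : IsMulCommutative V := by
    refine ⟨⟨?_⟩⟩
    rintro ⟨_, a, ha, rfl⟩ ⟨_, b, hb, rfl⟩
    apply Subtype.ext
    have h1 : a * b * a⁻¹ * b⁻¹ ∈ (⁅N, N⁆ : Subgroup T) := by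
      have := Subgroup.commutator_mem_commutator ha hb
      rwa [commutatorElement_def] at this
    have h2 : π (a * b * a⁻¹ * b⁻¹) = 1 := by
      rw [hπ, QuotientGroup.mk'_apply, QuotientGroup.eq_one_iff]; exact h1
    have h3 : π a * π b * (π a)⁻¹ * (π b)⁻¹ = 1 := by
      rw [← h2]; simp only [map_mul, map_inv]
    show π a * π b = π b * π a
    calc π a * π b = (π a * π b * (π a)⁻¹ * (π b)⁻¹) * (π b * π a) := by group
      _ = π b * π a := by rw [h3, one_mul]
  have hVn : V.Normal := Subgroup.Normal.map hN π hπs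
  have hAV : A ≤ Subgroup.normalizer (V : Set (T ⧸ (⁅N, N⁆ : Subgroup T))) := by
    rw [Subgroup.normalizer_eq_top]; exact le_top
  have hcop' : (Nat.card A).Coprime (Nat.card V) :=
    Nat.Coprime.coprime_dvd_left (Subgroup.card_map_dvd _ _)
      (Nat.Coprime.coprime_dvd_right (Subgroup.card_map_dvd _ _) hcop)
  have hVA : ⁅V, A⁆ = V := by
    rw [hV, hA, ← Subgroup.map_commutator, hNR]
  have h := Cfsg.Agent.Lib.H1.coprime_abelian_centralizer_inf_commutator hAV hcop'
  rw [hVA] at h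
  have h' : V ⊓ Subgroup.centralizer (A : Set (T ⧸ (⁅N, N⁆ : Subgroup T))) = ⊥ := by
    rw [eq_bot_iff, ← h]
    exact le_inf le_rfl inf_le_left
  intro x hx
  have h1 : π x ∈ V ⊓ Subgroup.centralizer (A : Set (T ⧸ (⁅N, N⁆ : Subgroup T))) := by
    refine ⟨Subgroup.mem_map_of_mem _ hx.1, ?_⟩
    show π x ∈ Subgroup.centralizer (A : Set (T ⧸ (⁅N, N⁆ : Subgroup T)))
    rw [Subgroup.mem_centralizer_iff]
    rintro _ ⟨r, hr, rfl⟩
    rw [← map_mul, ← map_mul, (Subgroup.mem_centralizer_iff.1 hx.2) r hr]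
  rw [h', Subgroup.mem_bot, hπ, QuotientGroup.mk'_apply, QuotientGroup.eq_one_iff] at h1
  exact h1

end TypeLevel

variable {G : Type u} [Group G] [Finite G]

local notation:max "cj(" g ", " X ")" => Subgroup.map (MulEquiv.toMonoidHom (MulAut.conj g)) X

/-- Type-level facts on a complement `E` of `M_σ` in `M`. -/
theorem compl_type_facts (hG : IsMinSimpleOddOrder G) {M E : Subgroup G} (hM : IsCoatom M)
    (hE : IsComplIn E (sigmaCore M) M) :
    ⁅piCore (sigma M) ↥M, E.subgroupOf M⁆ = piCore (sigma M) ↥M ∧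
      (Nat.card (E.subgroupOf M)).Coprime (Nat.card (piCore (sigma M) ↥M)) := by
  have hU := uniq3 hG
  have hs : Group.IsSolvable ↥M := solvable_of_coatom hG hM
  have hcN : Nat.card (piCore (sigma M) ↥M) = Nat.card (sigmaCore M) :=
    (Cfsg.Agent.Lib.H7.BG7.card_piCoreOf (sigma M) M).symm
  have hcR : Nat.card (E.subgroupOf M) = Nat.card E :=
    Nat.card_congr (Subgroup.subgroupOfEquivOfLe hE.1).toEquiv
  have hcard := Cfsg.Agent.Lib.H7.isComplIn_card_mul hE
  have hdisj : Disjoint (piCore (sigma M) ↥M) (E.subgroupOf M) := by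
    rw [disjoint_iff, eq_bot_iff]
    intro x hx
    rw [Subgroup.mem_bot]
    have h1 : (x : G) ∈ E ⊓ sigmaCore M :=
      ⟨Subgroup.mem_subgroupOf.1 hx.2, ⟨x, hx.1, rfl⟩⟩
    rw [hE.2.2.1, Subgroup.mem_bot] at h1
    exact Subtype.ext h1
  have hcompl : Subgroup.IsComplement' (piCore (sigma M) ↥M) (E.subgroupOf M) := by
    apply Subgroup.isComplement'_of_card_mul_and_disjoint _ hdisj
    rw [hcN, hcR, mul_comm]; exact hcard
  have hS : ∀ r : ℕ, r.Prime → r ∣ Nat.card (piCore (sigma M) ↥M) →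
      ∃ S : Subgroup ↥M, ¬ r ∣ S.index ∧ S ≤ commutator ↥M := by
    intro r hr hrd
    have hrσ : r ∈ sigma M := Cfsg.Agent.Lib.H19.piCore_isPiCard (sigma M) r hr hrd
    obtain ⟨P, -, hPi, hPc⟩ := exists_sylow_le_commutator_type hG hU hM hr hrσ
    exact ⟨P, hPi, hPc⟩
  refine ⟨commutator_complement_eq hs _ _ hcompl hS, ?_⟩
  rw [hcN, hcR]
  obtain ⟨⟨-, -, hH⟩, -, -⟩ := Cfsg.Agent.Lib.H20.BGS.sigma_core_hall hG hU hM
  rw [Cfsg.Agent.Lib.H8.BG12.compl_card_eq_relIndex hE]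
  apply Nat.Coprime.symm
  apply Nat.coprime_of_dvd
  intro r hr hrF hrI
  exact hH r hr (Cfsg.Agent.Lib.H20.BGS.sigmaCore_isPiCard M r hr hrF) hrI

/-- **S1426 (b)**: `[M_σ, E] = M_σ`. -/
theorem commutator_sigmaCore_compl (hG : IsMinSimpleOddOrder G) {M E : Subgroup G}
    (hM : IsCoatom M) (hE : IsComplIn E (sigmaCore M) M) : ⁅sigmaCore M, E⁆ = sigmaCore M := by
  have h := (compl_type_facts hG hM hE).1
  have h2 := congrArg (Subgroup.map M.subtype) h
  rw [Subgroup.map_commutator, Subgroup.map_subgroupOf_eq_of_le hE.1] at h2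
  exact h2

/-- **S1426 (a)**: `C_{M_σ}(E) ≤ (M_σ)'`. -/
theorem centralizer_compl_le_commutator (hG : IsMinSimpleOddOrder G) {M E : Subgroup G}
    (hM : IsCoatom M) (hE : IsComplIn E (sigmaCore M) M) :
    sigmaCore M ⊓ Subgroup.centralizer (E : Set G) ≤ ⁅sigmaCore M, sigmaCore M⁆ := by
  obtain ⟨h1, h2⟩ := compl_type_facts hG hM hE
  have h3 := centralizer_le_commutator_of_coprime _ _ h2 h1
  rintro x ⟨⟨x', hx', rfl⟩, hxc⟩
  have h4 : x' ∈ piCore (sigma M) ↥M ⊓ Subgroup.centralizer ((E.subgroupOf M : Subgroup ↥M) : Set ↥M) := by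
    refine ⟨hx', ?_⟩
    show x' ∈ Subgroup.centralizer ((E.subgroupOf M : Subgroup ↥M) : Set ↥M)
    rw [Subgroup.mem_centralizer_iff]
    intro r hr
    apply Subtype.ext
    have hxc' : M.subtype x' ∈ Subgroup.centralizer (E : Set G) := hxc
    exact (Subgroup.mem_centralizer_iff.1 hxc') (r : G) (Subgroup.mem_subgroupOf.1 hr)
  have h5 := h3 h4
  have h6 : M.subtype x' ∈ (⁅piCore (sigma M) ↥M, piCore (sigma M) ↥M⁆).map M.subtype :=
    Subgroup.mem_map_of_mem _ h5
  rw [Subgroup.map_commutator] at h6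
  exact h6

end Cfsg.Agent.Lib.H20.BGW
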