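import Mathlib
import Cfsg.Agent.Lib.H20.BGW1
import Cfsg.Agent.Lib.H1.Misc

/-! # S1426 (c): `M_σ ∩ M^g` for `g ∉ M` (helper20), modulo S1416, S1423 -/

set_option autoImplicit false
set_option linter.style.haveILetI false
set_option linter.unusedSectionVars false
set_option linter.unusedVariables false
set_option linter.deprecated false

open Cfsg

namespace Cfsg.Agent.Lib.H20.BGW

open Cfsg.Agent.Lib.H20.BGT
open Cfsg.Agent.Lib.H20.BGU
open Cfsg.Agent.Lib.H20.BGV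
open Cfsg.Agent.Lib.H16.BG
open Cfsg.Agent.Lib.H7.BG7
open Cfsg.Agent.Lib.H7.BG10
open Cfsg.Agent.Lib.H19 (IsPiCard)
open scoped commutatorElement

universe u v
variable {G : Type u} [Group G] [Finite G]

local notation:max "cj(" g ", " X ")" => Subgroup.map (MulEquiv.toMonoidHom (MulAut.conj g)) X

/-- The centralizer part of S1423 as a hypothesis. -/
def H1423 (G : Type u) [Group G] : Prop :=
  ∀ (M : Subgroup G), IsCoatom M → ∀ (p : ℕ) [Fact p.Prime], p ∈ sigma M → ∀ X : Subgroup G,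
    X ≤ M → Nat.card X = p → (p ∈ beta M ∨ X ≤ ⁅sigmaCore M, sigmaCore M⁆) →
    Subgroup.centralizer (X : Set G) ≤ M

/-- If a nontrivial `r`-subgroup `Y` of `M` (`r ∈ σ(M)`) with `C(Y) ≤ M` lies in `M^g`, then
`g ∈ M`. -/
theorem mem_of_le_conj (hG : IsMinSimpleOddOrder G) {M : Subgroup G} (hM : IsCoatom M) {r : ℕ}
    [Fact r.Prime] (hr : r ∈ sigma M) {Y : Subgroup G} (hYr : IsPGroup r Y) (hY1 : Y ≠ ⊥)
    (hYM : Y ≤ M) (hC : Subgroup.centralizer (Y : Set G) ≤ M) {g : G} (hg : Y ≤ cj(g, M)) :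
    g ∈ M := by
  have h1 : cj(g⁻¹, Y) ≤ M := by rw [map_conj_le_iff, inv_inv]; exact hg
  obtain ⟨m, hm, c, hc, hgmc⟩ := (sigma_fusion hG (uniq3 hG) hM hr hYr hY1 hYM).1 g⁻¹ h1
  have h2 : g⁻¹ ∈ M := by rw [hgmc]; exact M.mul_mem hm (hC hc)
  simpa using M.inv_mem h2

/-- A subgroup of prime order `r` inside a subgroup of order divisible by `r`. -/
theorem exists_subgroup_card_prime {K : Subgroup G} {r : ℕ} [hr : Fact r.Prime]
    (h : r ∣ Nat.card K) : ∃ Y : Subgroup G, Y ≤ K ∧ Nat.card Y = r := by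
  obtain ⟨y, hy⟩ := exists_prime_orderOf_dvd_card' (G := ↥K) r h
  refine ⟨Subgroup.zpowers (y : G), Subgroup.zpowers_le.2 y.2, ?_⟩
  rw [Nat.card_zpowers, Subgroup.orderOf_coe, hy]

/-- **S1426 (c)**. -/
theorem sigma_inter_conj (hG : IsMinSimpleOddOrder G) (h16 : H1416a G) (h23 : H1423 G)
    {M : Subgroup G} (hM : IsCoatom M) {g : G} (hg : g ∉ M) :
    IsCyclic ↥(sigmaCore M ⊓ cj(g, M)) ∧
      (∀ p : ℕ, p.Prime → p ∣ Nat.card ↥(sigmaCore M ⊓ cj(g, M)) → p ∉ beta M) ∧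
      sigmaCore M ⊓ cj(g, M) ⊓ ⁅sigmaCore M, sigmaCore M⁆ = ⊥ := by
  set F := sigmaCore M with hF
  set X := F ⊓ cj(g, M) with hX
  have hFM : F ≤ M := Cfsg.Agent.Lib.H20.BGS.sigmaCore_le M
  have hXM : X ≤ M := inf_le_left.trans hFM
  have hσ : ∀ (r : ℕ) (hr : r.Prime) (Y : Subgroup G), Y ≤ X → r ∣ Nat.card Y → r ∈ sigma M := by
    intro r hr Y hYX hd
    exact Cfsg.Agent.Lib.H20.BGS.sigmaCore_isPiCard M r hr
      (hd.trans (Subgroup.card_dvd_of_le (hYX.trans inf_le_left)))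
  have key : ∀ (r : ℕ) [Fact r.Prime] (Y : Subgroup G), Y ≤ X → Y ≠ ⊥ → IsPGroup r Y →
      Subgroup.centralizer (Y : Set G) ≤ M → False := by
    intro r hrf Y hYX hY1 hYr hC
    have hrσ : r ∈ sigma M := by
      apply hσ r hrf.out Y hYX
      obtain ⟨k, hk⟩ := IsPGroup.iff_card.1 hYr
      have hk0 : k ≠ 0 := by
        rintro rfl
        rw [pow_zero] at hk
        exact hY1 (Subgroup.eq_bot_of_card_eq Y hk)
      rw [hk]; exact dvd_pow_self r hk0
    exact hg (mem_of_le_conj hG hM hrσ hYr hY1 (hYX.trans hXM) hC (hYX.trans inf_le_right))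
  have key' : ∀ (r : ℕ) [Fact r.Prime] (Y : Subgroup G), Y ≤ X → Nat.card Y = r →
      (r ∈ beta M ∨ Y ≤ ⁅F, F⁆) → False := by
    intro r hrf Y hYX hYc hyp
    have hrp := hrf.out
    have hY1 : Y ≠ ⊥ := by
      intro h
      rw [h, Subgroup.card_bot] at hYc
      exact hrp.one_lt.ne hYc
    have hYr : IsPGroup r Y := IsPGroup.of_card (n := 1) (by rw [hYc, pow_one])
    have hrσ : r ∈ sigma M := hσ r hrp Y hYX (by rw [hYc])
    exact key r Y hYX hY1 hYr (h23 M hM r hrσ Y (hYX.trans hXM) hYc hyp)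
  -- (c3)
  have h3 : X ⊓ ⁅F, F⁆ = ⊥ := by
    by_contra hne
    have hc1 : Nat.card ↥(X ⊓ ⁅F, F⁆) ≠ 1 := fun h => hne (Subgroup.eq_bot_of_card_eq _ h)
    obtain ⟨r, hr, hrd⟩ := Nat.exists_prime_and_dvd hc1
    haveI : Fact r.Prime := ⟨hr⟩
    obtain ⟨Y, hYK, hYc⟩ := exists_subgroup_card_prime hrd
    exact key' r Y (hYK.trans inf_le_left) hYc (Or.inr (hYK.trans inf_le_right))
  -- (c2)
  have h2 : ∀ p : ℕ, p.Prime → p ∣ Nat.card ↥X → p ∉ beta M := by
    intro r hr hrd hβ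
    haveI : Fact r.Prime := ⟨hr⟩
    obtain ⟨Y, hYX, hYc⟩ := exists_subgroup_card_prime hrd
    exact key' r Y hYX hYc (Or.inl hβ)
  refine ⟨?_, h2, h3⟩
  -- (c1)
  have hab : ∀ a ∈ X, ∀ b ∈ X, a * b = b * a := by
    intro a ha b hb
    have h4 : ⁅a, b⁆ ∈ X ⊓ ⁅F, F⁆ :=
      ⟨Subgroup.commutator_le_self X (Subgroup.commutator_mem_commutator ha hb),
        Subgroup.commutator_mem_commutator ha.1 hb.1⟩
    rw [h3, Subgroup.mem_bot, commutatorElement_def] at h4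
    calc a * b = (a * b * a⁻¹ * b⁻¹) * (b * a) := by group
      _ = b * a := by rw [h4, one_mul]
  haveI hXc : IsMulCommutative ↥X := ⟨⟨fun a b => Subtype.ext (hab a a.2 b b.2)⟩⟩
  haveI : Group.IsNilpotent ↥X := Cfsg.Agent.Lib.H1.isNilpotent_of_isMulCommutative ↥X
  haveI : IsZGroup ↥X := by
    refine ⟨fun r hr T => ?_⟩
    haveI : Fact r.Prime := ⟨hr⟩
    by_contra hnc
    set T' := (T : Subgroup ↥X).map X.subtype with hT'
    have e : ↥(T : Subgroup ↥X) ≃* ↥T' :=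
      (T : Subgroup ↥X).equivMapOfInjective X.subtype X.subtype_injective
    have hT'nc : ¬ IsCyclic ↥T' := by
      intro h
      apply hnc
      exact isCyclic_of_surjective e.symm.toMonoidHom e.symm.surjective
    have hT'X : T' ≤ X := Subgroup.map_subtype_le _
    have hT'r : IsPGroup r T' := T.2.map _
    have hT'1 : T' ≠ ⊥ := by
      intro h
      apply hT'nc
      rw [h]
      exact isCyclic_of_subsingleton
    have hrσ : r ∈ sigma M := by
      apply hσ r hr T' hT'X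
      obtain ⟨k, hk⟩ := IsPGroup.iff_card.1 hT'r
      have hk0 : k ≠ 0 := by
        rintro rfl
        rw [pow_zero] at hk
        exact hT'1 (Subgroup.eq_bot_of_card_eq T' hk)
      rw [hk]; exact dvd_pow_self r hk0
    have hN := normalizer_le_of_not_cyclic hG h16 hM hrσ hT'r (hT'X.trans hXM) hT'nc
    exact key r T' hT'X hT'1 hT'r ((Subgroup.centralizer_le_normalizer _).trans hN)
  infer_instance

/-- **S1426** modulo S1416 and S1423. -/
theorem sigma_compl_embedding (hG : IsMinSimpleOddOrder G) (h16 : H1416a G) (h23 : H1423 G)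
    (M : Subgroup G) (hM : IsCoatom M) (E : Subgroup G) (hE : IsComplIn E (sigmaCore M) M) :
    sigmaCore M ⊓ Subgroup.centralizer (E : Set G) ≤ ⁅sigmaCore M, sigmaCore M⁆ ∧
      ⁅sigmaCore M, E⁆ = sigmaCore M ∧
      ∀ g : G, g ∉ M → IsCyclic ↥(sigmaCore M ⊓ M.map (MulAut.conj g).toMonoidHom) ∧
        (∀ p : ℕ, p.Prime → p ∣ Nat.card ↥(sigmaCore M ⊓ M.map (MulAut.conj g).toMonoidHom) →
          p ∉ beta M) ∧
        sigmaCore M ⊓ M.map (MulAut.conj g).toMonoidHom ⊓ ⁅sigmaCore M, sigmaCore M⁆ = ⊥ :=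
  ⟨centralizer_compl_le_commutator hG hM hE, commutator_sigmaCore_compl hG hM hE,
    fun g hg => sigma_inter_conj hG h16 h23 hM hg⟩

end Cfsg.Agent.Lib.H20.BGW
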