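import Mathlib
import Cfsg.Agent.Lib.H7.BG13t
import Cfsg.Agent.Lib.H7.BG14b

/-!
# The standard factorisation `M = K U M_σ` for a cyclic Hall `κ(M)`-subgroup `K` (helper20)

From `κ(M) ⊆ τ₁(M)` (helper7's `BG13t.kappa_subset_tau1`): `M'` is a `κ(M)'`-group, so `M` has a
normal Hall `κ(M)'`-subgroup `N ≥ M' ≥ M_σ`; `U := N ⊓ E` for a complement `E ≥ K` of `M_σ` gives a
standard factorisation, and every standard factorisation has `U ⊔ M_σ = N`.
-/

set_option autoImplicit false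
set_option linter.style.haveILetI false
set_option linter.unusedSectionVars false
set_option linter.unusedVariables false

open Cfsg
open Cfsg.Agent.Lib.H16.BG
open Cfsg.Agent.Lib.H7.BG7
open Cfsg.Agent.Lib.H7.BG10
open Cfsg.Agent.Lib.H19 (IsPiCard)

namespace Cfsg.Agent.Lib.H20.BGY

universe u
variable {G : Type u} [Group G] [Finite G]

/-- the normal Hall `κ(M)'`-subgroup of `M` (when `κ(M) ⊆ τ₁(M)`). -/
theorem exists_normal_hall_kappa_compl (hG : IsMinSimpleOddOrder G) {M : Subgroup G}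
    (hM : IsCoatom M) (hκ : kappa M ⊆ tau1 M) :
    ∃ N : Subgroup G, IsPiHallOf (kappa M)ᶜ N M ∧ ⁅M, M⁆ ≤ N ∧
      M ≤ Subgroup.normalizer (N : Set G) := by
  haveI : Group.IsSolvable ↥M := solvable_of_coatom hG hM
  have hcM : ⁅M, M⁆ ≤ M := Subgroup.commutator_le_self M
  have hπ : IsPiCard (kappa M)ᶜ (Nat.card ↥(⁅M, M⁆ : Subgroup G)) := by
    intro p hp hd hpκ
    exact (hκ hpκ).2.2.2.1 hd
  obtain ⟨N, hN, hcN⟩ := Cfsg.Agent.Lib.H19.exists_isPiHallOf_ge hcM hπ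
  refine ⟨N, hN, hcN, ?_⟩
  intro m hm
  rw [Subgroup.mem_normalizer_iff]
  intro n
  have key : ∀ (a : G), a ∈ M → ∀ x ∈ N, a * x * a⁻¹ ∈ N := by
    intro a ha x hx
    have h1 : a * x * a⁻¹ * x⁻¹ ∈ ⁅M, M⁆ :=
      Subgroup.commutator_mem_commutator ha (hN.1 hx)
    have h2 : a * x * a⁻¹ = (a * x * a⁻¹ * x⁻¹) * x := by group
    rw [h2]
    exact N.mul_mem (hcN h1) hx
  constructor
  · intro hn
    exact key m hm n hn
  · intro hn
    have := key m⁻¹ (M.inv_mem hm) _ hn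
    simpa [mul_assoc] using this

/-- `N ⊓ K = ⊥` for a `κ'`-group `N` and a `κ`-group `K`. -/
theorem inf_eq_bot_of_pi_compl {π : Set ℕ} {N K : Subgroup G}
    (hN : IsPiCard πᶜ (Nat.card N)) (hK : IsPiCard π (Nat.card K)) : N ⊓ K = ⊥ := by
  exact (Subgroup.disjoint_of_coprime_natCard
    (Cfsg.Agent.Lib.H19.coprime_of_isPiCard hK hN).symm).eq_bot

/-- a normal Hall `π`-subgroup contains every `π`-subgroup. -/
theorem le_of_normal_hall {π : Set ℕ} {N M Y : Subgroup G} (hN : IsPiHallOf π N M)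
    (hnorm : M ≤ Subgroup.normalizer (N : Set G)) (hYM : Y ≤ M)
    (hY : IsPiCard π (Nat.card Y)) : Y ≤ N := by
  have hYN : Y ≤ Subgroup.normalizer (N : Set G) := hYM.trans hnorm
  have h1 : Nat.card (Y ⊔ N : Subgroup G) ∣ Nat.card Y * Nat.card N :=
    Cfsg.Agent.Lib.H19.card_sup_dvd_mul_of_le_normalizer hYN
  have hle : N ≤ Y ⊔ N := le_sup_right
  have hle2 : Y ⊔ N ≤ M := sup_le hYM hN.1
  have h2 := Cfsg.Agent.Lib.H19.card_mul_relIndex hle
  have h3 : N.relIndex (Y ⊔ N) ∣ Nat.card Y := by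
    rw [← h2, mul_comm (Nat.card Y)] at h1
    exact Nat.dvd_of_mul_dvd_mul_left Nat.card_pos h1
  have h4 : N.relIndex (Y ⊔ N) ∣ N.relIndex M := by
    rw [← Subgroup.relIndex_mul_relIndex N (Y ⊔ N) M hle hle2]
    exact dvd_mul_right _ _
  have h5 : N.relIndex (Y ⊔ N) = 1 := by
    by_contra hne
    obtain ⟨p, hp, hpd⟩ := Nat.exists_prime_and_dvd hne
    exact hN.2.2 p hp (hY p hp (hpd.trans h3)) (hpd.trans h4)
  have h6 : Y ⊔ N ≤ N := Subgroup.relIndex_eq_one.1 h5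
  exact le_sup_left.trans h6

/-- every standard factorisation has `U ⊔ M_σ = N`, the normal Hall `κ(M)'`-subgroup. -/
theorem sup_sigmaCore_eq (hG : IsMinSimpleOddOrder G) {M K U N : Subgroup G} (hM : IsCoatom M)
    (hKU : IsSigmaDecomposition M K U) (hN : IsPiHallOf (kappa M)ᶜ N M) (hcN : ⁅M, M⁆ ≤ N)
    (hnorm : M ≤ Subgroup.normalizer (N : Set G)) : U ⊔ sigmaCore M = N := by
  have hU3 := uniq3 hG
  have hσN : sigmaCore M ≤ N := (sigmaCore_le_commutator hG hU3 hM).trans hcN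
  have hUM : U ≤ M := hKU.compl.1
  have hUπ : IsPiCard (kappa M)ᶜ (Nat.card U) := fun r hr hd =>
    (Cfsg.Agent.Lib.H7.BG14.not_mem_sigma_kappa_of_isSigmaDecomposition hG hM hKU hr hd).2
  have hUN : U ≤ N := le_of_normal_hall hN hnorm hUM hUπ
  have hNK : N ⊓ K = ⊥ := inf_eq_bot_of_pi_compl hN.2.1 hKU.hall.2.1
  apply le_antisymm (sup_le hUN hσN)
  intro n hn
  obtain ⟨u, hu, b, hb, hnub⟩ := hKU.compl.2.2.2 n (hN.1 hn)
  have hbN : b ∈ N := by
    have : b = u⁻¹ * n := by rw [hnub]; group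
    rw [this]
    exact N.mul_mem (N.inv_mem (hUN hu)) hn
  have hKσ : K ≤ Subgroup.normalizer ((sigmaCore M : Subgroup G) : Set G) :=
    hKU.hall.1.trans (Cfsg.Agent.Lib.H20.BGS.le_normalizer_sigmaCore M)
  have hb' : b ∈ sigmaCore M ⊔ K := by rw [sup_comm]; exact hb
  obtain ⟨x, hx, k, hk, hbxk⟩ := Cfsg.Agent.Lib.H1.mem_sup_of_le_normalizer hKσ hb'
  have hkN : k ∈ N := by
    have : k = x⁻¹ * b := by rw [hbxk]; group
    rw [this]
    exact N.mul_mem (N.inv_mem (hσN hx)) hbN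
  have hk1 : k = 1 := by
    have : k ∈ N ⊓ K := ⟨hkN, hk⟩
    rw [hNK] at this
    exact Subgroup.mem_bot.1 this
  rw [hnub, hbxk, hk1, mul_one]
  exact (U ⊔ sigmaCore M).mul_mem (Subgroup.mem_sup_left hu) (Subgroup.mem_sup_right hx)

/-- a Hall `π`-subgroup and a Hall `π'`-subgroup of `M` generate `M`. -/
theorem sup_eq_of_hall_compl {π : Set ℕ} {N K M : Subgroup G} (hN : IsPiHallOf πᶜ N M)
    (hK : IsPiHallOf π K M) : N ⊔ K = M := by
  obtain ⟨m, n, hmn, hm, hn⟩ :=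
    Cfsg.Agent.Lib.H19.exists_pi_decomp π (Nat.card M) Nat.card_pos.ne'
  have hcK : Nat.card K = m := ((Cfsg.Agent.Lib.H19.isPiHallOf_iff_card hmn hm hn).1 hK).2
  have hmn' : Nat.card M = n * m := by rw [hmn, mul_comm]
  have hm' : IsPiCard πᶜᶜ m := by rw [compl_compl]; exact hm
  have hcN : Nat.card N = n :=
    ((Cfsg.Agent.Lib.H19.isPiHallOf_iff_card (π := πᶜ) hmn' hn hm').1 hN).2
  have hcop : (Nat.card N).Coprime (Nat.card K) := by
    rw [hcN, hcK]; exact (Cfsg.Agent.Lib.H19.coprime_of_isPiCard hm hn).symm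
  apply Subgroup.eq_of_le_of_card_ge (sup_le hN.1 hK.1)
  have h1 : Nat.card N * Nat.card K ∣ Nat.card (N ⊔ K : Subgroup G) :=
    Nat.Coprime.mul_dvd_of_dvd_of_dvd hcop (Subgroup.card_dvd_of_le le_sup_left)
      (Subgroup.card_dvd_of_le le_sup_right)
  rw [hmn', ← hcN, ← hcK]
  exact Nat.le_of_dvd Nat.card_pos h1

/-- existence of a standard factorisation for a cyclic Hall `κ(M)`-subgroup `K`. -/
theorem exists_isSigmaDecomposition (hG : IsMinSimpleOddOrder G) {M K N : Subgroup G}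
    (hM : IsCoatom M) (hKc : IsCyclic ↥K) (hK : IsPiHallOf (kappa M) K M)
    (hN : IsPiHallOf (kappa M)ᶜ N M) (hnorm : M ≤ Subgroup.normalizer (N : Set G)) :
    ∃ U : Subgroup G, IsSigmaDecomposition M K U := by
  have hKσ' : ∀ q : ℕ, q.Prime → q ∣ Nat.card K → q ∉ sigma M := fun q hq hd =>
    (hK.2.1 q hq hd).2.2.1
  obtain ⟨E, hE, hKE⟩ := Cfsg.Agent.Lib.H19.BG13.exists_compl_ge hG hM hK.1 hKσ'
  have hNK : N ⊓ K = ⊥ := inf_eq_bot_of_pi_compl hN.2.1 hK.2.1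
  have hsup : N ⊔ K = M := sup_eq_of_hall_compl hN hK
  have hKσ : K ≤ Subgroup.normalizer ((sigmaCore M : Subgroup G) : Set G) :=
    hK.1.trans (Cfsg.Agent.Lib.H20.BGS.le_normalizer_sigmaCore M)
  have hKN : K ≤ Subgroup.normalizer (N : Set G) := hK.1.trans hnorm
  refine ⟨N ⊓ E, hKc, hK, ⟨inf_le_left.trans hN.1, sup_le hK.1 hE.2.1, ?_, ?_⟩, ?_⟩
  · -- trivial intersection
    rw [eq_bot_iff]
    intro x hx
    obtain ⟨⟨hxN, hxE⟩, hxs⟩ := hx
    have hxs' : x ∈ sigmaCore M ⊔ K := by rw [sup_comm]; exact hxs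
    obtain ⟨y, hy, k, hk, hxyk⟩ := Cfsg.Agent.Lib.H1.mem_sup_of_le_normalizer hKσ hxs'
    have hyE : y ∈ E := by
      have : y = x * k⁻¹ := by rw [hxyk]; group
      rw [this]
      exact E.mul_mem hxE (E.inv_mem (hKE hk))
    have hy1 : y = 1 := by
      have : y ∈ E ⊓ sigmaCore M := ⟨hyE, hy⟩
      rw [hE.2.2.1] at this
      exact Subgroup.mem_bot.1 this
    have hxk : x = k := by rw [hxyk, hy1, one_mul]
    have : x ∈ N ⊓ K := ⟨hxN, hxk ▸ hk⟩
    rw [hNK] at this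
    exact this
  · -- product
    intro m hm
    obtain ⟨e, he, x, hx, hmex⟩ := hE.2.2.2 m hm
    have heM : e ∈ N ⊔ K := by rw [hsup]; exact hE.1 he
    obtain ⟨n, hn, k, hk, henk⟩ := Cfsg.Agent.Lib.H1.mem_sup_of_le_normalizer hKN heM
    have hnE : n ∈ E := by
      have : n = e * k⁻¹ := by rw [henk]; group
      rw [this]
      exact E.mul_mem he (E.inv_mem (hKE hk))
    refine ⟨n, ⟨hn, hnE⟩, k * x, ?_, ?_⟩
    · exact (K ⊔ sigmaCore M).mul_mem (Subgroup.mem_sup_left hk) (Subgroup.mem_sup_right hx)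
    · rw [hmex, henk, mul_assoc]
  · -- K normalizes U
    exact Cfsg.Agent.Lib.H19.BG13.le_normalizer_inf' hKN (hKE.trans Subgroup.le_normalizer)

end Cfsg.Agent.Lib.H20.BGY
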