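import Mathlib
import Cfsg.Agent.Lib.H8.BG1213j
import Cfsg.Agent.Lib.H7.BG14b
import Cfsg.Agent.Lib.H7.BG13t
import Cfsg.Agent.Lib.H20.BGY1

/-!
# The factor `U` of a standard factorisation `M = K U M_σ` inside the complement `E = K U` (helper20)

Set-up for the `U`-version of BG Lemma 12.12 (BG Lemma 15.1(d),(e), S1359/S1360).
-/

set_option autoImplicit false
set_option linter.style.haveILetI false
set_option linter.unusedSectionVars false
set_option linter.unusedVariables false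

open Cfsg
open Cfsg.Agent.Lib.H16.BG
open Cfsg.Agent.Lib.H7.BG7
open Cfsg.Agent.Lib.H7.BG10
open Cfsg.Agent.Lib.H20.BGS
open Cfsg.Agent.Lib.H19 (IsPiCard)
open Cfsg.Agent.Lib.H8.BG12

namespace Cfsg.Agent.Lib.H20.BGZ

universe u
variable {G : Type u} [Group G] [Finite G]

/-- `|K ⊔ U|` divides `|K| |U|`. -/
theorem card_sup_dvd {M K U : Subgroup G} (hKU : IsSigmaDecomposition M K U) :
    Nat.card ↥(K ⊔ U : Subgroup G) ∣ Nat.card ↥K * Nat.card ↥U :=
  Cfsg.Agent.Lib.H19.card_sup_dvd_mul_of_le_normalizer hKU.normal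

/-- the primes of `K ⊔ U` lie outside `σ(M)`. -/
theorem not_sigma_of_dvd_card_sup (hG : IsMinSimpleOddOrder G) {M K U : Subgroup G}
    (hM : IsCoatom M) (hKU : IsSigmaDecomposition M K U) {r : ℕ} (hr : r.Prime)
    (hd : r ∣ Nat.card ↥(K ⊔ U : Subgroup G)) : r ∉ sigma M := by
  rcases (Nat.Prime.dvd_mul hr).1 (hd.trans (card_sup_dvd hKU)) with h | h
  · exact (hKU.hall.2.1 r hr h).2.2.1
  · exact (Cfsg.Agent.Lib.H7.BG14.not_mem_sigma_kappa_of_isSigmaDecomposition hG hM hKU hr h).1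

/-- `E = K U` is a complement to `M_σ` in `M`. -/
theorem isComplIn_sup (hG : IsMinSimpleOddOrder G) {M K U : Subgroup G}
    (hM : IsCoatom M) (hKU : IsSigmaDecomposition M K U) :
    IsComplIn (K ⊔ U) (sigmaCore M) M := by
  have hKM : K ≤ M := hKU.hall.1
  have hUM : U ≤ M := hKU.compl.1
  refine ⟨sup_le hKM hUM, Cfsg.Agent.Lib.H20.BGS.sigmaCore_le M, ?_, ?_⟩
  · apply (Subgroup.disjoint_of_coprime_natCard ?_).eq_bot
    apply Nat.coprime_of_dvd
    intro r hr h1 h2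
    exact not_sigma_of_dvd_card_sup hG hM hKU hr h1 (sigmaCore_isPiCard M r hr h2)
  · intro m hm
    obtain ⟨u, hu, b, hb, hmub⟩ := hKU.compl.2.2.2 m hm
    have hKσ : K ≤ Subgroup.normalizer ((sigmaCore M : Subgroup G) : Set G) :=
      hKM.trans (Cfsg.Agent.Lib.H20.BGS.le_normalizer_sigmaCore M)
    have hb' : b⁻¹ ∈ sigmaCore M ⊔ K := by
      rw [sup_comm]; exact Subgroup.inv_mem _ hb
    obtain ⟨x, hx, k, hk, hbxk⟩ := Cfsg.Agent.Lib.H1.mem_sup_of_le_normalizer hKσ hb'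
    refine ⟨u * k⁻¹, ?_, x⁻¹, Subgroup.inv_mem _ hx, ?_⟩
    · exact Subgroup.mul_mem _ (Subgroup.mem_sup_right hu)
        (Subgroup.inv_mem _ (Subgroup.mem_sup_left hk))
    · have : b = k⁻¹ * x⁻¹ := by
        have h1 : b = (b⁻¹)⁻¹ := (inv_inv b).symm
        rw [h1, hbxk]; group
      rw [hmub, this]; group

/-- the standing context for `E = K U`. -/
theorem ctx (hG : IsMinSimpleOddOrder G) (hC : HypCent G) (h17 : Hyp1417 G) {M K U : Subgroup G}
    (hM : IsCoatom M) (hKU : IsSigmaDecomposition M K U) : Ctx M (K ⊔ U) :=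
  ⟨hG, uniq3 hG, hC, h17, hM, isComplIn_sup hG hM hKU⟩

/-- `E = K U` normalizes `U`. -/
theorem sup_le_normalizer {M K U : Subgroup G} (hKU : IsSigmaDecomposition M K U) :
    K ⊔ U ≤ Subgroup.normalizer (U : Set G) :=
  sup_le hKU.normal Subgroup.le_normalizer

/-- `U` is a Hall `κ(M)'`-subgroup of `E = K U`. -/
theorem isPiHallOf_U (hG : IsMinSimpleOddOrder G) {M K U : Subgroup G}
    (hM : IsCoatom M) (hKU : IsSigmaDecomposition M K U) :
    IsPiHallOf (kappa M)ᶜ U (K ⊔ U) := by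
  refine ⟨le_sup_right, ?_, ?_⟩
  · intro r hr hd
    exact (Cfsg.Agent.Lib.H7.BG14.not_mem_sigma_kappa_of_isSigmaDecomposition hG hM hKU hr hd).2
  · intro r hr hrκ hd
    apply hrκ
    have h1 := Cfsg.Agent.Lib.H19.card_mul_relIndex (le_sup_right : U ≤ K ⊔ U)
    have h2 := card_sup_dvd hKU
    rw [← h1, mul_comm (Nat.card ↥K)] at h2
    have h3 : U.relIndex (K ⊔ U) ∣ Nat.card ↥K := Nat.dvd_of_mul_dvd_mul_left Nat.card_pos h2
    exact hKU.hall.2.1 r hr (hd.trans h3)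

/-- a subgroup of `E = K U` whose order involves no prime of `κ(M)` lies in `U`. -/
theorem le_U_of_not_kappa (hG : IsMinSimpleOddOrder G) {M K U : Subgroup G}
    (hM : IsCoatom M) (hKU : IsSigmaDecomposition M K U) {R : Subgroup G} (hR : R ≤ K ⊔ U)
    (hπ : ∀ r : ℕ, r.Prime → r ∣ Nat.card ↥R → r ∉ kappa M) : R ≤ U :=
  Cfsg.Agent.Lib.H20.BGY.le_of_normal_hall (isPiHallOf_U hG hM hKU) (sup_le_normalizer hKU) hR hπ

/-- `τ₂(M)` and `τ₃(M)` are disjoint from `κ(M)` when the Hall `κ(M)`-subgroups are cyclic. -/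
theorem not_kappa_of_tau23 (hG : IsMinSimpleOddOrder G) {M K U : Subgroup G}
    (hM : IsCoatom M) (hKU : IsSigmaDecomposition M K U) {r : ℕ}
    (hr : r ∈ tau2 M ∨ r ∈ tau3 M) : r ∉ kappa M := by
  intro hκ
  have h1 : r ∈ tau1 M := Cfsg.Agent.Lib.H7.BG13t.kappa_subset_tau1 hG hM hKU.cyclic hKU.hall hκ
  rcases hr with h | h
  · exact h.2.2.2 h1.2.2.2.2
  · exact h1.2.2.2.1 h.2.2.1

/-- an element of `U` with fixed points on `M_σ` is a `τ₂(M)`-element. -/
theorem tau2_of_bad_U (hG : IsMinSimpleOddOrder G) (hC : HypCent G) (h17 : Hyp1417 G)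
    {M K U : Subgroup G} (hM : IsCoatom M) (hKU : IsSigmaDecomposition M K U) {e : G} (he : e ∈ U)
    (hbad : sigmaCore M ⊓ Subgroup.centralizer ({e} : Set G) ≠ ⊥) {q : ℕ} (hq : q.Prime)
    (hqe : q ∣ orderOf e) : q ∈ tau2 M := by
  have hXU : Subgroup.zpowers e ≤ U := Subgroup.zpowers_le.2 he
  have hX1 : Subgroup.zpowers e ≠ ⊥ := by
    intro h
    rw [Subgroup.zpowers_eq_bot] at h
    rw [h, orderOf_one] at hqe
    exact hq.one_lt.ne' (Nat.dvd_one.1 hqe)
  have h := Cfsg.Agent.Lib.H7.BG14.nonregular_structure hG hC h17 hM (hXU.trans hKU.compl.1) hX1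
    (fun r hr hd => Cfsg.Agent.Lib.H7.BG14.not_mem_sigma_kappa_of_isSigmaDecomposition hG hM hKU hr
      (hd.trans (Subgroup.card_dvd_of_le hXU)))
    (by rw [centralizer_zpowers_eq]; exact hbad)
  exact h.2.1 q hq (by rw [Nat.card_zpowers]; exact hqe)

/-- the regularity hypothesis of BG 12.12 holds for `U`. -/
theorem hypReg_U (hG : IsMinSimpleOddOrder G) (hC : HypCent G) (h17 : Hyp1417 G)
    {M K U : Subgroup G} (hM : IsCoatom M) (hKU : IsSigmaDecomposition M K U) : HypReg M U := by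
  intro e he he1 hτ
  by_contra hbad
  have h1 : orderOf e ≠ 1 := fun h => he1 (orderOf_eq_one_iff.1 h)
  obtain ⟨q, hq, hqd⟩ := Nat.exists_prime_and_dvd h1
  have h2 := tau2_of_bad_U hG hC h17 hM hKU he hbad hq hqd
  rcases hτ q hq hqd with h | h
  · exact h2.2.2.2 h.2.2.2.2
  · exact h2.2.2.2 h.2.2.2

end Cfsg.Agent.Lib.H20.BGZ
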