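import Mathlib
import Cfsg.Agent.Lib.H7.BG14v

/-!
# The `τ₃`-nonregular configuration (helper20), part 1: set-up

If a Hall `κ(M)`-subgroup `K` of a maximal subgroup `M` is not cyclic, then some prime
`r ∈ κ(M)` lies in `τ₃(M)`; we fix a complement `E ≥ K` of `M_σ`, the (cyclic, normal) Sylow
`r`-subgroup `S` of `E` and its subgroup `X` of order `r`, with `C_{M_σ}(X) ≠ 1` (`Ctx`).
-/

set_option autoImplicit false
set_option linter.style.haveILetI false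
set_option linter.unusedSectionVars false
set_option linter.unusedVariables false

open Cfsg
open Cfsg.Agent.Lib.H16.BG
open Cfsg.Agent.Lib.H7.BG7
open Cfsg.Agent.Lib.H7.BG10
open Cfsg.Agent.Lib.H19 (IsPiCard)
open Cfsg.Agent.Lib.H1 (CoprimeAction)

namespace Cfsg.Agent.Lib.H20.BGN

universe u
variable {G : Type u} [Group G] [Finite G]

local notation:max "cj(" g ", " X ")" => Subgroup.map (MulEquiv.toMonoidHom (MulAut.conj g)) X

/-- the `τ₃`-nonregular context. -/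
structure Ctx (M E : Subgroup G) (r : ℕ) (S X : Subgroup G) : Prop where
  compl : IsComplIn E (sigmaCore M) M
  tau3 : r ∈ tau3 M
  sylM : SylIn r S M
  le : S ≤ E
  cyclic : IsCyclic ↥S
  normal : E ≤ Subgroup.normalizer (S : Set G)
  XS : X ≤ S
  Xcard : Nat.card X = r
  Yne : sigmaCore M ⊓ Subgroup.centralizer (X : Set G) ≠ ⊥

/-- a Hall `κ(M)`-subgroup all of whose primes lie in `τ₁(M)` is cyclic. -/
theorem isCyclic_of_kappa_subset_tau1 (hG : IsMinSimpleOddOrder G) {M : Subgroup G}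
    (hM : IsCoatom M) {K : Subgroup G} (hK : IsPiHallOf (kappa M) K M)
    (h : ∀ r ∈ kappa M, r ∈ tau1 M) : IsCyclic ↥K := by
  obtain ⟨E, hE, hKE⟩ := Cfsg.Agent.Lib.H19.BG13.exists_compl_ge hG hM hK.1
    (fun q hq hd => (hK.2.1 q hq hd).2.2.1)
  haveI : Group.IsSolvable ↥E := solvable_of_le_ne_top hG hM.1 hE.1
  have hKπ : IsPiCard (tau1 M) (Nat.card ↥K) := fun q hq hd => h q (hK.2.1 q hq hd)
  obtain ⟨E₁, hE₁, hKE₁⟩ := Cfsg.Agent.Lib.H19.exists_isPiHallOf_ge hKE hKπ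
  have hE₁c : IsCyclic ↥E₁ := (Cfsg.Agent.S1415.result hG M hM E hE).2.1 E₁ hE₁
  haveI := hE₁c
  exact isCyclic_of_injective (Subgroup.inclusion hKE₁) (Subgroup.inclusion_injective hKE₁)

/-- a non-cyclic Hall `κ(M)`-subgroup forces a prime of `κ(M)` outside `τ₁(M)`. -/
theorem exists_kappa_not_tau1 (hG : IsMinSimpleOddOrder G) {M : Subgroup G}
    (hM : IsCoatom M) {K : Subgroup G} (hK : IsPiHallOf (kappa M) K M)
    (hKc : ¬ IsCyclic ↥K) : ∃ r ∈ kappa M, r ∉ tau1 M := by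
  by_contra hcon
  push Not at hcon
  exact hKc (isCyclic_of_kappa_subset_tau1 hG hM hK hcon)

/-- the context attached to a prime `r ∈ κ(M) ∖ τ₁(M)`. -/
theorem exists_ctx (hG : IsMinSimpleOddOrder G) {M : Subgroup G} (hM : IsCoatom M)
    {K : Subgroup G} (hK : IsPiHallOf (kappa M) K M) {r : ℕ} (hr : r ∈ kappa M)
    (hnot : r ∉ tau1 M) : ∃ E S X : Subgroup G, Ctx M E r S X ∧ K ≤ E := by
  have h13 := Cfsg.Agent.Lib.H16.BGHyp.hyp13 hG
  haveI hrF : Fact r.Prime := ⟨hr.1⟩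
  have hrσ : r ∉ sigma M := hr.2.2.1
  obtain ⟨S, hS⟩ := SylIn.exists_sylIn r K
  have hSM : SylIn r S M := Cfsg.Agent.Lib.H20.BGV.sylIn_of_hall hK hr hS
  have hSp : IsPGroup r S := hSM.isPGroup
  have hS1 : S ≠ ⊥ := hSM.ne_bot hr.2.1
  obtain ⟨P, hP⟩ := hSM.exists_sylow
  obtain ⟨hPc, x, hxP, hx1, y, hyσ, hy1, hxy⟩ := hr.2.2.2 P
  have hSc : IsCyclic ↥S := by
    rw [← hP]
    haveI := hPc
    exact isCyclic_of_surjective
      ((P : Subgroup M).equivMapOfInjective _ M.subtype_injective).toMonoidHom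
      ((P : Subgroup M).equivMapOfInjective _ M.subtype_injective).surjective
  have hr1 : PRankLE r 1 ↥M := by
    haveI := hSc
    exact pRankLE_of_sylIn hSM (Cfsg.Agent.Lib.H7.BG13.pRankLE_one_of_isCyclic hr.1)
  have hr3 : r ∈ tau3 M := by
    refine ⟨hr.1, hrσ, ?_, hr1⟩
    by_contra hd
    exact hnot ⟨hr.1, hrσ, hr.2.1, hd, hr1⟩
  obtain ⟨E, hE, hKE⟩ := Cfsg.Agent.Lib.H19.BG13.exists_compl_ge hG hM hK.1
    (fun q hq hd => (hK.2.1 q hq hd).2.2.1)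
  have hSE : S ≤ E := hS.le.trans hKE
  haveI : Group.IsSolvable ↥E := solvable_of_le_ne_top hG hM.1 hE.1
  obtain ⟨E₃, hE₃, hSE₃⟩ := Cfsg.Agent.Lib.H19.exists_isPiHallOf_ge hSE
    (isPiCard_of_isPGroup hr.1 hr3 hSp)
  obtain ⟨hE₃c, hE₃', hE₃n⟩ := (Cfsg.Agent.S1415.result hG M hM E hE).2.2 E₃ hE₃
  have hSn : E ≤ Subgroup.normalizer (S : Set G) :=
    hE₃n.trans (Cfsg.Agent.Lib.H20.BGT.normalizer_le_normalizer_of_le_cyclic hE₃c hSE₃)
  obtain ⟨X, hXS, hXc⟩ := Cfsg.Agent.Lib.H7.BG13t.exists_le_card_eq_prime hSp hS1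
  have hxS : (x : G) ∈ S := by rw [← hP]; exact ⟨x, hxP, rfl⟩
  have hx1' : (x : G) ≠ 1 := fun h => hx1 (Subtype.ext h)
  have hY : sigmaCore M ⊓ Subgroup.centralizer (X : Set G) ≠ ⊥ := by
    have h1 := Cfsg.Agent.Lib.H19.BG13.sigmaCore_inf_centralizer_le_of_rank_one hG h13 hM hrσ hr1
      hSp hSM.le hxS hx1'
    have hy : y ∈ sigmaCore M ⊓ Subgroup.centralizer ({(x : G)} : Set G) := by
      refine Subgroup.mem_inf.2 ⟨hyσ, ?_⟩
      rw [Subgroup.mem_centralizer_iff]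
      intro z hz
      rw [Set.mem_singleton_iff] at hz
      rw [hz]; exact hxy
    intro hbot
    apply hy1
    have : y ∈ sigmaCore M ⊓ Subgroup.centralizer (X : Set G) :=
      Subgroup.mem_inf.2 ⟨hyσ, Subgroup.centralizer_le hXS (h1 hy)⟩
    rw [hbot] at this
    exact Subgroup.mem_bot.1 this
  exact ⟨E, S, X, ⟨hE, hr3, hSM, hSE, hSc, hSn, hXS, hXc, hY⟩, hKE⟩

end Cfsg.Agent.Lib.H20.BGN
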