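import Mathlib
import Cfsg.Agent.Lib.H20.BGN1

/-!
# The `τ₃`-nonregular configuration (helper20), part 2: first consequences

`τ₂(M) = ∅`, all Sylow subgroups of `E` are cyclic, the maximal subgroup `H ≥ N_G(X)` satisfies
`M_σ ∩ H = C_{M_σ}(X)`, and a Sylow subgroup of `E` acting nontrivially on `S` belongs to a prime
of `τ₁(M)`.
-/

set_option autoImplicit false
set_option linter.style.haveILetI false
set_option linter.unusedSectionVars false
set_option linter.unusedVariables false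

open Cfsg
open Cfsg.Agent.Lib.H16.BG
open Cfsg.Agent.Lib.H7.BG7
open Cfsg.Agent.Lib.H7.BG10
open Cfsg.Agent.Lib.H19 (IsPiCard)
open Cfsg.Agent.Lib.H1 (CoprimeAction)

namespace Cfsg.Agent.Lib.H20.BGN

universe u
variable {G : Type u} [Group G] [Finite G]

local notation:max "cj(" g ", " X ")" => Subgroup.map (MulEquiv.toMonoidHom (MulAut.conj g)) X

namespace Ctx

variable {M E S X : Subgroup G} {r : ℕ}

theorem prime (c : Ctx M E r S X) : r.Prime := c.tau3.1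

theorem not_sigma (c : Ctx M E r S X) : r ∉ sigma M := c.tau3.2.1

theorem rank_one (c : Ctx M E r S X) : PRankLE r 1 ↥M := c.tau3.2.2.2

theorem X_ne_bot (c : Ctx M E r S X) : X ≠ ⊥ := by
  intro h
  have := c.Xcard
  rw [h, Subgroup.card_bot] at this
  exact c.prime.one_lt.ne this

theorem S_ne_bot (c : Ctx M E r S X) : S ≠ ⊥ := _root_.ne_bot_of_le_ne_bot c.X_ne_bot c.XS

theorem XM (c : Ctx M E r S X) : X ≤ M := c.XS.trans c.sylM.1

theorem XE (c : Ctx M E r S X) : X ≤ E := c.XS.trans c.le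

theorem E_le_normalizer_X (c : Ctx M E r S X) : E ≤ Subgroup.normalizer (X : Set G) :=
  c.normal.trans (Cfsg.Agent.Lib.H20.BGT.normalizer_le_normalizer_of_le_cyclic c.cyclic c.XS)

theorem isPGroup_S (c : Ctx M E r S X) : IsPGroup r S := c.sylM.2.1

theorem isPGroup_X (c : Ctx M E r S X) : IsPGroup r X := c.isPGroup_S.to_le c.XS

/-- `C_{M_σ}(X) ≤ C(S)`. -/
theorem Y_le_centralizer_S (hG : IsMinSimpleOddOrder G) (hM : IsCoatom M) (c : Ctx M E r S X) :
    sigmaCore M ⊓ Subgroup.centralizer (X : Set G) ≤ Subgroup.centralizer (S : Set G) := by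
  haveI : Fact r.Prime := ⟨c.prime⟩
  have h13 := Cfsg.Agent.Lib.H16.BGHyp.hyp13 hG
  obtain ⟨x, hx, -, hx1⟩ := Cfsg.Agent.Lib.H7.BG11mu.exists_generator_of_card_prime c.Xcard
  have hxX : x ∈ X := by rw [hx]; exact Subgroup.mem_zpowers x
  have h1 := Cfsg.Agent.Lib.H19.BG13.sigmaCore_inf_centralizer_le_of_rank_one hG h13 hM c.not_sigma
    c.rank_one c.isPGroup_S c.sylM.le (c.XS hxX) hx1
  refine le_trans (inf_le_inf_left _ ?_) h1
  apply Subgroup.centralizer_le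
  rw [Set.singleton_subset_iff]
  exact hxX

/-- `C_{M_σ}(X) = C_{M_σ}(S)`. -/
theorem Y_eq (hG : IsMinSimpleOddOrder G) (hM : IsCoatom M) (c : Ctx M E r S X) :
    sigmaCore M ⊓ Subgroup.centralizer (X : Set G) =
      sigmaCore M ⊓ Subgroup.centralizer (S : Set G) :=
  le_antisymm (le_inf inf_le_left (c.Y_le_centralizer_S hG hM))
    (inf_le_inf_left _ (Subgroup.centralizer_le c.XS))

/-- the maximal subgroup `H ≥ N_G(X)`. -/
theorem exists_H (hG : IsMinSimpleOddOrder G) (hM : IsCoatom M) (c : Ctx M E r S X) :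
    ∃ H : Subgroup G, IsCoatom H ∧ Subgroup.normalizer (X : Set G) ≤ H := by
  haveI : Fact r.Prime := ⟨c.prime⟩
  exact exists_coatom_ge (normalizer_ne_top_of_isPGroup hG c.isPGroup_X c.X_ne_bot)

section WithH

variable {H : Subgroup G}

theorem not_conj (hG : IsMinSimpleOddOrder G) (hM : IsCoatom M) (c : Ctx M E r S X)
    (hH : IsCoatom H) (hNX : Subgroup.normalizer (X : Set G) ≤ H) : ∀ g : G, H ≠ cj(g, M) := by
  haveI : Fact r.Prime := ⟨c.prime⟩
  exact (Cfsg.Agent.Lib.H19.BG13.type_of_normalizer_ge hG hM c.not_sigma c.sylM c.cyclic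
    c.isPGroup_X c.X_ne_bot c.XM hH hNX).1

theorem type_H (hG : IsMinSimpleOddOrder G) (hM : IsCoatom M) (c : Ctx M E r S X)
    (hH : IsCoatom H) (hNX : Subgroup.normalizer (X : Set G) ≤ H) : r ∈ sigma H ∨ r ∈ tau2 H := by
  haveI : Fact r.Prime := ⟨c.prime⟩
  exact (Cfsg.Agent.Lib.H19.BG13.type_of_normalizer_ge hG hM c.not_sigma c.sylM c.cyclic
    c.isPGroup_X c.X_ne_bot c.XM hH hNX).2

theorem H_ne (hG : IsMinSimpleOddOrder G) (hM : IsCoatom M) (c : Ctx M E r S X)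
    (hH : IsCoatom H) (hNX : Subgroup.normalizer (X : Set G) ≤ H) : H ≠ M := by
  intro e
  apply c.not_conj hG hM hH hNX 1
  rw [Cfsg.Agent.Lib.H10.map_conj_one, e]

theorem E_le_H (c : Ctx M E r S X) (hNX : Subgroup.normalizer (X : Set G) ≤ H) : E ≤ H :=
  c.E_le_normalizer_X.trans hNX

theorem centralizer_X_le_H (c : Ctx M E r S X) (hNX : Subgroup.normalizer (X : Set G) ≤ H) :
    Subgroup.centralizer (X : Set G) ≤ H :=
  (Subgroup.centralizer_le_normalizer (X : Set G)).trans hNX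

/-- `M_σ ∩ H = C_{M_σ}(X)`. -/
theorem sigmaCore_inf_H (hG : IsMinSimpleOddOrder G) (hM : IsCoatom M) (c : Ctx M E r S X)
    (hH : IsCoatom H) (hNX : Subgroup.normalizer (X : Set G) ≤ H) :
    sigmaCore M ⊓ H = sigmaCore M ⊓ Subgroup.centralizer (X : Set G) := by
  haveI : Fact r.Prime := ⟨c.prime⟩
  have h13 := Cfsg.Agent.Lib.H16.BGHyp.hyp13 hG
  apply le_antisymm
  · refine le_inf inf_le_left ?_
    have hpH : r ∈ sigma H ∨ r ∈ tau2 H ∨ r ∈ Cfsg.tau3 H := by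
      rcases c.type_H hG hM hH hNX with h | h
      · exact Or.inl h
      · exact Or.inr (Or.inl h)
    have h1 := Cfsg.Agent.Lib.H19.BG13.centralizes_of_not_tau1 hG h13 hM hH
      (c.not_conj hG hM hH hNX) c.not_sigma hpH c.isPGroup_S c.sylM.le (c.le.trans (c.E_le_H hNX))
    exact h1.trans (Subgroup.centralizer_le c.XS)
  · exact inf_le_inf_left _ (c.centralizer_X_le_H hNX)

end WithH

/-- the primes of `E` lie outside `σ(M)`. -/
theorem not_sigma_of_dvd (hG : IsMinSimpleOddOrder G) (hM : IsCoatom M) (c : Ctx M E r S X)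
    {t : ℕ} (ht : t.Prime) (hd : t ∣ Nat.card ↥E) : t ∉ sigma M := by
  have hU := Cfsg.Agent.Lib.H20.BGT.uniq3 hG
  have hσ := (Cfsg.Agent.Lib.H20.BGS.sigma_core_hall hG hU hM).1
  exact Cfsg.Agent.Lib.H8.BG12.compl_not_sigma hσ c.compl ht hd

/-- every Sylow subgroup of `E` is cyclic. -/
theorem sylow_cyclic (hG : IsMinSimpleOddOrder G) (hM : IsCoatom M) (c : Ctx M E r S X)
    {t : ℕ} [ht : Fact t.Prime] {T : Subgroup G} (hT : SylIn t T E) : IsCyclic ↥T := by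
  haveI : Fact r.Prime := ⟨c.prime⟩
  have hU := Cfsg.Agent.Lib.H20.BGT.uniq3 hG
  have hσ := (Cfsg.Agent.Lib.H20.BGS.sigma_core_hall hG hU hM).1
  obtain ⟨H, hH, hNX⟩ := c.exists_H hG hM
  by_cases hT1 : T = ⊥
  · rw [hT1]; exact isCyclic_of_subsingleton
  by_cases htr : t = r
  · subst htr
    have hSE : SylIn t S E := c.sylM.mono c.le c.compl.1
    obtain ⟨e, he, hle⟩ := hSE.exists_conj_le hT.isPGroup hT.le
    exact Cfsg.Agent.Lib.H19.BG13.isCyclic_of_map_conj_le c.cyclic hle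
  have htE : t ∣ Nat.card ↥E := dvd_card_of_ne_bot hT.isPGroup hT.le hT1
  have htσ : t ∉ sigma M := c.not_sigma_of_dvd hG hM ht.out htE
  have htM : t ∣ Nat.card ↥M := htE.trans (Subgroup.card_dvd_of_le c.compl.1)
  have ht2' : t ≠ 2 := prime_ne_two_of_dvd_card hG htM
  by_contra hTc
  obtain ⟨A, hAT, hAe, hAc⟩ :=
    Cfsg.Agent.Lib.H20.BGT.exists_elemAb_sq_of_not_cyclic ht2' hT.isPGroup hTc
  have hAE : A ≤ E := hAT.trans hT.le
  have hAM : A ≤ M := hAE.trans c.compl.1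
  have ht2 : t ∈ tau2 M := Cfsg.Agent.Lib.H20.BGT.mem_tau2_of_elemAb_sq hG hM htσ hAM hAe hAc
  have hEA : E ≤ Subgroup.normalizer (A : Set G) :=
    (Cfsg.Agent.S1418.result hG M hM E c.compl t ht2 A ⟨hAE, hAe, hAc⟩).1.1
  have h17 := (Cfsg.Agent.S1417.result hG M hM t ht2 A ⟨hAM, hAe, hAc⟩).2.2.2.2.1
  have hAS : A ⊓ S = ⊥ := by
    have hcop : (Nat.card A).Coprime (Nat.card S) :=
      Cfsg.Agent.Lib.H19.BG13.isPGroup_coprime_card htr (hT.isPGroup.to_le hAT) c.isPGroup_S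
    exact (Subgroup.disjoint_of_coprime_natCard hcop).eq_bot
  have hAC : A ≤ Subgroup.centralizer (S : Set G) :=
    le_centralizer_of_inf_eq_bot (hAE.trans c.normal) (c.le.trans hEA) hAS
  have hAH : A ≤ H :=
    hAC.trans ((Subgroup.centralizer_le c.XS).trans (c.centralizer_X_le_H hNX))
  have h1 := h17 H hH (c.H_ne hG hM hH hNX) hAH
  apply c.Yne
  rw [eq_bot_iff, ← h1]
  exact le_inf inf_le_left (inf_le_right.trans (c.centralizer_X_le_H hNX))

/-- `M` has `t`-rank at most one for every prime `t` dividing `|E|`. -/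
theorem pRankLE_one (hG : IsMinSimpleOddOrder G) (hM : IsCoatom M) (c : Ctx M E r S X)
    {t : ℕ} [ht : Fact t.Prime] (hd : t ∣ Nat.card ↥E) : PRankLE t 1 ↥M := by
  have hU := Cfsg.Agent.Lib.H20.BGT.uniq3 hG
  have hσ := (Cfsg.Agent.Lib.H20.BGS.sigma_core_hall hG hU hM).1
  obtain ⟨T, hT⟩ := SylIn.exists_sylIn t E
  have htσ : t ∉ sigma M := c.not_sigma_of_dvd hG hM ht.out hd
  have hTM : SylIn t T M := Cfsg.Agent.Lib.H8.BG12.sylIn_of_compl hσ c.compl htσ hT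
  haveI := c.sylow_cyclic hG hM hT
  exact pRankLE_of_sylIn hTM (Cfsg.Agent.Lib.H7.BG13.pRankLE_one_of_isCyclic ht.out)

/-- `τ₂(M) = ∅`. -/
theorem tau2_empty (hG : IsMinSimpleOddOrder G) (hM : IsCoatom M) (c : Ctx M E r S X) (t : ℕ) :
    t ∉ tau2 M := by
  intro ht2
  haveI : Fact t.Prime := ⟨ht2.1⟩
  have hU := Cfsg.Agent.Lib.H20.BGT.uniq3 hG
  have hσ := (Cfsg.Agent.Lib.H20.BGS.sigma_core_hall hG hU hM).1
  obtain ⟨T, hT⟩ := SylIn.exists_sylIn t E
  have hTM : SylIn t T M := Cfsg.Agent.Lib.H8.BG12.sylIn_of_compl hσ c.compl ht2.2.1 hT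
  haveI := c.sylow_cyclic hG hM hT
  exact ht2.2.2.2 (pRankLE_of_sylIn hTM (Cfsg.Agent.Lib.H7.BG13.pRankLE_one_of_isCyclic ht2.1))

/-- every prime of `E` lies in `τ₁(M)` or `τ₃(M)`. -/
theorem tau13_of_dvd (hG : IsMinSimpleOddOrder G) (hM : IsCoatom M) (c : Ctx M E r S X)
    {t : ℕ} (ht : t.Prime) (hd : t ∣ Nat.card ↥E) : t ∈ tau1 M ∨ t ∈ Cfsg.tau3 M := by
  haveI : Fact t.Prime := ⟨ht⟩
  have htσ : t ∉ sigma M := c.not_sigma_of_dvd hG hM ht hd
  have htM : t ∣ Nat.card ↥M := hd.trans (Subgroup.card_dvd_of_le c.compl.1)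
  have h1 := c.pRankLE_one hG hM hd
  by_cases hc : t ∣ Nat.card ↥⁅M, M⁆
  · exact Or.inr ⟨ht, htσ, hc, h1⟩
  · exact Or.inl ⟨ht, htσ, htM, hc, h1⟩

/-- a Sylow subgroup `T` of `E` (for a prime `t ≠ r`) not centralizing `S` has `t ∈ τ₁(M)`. -/
theorem mem_tau1_of_not_centralizes (hG : IsMinSimpleOddOrder G) (hM : IsCoatom M)
    (c : Ctx M E r S X) {t : ℕ} [ht : Fact t.Prime] (htr : t ≠ r) {T : Subgroup G}
    (hT : SylIn t T E) (hTS : ¬ T ≤ Subgroup.centralizer (S : Set G)) : t ∈ tau1 M := by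
  haveI : Fact r.Prime := ⟨c.prime⟩
  have hU := Cfsg.Agent.Lib.H20.BGT.uniq3 hG
  have hσ := (Cfsg.Agent.Lib.H20.BGS.sigma_core_hall hG hU hM).1
  have hT1 : T ≠ ⊥ := by
    intro h
    apply hTS
    rw [h]; exact bot_le
  have htE : t ∣ Nat.card ↥E := dvd_card_of_ne_bot hT.isPGroup hT.le hT1
  have htσ : t ∉ sigma M := c.not_sigma_of_dvd hG hM ht.out htE
  have hTM : SylIn t T M := Cfsg.Agent.Lib.H8.BG12.sylIn_of_compl hσ c.compl htσ hT
  rcases c.tau13_of_dvd hG hM ht.out htE with h | ht3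
  · exact h
  exfalso
  have hTc' : T ≤ ⁅M, M⁆ :=
    Cfsg.Agent.Lib.H19.BG13.tau3_le_commutator hG hM ht3 hT.isPGroup hTM.le
  have hSc' : S ≤ ⁅M, M⁆ :=
    Cfsg.Agent.Lib.H19.BG13.tau3_le_commutator hG hM c.tau3 c.isPGroup_S c.sylM.le
  have hrα : r ∉ alpha M := fun h => h.2 (fun A hA1 hA2 => (c.rank_one A hA1 hA2).trans
    (Nat.pow_le_pow_right c.prime.pos (by norm_num)))
  have := Cfsg.Agent.Lib.H19.BG13.le_centralizer_of_le_commutator hG hM htr hrα hT.isPGroup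
    c.isPGroup_S hTM.le c.sylM.le hTc' hSc' (hT.le.trans c.normal)
  exact hTS (le_centralizer_comm this)

end Ctx

end Cfsg.Agent.Lib.H20.BGN
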