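import Mathlib
import Cfsg.Agent.Lib.H20.BGN2
import Cfsg.Agent.S1422

/-!
# The `τ₃`-nonregular configuration (helper20), part 3: step (A)

Every subgroup of `E` of prime order `t ∈ τ₁(M)` centralizes `S` (BG 12.17(b) + 13.1(a) + 13.8).
-/

set_option autoImplicit false
set_option linter.style.haveILetI false
set_option linter.unusedSectionVars false
set_option linter.unusedVariables false

open Cfsg
open Cfsg.Agent.Lib.H16.BG
open Cfsg.Agent.Lib.H7.BG7
open Cfsg.Agent.Lib.H7.BG10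
open Cfsg.Agent.Lib.H19 (IsPiCard)
open Cfsg.Agent.Lib.H1 (CoprimeAction)

namespace Cfsg.Agent.Lib.H20.BGN

universe u
variable {G : Type u} [Group G] [Finite G]

local notation:max "cj(" g ", " X ")" => Subgroup.map (MulEquiv.toMonoidHom (MulAut.conj g)) X

namespace Ctx

variable {M E S X : Subgroup G} {r : ℕ}

/-- `S ≤ E'`. -/
theorem S_le_commutator (hG : IsMinSimpleOddOrder G) (hM : IsCoatom M) (c : Ctx M E r S X) :
    S ≤ ⁅E, E⁆ := by
  haveI : Group.IsSolvable ↥E := solvable_of_le_ne_top hG hM.1 c.compl.1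
  obtain ⟨E₃, hE₃, hSE₃⟩ := Cfsg.Agent.Lib.H19.exists_isPiHallOf_ge c.le
    (isPiCard_of_isPGroup c.prime c.tau3 c.isPGroup_S)
  exact hSE₃.trans ((Cfsg.Agent.S1415.result hG M hM E c.compl).2.2 E₃ hE₃).2.1

/-- `E` normalizes `Y = C_{M_σ}(X)`. -/
theorem E_le_normalizer_Y (c : Ctx M E r S X) :
    E ≤ Subgroup.normalizer ((sigmaCore M ⊓ Subgroup.centralizer (X : Set G) : Subgroup G) : Set G) := by
  apply Cfsg.Agent.Lib.H19.BG13.le_normalizer_inf'
    (c.compl.1.trans (Cfsg.Agent.Lib.H20.BGS.le_normalizer_sigmaCore M))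
  exact Cfsg.Agent.Lib.H19.BG13.le_normalizer_centralizer c.E_le_normalizer_X

/-- coprime action of `E` on `Y`. -/
theorem coprimeAction_Y (hG : IsMinSimpleOddOrder G) (hM : IsCoatom M) (c : Ctx M E r S X) :
    CoprimeAction E (sigmaCore M ⊓ Subgroup.centralizer (X : Set G)) := by
  have h := Cfsg.Agent.Lib.H7.BG14t.coprimeAction_compl hG hM c.compl
  exact ⟨c.E_le_normalizer_Y,
    Nat.Coprime.coprime_dvd_right (Subgroup.card_dvd_of_le inf_le_left) h.coprime,
    Or.inl (solvable_of_le_ne_top hG hM.1 c.compl.1)⟩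

/-- the common endgame of step (A): an `X_t`-invariant Sylow subgroup `Q` of `Y` on which `X_t` acts
without fixed points and with `N_G(Q) ≤ M` is impossible when `X_t` acts without fixed points on
`S`. -/
theorem false_of_sylow (hG : IsMinSimpleOddOrder G) (hM : IsCoatom M) (c : Ctx M E r S X)
    {t : ℕ} [ht : Fact t.Prime] (ht1 : t ∈ tau1 M) {Xt : Subgroup G} (hXtE : Xt ≤ E)
    (hXtc : Nat.card Xt = t) (hreg : S ⊓ Subgroup.centralizer (Xt : Set G) = ⊥)
    {q : ℕ} [hq : Fact q.Prime] (hqσ : q ∈ sigma M) {Q : Subgroup G}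
    (hQ : SylIn q Q (sigmaCore M ⊓ Subgroup.centralizer (X : Set G)))
    (hXtQ : Xt ≤ Subgroup.normalizer (Q : Set G))
    (hregQ : Q ⊓ Subgroup.centralizer (Xt : Set G) = ⊥)
    (hNQ : Subgroup.normalizer (Q : Set G) ≤ M) : False := by
  haveI : Fact r.Prime := ⟨c.prime⟩
  have h13 := Cfsg.Agent.Lib.H16.BGHyp.hyp13 hG
  obtain ⟨H, hH, hNX⟩ := c.exists_H hG hM
  have hnc := c.not_conj hG hM hH hNX
  have hYH := c.sigmaCore_inf_H hG hM hH hNX
  have hEH : E ≤ H := c.E_le_H hNX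
  have hXtM : Xt ≤ M := hXtE.trans c.compl.1
  have hXtH : Xt ≤ H := hXtE.trans hEH
  have hXtp : IsPGroup t Xt := IsPGroup.of_card (n := 1) (by rw [hXtc, pow_one])
  have htσ : t ∉ sigma M := ht1.2.1
  have htr : t ≠ r := by
    rintro rfl
    exact ht1.2.2.2.1 c.tau3.2.2.1
  have htq : t ≠ q := by
    rintro rfl
    exact htσ hqσ
  have hQ1 : Q ≠ ⊥ := by
    rintro rfl
    apply hM.1
    rw [eq_top_iff]
    refine le_trans ?_ hNQ
    intro g _
    rw [Subgroup.mem_normalizer_iff]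
    intro h
    simp [Subgroup.mem_bot]
  have hQY : Q ≤ sigmaCore M ⊓ H := by rw [hYH]; exact hQ.le
  -- `Q` is a Sylow subgroup of `M ∩ H`
  have hQMH : SylIn q Q (M ⊓ H) := by
    obtain ⟨P₀, hP₀⟩ := SylIn.exists_sylIn q (M ⊓ H)
    have hP₀σ : P₀ ≤ sigmaCore M :=
      Cfsg.Agent.Lib.H20.BGT.le_sigmaCore_of_isPiCard hG hM (hP₀.le.trans inf_le_left)
        (isPiCard_of_isPGroup hq.out hqσ hP₀.isPGroup)
    have hP₀Y : P₀ ≤ sigmaCore M ⊓ Subgroup.centralizer (X : Set G) := by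
      rw [← hYH]; exact le_inf hP₀σ (hP₀.le.trans inf_le_right)
    obtain ⟨y, hy, hle⟩ := hQ.exists_conj_le hP₀.isPGroup hP₀Y
    apply hP₀.of_card_ge hQ.isPGroup
      (le_inf (hQY.trans (inf_le_left.trans (Cfsg.Agent.Lib.H20.BGS.sigmaCore_le M)))
        (hQY.trans inf_le_right))
    rw [← Cfsg.Agent.Lib.H10.card_map_conj y P₀]
    exact Nat.le_of_dvd Nat.card_pos (Subgroup.card_dvd_of_le hle)
  have hSMH : SylIn r S (M ⊓ H) :=
    c.sylM.mono (le_inf c.sylM.le (c.le.trans hEH)) inf_le_left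
  -- `t ∈ τ₁(H)`
  have htH : t ∈ tau1 H := by
    have htdH : t ∣ Nat.card ↥H := by
      rw [← hXtc]; exact Subgroup.card_dvd_of_le hXtH
    have hkill : sigmaCore M ⊓ H ≤ Subgroup.centralizer (Xt : Set G) → False := by
      intro h
      apply hQ1
      rw [eq_bot_iff, ← hregQ]
      exact le_inf le_rfl (hQY.trans h)
    rcases Cfsg.Agent.Lib.H19.BG13.prime_type hG hH ht.out htdH with h | h | h | h
    · exact (hkill (Cfsg.Agent.Lib.H19.BG13.centralizes_of_not_tau1 hG h13 hM hH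
        hnc htσ (Or.inl h) hXtp hXtM hXtH)).elim
    · exact h
    · exact (hkill (Cfsg.Agent.Lib.H19.BG13.centralizes_of_not_tau1 hG h13 hM hH
        hnc htσ (Or.inr (Or.inl h)) hXtp hXtM hXtH)).elim
    · exact (hkill (Cfsg.Agent.Lib.H19.BG13.centralizes_of_not_tau1 hG h13 hM hH
        hnc htσ (Or.inr (Or.inr h)) hXtp hXtM hXtH)).elim
  have hNS : Subgroup.normalizer (S : Set G) ≤ H :=
    (Cfsg.Agent.Lib.H20.BGT.normalizer_le_normalizer_of_le_cyclic c.cyclic c.XS).trans hNX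
  exact Cfsg.Agent.Lib.H7.BG138.tau1_asymmetry hG hM hH hnc ht1 htH hXtM hXtH hXtc hSMH hQMH htr htq
    (hXtE.trans c.normal) hXtQ hreg hregQ hNS hNQ

end Ctx

end Cfsg.Agent.Lib.H20.BGN
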