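import Mathlib
import Cfsg.Agent.Lib.H20.BGN3

/-!
# The `τ₃`-nonregular configuration (helper20), part 4: step (A), conclusion
-/

set_option autoImplicit false
set_option linter.style.haveILetI false
set_option linter.unusedSectionVars false
set_option linter.unusedVariables false

open Cfsg
open Cfsg.Agent.Lib.H16.BG
open Cfsg.Agent.Lib.H7.BG7
open Cfsg.Agent.Lib.H7.BG10
open Cfsg.Agent.Lib.H19 (IsPiCard)
open Cfsg.Agent.Lib.H1 (CoprimeAction)

namespace Cfsg.Agent.Lib.H20.BGN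

universe u
variable {G : Type u} [Group G] [Finite G]

local notation:max "cj(" g ", " X ")" => Subgroup.map (MulEquiv.toMonoidHom (MulAut.conj g)) X

namespace Ctx

variable {M E S X : Subgroup G} {r : ℕ}

/-- **Step (A)**: a subgroup `X_t ≤ E` of prime order `t ∈ τ₁(M)` centralizes `S`. -/
theorem S_le_centralizer_of_tau1 (hG : IsMinSimpleOddOrder G) (hM : IsCoatom M)
    (c : Ctx M E r S X) {t : ℕ} [ht : Fact t.Prime] (ht1 : t ∈ tau1 M) {Xt : Subgroup G}
    (hXtE : Xt ≤ E) (hXtc : Nat.card Xt = t) : S ≤ Subgroup.centralizer (Xt : Set G) := by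
  haveI : Fact r.Prime := ⟨c.prime⟩
  have hU := Cfsg.Agent.Lib.H20.BGT.uniq3 hG
  have hσ := (Cfsg.Agent.Lib.H20.BGS.sigma_core_hall hG hU hM).1
  have hαH := (alpha_core_hall hG hU hM).1
  have hXtM : Xt ≤ M := hXtE.trans c.compl.1
  have hXtp : IsPGroup t Xt := IsPGroup.of_card (n := 1) (by rw [hXtc, pow_one])
  have htσ : t ∉ sigma M := ht1.2.1
  have htr : t ≠ r := by
    rintro rfl
    exact ht1.2.2.2.1 c.tau3.2.2.1
  have hXtN : Xt ≤ Subgroup.normalizer (S : Set G) := hXtE.trans c.normal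
  by_contra hα
  have hreg : S ⊓ Subgroup.centralizer (Xt : Set G) = ⊥ :=
    Cfsg.Agent.Lib.H7.BG13t.inf_centralizer_eq_bot_of_cyclic htr hXtp c.isPGroup_S c.cyclic hXtN hα
  have hnu : ¬ (Subgroup.normalizer (S : Set G) ≤ M ∧
      ∀ L : Subgroup G, IsCoatom L → Subgroup.normalizer (S : Set G) ≤ L → L = M) := by
    rintro ⟨hN, -⟩
    exact c.not_sigma (Cfsg.Agent.Lib.H19.BG13.mem_sigma_of_sylIn c.sylM c.S_ne_bot hN)
  obtain ⟨hαβ, -, -, -, hfix, -, -⟩ := Cfsg.Agent.Lib.H7.BG1217.lemma_12_17b hG hM htr htσ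
    ht1.2.2.2.2 hXtM hXtc c.sylM c.S_ne_bot hXtN hreg hnu
  set Y : Subgroup G := sigmaCore M ⊓ Subgroup.centralizer (X : Set G) with hYdef
  have hact : CoprimeAction E Y := c.coprimeAction_Y hG hM
  have hYM : Y ≤ M := inf_le_left.trans (Cfsg.Agent.Lib.H20.BGS.sigmaCore_le M)
  have hYS : Y ≤ Subgroup.centralizer (S : Set G) := c.Y_le_centralizer_S hG hM
  by_cases hYα : alphaCore M ⊓ Subgroup.centralizer (S : Set G) = ⊥
  · -- Case 2: `Y ∩ M_α = 1`
    obtain ⟨q, hqp, hqY⟩ := Nat.exists_prime_and_dvd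
      (fun h => c.Yne (Subgroup.card_eq_one.1 h))
    haveI hqF : Fact q.Prime := ⟨hqp⟩
    have hqσ : q ∈ sigma M :=
      Cfsg.Agent.Lib.H20.BGS.sigmaCore_isPiCard M q hqp (hqY.trans (Subgroup.card_dvd_of_le inf_le_left))
    have hqα : q ∉ alpha M := by
      intro hqα
      obtain ⟨QY, hQY⟩ := SylIn.exists_sylIn q Y
      have h1 : QY ≤ alphaCore M := by
        apply Cfsg.Agent.Lib.H19.BG13.le_piCoreOf_of_hall hαH (hQY.le.trans hYM)
        intro s hs hsd
        rw [Cfsg.Agent.Lib.H8.BG12.prime_eq_of_dvd_card_pGroup hQY.isPGroup hs hsd]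
        exact hqα
      have h2 : QY ≤ alphaCore M ⊓ Subgroup.centralizer (S : Set G) :=
        le_inf h1 (hQY.le.trans hYS)
      rw [hYα] at h2
      exact hQY.ne_bot hqY (eq_bot_iff.2 h2)
    have hqβ : q ∉ beta M := fun h => hqα h.1
    -- an `E`-invariant Sylow `q`-subgroup of `M_σ`
    have hactσ : CoprimeAction E (sigmaCore M) :=
      Cfsg.Agent.Lib.H7.BG14t.coprimeAction_compl hG hM c.compl
    obtain ⟨Q, hQ', hEQ⟩ := Cfsg.Agent.Lib.H1.coprime_exists_invariant_sylow hactσ q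
    have hQσ : SylIn q Q (sigmaCore M) := Cfsg.Agent.Lib.H16.BG.sylIn_of_isSylowOf hQ'
    have hQM : SylIn q Q M := Cfsg.Agent.Lib.H20.BGV.sylIn_of_hall hσ hqσ hQσ
    -- `E'` centralizes `Q`
    have hE'L : ⁅E, E⁆ ≤ ⁅M, M⁆ := Subgroup.commutator_mono c.compl.1 c.compl.1
    have hσL' : sigmaCore M ≤ ⁅M, M⁆ := sigmaCore_le_commutator hG hU hM
    have hE'E : ⁅E, E⁆ ≤ E := Subgroup.commutator_le_self E
    have hβE : ∀ s : ℕ, s.Prime → s ∣ Nat.card ↥(⁅E, E⁆ : Subgroup G) → s ∉ beta M := by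
      intro s hs hd hβ
      have hsσ : s ∈ sigma M := alpha_subset_sigma hG hU hM hβ.1
      exact Cfsg.Agent.Lib.H8.BG12.compl_not_sigma hσ c.compl hs
        (hd.trans (Subgroup.card_dvd_of_le hE'E)) hsσ
    have hβQ : ∀ s : ℕ, s.Prime → s ∣ Nat.card ↥Q → s ∉ beta M := by
      intro s hs hd
      rw [Cfsg.Agent.Lib.H8.BG12.prime_eq_of_dvd_card_pGroup hQσ.isPGroup hs hd]
      exact hqβ
    have hcop : (Nat.card ↥(⁅E, E⁆ : Subgroup G)).Coprime (Nat.card ↥Q) :=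
      Nat.Coprime.coprime_dvd_left (Subgroup.card_dvd_of_le hE'E)
        (Nat.Coprime.coprime_dvd_right (Subgroup.card_dvd_of_le hQσ.le) hactσ.coprime)
    have hQE' : Q ≤ Subgroup.centralizer ((⁅E, E⁆ : Subgroup G) : Set G) :=
      Cfsg.Agent.Lib.H19.BG13.le_centralizer_of_beta' hG hM hE'L (hQσ.le.trans hσL')
        (hE'E.trans hEQ) hcop hβE hβQ
    have hQX : Q ≤ Subgroup.centralizer (X : Set G) :=
      hQE'.trans (Subgroup.centralizer_le (c.XS.trans (c.S_le_commutator hG hM)))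
    have hQY : Q ≤ Y := le_inf hQσ.le hQX
    have hQYs : SylIn q Q Y := hQσ.mono hQY inf_le_left
    -- `Q` is abelian
    obtain ⟨H, hH, hNX⟩ := c.exists_H hG hM
    have hQab : IsMulCommutative ↥Q := by
      by_contra hna
      obtain ⟨L, -, hLu⟩ := Cfsg.Agent.S1422.result hG q Q hQσ.isPGroup hna
      have h1 := hLu M ⟨hM, hQM.le⟩
      have h2 := hLu H ⟨hH, hQX.trans (c.centralizer_X_le_H hNX)⟩
      exact c.H_ne hG hM hH hNX (h2.trans h1.symm)
    -- `C_Q(X_t) = 1`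
    have hregQ : Q ⊓ Subgroup.centralizer (Xt : Set G) = ⊥ := by
      have h1 : Q ⊓ Subgroup.centralizer (Xt : Set G) ≤ ⁅sigmaCore M, sigmaCore M⁆ :=
        Cfsg.Agent.Lib.H7.BG14t.le_commutator_sigmaCore_of_tau2_empty hG hM c.compl
          (c.tau2_empty hG hM) ht1 hXtE hXtc hqσ hqβ (inf_le_left.trans hQσ.le)
          (hQσ.isPGroup.to_le inf_le_left) inf_le_right
      have hqM : q ∣ Nat.card ↥M :=
        (hqY.trans (Subgroup.card_dvd_of_le hYM))
      have hnpc : HasNormalPComplement q ↥(sigmaCore M) :=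
        ((Cfsg.Agent.S1414.result hG M hM).2.2.2.2 q hqp hqM hqβ).2.1
      have h2 := Cfsg.Agent.Lib.H20.BGV.inf_commutator_le_of_normal_complement' hnpc hQσ
      have h3 : ⁅Q, Q⁆ = ⊥ := by
        rw [Subgroup.commutator_eq_bot_iff_le_centralizer]
        intro a ha
        rw [Subgroup.mem_centralizer_iff]
        intro b hb
        have := hQab.is_comm.comm (⟨b, hb⟩ : Q) ⟨a, ha⟩
        exact congrArg Subtype.val this
      rw [eq_bot_iff, ← h3]
      exact le_trans (le_inf inf_le_left h1) h2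
    exact c.false_of_sylow hG hM ht1 hXtE hXtc hreg hqσ hQYs (hXtE.trans hEQ) hregQ
      (Cfsg.Agent.Lib.H20.BGT.normalizer_le_of_sylIn_sigma hqσ hQM).1
  · -- Case 1: `Y ∩ M_α ≠ 1`
    obtain ⟨q, hqp, hqd⟩ := Nat.exists_prime_and_dvd
      (fun h => hYα (Subgroup.card_eq_one.1 h))
    haveI hqF : Fact q.Prime := ⟨hqp⟩
    have hqα : q ∈ alpha M :=
      Cfsg.Agent.Lib.H20.BGU.alphaCore_isPiCard M q hqp (hqd.trans (Subgroup.card_dvd_of_le inf_le_left))
    have hqβ : q ∈ beta M := hαβ q hqα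
    have hqσ : q ∈ sigma M := alpha_subset_sigma hG hU hM hqα
    have hασ : alphaCore M ≤ sigmaCore M := (alpha_core_hall hG hU hM).2.2.1
    have hle : alphaCore M ⊓ Subgroup.centralizer (S : Set G) ≤ Y :=
      le_inf (inf_le_left.trans hασ) (inf_le_right.trans (Subgroup.centralizer_le c.XS))
    have hqY : q ∣ Nat.card ↥Y := hqd.trans (Subgroup.card_dvd_of_le hle)
    obtain ⟨Q, hQ', hEQ⟩ := Cfsg.Agent.Lib.H1.coprime_exists_invariant_sylow hact q
    have hQ : SylIn q Q Y := Cfsg.Agent.Lib.H16.BG.sylIn_of_isSylowOf hQ'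
    have hQ1 : Q ≠ ⊥ := hQ.ne_bot hqY
    have hQα : Q ≤ alphaCore M := by
      apply Cfsg.Agent.Lib.H19.BG13.le_piCoreOf_of_hall hαH (hQ.le.trans hYM)
      intro s hs hsd
      rw [Cfsg.Agent.Lib.H8.BG12.prime_eq_of_dvd_card_pGroup hQ.isPGroup hs hsd]
      exact hqα
    have hregQ : Q ⊓ Subgroup.centralizer (Xt : Set G) = ⊥ := by
      rw [eq_bot_iff, ← hfix, Cfsg.Agent.Lib.H16.BG.centralizer_sup_eq]
      exact le_inf (inf_le_left.trans hQα) (le_inf (inf_le_left.trans (hQ.le.trans hYS)) inf_le_right)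
    have hNQ : Subgroup.normalizer (Q : Set G) ≤ M := by
      obtain ⟨X₀, hX₀Q, hX₀c⟩ := Cfsg.Agent.Lib.H7.BG13t.exists_le_card_eq_prime hQ.isPGroup hQ1
      have hC := (Cfsg.Agent.Lib.H7.BG138.normalizer_le_of_beta hG hM hqβ
        (hX₀Q.trans (hQ.le.trans hYM)) hX₀c).1
      rw [(sigma_fusion hG hU hM hqσ hQ.isPGroup hQ1 (hQ.le.trans hYM)).2]
      exact sup_le inf_le_left ((Subgroup.centralizer_le hX₀Q).trans hC)
    exact c.false_of_sylow hG hM ht1 hXtE hXtc hreg hqσ hQ (hXtE.trans hEQ) hregQ hNQ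

end Ctx

end Cfsg.Agent.Lib.H20.BGN
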