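import Mathlib
import Cfsg.Agent.Lib.H20.BGN4

/-!
# The `τ₃`-nonregular configuration (helper20), part 5: steps (B) and (C1)

For a Sylow `t`-subgroup `T` of `E` acting nontrivially on `S` and `X_t = Ω₁(T)`:
`C_{M_σ}(X_t) = C_{M_σ}(X)`.
-/

set_option autoImplicit false
set_option linter.style.haveILetI false
set_option linter.unusedSectionVars false
set_option linter.unusedVariables false

open Cfsg
open Cfsg.Agent.Lib.H16.BG
open Cfsg.Agent.Lib.H7.BG7
open Cfsg.Agent.Lib.H7.BG10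
open Cfsg.Agent.Lib.H19 (IsPiCard)
open Cfsg.Agent.Lib.H1 (CoprimeAction)

namespace Cfsg.Agent.Lib.H20.BGN

universe u
variable {G : Type u} [Group G] [Finite G]

local notation:max "cj(" g ", " X ")" => Subgroup.map (MulEquiv.toMonoidHom (MulAut.conj g)) X

namespace Ctx

variable {M E S X : Subgroup G} {r : ℕ}

/-- **Step (B)**: `Y = C_{M_σ}(X)` is centralized by `X_t`. -/
theorem Y_le_centralizer_Xt (hG : IsMinSimpleOddOrder G) (hM : IsCoatom M)
    (c : Ctx M E r S X) {t : ℕ} [ht : Fact t.Prime] (htr : t ≠ r) {T : Subgroup G}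
    (hT : SylIn t T E) (hTS : ¬ T ≤ Subgroup.centralizer (S : Set G)) {Xt : Subgroup G}
    (hXtT : Xt ≤ T) (hXtc : Nat.card Xt = t) :
    sigmaCore M ⊓ Subgroup.centralizer (X : Set G) ≤ Subgroup.centralizer (Xt : Set G) := by
  haveI : Fact r.Prime := ⟨c.prime⟩
  have h13 := Cfsg.Agent.Lib.H16.BGHyp.hyp13 hG
  have ht1 : t ∈ tau1 M := c.mem_tau1_of_not_centralizes hG hM htr hT hTS
  have htσ : t ∉ sigma M := ht1.2.1
  have hXtE : Xt ≤ E := hXtT.trans hT.le
  have hα : S ≤ Subgroup.centralizer (Xt : Set G) := c.S_le_centralizer_of_tau1 hG hM ht1 hXtE hXtc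
  obtain ⟨H, hH, hNX⟩ := c.exists_H hG hM
  have hnc := c.not_conj hG hM hH hNX
  have hYH := c.sigmaCore_inf_H hG hM hH hNX
  have hEH : E ≤ H := c.E_le_H hNX
  have hXtM : Xt ≤ M := hXtE.trans c.compl.1
  have hXtH : Xt ≤ H := hXtE.trans hEH
  have hXtp : IsPGroup t Xt := hT.isPGroup.to_le hXtT
  obtain ⟨xt, hxt, -, hxt1⟩ := Cfsg.Agent.Lib.H7.BG11mu.exists_generator_of_card_prime hXtc
  have hxtX : xt ∈ Xt := by rw [hxt]; exact Subgroup.mem_zpowers xt
  rw [← hYH]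
  by_contra hYXt
  have htH : t ∈ tau1 H := by
    have htdH : t ∣ Nat.card ↥H := by
      rw [← hXtc]; exact Subgroup.card_dvd_of_le hXtH
    rcases Cfsg.Agent.Lib.H19.BG13.prime_type hG hH ht.out htdH with h | h | h | h
    · exact absurd (Cfsg.Agent.Lib.H19.BG13.centralizes_of_not_tau1 hG h13 hM hH
        hnc htσ (Or.inl h) hXtp hXtM hXtH) hYXt
    · exact h
    · exact absurd (Cfsg.Agent.Lib.H19.BG13.centralizes_of_not_tau1 hG h13 hM hH
        hnc htσ (Or.inr (Or.inl h)) hXtp hXtM hXtH) hYXt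
    · exact absurd (Cfsg.Agent.Lib.H19.BG13.centralizes_of_not_tau1 hG h13 hM hH
        hnc htσ (Or.inr (Or.inr h)) hXtp hXtM hXtH) hYXt
  rcases c.type_H hG hM hH hNX with hrH | hrH
  · -- `r ∈ σ(H)`
    have hSσ : S ≤ sigmaCore H :=
      Cfsg.Agent.Lib.H20.BGT.le_sigmaCore_of_isPiCard hG hH (c.le.trans hEH)
        (isPiCard_of_isPGroup c.prime hrH c.isPGroup_S)
    have h1 := Cfsg.Agent.Lib.H19.BG13.sigmaCore_inf_centralizer_le_of_rank_one hG h13 hH
      htH.2.1 htH.2.2.2.2 hT.isPGroup (hT.le.trans hEH) (hXtT hxtX) hxt1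
    apply hTS
    apply le_centralizer_comm
    refine le_trans (le_inf hSσ ?_) h1
    intro s hs
    have := hα hs
    rw [Subgroup.mem_centralizer_iff] at this ⊢
    intro z hz
    rw [Set.mem_singleton_iff] at hz
    rw [hz]
    exact this xt hxtX
  · -- `r ∈ τ₂(H)`
    refine Cfsg.Agent.Lib.H10.BG131b.not_tau2_of_commutator_ne_bot hG hM hH hnc c.not_sigma c.Xcard
      c.XM (c.XE.trans hEH) ?_ hrH
    intro hcomm
    apply hYXt
    have h1 : sigmaCore M ⊓ H ≤ Subgroup.centralizer ((M ⊓ H : Subgroup G) : Set G) :=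
      le_centralizer_of_commutator_eq_bot hcomm
    exact h1.trans (Subgroup.centralizer_le (le_inf hXtM hXtH))

/-- **Step (C1)**: `C_{M_σ}(X_t) = C_{M_σ}(X)`. -/
theorem sigmaCore_inf_centralizer_Xt (hG : IsMinSimpleOddOrder G) (hM : IsCoatom M)
    (c : Ctx M E r S X) {t : ℕ} [ht : Fact t.Prime] (htr : t ≠ r) {T : Subgroup G}
    (hT : SylIn t T E) (hTS : ¬ T ≤ Subgroup.centralizer (S : Set G)) {Xt : Subgroup G}
    (hXtT : Xt ≤ T) (hXtc : Nat.card Xt = t) :
    sigmaCore M ⊓ Subgroup.centralizer (Xt : Set G) =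
      sigmaCore M ⊓ Subgroup.centralizer (X : Set G) := by
  haveI : Fact r.Prime := ⟨c.prime⟩
  have hU := Cfsg.Agent.Lib.H20.BGT.uniq3 hG
  have hσ := (Cfsg.Agent.Lib.H20.BGS.sigma_core_hall hG hU hM).1
  have h13 := Cfsg.Agent.Lib.H16.BGHyp.hyp13 hG
  have ht1 : t ∈ tau1 M := c.mem_tau1_of_not_centralizes hG hM htr hT hTS
  have htσ : t ∉ sigma M := ht1.2.1
  have hXtE : Xt ≤ E := hXtT.trans hT.le
  have hXtM : Xt ≤ M := hXtE.trans c.compl.1
  have hXtp : IsPGroup t Xt := hT.isPGroup.to_le hXtT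
  have hXt1 : Xt ≠ ⊥ := by
    intro h
    rw [h, Subgroup.card_bot] at hXtc
    exact ht.out.one_lt.ne hXtc
  have hα : S ≤ Subgroup.centralizer (Xt : Set G) := c.S_le_centralizer_of_tau1 hG hM ht1 hXtE hXtc
  have hTM : SylIn t T M := Cfsg.Agent.Lib.H8.BG12.sylIn_of_compl hσ c.compl htσ hT
  have hTc : IsCyclic ↥T := c.sylow_cyclic hG hM hT
  apply le_antisymm _ (le_inf inf_le_left (c.Y_le_centralizer_Xt hG hM htr hT hTS hXtT hXtc))
  -- the maximal subgroup `L ≥ N_G(X_t)`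
  obtain ⟨L, hL, hNXt⟩ := exists_coatom_ge (normalizer_ne_top_of_isPGroup hG hXtp hXt1)
  have hncL := (Cfsg.Agent.Lib.H19.BG13.type_of_normalizer_ge hG hM htσ hTM hTc hXtp hXt1 hXtM
    hL hNXt).1
  have hCL : Subgroup.centralizer (Xt : Set G) ≤ L :=
    (Subgroup.centralizer_le_normalizer (Xt : Set G)).trans hNXt
  have hSL : S ≤ L := hα.trans hCL
  have hTL : T ≤ L := by
    refine le_trans ?_ hCL
    intro a ha
    rw [Subgroup.mem_centralizer_iff]
    intro b hb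
    have := (Cfsg.Agent.Lib.H7.BG138.isMulCommutative_of_isCyclic hTc).is_comm.comm
      (⟨b, hXtT hb⟩ : T) ⟨a, ha⟩
    exact congrArg Subtype.val this
  -- `S = [S, T] ≤ L'`
  have hTN : T ≤ Subgroup.normalizer (S : Set G) := hT.le.trans c.normal
  have hSL' : S ≤ ⁅L, L⁆ := by
    have hact : CoprimeAction T S :=
      Cfsg.Agent.Lib.H19.BG13.coprimeAction_of_isPGroup htr hT.isPGroup c.isPGroup_S hTN
    have h1 := Cfsg.Agent.Lib.H7.BG13t.inf_centralizer_eq_bot_of_cyclic htr hT.isPGroup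
      c.isPGroup_S c.cyclic hTN (fun h => hTS (le_centralizer_comm h))
    have h2 := Cfsg.Agent.Lib.H1.coprime_commutator_sup_centralizer hact
    rw [h1, sup_bot_eq] at h2
    rw [← h2]
    exact Subgroup.commutator_mono hSL hTL
  have hrL' : r ∣ Nat.card ↥(⁅L, L⁆ : Subgroup G) :=
    dvd_card_of_ne_bot c.isPGroup_S hSL' c.S_ne_bot
  have hrL : r ∣ Nat.card ↥L := hrL'.trans (Subgroup.card_dvd_of_le (Subgroup.commutator_le_self L))
  have hcent : sigmaCore M ⊓ L ≤ Subgroup.centralizer (S : Set G) := by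
    rcases Cfsg.Agent.Lib.H19.BG13.prime_type hG hL c.prime hrL with h | h | h | h
    · exact Cfsg.Agent.Lib.H19.BG13.centralizes_of_not_tau1 hG h13 hM hL hncL c.not_sigma
        (Or.inl h) c.isPGroup_S c.sylM.le hSL
    · exact absurd hrL' h.2.2.2.1
    · exact Cfsg.Agent.Lib.H19.BG13.centralizes_of_not_tau1 hG h13 hM hL hncL c.not_sigma
        (Or.inr (Or.inl h)) c.isPGroup_S c.sylM.le hSL
    · exact Cfsg.Agent.Lib.H19.BG13.centralizes_of_not_tau1 hG h13 hM hL hncL c.not_sigma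
        (Or.inr (Or.inr h)) c.isPGroup_S c.sylM.le hSL
  rw [c.Y_eq hG hM]
  exact le_inf inf_le_left ((inf_le_inf_left _ hCL).trans hcent)

end Ctx

end Cfsg.Agent.Lib.H20.BGN
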