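import Mathlib
import Cfsg.Agent.Lib.H20.BGN5

/-!
# The `τ₃`-nonregular configuration (helper20), part 6: prime action of `E` on `M_σ`
-/

set_option autoImplicit false
set_option linter.style.haveILetI false
set_option linter.unusedSectionVars false
set_option linter.unusedVariables false

open Cfsg
open Cfsg.Agent.Lib.H16.BG
open Cfsg.Agent.Lib.H7.BG7
open Cfsg.Agent.Lib.H7.BG10
open Cfsg.Agent.Lib.H19 (IsPiCard)
open Cfsg.Agent.Lib.H1 (CoprimeAction)

namespace Cfsg.Agent.Lib.H20.BGN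

universe u
variable {G : Type u} [Group G] [Finite G]

local notation:max "cj(" g ", " X ")" => Subgroup.map (MulEquiv.toMonoidHom (MulAut.conj g)) X

namespace Ctx

variable {M E S X : Subgroup G} {r : ℕ}

/-- some Sylow subgroup of `E` acts nontrivially on `S`. -/
theorem exists_acting (hG : IsMinSimpleOddOrder G) (hM : IsCoatom M) (c : Ctx M E r S X) :
    ∃ (t : ℕ) (_ : Fact t.Prime) (T : Subgroup G), t ≠ r ∧ SylIn t T E ∧
      ¬ T ≤ Subgroup.centralizer (S : Set G) := by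
  haveI : Fact r.Prime := ⟨c.prime⟩
  by_contra hcon
  push Not at hcon
  have hSEs : SylIn r S E := c.sylM.mono c.le c.compl.1
  have hEC : E ⊓ Subgroup.centralizer (S : Set G) = E := by
    apply eq_of_forall_sylIn_le inf_le_left
    intro q hq
    by_cases hqr : q = r
    · subst hqr
      refine ⟨S, hSEs, le_inf c.le ?_⟩
      intro a ha
      rw [Subgroup.mem_centralizer_iff]
      intro s hs
      have := (Cfsg.Agent.Lib.H7.BG138.isMulCommutative_of_isCyclic c.cyclic).is_comm.comm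
        (⟨s, hs⟩ : S) ⟨a, ha⟩
      exact congrArg Subtype.val this
    · obtain ⟨T, hT⟩ := SylIn.exists_sylIn q E
      exact ⟨T, hT, le_inf hT.le (hcon q hq T hqr hT)⟩
  have hEC' : E ≤ Subgroup.centralizer (S : Set G) := by
    rw [← hEC]; exact inf_le_right
  exact c.S_ne_bot (Cfsg.Agent.Lib.H7.BG13t.eq_bot_of_central_sylow_le_commutator hSEs hEC'
    (c.S_le_commutator hG hM))

/-- `Y` centralizes every `τ₃(M)`-subgroup of `E`. -/
theorem Y_le_centralizer_tau3 (hG : IsMinSimpleOddOrder G) (hM : IsCoatom M)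
    (c : Ctx M E r S X) {q : ℕ} [hq : Fact q.Prime] (hq3 : q ∈ Cfsg.tau3 M) {S' : Subgroup G}
    (hS'E : S' ≤ E) (hS'q : IsPGroup q S') :
    sigmaCore M ⊓ Subgroup.centralizer (X : Set G) ≤ Subgroup.centralizer (S' : Set G) := by
  haveI : Fact r.Prime := ⟨c.prime⟩
  have h13 := Cfsg.Agent.Lib.H16.BGHyp.hyp13 hG
  by_cases hS'1 : S' = ⊥
  · rw [hS'1]
    intro a _
    rw [Subgroup.mem_centralizer_iff]
    intro b hb
    rw [Subgroup.coe_bot, Set.mem_singleton_iff] at hb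
    rw [hb]; simp
  obtain ⟨H, hH, hNX⟩ := c.exists_H hG hM
  have hnc := c.not_conj hG hM hH hNX
  have hYH := c.sigmaCore_inf_H hG hM hH hNX
  have hEH : E ≤ H := c.E_le_H hNX
  haveI : Group.IsSolvable ↥E := solvable_of_le_ne_top hG hM.1 c.compl.1
  obtain ⟨E₃, hE₃, hS'E₃⟩ := Cfsg.Agent.Lib.H19.exists_isPiHallOf_ge hS'E
    (isPiCard_of_isPGroup hq.out hq3 hS'q)
  have hS'c : S' ≤ ⁅H, H⁆ :=
    (hS'E₃.trans ((Cfsg.Agent.S1415.result hG M hM E c.compl).2.2 E₃ hE₃).2.1).trans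
      (Subgroup.commutator_mono hEH hEH)
  have hqH' : q ∣ Nat.card ↥(⁅H, H⁆ : Subgroup G) := dvd_card_of_ne_bot hS'q hS'c hS'1
  have hqH : q ∣ Nat.card ↥H := hqH'.trans (Subgroup.card_dvd_of_le (Subgroup.commutator_le_self H))
  rw [← hYH]
  rcases Cfsg.Agent.Lib.H19.BG13.prime_type hG hH hq.out hqH with h | h | h | h
  · exact Cfsg.Agent.Lib.H19.BG13.centralizes_of_not_tau1 hG h13 hM hH hnc hq3.2.1
      (Or.inl h) hS'q (hS'E.trans c.compl.1) (hS'E.trans hEH)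
  · exact absurd hqH' h.2.2.2.1
  · exact Cfsg.Agent.Lib.H19.BG13.centralizes_of_not_tau1 hG h13 hM hH hnc hq3.2.1
      (Or.inr (Or.inl h)) hS'q (hS'E.trans c.compl.1) (hS'E.trans hEH)
  · exact Cfsg.Agent.Lib.H19.BG13.centralizes_of_not_tau1 hG h13 hM hH hnc hq3.2.1
      (Or.inr (Or.inr h)) hS'q (hS'E.trans c.compl.1) (hS'E.trans hEH)

/-- every prime `q ∈ τ₃(M)` dividing `|E|` gives rise to a context. -/
theorem ctx_of_tau3 (hG : IsMinSimpleOddOrder G) (hM : IsCoatom M)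
    (c : Ctx M E r S X) {q : ℕ} [hq : Fact q.Prime] (hq3 : q ∈ Cfsg.tau3 M) {S' X' : Subgroup G}
    (hS' : SylIn q S' E) (hX'S' : X' ≤ S') (hX'c : Nat.card X' = q) : Ctx M E q S' X' := by
  have hU := Cfsg.Agent.Lib.H20.BGT.uniq3 hG
  have hσ := (Cfsg.Agent.Lib.H20.BGS.sigma_core_hall hG hU hM).1
  haveI : Group.IsSolvable ↥E := solvable_of_le_ne_top hG hM.1 c.compl.1
  obtain ⟨E₃, hE₃, hS'E₃⟩ := Cfsg.Agent.Lib.H19.exists_isPiHallOf_ge hS'.le
    (isPiCard_of_isPGroup hq.out hq3 hS'.isPGroup)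
  obtain ⟨hE₃c, -, hE₃n⟩ := (Cfsg.Agent.S1415.result hG M hM E c.compl).2.2 E₃ hE₃
  refine ⟨c.compl, hq3, Cfsg.Agent.Lib.H8.BG12.sylIn_of_compl hσ c.compl hq3.2.1 hS', hS'.le,
    c.sylow_cyclic hG hM hS',
    hE₃n.trans (Cfsg.Agent.Lib.H20.BGT.normalizer_le_normalizer_of_le_cyclic hE₃c hS'E₃),
    hX'S', hX'c, ?_⟩
  intro hbot
  apply c.Yne
  rw [eq_bot_iff, ← hbot]
  exact le_inf inf_le_left ((c.Y_le_centralizer_tau3 hG hM hq3 hS'.le hS'.isPGroup).trans
    (Subgroup.centralizer_le hX'S'))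

/-- for a subgroup `P ≤ E` of prime order `p ∈ τ₁(M)`: `C_{M_σ}(P) ≤ Y`, and `C_{M_σ}(P)` is
centralized by every Hall `τ₁(M)`-subgroup of `E` containing `P`. -/
theorem sigmaCore_inf_centralizer_le_of_tau1 (hG : IsMinSimpleOddOrder G) (hM : IsCoatom M)
    (c : Ctx M E r S X) {p : ℕ} (hp1 : p ∈ tau1 M) {P : Subgroup G} (hPE : P ≤ E)
    (hPc : Nat.card P = p) :
    sigmaCore M ⊓ Subgroup.centralizer (P : Set G) ≤
      sigmaCore M ⊓ Subgroup.centralizer (X : Set G) := by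
  haveI : Fact r.Prime := ⟨c.prime⟩
  haveI hpF : Fact p.Prime := ⟨hp1.1⟩
  haveI : Group.IsSolvable ↥E := solvable_of_le_ne_top hG hM.1 c.compl.1
  have hPp : IsPGroup p P := IsPGroup.of_card (n := 1) (by rw [hPc, pow_one])
  obtain ⟨E₁, hE₁, hPE₁⟩ := Cfsg.Agent.Lib.H19.exists_isPiHallOf_ge hPE
    (isPiCard_of_isPGroup hp1.1 hp1 hPp)
  have hE₁c : IsCyclic ↥E₁ := (Cfsg.Agent.S1415.result hG M hM E c.compl).2.1 E₁ hE₁
  have hN3 := Cfsg.Agent.Lib.H7.BG14t.sigmaCore_inf_centralizer_le_of_cyclic_tau1 hG hM c.compl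
    hE₁.1 hE₁c hE₁.2.1 hPE₁ hp1.1 hPc
  obtain ⟨t, htF, T, htr, hT, hTS⟩ := c.exists_acting hG hM
  have ht1 : t ∈ tau1 M := c.mem_tau1_of_not_centralizes hG hM htr hT hTS
  obtain ⟨T', hT'⟩ := SylIn.exists_sylIn t E₁
  have hT'E : SylIn t T' E := Cfsg.Agent.Lib.H20.BGV.sylIn_of_hall hE₁ ht1 hT'
  obtain ⟨e, he, hle⟩ := hT'E.exists_conj_le hT.isPGroup hT.le
  have hT'S : ¬ T' ≤ Subgroup.centralizer (S : Set G) := fun h =>
    hTS (Cfsg.Agent.Lib.H7.BG13t.le_centralizer_of_map_conj_le (c.normal he) (hle.trans h))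
  have hT'1 : T' ≠ ⊥ := by
    intro h
    apply hT'S
    rw [h]; exact bot_le
  obtain ⟨Xt, hXtT', hXtc⟩ := Cfsg.Agent.Lib.H7.BG13t.exists_le_card_eq_prime hT'E.isPGroup hT'1
  rw [← c.sigmaCore_inf_centralizer_Xt hG hM htr hT'E hT'S hXtT' hXtc]
  exact le_inf inf_le_left (hN3.trans (Subgroup.centralizer_le (hXtT'.trans hT'.le)))

/-- `C_{M_σ}(P) ≤ Y` for every subgroup `P ≤ E` of prime order. -/
theorem sigmaCore_inf_centralizer_le_of_prime (hG : IsMinSimpleOddOrder G) (hM : IsCoatom M)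
    (c : Ctx M E r S X) {P : Subgroup G} (hPE : P ≤ E) (hPc : (Nat.card P).Prime) :
    sigmaCore M ⊓ Subgroup.centralizer (P : Set G) ≤
      sigmaCore M ⊓ Subgroup.centralizer (X : Set G) := by
  haveI hpF : Fact (Nat.card P).Prime := ⟨hPc⟩
  haveI : Fact r.Prime := ⟨c.prime⟩
  have hPp : IsPGroup (Nat.card P) P := IsPGroup.of_card (n := 1) (by rw [pow_one])
  rcases c.tau13_of_dvd hG hM hPc (Subgroup.card_dvd_of_le hPE) with h1 | h3
  · exact c.sigmaCore_inf_centralizer_le_of_tau1 hG hM h1 hPE rfl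
  · obtain ⟨S', hS', hPS'⟩ := SylIn.exists_ge hPp hPE
    have c' := c.ctx_of_tau3 hG hM h3 hS' hPS' rfl
    refine le_inf inf_le_left ?_
    exact (c'.Y_le_centralizer_tau3 hG hM c.tau3 c.le c.isPGroup_S).trans
      (Subgroup.centralizer_le c.XS)

/-- **Step (C2)**: `E` centralizes `Y`. -/
theorem Y_le_centralizer_E (hG : IsMinSimpleOddOrder G) (hM : IsCoatom M)
    (c : Ctx M E r S X) :
    sigmaCore M ⊓ Subgroup.centralizer (X : Set G) ≤ Subgroup.centralizer (E : Set G) := by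
  haveI : Fact r.Prime := ⟨c.prime⟩
  haveI : Group.IsSolvable ↥E := solvable_of_le_ne_top hG hM.1 c.compl.1
  set Y : Subgroup G := sigmaCore M ⊓ Subgroup.centralizer (X : Set G) with hYdef
  have hgen : E ⊓ Subgroup.centralizer (Y : Set G) = E := by
    apply eq_of_forall_sylIn_le inf_le_left
    intro s hs
    obtain ⟨S', hS'⟩ := SylIn.exists_sylIn s E
    by_cases hS'1 : S' = ⊥
    · exact ⟨S', hS', by rw [hS'1]; exact bot_le⟩
    have hsE : s ∣ Nat.card ↥E := dvd_card_of_ne_bot hS'.isPGroup hS'.le hS'1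
    refine ⟨S', hS', le_inf hS'.le ?_⟩
    apply le_centralizer_comm
    rcases c.tau13_of_dvd hG hM hs.out hsE with h1 | h3
    · -- `s ∈ τ₁(M)`
      obtain ⟨P, hPS', hPc⟩ := Cfsg.Agent.Lib.H7.BG13t.exists_le_card_eq_prime hS'.isPGroup hS'1
      have hPE : P ≤ E := hPS'.trans hS'.le
      have hle := c.sigmaCore_inf_centralizer_le_of_tau1 hG hM h1 hPE hPc
      have hge : Y ≤ sigmaCore M ⊓ Subgroup.centralizer (P : Set G) := by
        obtain ⟨E₁, hE₁, hS'E₁⟩ := Cfsg.Agent.Lib.H19.exists_isPiHallOf_ge hS'.le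
          (isPiCard_of_isPGroup hs.out h1 hS'.isPGroup)
        -- use a Sylow `t`-subgroup of `E₁` acting nontrivially on `S`
        have hE₁c : IsCyclic ↥E₁ := (Cfsg.Agent.S1415.result hG M hM E c.compl).2.1 E₁ hE₁
        obtain ⟨t, htF, T, htr, hT, hTS⟩ := c.exists_acting hG hM
        have ht1 : t ∈ tau1 M := c.mem_tau1_of_not_centralizes hG hM htr hT hTS
        obtain ⟨T', hT'⟩ := SylIn.exists_sylIn t E₁
        have hT'E : SylIn t T' E := Cfsg.Agent.Lib.H20.BGV.sylIn_of_hall hE₁ ht1 hT'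
        obtain ⟨e, he, hle'⟩ := hT'E.exists_conj_le hT.isPGroup hT.le
        have hT'S : ¬ T' ≤ Subgroup.centralizer (S : Set G) := fun h =>
          hTS (Cfsg.Agent.Lib.H7.BG13t.le_centralizer_of_map_conj_le (c.normal he) (hle'.trans h))
        have hT'1 : T' ≠ ⊥ := by
          intro h
          apply hT'S
          rw [h]; exact bot_le
        obtain ⟨Xt, hXtT', hXtc⟩ :=
          Cfsg.Agent.Lib.H7.BG13t.exists_le_card_eq_prime hT'E.isPGroup hT'1
        have hN3 := Cfsg.Agent.Lib.H7.BG14t.sigmaCore_inf_centralizer_le_of_cyclic_tau1 hG hM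
          c.compl hE₁.1 hE₁c hE₁.2.1 (hXtT'.trans hT'.le) ht1.1 hXtc
        rw [c.sigmaCore_inf_centralizer_Xt hG hM htr hT'E hT'S hXtT' hXtc] at hN3
        exact le_inf inf_le_left (hN3.trans (Subgroup.centralizer_le (hPS'.trans hS'E₁)))
      -- `Y = C_{M_σ}(P) = C_{M_σ}(S')`
      have h13 := Cfsg.Agent.Lib.H16.BGHyp.hyp13 hG
      obtain ⟨x, hx, -, hx1⟩ := Cfsg.Agent.Lib.H7.BG11mu.exists_generator_of_card_prime hPc
      have hxP : x ∈ P := by rw [hx]; exact Subgroup.mem_zpowers x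
      have h27 := Cfsg.Agent.Lib.H19.BG13.sigmaCore_inf_centralizer_le_of_rank_one hG h13 hM
        h1.2.1 h1.2.2.2.2 hS'.isPGroup (hS'.le.trans c.compl.1) (hPS' hxP) hx1
      refine le_trans (hge.trans (inf_le_inf_left _ ?_)) h27
      apply Subgroup.centralizer_le
      rw [Set.singleton_subset_iff]
      exact hxP
    · exact c.Y_le_centralizer_tau3 hG hM h3 hS'.le hS'.isPGroup
  apply le_centralizer_comm
  rw [← hgen]; exact inf_le_right

/-- `Y = C_{M_σ}(E)`. -/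
theorem Y_eq_centralizer_E (hG : IsMinSimpleOddOrder G) (hM : IsCoatom M) (c : Ctx M E r S X) :
    sigmaCore M ⊓ Subgroup.centralizer (X : Set G) =
      sigmaCore M ⊓ Subgroup.centralizer (E : Set G) :=
  le_antisymm (le_inf inf_le_left (c.Y_le_centralizer_E hG hM))
    (inf_le_inf_left _ (Subgroup.centralizer_le c.XE))

/-- `C_{M_σ}(E) ≠ 1`. -/
theorem star_ne (hG : IsMinSimpleOddOrder G) (hM : IsCoatom M) (c : Ctx M E r S X) :
    sigmaCore M ⊓ Subgroup.centralizer (E : Set G) ≠ ⊥ := by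
  rw [← c.Y_eq_centralizer_E hG hM]; exact c.Yne

/-- **prime action**: `C_{M_σ}(x) = C_{M_σ}(E)` for every `x ∈ E`, `x ≠ 1`. -/
theorem prime_action (hG : IsMinSimpleOddOrder G) (hM : IsCoatom M) (c : Ctx M E r S X)
    {x : G} (hxE : x ∈ E) (hx1 : x ≠ 1) :
    sigmaCore M ⊓ Subgroup.centralizer ({x} : Set G) =
      sigmaCore M ⊓ Subgroup.centralizer (E : Set G) := by
  apply le_antisymm
  · obtain ⟨p, hp, hpd⟩ := Nat.exists_prime_and_dvd (fun h => hx1 (orderOf_eq_one_iff.1 h))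
    set x₀ : G := x ^ (orderOf x / p) with hx₀
    have hx₀o : orderOf x₀ = p := orderOf_pow_orderOf_div (orderOf_pos x).ne' hpd
    have hPc : Nat.card ↥(Subgroup.zpowers x₀) = p := by rw [Nat.card_zpowers, hx₀o]
    have hPE : Subgroup.zpowers x₀ ≤ E := by
      rw [Subgroup.zpowers_le]; exact E.pow_mem hxE _
    have h1 := c.sigmaCore_inf_centralizer_le_of_prime hG hM hPE (by rw [hPc]; exact hp)
    rw [c.Y_eq_centralizer_E hG hM] at h1
    refine le_trans (inf_le_inf_left _ ?_) h1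
    intro a ha
    rw [Subgroup.mem_centralizer_iff] at ha ⊢
    intro b hb
    have hxa : x * a = a * x := ha x (Set.mem_singleton x)
    obtain ⟨k, rfl⟩ := Subgroup.mem_zpowers_iff.1 hb
    have h2 : Commute a x := hxa.symm
    exact ((h2.pow_right _).zpow_right k).eq.symm
  · apply inf_le_inf_left
    apply Subgroup.centralizer_le
    rw [Set.singleton_subset_iff]
    exact hxE

end Ctx

end Cfsg.Agent.Lib.H20.BGN
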