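import Mathlib
import Cfsg.Agent.Lib.H20.BGN6

/-!
# The `τ₃`-nonregular configuration (helper20), part 7: the structure theorem

`Nonreg M E`: the structure of a maximal subgroup `M` with a non-cyclic Hall `κ(M)`-subgroup `E`
(BG 13.10 + 13.13 and consequences): `E` is a complement of `M_σ`, `τ₂(M) = ∅`, all Sylow subgroups
of `E` are cyclic, `E` acts in a prime manner on `M_σ` with `C_{M_σ}(E) ≠ 1`, all subgroups of prime
order of `E` are normal in `E`, `σ(M) = β(M)`, and `M_σ` is a TI-subgroup.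
-/

set_option autoImplicit false
set_option linter.style.haveILetI false
set_option linter.unusedSectionVars false
set_option linter.unusedVariables false

open Cfsg
open Cfsg.Agent.Lib.H16.BG
open Cfsg.Agent.Lib.H7.BG7
open Cfsg.Agent.Lib.H7.BG10
open Cfsg.Agent.Lib.H19 (IsPiCard)
open Cfsg.Agent.Lib.H1 (CoprimeAction)

namespace Cfsg.Agent.Lib.H20.BGN

universe u
variable {G : Type u} [Group G] [Finite G]

local notation:max "cj(" g ", " X ")" => Subgroup.map (MulEquiv.toMonoidHom (MulAut.conj g)) X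

namespace Ctx

variable {M E S X : Subgroup G} {r : ℕ}

/-- every subgroup of prime order of `E` is normal in `E`. -/
theorem prime_normal (hG : IsMinSimpleOddOrder G) (hM : IsCoatom M) (c : Ctx M E r S X)
    {P : Subgroup G} (hPE : P ≤ E) (hPc : (Nat.card P).Prime) :
    E ≤ Subgroup.normalizer (P : Set G) := by
  haveI hpF : Fact (Nat.card P).Prime := ⟨hPc⟩
  haveI : Fact r.Prime := ⟨c.prime⟩
  haveI : Group.IsSolvable ↥E := solvable_of_le_ne_top hG hM.1 c.compl.1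
  have hPp : IsPGroup (Nat.card P) P := IsPGroup.of_card (n := 1) (by rw [pow_one])
  rcases c.tau13_of_dvd hG hM hPc (Subgroup.card_dvd_of_le hPE) with h1 | h3
  · -- `p ∈ τ₁(M)`: `P` is central in `E`
    refine le_trans ?_ (Subgroup.centralizer_le_normalizer (P : Set G))
    obtain ⟨E₁, hE₁, hPE₁⟩ := Cfsg.Agent.Lib.H19.exists_isPiHallOf_ge hPE
      (isPiCard_of_isPGroup hPc h1 hPp)
    have hE₁c : IsCyclic ↥E₁ := (Cfsg.Agent.S1415.result hG M hM E c.compl).2.1 E₁ hE₁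
    have hgen : E ⊓ Subgroup.centralizer (P : Set G) = E := by
      apply eq_of_forall_sylIn_le inf_le_left
      intro s hs
      obtain ⟨S', hS'⟩ := SylIn.exists_sylIn s E
      by_cases hS'1 : S' = ⊥
      · exact ⟨S', hS', by rw [hS'1]; exact bot_le⟩
      have hsE : s ∣ Nat.card ↥E := dvd_card_of_ne_bot hS'.isPGroup hS'.le hS'1
      rcases c.tau13_of_dvd hG hM hs.out hsE with hs1 | hs3
      · obtain ⟨S₁, hS₁⟩ := SylIn.exists_sylIn s E₁
        have hS₁E : SylIn s S₁ E := Cfsg.Agent.Lib.H20.BGV.sylIn_of_hall hE₁ hs1 hS₁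
        refine ⟨S₁, hS₁E, le_inf hS₁E.le ?_⟩
        intro a ha
        rw [Subgroup.mem_centralizer_iff]
        intro b hb
        have := (Cfsg.Agent.Lib.H7.BG138.isMulCommutative_of_isCyclic hE₁c).is_comm.comm
          (⟨b, hPE₁ hb⟩ : E₁) ⟨a, hS₁.le ha⟩
        exact congrArg Subtype.val this
      · obtain ⟨X', hX'S', hX'c⟩ :=
          Cfsg.Agent.Lib.H7.BG13t.exists_le_card_eq_prime hS'.isPGroup hS'1
        have c' := c.ctx_of_tau3 hG hM hs3 hS' hX'S' hX'c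
        exact ⟨S', hS', le_inf hS'.le (c'.S_le_centralizer_of_tau1 hG hM h1 hPE rfl)⟩
    rw [← hgen]; exact inf_le_right
  · obtain ⟨S', hS', hPS'⟩ := SylIn.exists_ge hPp hPE
    have c' := c.ctx_of_tau3 hG hM h3 hS' hPS' rfl
    exact c'.E_le_normalizer_X

/-- every prime dividing `|E|` lies in `κ(M)`. -/
theorem mem_kappa (hG : IsMinSimpleOddOrder G) (hM : IsCoatom M) (c : Ctx M E r S X)
    {p : ℕ} (hp : p.Prime) (hd : p ∣ Nat.card ↥E) : p ∈ kappa M := by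
  haveI hpF : Fact p.Prime := ⟨hp⟩
  obtain ⟨T, hT⟩ := SylIn.exists_sylIn p E
  have hT1 : T ≠ ⊥ := hT.ne_bot hd
  obtain ⟨P, hPT, hPc⟩ := Cfsg.Agent.Lib.H7.BG13t.exists_le_card_eq_prime hT.isPGroup hT1
  have hPE : P ≤ E := hPT.trans hT.le
  apply Cfsg.Agent.Lib.H7.BG13t.mem_kappa_of_centralizer_ne_bot hG hM
    (c.not_sigma_of_dvd hG hM hp hd) (c.pRankLE_one hG hM hd) (hPE.trans c.compl.1) hPc
  intro hbot
  apply c.Yne
  rw [eq_bot_iff, ← hbot]
  exact le_inf inf_le_left ((c.Y_le_centralizer_E hG hM).trans (Subgroup.centralizer_le hPE))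

/-- `σ(M) ⊆ β(M)`. -/
theorem sigma_subset_beta (hG : IsMinSimpleOddOrder G) (hM : IsCoatom M) (c : Ctx M E r S X)
    {q : ℕ} (hqσ : q ∈ sigma M) : q ∈ beta M := by
  haveI : Fact r.Prime := ⟨c.prime⟩
  haveI hqF : Fact q.Prime := ⟨hqσ.1⟩
  have hU := Cfsg.Agent.Lib.H20.BGT.uniq3 hG
  have hσ := (Cfsg.Agent.Lib.H20.BGS.sigma_core_hall hG hU hM).1
  by_contra hqβ
  have hactσ : CoprimeAction E (sigmaCore M) :=
    Cfsg.Agent.Lib.H7.BG14t.coprimeAction_compl hG hM c.compl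
  obtain ⟨Q, hQ', hEQ⟩ := Cfsg.Agent.Lib.H1.coprime_exists_invariant_sylow hactσ q
  have hQσ : SylIn q Q (sigmaCore M) := Cfsg.Agent.Lib.H16.BG.sylIn_of_isSylowOf hQ'
  have hQM : SylIn q Q M := Cfsg.Agent.Lib.H20.BGV.sylIn_of_hall hσ hqσ hQσ
  have hQ1 : Q ≠ ⊥ := hQM.ne_bot hqσ.2.1
  -- `E'` centralizes `Q`
  have hE'L : ⁅E, E⁆ ≤ ⁅M, M⁆ := Subgroup.commutator_mono c.compl.1 c.compl.1
  have hσL' : sigmaCore M ≤ ⁅M, M⁆ := sigmaCore_le_commutator hG hU hM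
  have hE'E : ⁅E, E⁆ ≤ E := Subgroup.commutator_le_self E
  have hβE : ∀ s : ℕ, s.Prime → s ∣ Nat.card ↥(⁅E, E⁆ : Subgroup G) → s ∉ beta M := by
    intro s hs hd hβ
    have hsσ : s ∈ sigma M := alpha_subset_sigma hG hU hM hβ.1
    exact Cfsg.Agent.Lib.H8.BG12.compl_not_sigma hσ c.compl hs
      (hd.trans (Subgroup.card_dvd_of_le hE'E)) hsσ
  have hβQ : ∀ s : ℕ, s.Prime → s ∣ Nat.card ↥Q → s ∉ beta M := by
    intro s hs hd
    rw [Cfsg.Agent.Lib.H8.BG12.prime_eq_of_dvd_card_pGroup hQσ.isPGroup hs hd]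
    exact hqβ
  have hcop : (Nat.card ↥(⁅E, E⁆ : Subgroup G)).Coprime (Nat.card ↥Q) :=
    Nat.Coprime.coprime_dvd_left (Subgroup.card_dvd_of_le hE'E)
      (Nat.Coprime.coprime_dvd_right (Subgroup.card_dvd_of_le hQσ.le) hactσ.coprime)
  have hQE' : Q ≤ Subgroup.centralizer ((⁅E, E⁆ : Subgroup G) : Set G) :=
    Cfsg.Agent.Lib.H19.BG13.le_centralizer_of_beta' hG hM hE'L (hQσ.le.trans hσL')
      (hE'E.trans hEQ) hcop hβE hβQ
  have hQX : Q ≤ Subgroup.centralizer (X : Set G) :=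
    hQE'.trans (Subgroup.centralizer_le (c.XS.trans (c.S_le_commutator hG hM)))
  -- `Q` is abelian
  obtain ⟨H, hH, hNX⟩ := c.exists_H hG hM
  have hQab : IsMulCommutative ↥Q := by
    by_contra hna
    obtain ⟨L, -, hLu⟩ := Cfsg.Agent.S1422.result hG q Q hQσ.isPGroup hna
    have h1 := hLu M ⟨hM, hQM.le⟩
    have h2 := hLu H ⟨hH, hQX.trans (c.centralizer_X_le_H hNX)⟩
    exact c.H_ne hG hM hH hNX (h2.trans h1.symm)
  have h3 : ⁅Q, Q⁆ = ⊥ := by
    rw [Subgroup.commutator_eq_bot_iff_le_centralizer]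
    intro a ha
    rw [Subgroup.mem_centralizer_iff]
    intro b hb
    have := hQab.is_comm.comm (⟨b, hb⟩ : Q) ⟨a, ha⟩
    exact congrArg Subtype.val this
  -- `Q ≤ C_{M_σ}(E) ≤ (M_σ)'`
  have hQE : Q ≤ sigmaCore M ⊓ Subgroup.centralizer (E : Set G) :=
    le_inf hQσ.le ((le_inf hQσ.le hQX).trans (c.Y_le_centralizer_E hG hM))
  have h26 := (Cfsg.Agent.S1426.result hG M hM E c.compl).1
  have hnpc : HasNormalPComplement q ↥(sigmaCore M) :=
    ((Cfsg.Agent.S1414.result hG M hM).2.2.2.2 q hqσ.1 hqσ.2.1 hqβ).2.1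
  have h2 := Cfsg.Agent.Lib.H20.BGV.inf_commutator_le_of_normal_complement' hnpc hQσ
  apply hQ1
  rw [eq_bot_iff, ← h3]
  exact le_trans (le_inf le_rfl (hQE.trans h26)) h2

/-- `M_σ` is a TI-subgroup: `M_σ ∩ M^g = 1` for `g ∉ M`. -/
theorem ti (hG : IsMinSimpleOddOrder G) (hM : IsCoatom M) (c : Ctx M E r S X)
    {g : G} (hg : g ∉ M) : sigmaCore M ⊓ cj(g, M) = ⊥ := by
  by_contra hne
  obtain ⟨q, hqp, hqd⟩ := Nat.exists_prime_and_dvd (fun h => hne (Subgroup.card_eq_one.1 h))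
  have hqσ : q ∈ sigma M :=
    Cfsg.Agent.Lib.H20.BGS.sigmaCore_isPiCard M q hqp (hqd.trans (Subgroup.card_dvd_of_le inf_le_left))
  exact ((Cfsg.Agent.S1426.result hG M hM E c.compl).2.2 g hg).2.1 q hqp hqd
    (c.sigma_subset_beta hG hM hqσ)

/-- `C_{M_σ}(E) ≤ (M_σ)'`. -/
theorem star_le (hG : IsMinSimpleOddOrder G) (hM : IsCoatom M) (c : Ctx M E r S X) :
    sigmaCore M ⊓ Subgroup.centralizer (E : Set G) ≤ ⁅sigmaCore M, sigmaCore M⁆ :=
  (Cfsg.Agent.S1426.result hG M hM E c.compl).1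

/-- a Hall `κ(M)`-subgroup contained in `E` is `E`. -/
theorem eq_of_hall (hG : IsMinSimpleOddOrder G) (hM : IsCoatom M) (c : Ctx M E r S X)
    {K : Subgroup G} (hK : IsPiHallOf (kappa M) K M) (hKE : K ≤ E) : K = E := by
  apply eq_of_forall_sylIn_le hKE
  intro q hq
  by_cases hd : q ∣ Nat.card ↥E
  · obtain ⟨Q, hQ⟩ := SylIn.exists_sylIn q K
    have hQM : SylIn q Q M := Cfsg.Agent.Lib.H20.BGV.sylIn_of_hall hK (c.mem_kappa hG hM hq.out hd) hQ
    exact ⟨Q, hQM.mono (hQ.le.trans hKE) c.compl.1, hQ.le⟩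
  · obtain ⟨Q, hQ⟩ := SylIn.exists_sylIn q E
    refine ⟨Q, hQ, ?_⟩
    by_cases hQ1 : Q = ⊥
    · rw [hQ1]; exact bot_le
    · exact absurd (dvd_card_of_ne_bot hQ.isPGroup hQ.le hQ1) hd

end Ctx

/-- **The `τ₃`-nonregular structure** of a maximal subgroup `M` with complement `E` of `M_σ`. -/
structure Nonreg (M E : Subgroup G) : Prop where
  compl : IsComplIn E (sigmaCore M) M
  tau2 : ∀ p : ℕ, p ∉ tau2 M
  sylow_cyclic : ∀ (p : ℕ) [Fact p.Prime] (T : Subgroup G), SylIn p T E → IsCyclic ↥T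
  mem_kappa : ∀ p : ℕ, p.Prime → p ∣ Nat.card ↥E → p ∈ kappa M
  star_ne : sigmaCore M ⊓ Subgroup.centralizer (E : Set G) ≠ ⊥
  prime_action : ∀ x ∈ E, x ≠ 1 → sigmaCore M ⊓ Subgroup.centralizer ({x} : Set G) =
    sigmaCore M ⊓ Subgroup.centralizer (E : Set G)
  prime_normal : ∀ P : Subgroup G, P ≤ E → (Nat.card P).Prime →
    E ≤ Subgroup.normalizer (P : Set G)
  sigma_beta : ∀ p ∈ sigma M, p ∈ beta M
  ti : ∀ g : G, g ∉ M → sigmaCore M ⊓ cj(g, M) = ⊥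
  star_le : sigmaCore M ⊓ Subgroup.centralizer (E : Set G) ≤ ⁅sigmaCore M, sigmaCore M⁆

theorem Ctx.nonreg {M E S X : Subgroup G} {r : ℕ} (hG : IsMinSimpleOddOrder G) (hM : IsCoatom M)
    (c : Ctx M E r S X) : Nonreg M E :=
  ⟨c.compl, c.tau2_empty hG hM, fun _ _ _ hT => c.sylow_cyclic hG hM hT,
    fun _ hp hd => c.mem_kappa hG hM hp hd, c.star_ne hG hM,
    fun _ hx hx1 => c.prime_action hG hM hx hx1,
    fun _ hPE hPc => c.prime_normal hG hM hPE hPc,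
    fun _ hp => c.sigma_subset_beta hG hM hp, fun _ hg => c.ti hG hM hg, c.star_le hG hM⟩

/-- **Structure theorem**: a non-cyclic Hall `κ(M)`-subgroup `K` of a maximal subgroup `M` is a
complement of `M_σ` with the `τ₃`-nonregular structure. -/
theorem nonreg_of_not_cyclic (hG : IsMinSimpleOddOrder G) {M : Subgroup G} (hM : IsCoatom M)
    {K : Subgroup G} (hK : IsPiHallOf (kappa M) K M) (hKc : ¬ IsCyclic ↥K) : Nonreg M K := by
  obtain ⟨r, hr, hnot⟩ := exists_kappa_not_tau1 hG hM hK hKc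
  obtain ⟨E, S, X, c, hKE⟩ := exists_ctx hG hM hK hr hnot
  rw [c.eq_of_hall hG hM hK hKE]
  exact c.nonreg hG hM

end Cfsg.Agent.Lib.H20.BGN
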