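import Mathlib

/-!
# Counting lemmas for the sec. 14 count (helper20), part 1: fibres and orders
-/

set_option autoImplicit false
set_option linter.style.haveILetI false
set_option linter.unusedSectionVars false
set_option linter.unusedVariables false

namespace Cfsg.Agent.Lib.H20.BGO

open scoped Classical

/-- if every fibre of `f` has exactly `n` elements, then `|α| = n * |image f|`. -/
theorem card_eq_mul_card_image {α β : Type*} [Fintype α] [DecidableEq β] (f : α → β) (n : ℕ)
    (h : ∀ x : α, (Finset.univ.filter (fun y => f y = f x)).card = n) :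
    Fintype.card α = n * (Finset.univ.image f).card := by
  classical
  have h1 := Finset.card_eq_sum_card_fiberwise (f := f) (s := Finset.univ)
    (t := Finset.univ.image f) (fun x _ => Finset.mem_image_of_mem f (Finset.mem_univ x))
  rw [Finset.card_univ] at h1
  rw [h1]
  have h2 : ∀ b ∈ Finset.univ.image f, (Finset.univ.filter (fun y => f y = b)).card = n := by
    intro b hb
    obtain ⟨x, -, rfl⟩ := Finset.mem_image.1 hb
    exact h x
  rw [Finset.sum_congr rfl h2, Finset.sum_const, smul_eq_mul, mul_comm]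

/-- fibres parametrized by a finite type `K`: if for every `x` there is an injective map
`φ x : K → α` whose range is the fibre of `f` through `x`, then `|α| = |K| * |image f|`. -/
theorem card_eq_mul_card_image_of_param {α β K : Type*} [Fintype α] [DecidableEq β] [Fintype K]
    (f : α → β) (φ : α → K → α) (hinj : ∀ x, Function.Injective (φ x))
    (hfib : ∀ x y, f y = f x ↔ ∃ k, y = φ x k) :
    Fintype.card α = Fintype.card K * (Finset.univ.image f).card := by
  classical
  apply card_eq_mul_card_image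
  intro x
  have : Finset.univ.filter (fun y => f y = f x) = Finset.univ.image (φ x) := by
    ext y
    simp only [Finset.mem_filter, Finset.mem_univ, true_and, Finset.mem_image]
    rw [hfib x y]
    constructor
    · rintro ⟨k, rfl⟩; exact ⟨k, rfl⟩
    · rintro ⟨k, rfl⟩; exact ⟨k, rfl⟩
  rw [this, Finset.card_image_of_injective _ (hinj x), Finset.card_univ]

variable {G : Type*} [Group G]

/-- the order of `g` avoids the primes of `Q`. -/
def Avoid (Q : Set ℕ) (g : G) : Prop := ∀ p ∈ Q, p.Prime → ¬ p ∣ orderOf g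

/-- the order of `g` is divisible by a prime divisor of `n`. -/
def Hits (n : ℕ) (g : G) : Prop := ∃ p : ℕ, p.Prime ∧ p ∣ n ∧ p ∣ orderOf g

theorem orderOf_conj' (t g : G) : orderOf (t * g * t⁻¹) = orderOf g := by
  have h : SemiconjBy t g (t * g * t⁻¹) := by
    unfold SemiconjBy; group
  exact (h.orderOf_eq).symm

theorem avoid_conj {Q : Set ℕ} {g : G} (t : G) : Avoid Q (t * g * t⁻¹) ↔ Avoid Q g := by
  unfold Avoid
  rw [orderOf_conj']

theorem hits_conj {n : ℕ} {g : G} (t : G) : Hits n (t * g * t⁻¹) ↔ Hits n g := by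
  unfold Hits
  rw [orderOf_conj']

theorem avoid_one (Q : Set ℕ) : Avoid Q (1 : G) := by
  intro p _ hp h
  rw [orderOf_one] at h
  exact hp.one_lt.ne' (Nat.dvd_one.1 h)

theorem not_hits_one (n : ℕ) : ¬ Hits n (1 : G) := by
  rintro ⟨p, hp, -, h⟩
  rw [orderOf_one] at h
  exact hp.one_lt.ne' (Nat.dvd_one.1 h)

theorem avoid_union {Q₁ Q₂ : Set ℕ} {g : G} : Avoid (Q₁ ∪ Q₂) g ↔ Avoid Q₁ g ∧ Avoid Q₂ g := by
  constructor
  · intro h
    exact ⟨fun p hp => h p (Or.inl hp), fun p hp => h p (Or.inr hp)⟩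
  · rintro ⟨h1, h2⟩ p (hp | hp)
    · exact h1 p hp
    · exact h2 p hp

/-- the set of prime divisors of `n`. -/
def primesOf (n : ℕ) : Set ℕ := {p | p.Prime ∧ p ∣ n}

theorem avoid_primesOf_iff {n : ℕ} {g : G} : Avoid (primesOf n) g ↔ ¬ Hits n g := by
  constructor
  · rintro h ⟨p, hp, hpn, hpg⟩
    exact h p ⟨hp, hpn⟩ hp hpg
  · intro h p hp hpp hpg
    exact h ⟨p, hpp, hp.2, hpg⟩

/-- for commuting elements of coprime orders, the order of the product is the product. -/
theorem avoid_mul {Q : Set ℕ} {a d : G} (hc : Commute a d) (hcop : (orderOf a).Coprime (orderOf d)) :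
    Avoid Q (a * d) ↔ Avoid Q a ∧ Avoid Q d := by
  unfold Avoid
  rw [hc.orderOf_mul_eq_mul_orderOf_of_coprime hcop]
  constructor
  · intro h
    exact ⟨fun p hp hpp hd => h p hp hpp (Dvd.dvd.mul_right hd _),
      fun p hp hpp hd => h p hp hpp (Dvd.dvd.mul_left hd _)⟩
  · rintro ⟨h1, h2⟩ p hp hpp hd
    rcases (Nat.Prime.dvd_mul hpp).1 hd with h | h
    · exact h1 p hp hpp h
    · exact h2 p hp hpp h

theorem hits_mul {n : ℕ} {a d : G} (hc : Commute a d) (hcop : (orderOf a).Coprime (orderOf d)) :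
    Hits n (a * d) ↔ Hits n a ∨ Hits n d := by
  unfold Hits
  rw [hc.orderOf_mul_eq_mul_orderOf_of_coprime hcop]
  constructor
  · rintro ⟨p, hp, hpn, hd⟩
    rcases (Nat.Prime.dvd_mul hp).1 hd with h | h
    · exact Or.inl ⟨p, hp, hpn, h⟩
    · exact Or.inr ⟨p, hp, hpn, h⟩
  · rintro (⟨p, hp, hpn, h⟩ | ⟨p, hp, hpn, h⟩)
    · exact ⟨p, hp, hpn, Dvd.dvd.mul_right h _⟩
    · exact ⟨p, hp, hpn, Dvd.dvd.mul_left h _⟩

/-- an element whose order divides `n` and is not `1` hits `n`. -/
theorem hits_of_orderOf_dvd {n : ℕ} {a : G} (h : orderOf a ∣ n) (h1 : a ≠ 1) : Hits n a := by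
  obtain ⟨p, hp, hpd⟩ := Nat.exists_prime_and_dvd (fun h => h1 (orderOf_eq_one_iff.1 h))
  exact ⟨p, hp, hpd.trans h, hpd⟩

/-- an element whose order is coprime to `n` does not hit `n`. -/
theorem not_hits_of_coprime {n : ℕ} {a : G} (h : (orderOf a).Coprime n) : ¬ Hits n a := by
  rintro ⟨p, hp, hpn, hpa⟩
  exact hp.one_lt.ne' (Nat.dvd_one.1 (h ▸ Nat.dvd_gcd hpa hpn))

/-- an element whose order divides `m` avoids every set of primes not dividing `m`. -/
theorem avoid_of_orderOf_dvd {Q : Set ℕ} {m : ℕ} {a : G} (h : orderOf a ∣ m)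
    (hQ : ∀ p ∈ Q, p.Prime → ¬ p ∣ m) : Avoid Q a :=
  fun p hp hpp hd => hQ p hp hpp (hd.trans h)

end Cfsg.Agent.Lib.H20.BGO
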