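import Mathlib
import Cfsg.Agent.Lib.H20.BGO1

/-!
# Counting lemmas for the sec. 14 count (helper20), part 2: class supports
-/

set_option autoImplicit false
set_option linter.style.haveILetI false
set_option linter.unusedSectionVars false
set_option linter.unusedVariables false

namespace Cfsg.Agent.Lib.H20.BGO

open scoped Classical

variable {G : Type*} [Group G]

/-- uniqueness of the decomposition into commuting parts of coprime orders. -/
theorem eq_of_mul_eq_mul {a : ℕ} {y r y' r' : G} (hc : Commute y r) (hc' : Commute y' r')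
    (hy : y ^ a = 1) (hy' : y' ^ a = 1) (hr : (orderOf r).Coprime a) (hr' : (orderOf r').Coprime a)
    (hr0 : IsOfFinOrder r) (hr0' : IsOfFinOrder r')
    (h : y * r = y' * r') : y = y' ∧ r = r' := by
  -- pick `e` with `a ∣ e` and `e ≡ 1` modulo `c = o(r) * o(r')`
  set c := orderOf r * orderOf r' with hcdef
  have hcpos : 0 < c := Nat.mul_pos hr0.orderOf_pos hr0'.orderOf_pos
  have hcop : Nat.Coprime a c := (Nat.Coprime.mul_left hr hr').symm
  have hex : ∃ e : ℕ, a ∣ e ∧ e % c = 1 % c := by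
    by_cases hc1 : c = 1
    · exact ⟨a, dvd_rfl, by rw [hc1, Nat.mod_one, Nat.mod_one]⟩
    · have hc2 : 1 < c := by omega
      obtain ⟨m, -, hm⟩ := Nat.exists_mul_mod_eq_one_of_coprime hcop hc2
      exact ⟨a * m, Dvd.intro _ rfl, by rw [hm, Nat.mod_eq_of_lt hc2]⟩
  obtain ⟨e, hae, hec⟩ := hex
  have hpow : ∀ {z : G}, orderOf z ∣ c → z ^ e = z := by
    intro z hz
    have h1 : e % orderOf z = 1 % orderOf z := by
      have := Nat.ModEq.of_dvd hz (show e ≡ 1 [MOD c] from hec)
      exact this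
    rw [← pow_mod_orderOf, h1, pow_mod_orderOf, pow_one]
  have hye : ∀ {z : G}, z ^ a = 1 → z ^ e = 1 := by
    intro z hz
    obtain ⟨k, rfl⟩ := hae
    rw [pow_mul, hz, one_pow]
  have h1 : (y * r) ^ e = r := by
    rw [hc.mul_pow, hye hy, one_mul, hpow (Dvd.intro _ rfl)]
  have h2 : (y' * r') ^ e = r' := by
    rw [hc'.mul_pow, hye hy', one_mul, hpow (Dvd.intro_left _ rfl)]
  have hrr : r = r' := by rw [← h1, ← h2, h]
  refine ⟨?_, hrr⟩
  rw [hrr] at h
  exact mul_right_cancel h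

variable [Fintype G]

/-- **class support count**: if `Ω` is stable under conjugation by `N` and every element of `G`
conjugating an element of `Ω` into `Ω` lies in `N`, then `|Ω^G| * |N| = |G| * |Ω|`. -/
theorem card_classSupport (N : Subgroup G) (Ω : Finset G)
    (hstab : ∀ ω ∈ Ω, ∀ n ∈ N, n * ω * n⁻¹ ∈ Ω)
    (hctrl : ∀ ω ∈ Ω, ∀ u : G, u * ω * u⁻¹ ∈ Ω → u ∈ N) :
    (Finset.univ.filter (fun x : G => ∃ t : G, ∃ ω ∈ Ω, x = t * ω * t⁻¹)).card * Fintype.card N =
      Fintype.card G * Ω.card := by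
  classical
  let f : G × Ω → G := fun p => p.1 * (p.2 : G) * p.1⁻¹
  let φ : G × Ω → N → G × Ω := fun p n =>
    (p.1 * (n : G)⁻¹, ⟨(n : G) * (p.2 : G) * (n : G)⁻¹, hstab _ p.2.2 _ n.2⟩)
  have hinj : ∀ p, Function.Injective (φ p) := by
    intro p n n' h
    have h1 := congrArg Prod.fst h
    simp only [φ] at h1
    have h2 : (n : G)⁻¹ = (n' : G)⁻¹ := mul_left_cancel h1
    exact Subtype.ext (inv_injective h2)
  have hfib : ∀ p q : G × Ω, f q = f p ↔ ∃ n, q = φ p n := by
    intro p q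
    constructor
    · intro h
      have hu : q.1⁻¹ * p.1 ∈ N := by
        apply hctrl _ p.2.2
        have : q.1⁻¹ * p.1 * (p.2 : G) * (q.1⁻¹ * p.1)⁻¹ = (q.2 : G) := by
          have h' : q.1 * (q.2 : G) * q.1⁻¹ = p.1 * (p.2 : G) * p.1⁻¹ := h
          have : (q.2 : G) = q.1⁻¹ * (p.1 * (p.2 : G) * p.1⁻¹) * q.1 := by
            rw [← h']; group
          rw [this]; group
        rw [this]; exact q.2.2
      refine ⟨⟨q.1⁻¹ * p.1, hu⟩, ?_⟩
      apply Prod.ext
      · simp only [φ]; group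
      · apply Subtype.ext
        simp only [φ]
        have h' : q.1 * (q.2 : G) * q.1⁻¹ = p.1 * (p.2 : G) * p.1⁻¹ := h
        have : (q.2 : G) = q.1⁻¹ * (p.1 * (p.2 : G) * p.1⁻¹) * q.1 := by
          rw [← h']; group
        rw [this]; group
    · rintro ⟨n, rfl⟩
      simp only [f, φ]
      group
  have h1 := card_eq_mul_card_image_of_param f φ hinj hfib
  have h2 : Finset.univ.image f =
      Finset.univ.filter (fun x : G => ∃ t : G, ∃ ω ∈ Ω, x = t * ω * t⁻¹) := by
    ext x
    simp only [Finset.mem_image, Finset.mem_univ, true_and, Finset.mem_filter]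
    constructor
    · rintro ⟨p, rfl⟩
      exact ⟨p.1, p.2, p.2.2, rfl⟩
    · rintro ⟨t, ω, hω, rfl⟩
      exact ⟨(t, ⟨ω, hω⟩), rfl⟩
  rw [h2] at h1
  rw [mul_comm, ← h1, Fintype.card_prod, Fintype.card_coe]

end Cfsg.Agent.Lib.H20.BGO
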