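import Mathlib
import Cfsg.Agent.Lib.H20.BGO2

/-!
# Counting lemmas for the sec. 14 count (helper20), part 3: the `R`-trick
-/

set_option autoImplicit false
set_option linter.style.haveILetI false
set_option linter.unusedSectionVars false
set_option linter.unusedVariables false

namespace Cfsg.Agent.Lib.H20.BGO

open scoped Classical

variable {G : Type*} [Group G] [Fintype G]

/-- the non-identity elements of a subgroup, as a finset. -/
noncomputable def sharp (A : Subgroup G) : Finset G :=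
  Finset.univ.filter (fun x : G => x ∈ A ∧ x ≠ 1)

theorem mem_sharp {A : Subgroup G} {x : G} : x ∈ sharp A ↔ x ∈ A ∧ x ≠ 1 := by
  simp [sharp]

theorem card_sharp (A : Subgroup G) : (sharp A).card = Fintype.card A - 1 := by
  classical
  have h1 : sharp A = (Finset.univ.filter (fun x : G => x ∈ A)).erase 1 := by
    ext x
    simp only [mem_sharp, Finset.mem_erase, Finset.mem_filter, Finset.mem_univ, true_and]
    tauto
  rw [h1, Finset.card_erase_of_mem (by simp [A.one_mem])]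
  congr 1
  rw [← Fintype.card_subtype]

/-- **the `R`-trick**: to every pair `(tN, y)` with `y ≠ 1` in `tAt⁻¹` is attached an element
`ρ y t` commuting with `y`, of order prime to `a`, the assignment being injective in `tN`; then
the elements `y * ρ y t` are pairwise distinct. -/
theorem rtrick (N A : Subgroup G) (hnorm : ∀ n ∈ N, ∀ x ∈ A, n * x * n⁻¹ ∈ A) (P : G → Prop)
    (a : ℕ) (ha : ∀ x ∈ A, x ^ a = 1) (ρ : G → G → G)
    (h0 : ∀ t, ∀ n ∈ N, ∀ y, ρ y (t * n) = ρ y t)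
    (h1 : ∀ t, ∀ x ∈ A, x ≠ 1 → Commute (t * x * t⁻¹) (ρ (t * x * t⁻¹) t))
    (h2 : ∀ t, ∀ x ∈ A, x ≠ 1 → (orderOf (ρ (t * x * t⁻¹) t)).Coprime a)
    (h3 : ∀ t, ∀ x ∈ A, x ≠ 1 → P (t * x * t⁻¹ * ρ (t * x * t⁻¹) t))
    (h4 : ∀ t t', ∀ x ∈ A, ∀ x' ∈ A, x ≠ 1 → t * x * t⁻¹ = t' * x' * t'⁻¹ →
      ρ (t * x * t⁻¹) t = ρ (t * x * t⁻¹) t' → t⁻¹ * t' ∈ N) :
    Fintype.card G * (Fintype.card A - 1) ≤
      Fintype.card N * (Finset.univ.filter (fun x : G => P x)).card := by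
  classical
  let Ω := sharp A
  let f : G × Ω → G := fun p => p.1 * (p.2 : G) * p.1⁻¹ * ρ (p.1 * (p.2 : G) * p.1⁻¹) p.1
  have hΩ : ∀ ω : Ω, (ω : G) ∈ A ∧ (ω : G) ≠ 1 := fun ω => mem_sharp.1 ω.2
  have hstab : ∀ ω : Ω, ∀ n : N, (n : G) * (ω : G) * (n : G)⁻¹ ∈ Ω := by
    intro ω n
    refine mem_sharp.2 ⟨hnorm _ n.2 _ (hΩ ω).1, ?_⟩
    intro h
    apply (hΩ ω).2
    have : (ω : G) = (n : G)⁻¹ * ((n : G) * (ω : G) * (n : G)⁻¹) * (n : G) := by group
    rw [this, h]; group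
  let φ : G × Ω → N → G × Ω := fun p n =>
    (p.1 * (n : G)⁻¹, ⟨(n : G) * (p.2 : G) * (n : G)⁻¹, hstab p.2 n⟩)
  have hinj : ∀ p, Function.Injective (φ p) := by
    intro p n n' h
    have h1 := congrArg Prod.fst h
    simp only [φ] at h1
    have h2 : (n : G)⁻¹ = (n' : G)⁻¹ := mul_left_cancel h1
    exact Subtype.ext (inv_injective h2)
  have hconj : ∀ (p : G × Ω) (n : N),
      (p.1 * (n : G)⁻¹) * ((n : G) * (p.2 : G) * (n : G)⁻¹) * (p.1 * (n : G)⁻¹)⁻¹ =
        p.1 * (p.2 : G) * p.1⁻¹ := by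
    intro p n; group
  have hfib : ∀ p q : G × Ω, f q = f p ↔ ∃ n, q = φ p n := by
    intro p q
    constructor
    · intro h
      have hp := hΩ p.2
      have hq := hΩ q.2
      have hpow : ∀ (t x : G), x ∈ A → (t * x * t⁻¹) ^ a = 1 := by
        intro t x hx
        rw [conj_pow, ha x hx]; group
      have hfo : ∀ z : G, IsOfFinOrder z := fun z => isOfFinOrder_of_finite z
      obtain ⟨hy, hr⟩ := eq_of_mul_eq_mul (h1 q.1 _ hq.1 hq.2) (h1 p.1 _ hp.1 hp.2)
        (hpow _ _ hq.1) (hpow _ _ hp.1) (h2 q.1 _ hq.1 hq.2) (h2 p.1 _ hp.1 hp.2)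
        (hfo _) (hfo _) h
      -- `hy : q.1 * q.2 * q.1⁻¹ = p.1 * p.2 * p.1⁻¹`
      have hu : p.1⁻¹ * q.1 ∈ N := by
        apply h4 p.1 q.1 _ hp.1 _ hq.1 hp.2 hy.symm
        rw [← hr, hy]
      refine ⟨⟨(p.1⁻¹ * q.1)⁻¹, N.inv_mem hu⟩, ?_⟩
      apply Prod.ext
      · simp only [φ]; group
      · apply Subtype.ext
        simp only [φ]
        have : (q.2 : G) = q.1⁻¹ * (p.1 * (p.2 : G) * p.1⁻¹) * q.1 := by
          rw [← hy]; group
        rw [this]; group
    · rintro ⟨n, rfl⟩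
      simp only [f, φ]
      rw [hconj p n, h0 p.1 _ (N.inv_mem n.2)]
  have hc := card_eq_mul_card_image_of_param f φ hinj hfib
  have hsub : Finset.univ.image f ⊆ Finset.univ.filter (fun x : G => P x) := by
    intro x hx
    obtain ⟨p, -, rfl⟩ := Finset.mem_image.1 hx
    simp only [Finset.mem_filter, Finset.mem_univ, true_and]
    exact h3 p.1 _ (hΩ p.2).1 (hΩ p.2).2
  have hle := Finset.card_le_card hsub
  have hcard : Fintype.card (G × Ω) = Fintype.card G * (Fintype.card A - 1) := by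
    rw [Fintype.card_prod, Fintype.card_coe, card_sharp]
  rw [← hcard, hc]
  exact Nat.mul_le_mul_left _ hle

end Cfsg.Agent.Lib.H20.BGO
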