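import Mathlib
import Cfsg.Agent.Lib.H20.BGO3

/-!
# Counting lemmas for the sec. 14 count (helper20), part 4: the final count
-/

set_option autoImplicit false
set_option linter.style.haveILetI false
set_option linter.unusedSectionVars false
set_option linter.unusedVariables false

namespace Cfsg.Agent.Lib.H20.BGO

open scoped Classical

variable {G : Type*} [Group G] [Fintype G]

theorem hits_conj_iff {n : ℕ} {g : G} (t : G) : Hits n (t * g * t⁻¹) ↔ Hits n g := hits_conj t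

/-- **the count**: a finite family of "blocks" (orders `a i` of the kernels, `n i` of the blocks,
`W i` the part of the kernel inside `Z`) covering too much of `G`. -/
theorem false_of_count {ι : Type*} (𝔅 : Finset ι) (Z : Subgroup G) (a n : ι → ℕ)
    (W : ι → Subgroup G)
    (hWZ : ∀ i ∈ 𝔅, W i ≤ Z)
    (hWn : ∀ i ∈ 𝔅, ∀ u ∈ Z, ∀ x ∈ W i, u * x * u⁻¹ ∈ W i)
    (hcard : ∀ i ∈ 𝔅, n i * Fintype.card (W i) = a i * Fintype.card Z)
    (h3 : ∀ i ∈ 𝔅, 3 * Fintype.card (W i) ≤ a i)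
    (hD : ∀ i ∈ 𝔅, Fintype.card G * (a i - 1) ≤
      n i * (Finset.univ.filter (fun x : G => Hits (a i) x ∧
        ∀ j ∈ 𝔅, j ≠ i → ¬ Hits (a j) x)).card)
    (hT1 : ∀ x ∈ Z, (∀ i ∈ 𝔅, x ∉ W i) →
      ∃ i ∈ 𝔅, ∃ j ∈ 𝔅, i ≠ j ∧ Hits (a i) x ∧ Hits (a j) x)
    (hT2 : ∀ x ∈ Z, (∀ i ∈ 𝔅, x ∉ W i) → ∀ g : G, g * x * g⁻¹ ∈ Z → g ∈ Z)
    (h2 : 2 ≤ 𝔅.card) : False := by
  classical
  set Tset : Finset G := Finset.univ.filter (fun x : G => x ∈ Z ∧ ∀ i ∈ 𝔅, x ∉ W i) with hTset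
  set CT : Finset G := Finset.univ.filter (fun x : G => ∃ t : G, ∃ ω ∈ Tset, x = t * ω * t⁻¹)
    with hCTdef
  set D : ι → Finset G := fun i => Finset.univ.filter (fun x : G => Hits (a i) x ∧
        ∀ j ∈ 𝔅, j ≠ i → ¬ Hits (a j) x) with hDdef
  have hmemT : ∀ x, x ∈ Tset ↔ x ∈ Z ∧ ∀ i ∈ 𝔅, x ∉ W i := by
    intro x; simp [hTset]
  -- the class support of `Tset`
  have hCT : CT.card * Fintype.card Z = Fintype.card G * Tset.card := by
    apply card_classSupport Z Tset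
    · intro ω hω u hu
      rw [hmemT] at hω ⊢
      refine ⟨Z.mul_mem (Z.mul_mem hu hω.1) (Z.inv_mem hu), ?_⟩
      intro i hi hmem
      apply hω.2 i hi
      have := hWn i hi u⁻¹ (Z.inv_mem hu) _ hmem
      have h' : u⁻¹ * (u * ω * u⁻¹) * u⁻¹⁻¹ = ω := by group
      rwa [h'] at this
    · intro ω hω u hu
      rw [hmemT] at hω hu
      exact hT2 ω hω.1 hω.2 u hu.1
  -- disjointness
  have hDdisj : ∀ i ∈ 𝔅, ∀ j ∈ 𝔅, i ≠ j → Disjoint (D i) (D j) := by
    intro i hi j hj hij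
    rw [Finset.disjoint_left]
    intro x hxi hxj
    simp only [hDdef, Finset.mem_filter, Finset.mem_univ, true_and] at hxi hxj
    exact hxj.2 i hi hij hxi.1
  have hCTD : Disjoint (𝔅.biUnion D) CT := by
    rw [Finset.disjoint_left]
    intro x hx hxC
    obtain ⟨i, hi, hxi⟩ := Finset.mem_biUnion.1 hx
    simp only [hDdef, Finset.mem_filter, Finset.mem_univ, true_and] at hxi
    simp only [hCTdef, Finset.mem_filter, Finset.mem_univ, true_and] at hxC
    obtain ⟨t, ω, hω, rfl⟩ := hxC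
    rw [hmemT] at hω
    obtain ⟨j, hj, k, hk, hjk, hjh, hkh⟩ := hT1 ω hω.1 hω.2
    by_cases hji : j = i
    · subst hji
      exact hxi.2 k hk (Ne.symm hjk) ((hits_conj t).2 hkh)
    · exact hxi.2 j hj hji ((hits_conj t).2 hjh)
  have hone : (1 : G) ∉ 𝔅.biUnion D ∪ CT := by
    intro h
    rcases Finset.mem_union.1 h with h | h
    · obtain ⟨i, hi, hxi⟩ := Finset.mem_biUnion.1 h
      simp only [hDdef, Finset.mem_filter, Finset.mem_univ, true_and] at hxi
      exact not_hits_one _ hxi.1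
    · simp only [hCTdef, Finset.mem_filter, Finset.mem_univ, true_and] at h
      obtain ⟨t, ω, hω, h1⟩ := h
      rw [hmemT] at hω
      obtain ⟨j, hj, k, hk, hjk, hjh, hkh⟩ := hT1 ω hω.1 hω.2
      have : Hits (a j) (t * ω * t⁻¹) := (hits_conj t).2 hjh
      rw [← h1] at this
      exact not_hits_one _ this
  have htotal : (∑ i ∈ 𝔅, (D i).card) + CT.card + 1 ≤ Fintype.card G := by
    have h1 : (𝔅.biUnion D ∪ CT).card = (∑ i ∈ 𝔅, (D i).card) + CT.card := by
      rw [Finset.card_union_of_disjoint hCTD, Finset.card_biUnion]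
      intro i hi j hj hij
      exact hDdisj i hi j hj hij
    have h2 : (𝔅.biUnion D ∪ CT) ⊆ Finset.univ.erase 1 := by
      intro x hx
      refine Finset.mem_erase.2 ⟨?_, Finset.mem_univ _⟩
      rintro rfl
      exact hone hx
    have h3 := Finset.card_le_card h2
    rw [h1, Finset.card_erase_of_mem (Finset.mem_univ _), Finset.card_univ] at h3
    have : 0 < Fintype.card G := Fintype.card_pos
    omega
  -- the size of `Tset`
  have hTcard : Fintype.card Z ≤ Tset.card + 1 + ∑ i ∈ 𝔅, (Fintype.card (W i) - 1) := by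
    have hsub : (Finset.univ.filter (fun x : G => x ∈ Z)) ⊆
        (Tset ∪ {1}) ∪ 𝔅.biUnion (fun i => sharp (W i)) := by
      intro x hx
      simp only [Finset.mem_filter, Finset.mem_univ, true_and] at hx
      by_cases hxT : x ∈ Tset
      · exact Finset.mem_union_left _ (Finset.mem_union_left _ hxT)
      · by_cases hx1 : x = 1
        · exact Finset.mem_union_left _ (Finset.mem_union_right _ (by simp [hx1]))
        · rw [hmemT] at hxT
          push Not at hxT
          obtain ⟨i, hi, hxi⟩ := hxT hx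
          exact Finset.mem_union_right _ (Finset.mem_biUnion.2 ⟨i, hi, mem_sharp.2 ⟨hxi, hx1⟩⟩)
    have h1 := Finset.card_le_card hsub
    have h2 : (Finset.univ.filter (fun x : G => x ∈ Z)).card = Fintype.card Z := by
      rw [← Fintype.card_subtype]
    have h3 : ((Tset ∪ {1}) ∪ 𝔅.biUnion (fun i => sharp (W i))).card ≤
        Tset.card + 1 + ∑ i ∈ 𝔅, (Fintype.card (W i) - 1) := by
      refine (Finset.card_union_le _ _).trans ?_
      refine Nat.add_le_add ((Finset.card_union_le _ _).trans (by simp)) ?_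
      refine Finset.card_biUnion_le.trans ?_
      apply Finset.sum_le_sum
      intro i _
      rw [card_sharp]
    omega
  -- arithmetic
  have hwpos : ∀ i, 0 < Fintype.card (W i) := fun i => Fintype.card_pos
  have hper : ∀ i ∈ 𝔅, (Fintype.card G : ℤ) * (3 * (Fintype.card (W i) : ℤ) - 1) ≤
      3 * (Fintype.card Z : ℤ) * ((D i).card : ℤ) := by
    intro i hi
    have e1 := hD i hi
    have e2 := hcard i hi
    have e3 := h3 i hi
    have e4 := hwpos i
    have ha1 : 1 ≤ a i := by omega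
    have e1' : (Fintype.card G : ℤ) * ((a i : ℤ) - 1) ≤ (n i : ℤ) * ((D i).card : ℤ) := by
      have : ((Fintype.card G * (a i - 1) : ℕ) : ℤ) ≤ ((n i * (D i).card : ℕ) : ℤ) := by
        exact_mod_cast e1
      push_cast [Nat.cast_sub ha1] at this
      exact this
    have e2' : (n i : ℤ) * (Fintype.card (W i) : ℤ) = (a i : ℤ) * (Fintype.card Z : ℤ) := by
      exact_mod_cast e2
    have e3' : 3 * (Fintype.card (W i) : ℤ) ≤ (a i : ℤ) := by exact_mod_cast e3
    have e4' : (0 : ℤ) < (Fintype.card (W i) : ℤ) := by exact_mod_cast e4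
    have ha' : (0 : ℤ) < (a i : ℤ) := by exact_mod_cast ha1
    have hg' : (0 : ℤ) ≤ (Fintype.card G : ℤ) := by positivity
    -- multiply `e1'` by `w`
    have s1 : (Fintype.card G : ℤ) * ((a i : ℤ) - 1) * (Fintype.card (W i) : ℤ) ≤
        (a i : ℤ) * (Fintype.card Z : ℤ) * ((D i).card : ℤ) := by
      have := mul_le_mul_of_nonneg_right e1' e4'.le
      calc (Fintype.card G : ℤ) * ((a i : ℤ) - 1) * (Fintype.card (W i) : ℤ)
          ≤ (n i : ℤ) * ((D i).card : ℤ) * (Fintype.card (W i) : ℤ) := this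
        _ = (n i : ℤ) * (Fintype.card (W i) : ℤ) * ((D i).card : ℤ) := by ring
        _ = (a i : ℤ) * (Fintype.card Z : ℤ) * ((D i).card : ℤ) := by rw [e2']
    -- `(3w - 1) a ≤ 3 (a - 1) w`
    have s2 : (3 * (Fintype.card (W i) : ℤ) - 1) * (a i : ℤ) ≤
        3 * (((a i : ℤ) - 1) * (Fintype.card (W i) : ℤ)) := by nlinarith
    have s3 : (a i : ℤ) * ((Fintype.card G : ℤ) * (3 * (Fintype.card (W i) : ℤ) - 1)) ≤
        (a i : ℤ) * (3 * (Fintype.card Z : ℤ) * ((D i).card : ℤ)) := by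
      have := mul_le_mul_of_nonneg_left s2 hg'
      nlinarith
    exact le_of_mul_le_mul_left s3 ha'
  have hsum : (Fintype.card G : ℤ) * (3 * (∑ i ∈ 𝔅, (Fintype.card (W i) : ℤ)) - (𝔅.card : ℤ)) ≤
      3 * (Fintype.card Z : ℤ) * (∑ i ∈ 𝔅, ((D i).card : ℤ)) := by
    have := Finset.sum_le_sum hper
    have l1 : ∑ i ∈ 𝔅, (Fintype.card G : ℤ) * (3 * (Fintype.card (W i) : ℤ) - 1) =
        (Fintype.card G : ℤ) * (3 * (∑ i ∈ 𝔅, (Fintype.card (W i) : ℤ)) - (𝔅.card : ℤ)) := by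
      rw [← Finset.mul_sum, Finset.sum_sub_distrib, ← Finset.mul_sum]
      simp
    have l2 : ∑ i ∈ 𝔅, 3 * (Fintype.card Z : ℤ) * ((D i).card : ℤ) =
        3 * (Fintype.card Z : ℤ) * (∑ i ∈ 𝔅, ((D i).card : ℤ)) := by
      rw [← Finset.mul_sum]
    rw [l1, l2] at this
    exact this
  have hT' : (Fintype.card Z : ℤ) + (𝔅.card : ℤ) ≤
      (Tset.card : ℤ) + 1 + ∑ i ∈ 𝔅, (Fintype.card (W i) : ℤ) := by
    have l1 : ∑ i ∈ 𝔅, (Fintype.card (W i) - 1) + 𝔅.card = ∑ i ∈ 𝔅, Fintype.card (W i) := by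
      have hc1 : 𝔅.card = ∑ _i ∈ 𝔅, 1 := by simp
      conv_lhs => rw [hc1]
      rw [← Finset.sum_add_distrib]
      apply Finset.sum_congr rfl
      intro i _
      have := hwpos i
      omega
    have : (Fintype.card Z + 𝔅.card : ℕ) ≤ Tset.card + 1 + ∑ i ∈ 𝔅, Fintype.card (W i) := by
      omega
    exact_mod_cast this
  have htot' : (∑ i ∈ 𝔅, ((D i).card : ℤ)) + (CT.card : ℤ) + 1 ≤ (Fintype.card G : ℤ) := by
    exact_mod_cast htotal
  have hCT' : (CT.card : ℤ) * (Fintype.card Z : ℤ) = (Fintype.card G : ℤ) * (Tset.card : ℤ) := by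
    exact_mod_cast hCT
  have hk : (2 : ℤ) ≤ (𝔅.card : ℤ) := by exact_mod_cast h2
  have hz : (0 : ℤ) < (Fintype.card Z : ℤ) := by exact_mod_cast (Fintype.card_pos : 0 < Fintype.card Z)
  have hg : (0 : ℤ) < (Fintype.card G : ℤ) := by exact_mod_cast (Fintype.card_pos : 0 < Fintype.card G)
  -- combine
  have f1 : 3 * (Fintype.card Z : ℤ) * ((∑ i ∈ 𝔅, ((D i).card : ℤ)) + (CT.card : ℤ)) ≤
      3 * (Fintype.card Z : ℤ) * ((Fintype.card G : ℤ) - 1) := by
    apply mul_le_mul_of_nonneg_left _ (by positivity)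
    linarith
  have f2 : (Fintype.card G : ℤ) * (3 * (Tset.card : ℤ)) ≥
      (Fintype.card G : ℤ) * (3 * ((Fintype.card Z : ℤ) + (𝔅.card : ℤ) - 1
        - ∑ i ∈ 𝔅, (Fintype.card (W i) : ℤ))) := by
    apply mul_le_mul_of_nonneg_left _ hg.le
    linarith
  nlinarith
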