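import Mathlib
import Cfsg.Agent.Lib.H20.BGO4

/-!
# Counting lemmas for the sec. 14 count (helper20), part 5: `Nat.card` form of the final count
-/

set_option autoImplicit false
set_option linter.style.haveILetI false
set_option linter.unusedSectionVars false
set_option linter.unusedVariables false

namespace Cfsg.Agent.Lib.H20.BGO

open scoped Classical

variable {G : Type*} [Group G] [Fintype G]

theorem false_of_count' {ι : Type*} (𝔅 : Finset ι) (Z : Subgroup G) (a n : ι → ℕ)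
    (W : ι → Subgroup G)
    (hWZ : ∀ i ∈ 𝔅, W i ≤ Z)
    (hWn : ∀ i ∈ 𝔅, ∀ u ∈ Z, ∀ x ∈ W i, u * x * u⁻¹ ∈ W i)
    (hcard : ∀ i ∈ 𝔅, n i * Nat.card (W i) = a i * Nat.card Z)
    (h3 : ∀ i ∈ 𝔅, 3 * Nat.card (W i) ≤ a i)
    (hD : ∀ i ∈ 𝔅, Fintype.card G * (a i - 1) ≤
      n i * (Finset.univ.filter (fun x : G => Hits (a i) x ∧
        ∀ j ∈ 𝔅, j ≠ i → ¬ Hits (a j) x)).card)
    (hT1 : ∀ x ∈ Z, (∀ i ∈ 𝔅, x ∉ W i) →
      ∃ i ∈ 𝔅, ∃ j ∈ 𝔅, i ≠ j ∧ Hits (a i) x ∧ Hits (a j) x)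
    (hT2 : ∀ x ∈ Z, (∀ i ∈ 𝔅, x ∉ W i) → ∀ g : G, g * x * g⁻¹ ∈ Z → g ∈ Z)
    (h2 : 2 ≤ 𝔅.card) : False := by
  apply false_of_count 𝔅 Z a n W hWZ hWn ?_ ?_ hD hT1 hT2 h2
  · intro i hi
    rw [← Nat.card_eq_fintype_card, ← Nat.card_eq_fintype_card]
    exact hcard i hi
  · intro i hi
    rw [← Nat.card_eq_fintype_card]
    exact h3 i hi

end Cfsg.Agent.Lib.H20.BGO
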