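import Mathlib
import Cfsg.Agent.Lib.H20.BGN7

/-!
# The `τ₃`-nonregular configuration (helper20), part 8: uniqueness consequences of `σ(M) = β(M)`
-/

set_option autoImplicit false
set_option linter.style.haveILetI false
set_option linter.unusedSectionVars false
set_option linter.unusedVariables false

open Cfsg
open Cfsg.Agent.Lib.H16.BG
open Cfsg.Agent.Lib.H7.BG7
open Cfsg.Agent.Lib.H7.BG10
open Cfsg.Agent.Lib.H19 (IsPiCard)
open Cfsg.Agent.Lib.H1 (CoprimeAction)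

namespace Cfsg.Agent.Lib.H20.BGN

universe u
variable {G : Type u} [Group G] [Finite G]

local notation:max "cj(" g ", " X ")" => Subgroup.map (MulEquiv.toMonoidHom (MulAut.conj g)) X

namespace Nonreg

variable {M E : Subgroup G}

/-- every subgroup of prime order of `M_σ` has its centralizer in `M` only. -/
theorem uniq (hG : IsMinSimpleOddOrder G) (hM : IsCoatom M) (h : Nonreg M E) {Y₀ : Subgroup G}
    (hY₀ : Y₀ ≤ sigmaCore M) (hc : (Nat.card Y₀).Prime) :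
    Subgroup.centralizer (Y₀ : Set G) ≤ M ∧
      ∀ L : Subgroup G, IsCoatom L → Subgroup.centralizer (Y₀ : Set G) ≤ L → L = M := by
  haveI : Fact (Nat.card Y₀).Prime := ⟨hc⟩
  have hpσ : Nat.card Y₀ ∈ sigma M :=
    Cfsg.Agent.Lib.H20.BGS.sigmaCore_isPiCard M _ hc (Subgroup.card_dvd_of_le hY₀)
  obtain ⟨P₀⟩ : Nonempty (Sylow (Nat.card Y₀) ↥(sigmaCore M)) := inferInstance
  exact (Cfsg.Agent.S1423.result hG M hM (Nat.card Y₀) hpσ Y₀
    (hY₀.trans (Cfsg.Agent.Lib.H20.BGS.sigmaCore_le M)) rfl P₀ (Or.inl (h.sigma_beta _ hpσ))).1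

/-- every Sylow subgroup of `M_σ` for a prime of `σ(M)` lies in `M` only. -/
theorem sylow_uniq (hG : IsMinSimpleOddOrder G) (hM : IsCoatom M) (h : Nonreg M E) {p : ℕ}
    [hp : Fact p.Prime] (hpσ : p ∈ sigma M) (S : Sylow p ↥(sigmaCore M)) :
    InUniqueMaximal ((S : Subgroup ↥(sigmaCore M)).map (sigmaCore M).subtype) ∧
      (S : Subgroup ↥(sigmaCore M)).map (sigmaCore M).subtype ≤ M := by
  obtain ⟨x, hx⟩ := exists_prime_orderOf_dvd_card' (G := ↥M) p hpσ.2.1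
  have hXc : Nat.card ↥(Subgroup.zpowers (x : G)) = p := by
    rw [Nat.card_zpowers, Subgroup.orderOf_coe, hx]
  have hXM : Subgroup.zpowers (x : G) ≤ M := by
    rw [Subgroup.zpowers_le]; exact x.2
  exact (Cfsg.Agent.S1423.result hG M hM p hpσ (Subgroup.zpowers (x : G)) hXM hXc S
    (Or.inl (h.sigma_beta _ hpσ))).2

/-- `N_G(Y₀) ≤ M` for every nontrivial subgroup `Y₀ ≤ M_σ`... for subgroups of prime order. -/
theorem normalizer_le (hG : IsMinSimpleOddOrder G) (hM : IsCoatom M) (h : Nonreg M E)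
    {Y₀ : Subgroup G} (hY₀ : Y₀ ≤ sigmaCore M) (hc : (Nat.card Y₀).Prime) :
    Subgroup.normalizer (Y₀ : Set G) ≤ M := by
  haveI : Fact (Nat.card Y₀).Prime := ⟨hc⟩
  have hpσ : Nat.card Y₀ ∈ sigma M :=
    Cfsg.Agent.Lib.H20.BGS.sigmaCore_isPiCard M _ hc (Subgroup.card_dvd_of_le hY₀)
  exact (Cfsg.Agent.Lib.H7.BG138.normalizer_le_of_beta hG hM (h.sigma_beta _ hpσ)
    (hY₀.trans (Cfsg.Agent.Lib.H20.BGS.sigmaCore_le M)) rfl).2

end Nonreg

end Cfsg.Agent.Lib.H20.BGN
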