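import Mathlib
import Cfsg.Agent.Lib.H20.BGN8
import Cfsg.Agent.Lib.H20.BGY1
import Cfsg.Agent.Lib.H7.TypeP
import Cfsg.Agent.S1430
import Cfsg.Agent.S1431

/-!
# Blocks (helper20), part 1: the structure `IsBlock Z N K`

`IsBlock Z N K`: `N` is a maximal subgroup, `K ≠ 1` a Hall `κ(N)`-subgroup of `N` which is a
complement of `N_σ` in `N`, and `K × C_{N_σ}(K) = Z`.
-/

set_option autoImplicit false
set_option linter.style.haveILetI false
set_option linter.unusedSectionVars false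
set_option linter.unusedVariables false

open Cfsg
open Cfsg.Agent.Lib.H16.BG
open Cfsg.Agent.Lib.H7.BG7
open Cfsg.Agent.Lib.H7.BG10
open Cfsg.Agent.Lib.H19 (IsPiCard)
open Cfsg.Agent.Lib.H1 (CoprimeAction)

namespace Cfsg.Agent.Lib.H20.BGP

universe u
variable {G : Type u} [Group G] [Finite G]

local notation:max "cj(" g ", " X ")" => Subgroup.map (MulEquiv.toMonoidHom (MulAut.conj g)) X

/-- a pre-block of `Z`: like a block, but `K` is not yet known to be a complement of `N_σ`. -/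
structure IsPreBlock (Z N K : Subgroup G) : Prop where
  coatom : IsCoatom N
  hall : IsPiHallOf (kappa N) K N
  ne : K ≠ ⊥
  eq : K ⊔ (sigmaCore N ⊓ Subgroup.centralizer (K : Set G)) = Z

/-- a block of `Z`. -/
structure IsBlock (Z N K : Subgroup G) : Prop extends IsPreBlock Z N K where
  compl : IsComplIn K (sigmaCore N) N

namespace IsPreBlock

variable {Z N K : Subgroup G}

theorem K_le (b : IsPreBlock Z N K) : K ≤ Z := b.eq ▸ le_sup_left

theorem star_le (b : IsPreBlock Z N K) :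
    sigmaCore N ⊓ Subgroup.centralizer (K : Set G) ≤ Z := b.eq ▸ le_sup_right

theorem K_le_N (b : IsPreBlock Z N K) : K ≤ N := b.hall.1

theorem Z_le (b : IsPreBlock Z N K) : Z ≤ N := by
  rw [← b.eq]
  exact sup_le b.K_le_N (inf_le_left.trans (Cfsg.Agent.Lib.H20.BGS.sigmaCore_le N))

theorem prime_action (hG : IsMinSimpleOddOrder G) (b : IsPreBlock Z N K) {k : G} (hk : k ∈ K)
    (hk1 : k ≠ 1) : sigmaCore N ⊓ Subgroup.centralizer ({k} : Set G) =
      sigmaCore N ⊓ Subgroup.centralizer (K : Set G) :=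
  (Cfsg.Agent.S1430.result hG N b.coatom K b.hall b.ne).1 k hk hk1

theorem ti_star (hG : IsMinSimpleOddOrder G) (b : IsPreBlock Z N K) {g : G} (hg : g ∉ N) :
    (sigmaCore N ⊓ Subgroup.centralizer (K : Set G)) ⊓ cj(g, N) = ⊥ :=
  (Cfsg.Agent.S1431.result hG N b.coatom K b.hall b.ne).1 g hg

theorem sigma_hall (hG : IsMinSimpleOddOrder G) (b : IsPreBlock Z N K) :
    IsPiHallOf (sigma N) (sigmaCore N) N :=
  (Cfsg.Agent.Lib.H20.BGS.sigma_core_hall hG (Cfsg.Agent.Lib.H20.BGT.uniq3 hG) b.coatom).1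

theorem star_ne (hG : IsMinSimpleOddOrder G) (b : IsPreBlock Z N K) :
    sigmaCore N ⊓ Subgroup.centralizer (K : Set G) ≠ ⊥ := by
  obtain ⟨p, hp, X, hXK, hXc⟩ := Cfsg.Agent.Lib.H7.BG14u.exists_le_card_prime b.ne
  have h1 := Cfsg.Agent.Lib.H7.BG14u.sigmaCore_inf_centralizer_ne_bot hG b.coatom b.hall hXK hp hXc
  have hX1 : X ≠ ⊥ := by
    intro h
    rw [h, Subgroup.card_bot] at hXc
    exact hp.one_lt.ne hXc
  obtain ⟨x, hxX, hx1⟩ := (Subgroup.bot_or_exists_ne_one X).resolve_left hX1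
  rw [← b.prime_action hG (hXK hxX) hx1]
  intro hbot
  apply h1
  rw [eq_bot_iff, ← hbot]
  exact le_inf inf_le_left (inf_le_right.trans
    (Subgroup.centralizer_le (Set.singleton_subset_iff.2 hxX)))

/-- a `σ(N)`-subgroup of `N` lies in `N_σ`. -/
theorem le_sigmaCore (hG : IsMinSimpleOddOrder G) (b : IsPreBlock Z N K) {Y : Subgroup G}
    (hYN : Y ≤ N) (hY : IsPiCard (sigma N) (Nat.card Y)) : Y ≤ sigmaCore N :=
  Cfsg.Agent.Lib.H20.BGY.le_of_normal_hall (b.sigma_hall hG)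
    (Cfsg.Agent.Lib.H20.BGS.le_normalizer_sigmaCore N) hYN hY

theorem K_normalizes_star (b : IsPreBlock Z N K) :
    K ≤ Subgroup.normalizer ((sigmaCore N ⊓ Subgroup.centralizer (K : Set G) : Subgroup G) : Set G) := by
  intro k hk
  rw [Subgroup.mem_normalizer_iff]
  intro x
  have hkσ : k ∈ Subgroup.normalizer ((sigmaCore N : Subgroup G) : Set G) :=
    Cfsg.Agent.Lib.H20.BGS.le_normalizer_sigmaCore N (b.K_le_N hk)
  have hkc : k ∈ Subgroup.normalizer ((Subgroup.centralizer (K : Set G) : Subgroup G) : Set G) := by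
    have : K ≤ Subgroup.normalizer ((Subgroup.centralizer (K : Set G) : Subgroup G) : Set G) := by
      intro k' hk'
      rw [Subgroup.mem_normalizer_iff]
      intro y
      constructor
      · intro hy
        rw [Subgroup.mem_centralizer_iff] at hy ⊢
        intro z hz
        have h1 := hy (k'⁻¹ * z * k') (K.mul_mem (K.mul_mem (K.inv_mem hk') hz) hk')
        calc z * (k' * y * k'⁻¹) = k' * ((k'⁻¹ * z * k') * y) * k'⁻¹ := by group
          _ = k' * (y * (k'⁻¹ * z * k')) * k'⁻¹ := by rw [h1]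
          _ = k' * y * k'⁻¹ * z := by group
      · intro hy
        rw [Subgroup.mem_centralizer_iff] at hy ⊢
        intro z hz
        have h1 := hy (k' * z * k'⁻¹) (K.mul_mem (K.mul_mem hk' hz) (K.inv_mem hk'))
        have h2 : k'⁻¹ * ((k' * z * k'⁻¹) * (k' * y * k'⁻¹)) * k' = z * y := by group
        have h3 : k'⁻¹ * ((k' * y * k'⁻¹) * (k' * z * k'⁻¹)) * k' = y * z := by group
        rw [← h2, ← h3, h1]
    exact this hk
  rw [Subgroup.mem_inf, Subgroup.mem_inf, (Subgroup.mem_normalizer_iff.1 hkσ) x,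
    (Subgroup.mem_normalizer_iff.1 hkc) x]

/-- the primes of `K` are not in `σ(N)`. -/
theorem K_not_sigma (b : IsPreBlock Z N K) {p : ℕ} (hp : p.Prime) (hd : p ∣ Nat.card K) :
    p ∉ sigma N := (b.hall.2.1 p hp hd).2.2.1

theorem coprime_K (b : IsPreBlock Z N K) : (Nat.card K).Coprime (Nat.card ↥(sigmaCore N)) := by
  apply Nat.coprime_of_dvd
  intro p hp h1 h2
  exact b.K_not_sigma hp h1 (Cfsg.Agent.Lib.H20.BGS.sigmaCore_isPiCard N p hp h2)

theorem K_inf_sigmaCore (b : IsPreBlock Z N K) : K ⊓ sigmaCore N = ⊥ :=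
  (Subgroup.disjoint_of_coprime_natCard b.coprime_K).eq_bot

theorem K_inf_star (b : IsPreBlock Z N K) :
    K ⊓ (sigmaCore N ⊓ Subgroup.centralizer (K : Set G)) = ⊥ := by
  rw [eq_bot_iff, ← b.K_inf_sigmaCore]
  exact le_inf inf_le_left (inf_le_right.trans inf_le_left)

theorem isComplIn_Z (b : IsPreBlock Z N K) :
    IsComplIn K (sigmaCore N ⊓ Subgroup.centralizer (K : Set G)) Z := by
  refine ⟨b.K_le, b.star_le, b.K_inf_star, ?_⟩
  intro z hz
  rw [← b.eq, sup_comm] at hz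
  obtain ⟨x, hx, y, hy, hxy⟩ := Cfsg.Agent.Lib.H1.mem_sup_of_le_normalizer b.K_normalizes_star hz
  refine ⟨y, hy, x, hx, ?_⟩
  rw [hxy]
  have := (Subgroup.mem_centralizer_iff.1 (Subgroup.mem_inf.1 hx).2) y hy
  exact this.symm

theorem card_Z (b : IsPreBlock Z N K) :
    Nat.card K * Nat.card ↥(sigmaCore N ⊓ Subgroup.centralizer (K : Set G)) = Nat.card Z :=
  Cfsg.Agent.Lib.H7.isComplIn_card_mul b.isComplIn_Z

/-- `Z ∩ N_σ = K*`. -/
theorem Z_inf_sigmaCore (b : IsPreBlock Z N K) :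
    Z ⊓ sigmaCore N = sigmaCore N ⊓ Subgroup.centralizer (K : Set G) := by
  apply le_antisymm
  · intro x hx
    obtain ⟨hxZ, hxA⟩ := Subgroup.mem_inf.1 hx
    obtain ⟨k, hk, c, hc, hkc⟩ := b.isComplIn_Z.2.2.2 x hxZ
    have hcA : c ∈ sigmaCore N := (Subgroup.mem_inf.1 hc).1
    have hkA : k ∈ sigmaCore N := by
      have : k = x * c⁻¹ := by rw [hkc]; group
      rw [this]
      exact Subgroup.mul_mem _ hxA (Subgroup.inv_mem _ hcA)
    have hk1 : k ∈ K ⊓ sigmaCore N := Subgroup.mem_inf.2 ⟨hk, hkA⟩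
    rw [b.K_inf_sigmaCore, Subgroup.mem_bot] at hk1
    rw [hkc, hk1, one_mul]
    exact hc
  · exact le_inf b.star_le inf_le_left

end IsPreBlock

namespace IsBlock

variable {Z N K : Subgroup G}

theorem star_le_commutator (hG : IsMinSimpleOddOrder G) (b : IsBlock Z N K) :
    sigmaCore N ⊓ Subgroup.centralizer (K : Set G) ≤ ⁅sigmaCore N, sigmaCore N⁆ :=
  (Cfsg.Agent.S1426.result hG N b.coatom K b.compl).1

theorem card_N (b : IsBlock Z N K) :
    Nat.card K * Nat.card ↥(sigmaCore N) = Nat.card N :=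
  Cfsg.Agent.Lib.H7.isComplIn_card_mul b.compl

theorem card_mul (b : IsBlock Z N K) :
    Nat.card N * Nat.card ↥(sigmaCore N ⊓ Subgroup.centralizer (K : Set G)) =
      Nat.card ↥(sigmaCore N) * Nat.card Z := by
  rw [← b.card_N, ← b.card_Z]; ring


end IsBlock

end Cfsg.Agent.Lib.H20.BGP
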