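import Mathlib
import Cfsg.Agent.Lib.H20.BGP1

/-!
# Blocks (helper20), part 2: orders, Hall parts of `Z`, two blocks
-/

set_option autoImplicit false
set_option linter.style.haveILetI false
set_option linter.unusedSectionVars false
set_option linter.unusedVariables false

open Cfsg
open Cfsg.Agent.Lib.H16.BG
open Cfsg.Agent.Lib.H7.BG7
open Cfsg.Agent.Lib.H7.BG10
open Cfsg.Agent.Lib.H19 (IsPiCard)
open Cfsg.Agent.Lib.H1 (CoprimeAction)

namespace Cfsg.Agent.Lib.H20.BGP

universe u
variable {G : Type u} [Group G] [Finite G]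

local notation:max "cj(" g ", " X ")" => Subgroup.map (MulEquiv.toMonoidHom (MulAut.conj g)) X

theorem commutator_lt_self (X : Subgroup G) [Group.IsSolvable X] (hX : X ≠ ⊥) : ⁅X, X⁆ < X := by
  haveI : Nontrivial X := (Subgroup.nontrivial_iff_ne_bot X).mpr hX
  have h := Group.IsSolvable.commutator_lt_top_of_nontrivial X
  have h2 : (commutator X).map X.subtype = ⁅X, X⁆ := by
    rw [commutator_def, Subgroup.map_commutator, ← MonoidHom.range_eq_map, Subgroup.range_subtype]
  rw [← h2]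
  have h3 : (commutator X).map X.subtype < (⊤ : Subgroup X).map X.subtype :=
    (Subgroup.map_lt_map_iff_of_injective X.subtype_injective).mpr h
  rwa [← MonoidHom.range_eq_map, Subgroup.range_subtype] at h3

namespace IsPreBlock

variable {Z N K : Subgroup G}

theorem sigmaCore_ne (hG : IsMinSimpleOddOrder G) (b : IsPreBlock Z N K) : sigmaCore N ≠ ⊥ :=
  _root_.ne_bot_of_le_ne_bot (b.star_ne hG) inf_le_left

/-- in `x = k c` (with `k ∈ K`, `c ∈ K*`), both `k` and `c` are powers of `x`. -/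
theorem part_mem_zpowers (b : IsPreBlock Z N K) {k c : G} (hk : k ∈ K)
    (hc : c ∈ sigmaCore N ⊓ Subgroup.centralizer (K : Set G)) :
    c ∈ Subgroup.zpowers (k * c) ∧ k ∈ Subgroup.zpowers (k * c) := by
  have hcomm : Commute k c :=
    ((Subgroup.mem_centralizer_iff.1 (Subgroup.mem_inf.1 hc).2) k hk)
  set m := Nat.card K with hm
  have hkm : k ^ m = 1 := by
    have := pow_card_eq_one' (G := K) (x := ⟨k, hk⟩)
    exact congrArg Subtype.val this
  have hxm : (k * c) ^ m = c ^ m := by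
    rw [hcomm.mul_pow, hkm, one_mul]
  have hoc : orderOf c ∣ Nat.card ↥(sigmaCore N) := by
    have h1 : orderOf (⟨c, (Subgroup.mem_inf.1 hc).1⟩ : sigmaCore N) ∣ Nat.card ↥(sigmaCore N) :=
      orderOf_dvd_natCard _
    rwa [← Subgroup.orderOf_coe] at h1
  have hcop : (orderOf c).Coprime m :=
    Nat.Coprime.coprime_dvd_left hoc b.coprime_K.symm
  have hgen : Subgroup.zpowers (c ^ m) = Subgroup.zpowers c := by
    have h2 : Subgroup.zpowers (c ^ m) ≤ Subgroup.zpowers c := by
      rw [Subgroup.zpowers_le]; exact Subgroup.pow_mem _ (Subgroup.mem_zpowers c) m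
    have h1 : Nat.card (Subgroup.zpowers (c ^ m)) = Nat.card (Subgroup.zpowers c) := by
      rw [Nat.card_zpowers, Nat.card_zpowers, hcop.orderOf_pow]
    exact Subgroup.eq_of_le_of_card_ge h2 h1.ge
  have hcz : c ∈ Subgroup.zpowers (k * c) := by
    have h1 : c ∈ Subgroup.zpowers (c ^ m) := by rw [hgen]; exact Subgroup.mem_zpowers c
    have h2 : Subgroup.zpowers (c ^ m) ≤ Subgroup.zpowers (k * c) := by
      rw [Subgroup.zpowers_le, ← hxm]
      exact Subgroup.pow_mem _ (Subgroup.mem_zpowers _) m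
    exact h2 h1
  refine ⟨hcz, ?_⟩
  have h3 : (k * c) * c⁻¹ ∈ Subgroup.zpowers (k * c) :=
    Subgroup.mul_mem _ (Subgroup.mem_zpowers _) (Subgroup.inv_mem _ hcz)
  have : (k * c) * c⁻¹ = k := by group
  rwa [this] at h3

/-- a subgroup of `Z` of order prime to `|N_σ|` lies in `K`. -/
theorem le_K_of_coprime (b : IsPreBlock Z N K) {X : Subgroup G} (hXZ : X ≤ Z)
    (hX : (Nat.card X).Coprime (Nat.card ↥(sigmaCore N))) : X ≤ K := by
  intro x hx
  obtain ⟨k, hk, c, hc, hkc⟩ := b.isComplIn_Z.2.2.2 x (hXZ hx)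
  have hcX : c ∈ X := by
    have h1 := (b.part_mem_zpowers hk hc).1
    rw [← hkc] at h1
    exact (Subgroup.zpowers_le.2 hx) h1
  have hoc : orderOf c ∣ Nat.card ↥(sigmaCore N) := by
    have h1 : orderOf (⟨c, (Subgroup.mem_inf.1 hc).1⟩ : sigmaCore N) ∣ Nat.card ↥(sigmaCore N) :=
      orderOf_dvd_natCard _
    rwa [← Subgroup.orderOf_coe] at h1
  have hc1 : c = 1 := by
    have h1 : orderOf c ∣ Nat.card X := by
      have h1 : orderOf (⟨c, hcX⟩ : X) ∣ Nat.card X := orderOf_dvd_natCard _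
      rwa [← Subgroup.orderOf_coe] at h1
    have h2 : orderOf c ∣ 1 := by
      rw [← Nat.Coprime.gcd_eq_one hX]
      exact Nat.dvd_gcd h1 hoc
    exact orderOf_eq_one_iff.1 (Nat.dvd_one.1 h2)
  rw [hkc, hc1, mul_one]
  exact hk

end IsPreBlock

namespace IsBlock

variable {Z N K : Subgroup G}

/-- `3 |K*| ≤ |N_σ|`. -/
theorem three_le (hG : IsMinSimpleOddOrder G) (b : IsBlock Z N K) :
    3 * Nat.card ↥(sigmaCore N ⊓ Subgroup.centralizer (K : Set G)) ≤ Nat.card ↥(sigmaCore N) := by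
  haveI : Group.IsSolvable ↥(sigmaCore N) :=
    solvable_of_le_ne_top hG b.coatom.1 (Cfsg.Agent.Lib.H20.BGS.sigmaCore_le N)
  have hlt := commutator_lt_self (sigmaCore N) (b.sigmaCore_ne hG)
  have hle : sigmaCore N ⊓ Subgroup.centralizer (K : Set G) ≤ sigmaCore N := inf_le_left
  have hne : sigmaCore N ⊓ Subgroup.centralizer (K : Set G) ≠ sigmaCore N := by
    intro h
    have := b.star_le_commutator hG
    rw [h] at this
    exact absurd (le_antisymm this hlt.le) hlt.ne'
  have h1 := Cfsg.Agent.Lib.H19.card_mul_relIndex hle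
  have hodd : Odd (Nat.card ↥(sigmaCore N)) := odd_card_subgroup hG _
  have hr1 : (sigmaCore N ⊓ Subgroup.centralizer (K : Set G)).relIndex (sigmaCore N) ≠ 1 := by
    intro h
    apply hne
    apply le_antisymm hle
    exact Subgroup.relIndex_eq_one.1 h
  have hr0 : (sigmaCore N ⊓ Subgroup.centralizer (K : Set G)).relIndex (sigmaCore N) ≠ 0 := by
    intro h
    rw [h, mul_zero] at h1
    exact Nat.card_pos.ne' h1.symm
  have hr2 : (sigmaCore N ⊓ Subgroup.centralizer (K : Set G)).relIndex (sigmaCore N) ≠ 2 := by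
    intro h
    rw [h] at h1
    rw [← h1] at hodd
    exact (Nat.not_even_iff_odd.2 hodd) (Even.mul_left even_two _)
  have hr3 : 3 ≤ (sigmaCore N ⊓ Subgroup.centralizer (K : Set G)).relIndex (sigmaCore N) := by
    omega
  rw [← h1, mul_comm]
  exact Nat.mul_le_mul_left _ hr3

end IsBlock

end Cfsg.Agent.Lib.H20.BGP
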