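import Mathlib
import Cfsg.Agent.Lib.H20.BGP2
import Cfsg.Agent.Lib.H7.BG14v

/-!
# Blocks (helper20), part 3: two blocks of the same `Z`
-/

set_option autoImplicit false
set_option linter.style.haveILetI false
set_option linter.unusedSectionVars false
set_option linter.unusedVariables false

open Cfsg
open Cfsg.Agent.Lib.H16.BG
open Cfsg.Agent.Lib.H7.BG7
open Cfsg.Agent.Lib.H7.BG10
open Cfsg.Agent.Lib.H19 (IsPiCard)
open Cfsg.Agent.Lib.H1 (CoprimeAction)

namespace Cfsg.Agent.Lib.H20.BGP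

universe u
variable {G : Type u} [Group G] [Finite G]

local notation:max "cj(" g ", " X ")" => Subgroup.map (MulEquiv.toMonoidHom (MulAut.conj g)) X

namespace IsBlock

variable {Z N K : Subgroup G}

/-- if `K ≤ H`, some nontrivial `P ≤ K` lies in `H_σ`, and `N_σ ∩ H_σ = 1`, then `N ∩ H ≤ Z`. -/
theorem inf_le_of_prime (hG : IsMinSimpleOddOrder G) (b : IsBlock Z N K) {H P : Subgroup G}
    (hKH : K ≤ H) (hPK : P ≤ K) (hP1 : P ≠ ⊥) (hPH : P ≤ sigmaCore H)
    (hcop : sigmaCore N ⊓ sigmaCore H = ⊥) : N ⊓ H ≤ Z := by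
  intro x hx
  obtain ⟨hxN, hxH⟩ := Subgroup.mem_inf.1 hx
  obtain ⟨k, hk, a, ha, hka⟩ := b.compl.2.2.2 x hxN
  have haH : a ∈ H := by
    have : a = k⁻¹ * x := by rw [hka]; group
    rw [this]
    exact H.mul_mem (H.inv_mem (hKH hk)) hxH
  obtain ⟨p, hpP, hp1⟩ := (Subgroup.bot_or_exists_ne_one P).resolve_left hP1
  have hpK : p ∈ K := hPK hpP
  -- the commutator `[a, p]` lies in `N_σ ∩ H_σ`
  have h1 : a * p * a⁻¹ * p⁻¹ ∈ sigmaCore N := by
    have hpn : p ∈ Subgroup.normalizer ((sigmaCore N : Subgroup G) : Set G) :=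
      Cfsg.Agent.Lib.H20.BGS.le_normalizer_sigmaCore N (b.K_le_N hpK)
    have h2 : p * a⁻¹ * p⁻¹ ∈ sigmaCore N :=
      (Subgroup.mem_normalizer_iff.1 hpn _).1 (Subgroup.inv_mem _ ha)
    have : a * p * a⁻¹ * p⁻¹ = a * (p * a⁻¹ * p⁻¹) := by group
    rw [this]
    exact Subgroup.mul_mem _ ha h2
  have h2 : a * p * a⁻¹ * p⁻¹ ∈ sigmaCore H := by
    have han : a ∈ Subgroup.normalizer ((sigmaCore H : Subgroup G) : Set G) :=
      Cfsg.Agent.Lib.H20.BGS.le_normalizer_sigmaCore H haH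
    have h3 : a * p * a⁻¹ ∈ sigmaCore H :=
      (Subgroup.mem_normalizer_iff.1 han _).1 (hPH hpP)
    exact Subgroup.mul_mem _ h3 (Subgroup.inv_mem _ (hPH hpP))
  have h3 : a * p * a⁻¹ * p⁻¹ ∈ sigmaCore N ⊓ sigmaCore H := Subgroup.mem_inf.2 ⟨h1, h2⟩
  rw [hcop, Subgroup.mem_bot] at h3
  have hcomm : p * a = a * p := by
    have : a * p = (a * p * a⁻¹ * p⁻¹) * (p * a) := by group
    rw [this, h3, one_mul]
  have hac : a ∈ sigmaCore N ⊓ Subgroup.centralizer ({p} : Set G) := by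
    refine Subgroup.mem_inf.2 ⟨ha, ?_⟩
    rw [Subgroup.mem_centralizer_iff]
    intro z hz
    rw [Set.mem_singleton_iff] at hz
    rw [hz]; exact hcomm
  rw [b.prime_action hG hpK hp1] at hac
  rw [hka, ← b.eq]
  exact Subgroup.mul_mem _ (Subgroup.mem_sup_left hk) (Subgroup.mem_sup_right hac)

variable {N' K' : Subgroup G}

/-- distinct blocks of `Z` have kernels of coprime orders. -/
theorem coprime_sigmaCore (hG : IsMinSimpleOddOrder G) (b : IsBlock Z N K) (b' : IsBlock Z N' K')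
    (hne : N ≠ N') : (Nat.card ↥(sigmaCore N)).Coprime (Nat.card ↥(sigmaCore N')) := by
  apply Nat.coprime_of_dvd
  intro q hq h1 h2
  have hqN : q ∈ sigma N := Cfsg.Agent.Lib.H20.BGS.sigmaCore_isPiCard N q hq h1
  have hqN' : q ∈ sigma N' := Cfsg.Agent.Lib.H20.BGS.sigmaCore_isPiCard N' q hq h2
  obtain ⟨g, hg⟩ := Cfsg.Agent.Lib.H7.BG14v.sigma_partition' hG b.coatom b'.coatom hqN hqN'
  -- `K'* ≤ N_σ`
  have hW' : sigmaCore N' ⊓ Subgroup.centralizer (K' : Set G) ≤ sigmaCore N := by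
    apply b.le_sigmaCore hG (b'.star_le.trans b.Z_le)
    intro p hp hd
    have hpN' : p ∈ sigma N' :=
      Cfsg.Agent.Lib.H20.BGS.sigmaCore_isPiCard N' p hp
        (hd.trans (Subgroup.card_dvd_of_le inf_le_left))
    rw [hg] at hpN'
    exact Cfsg.Agent.Lib.H7.BG14v.mem_sigma_of_mem_sigma_map_conj hG hpN'
  have hW'' : sigmaCore N' ⊓ Subgroup.centralizer (K' : Set G) ≤
      sigmaCore N ⊓ Subgroup.centralizer (K : Set G) := by
    rw [← b.Z_inf_sigmaCore]
    exact le_inf b'.star_le hW'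
  by_cases hgN : g ∈ N
  · apply hne
    rw [hg, map_conj_eq_self_of_mem hgN]
  · have h3 := b.ti_star hG hgN
    apply b'.star_ne hG
    rw [eq_bot_iff, ← h3, ← hg]
    exact le_inf hW'' (inf_le_left.trans (Cfsg.Agent.Lib.H20.BGS.sigmaCore_le N'))

theorem inf_sigmaCore_eq_bot (hG : IsMinSimpleOddOrder G) (b : IsBlock Z N K)
    (b' : IsBlock Z N' K') (hne : N ≠ N') : sigmaCore N ⊓ sigmaCore N' = ⊥ :=
  (Subgroup.disjoint_of_coprime_natCard (b.coprime_sigmaCore hG b' hne)).eq_bot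

/-- `K'* ≤ K` for distinct blocks. -/
theorem star_le_K (hG : IsMinSimpleOddOrder G) (b : IsBlock Z N K) (b' : IsBlock Z N' K')
    (hne : N ≠ N') : sigmaCore N' ⊓ Subgroup.centralizer (K' : Set G) ≤ K := by
  apply b.le_K_of_coprime b'.star_le
  exact Nat.Coprime.coprime_dvd_left (Subgroup.card_dvd_of_le inf_le_left)
    (b.coprime_sigmaCore hG b' hne).symm

/-- distinct blocks of `Z` meet in `Z`. -/
theorem inf_eq (hG : IsMinSimpleOddOrder G) (b : IsBlock Z N K) (b' : IsBlock Z N' K')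
    (hne : N ≠ N') : N ⊓ N' = Z := by
  apply le_antisymm
  · exact b.inf_le_of_prime hG (b.K_le.trans b'.Z_le) (b.star_le_K hG b' hne) (b'.star_ne hG)
      inf_le_left (b.inf_sigmaCore_eq_bot hG b' hne)
  · exact le_inf b.Z_le b'.Z_le

end IsBlock

end Cfsg.Agent.Lib.H20.BGP
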