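import Mathlib
import Cfsg.Agent.Lib.H20.BGP3

/-!
# Blocks (helper20), part 4: `M` itself is a block; abelian groups with cyclic Sylow subgroups
-/

set_option autoImplicit false
set_option linter.style.haveILetI false
set_option linter.unusedSectionVars false
set_option linter.unusedVariables false

open Cfsg
open Cfsg.Agent.Lib.H16.BG
open Cfsg.Agent.Lib.H7.BG7
open Cfsg.Agent.Lib.H7.BG10
open Cfsg.Agent.Lib.H19 (IsPiCard)
open Cfsg.Agent.Lib.H1 (CoprimeAction)
open Cfsg.Agent.Lib.H20.BGN (Nonreg)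

namespace Cfsg.Agent.Lib.H20.BGP

universe u
variable {G : Type u} [Group G] [Finite G]

local notation:max "cj(" g ", " X ")" => Subgroup.map (MulEquiv.toMonoidHom (MulAut.conj g)) X

/-- an abelian subgroup all of whose Sylow subgroups are cyclic is cyclic. -/
theorem isCyclic_of_comm_of_sylow_cyclic (E : Subgroup G)
    (hab : ∀ x ∈ E, ∀ y ∈ E, x * y = y * x)
    (hsyl : ∀ (p : ℕ) [Fact p.Prime] (T : Subgroup G), SylIn p T E → IsCyclic ↥T) :
    IsCyclic ↥E := by
  letI : CommGroup E :=
    { (inferInstance : Group E) with mul_comm := fun a b => Subtype.ext (hab a a.2 b b.2) }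
  rw [IsCyclic.iff_exponent_eq_card]
  apply Nat.dvd_antisymm Group.exponent_dvd_nat_card
  have hexp0 : Monoid.exponent E ≠ 0 := Monoid.exponent_ne_zero_of_finite
  rw [← Nat.factorization_le_iff_dvd Nat.card_pos.ne' hexp0]
  intro p
  by_cases hp : p.Prime
  · haveI := Fact.mk hp
    obtain ⟨T, hT⟩ := SylIn.exists_sylIn p E
    haveI := hsyl p T hT
    obtain ⟨t, ht⟩ := IsCyclic.exists_generator (α := T)
    have hot : orderOf t = Nat.card T := orderOf_eq_card_of_forall_mem_zpowers ht
    obtain ⟨k, hk⟩ := IsPGroup.iff_card.1 hT.2.1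
    have h1 := Cfsg.Agent.Lib.H19.card_mul_relIndex hT.1
    have hfac : (Nat.card E).factorization p = k := by
      rw [← h1, hk]
      have hr0 : T.relIndex E ≠ 0 := by
        intro h; rw [h, mul_zero] at h1; exact Nat.card_pos.ne' h1.symm
      rw [Nat.factorization_mul (pow_ne_zero _ hp.ne_zero) hr0, Finsupp.add_apply,
        Nat.Prime.factorization_pow hp, Finsupp.single_eq_same,
        Nat.factorization_eq_zero_of_not_dvd hT.2.2, add_zero]
    rw [hfac]
    apply (hp.pow_dvd_iff_le_factorization hexp0).1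
    rw [← hk, ← hot]
    have h2 : orderOf (⟨(t : G), hT.1 t.2⟩ : E) ∣ Monoid.exponent E := Monoid.order_dvd_exponent _
    have h3 : orderOf (⟨(t : G), hT.1 t.2⟩ : E) = orderOf t := by
      rw [← Subgroup.orderOf_coe, ← Subgroup.orderOf_coe t]
    rwa [h3] at h2
  · rw [Nat.factorization_eq_zero_of_not_prime _ hp]
    exact Nat.zero_le _

/-- `M` is a block of `Z = E × C_{M_σ}(E)`. -/
theorem isBlock_of_nonreg {M E : Subgroup G} (n : Nonreg M E) (hM : IsCoatom M)
    (hK : IsPiHallOf (kappa M) E M) (hE1 : E ≠ ⊥) :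
    IsBlock (E ⊔ (sigmaCore M ⊓ Subgroup.centralizer (E : Set G))) M E :=
  { coatom := hM, hall := hK, ne := hE1, eq := rfl, compl := n.compl }

end Cfsg.Agent.Lib.H20.BGP
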