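import Mathlib
import Cfsg.Agent.Lib.H20.BGP4

/-!
# Blocks (helper20), part 5: the maximal subgroups over `N_G(P)`, `P ≤ E` of prime order
-/

set_option autoImplicit false
set_option linter.style.haveILetI false
set_option linter.unusedSectionVars false
set_option linter.unusedVariables false

open Cfsg
open Cfsg.Agent.Lib.H16.BG
open Cfsg.Agent.Lib.H7.BG7
open Cfsg.Agent.Lib.H7.BG10
open Cfsg.Agent.Lib.H19 (IsPiCard)
open Cfsg.Agent.Lib.H1 (CoprimeAction)
open Cfsg.Agent.Lib.H20.BGN (Nonreg)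

namespace Cfsg.Agent.Lib.H20.BGP

universe u
variable {G : Type u} [Group G] [Finite G]

local notation:max "cj(" g ", " X ")" => Subgroup.map (MulEquiv.toMonoidHom (MulAut.conj g)) X

/-- the standing data: `M` nonregular with Hall `κ(M)`-subgroup `E`, `P ≤ E` of prime order and
`H` a maximal subgroup over `N_G(P)`. -/
structure Over (M E P H : Subgroup G) : Prop where
  hM : IsCoatom M
  n : Nonreg M E
  hK : IsPiHallOf (kappa M) E M
  hE1 : E ≠ ⊥
  hPE : P ≤ E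
  hPc : (Nat.card P).Prime
  hH : IsCoatom H
  hNP : Subgroup.normalizer (P : Set G) ≤ H

namespace Over

variable {M E P H : Subgroup G}

theorem bM (o : Over M E P H) :
    IsBlock (E ⊔ (sigmaCore M ⊓ Subgroup.centralizer (E : Set G))) M E :=
  isBlock_of_nonreg o.n o.hM o.hK o.hE1

theorem P_ne (o : Over M E P H) : P ≠ ⊥ := by
  intro h
  have := o.hPc
  rw [h, Subgroup.card_bot] at this
  exact Nat.not_prime_one this

theorem P_le_sigmaCore (hG : IsMinSimpleOddOrder G) (o : Over M E P H) : P ≤ sigmaCore H :=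
  ((Cfsg.Agent.S1430.result hG M o.hM E o.hK o.hE1).2.2 P o.hPE o.hPc).2.2 H o.hH o.hNP

theorem mem_sigma_H (hG : IsMinSimpleOddOrder G) (o : Over M E P H) : Nat.card P ∈ sigma H :=
  Cfsg.Agent.Lib.H20.BGS.sigmaCore_isPiCard H _ o.hPc
    (Subgroup.card_dvd_of_le (o.P_le_sigmaCore hG))

theorem not_mem_sigma_M (o : Over M E P H) : Nat.card P ∉ sigma M :=
  (o.n.mem_kappa _ o.hPc (Subgroup.card_dvd_of_le o.hPE)).2.2.1

theorem not_conj (hG : IsMinSimpleOddOrder G) (o : Over M E P H) (g : G) : H ≠ cj(g, M) := by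
  intro h
  have h1 := o.mem_sigma_H hG
  rw [h] at h1
  exact o.not_mem_sigma_M (Cfsg.Agent.Lib.H7.BG14v.mem_sigma_of_mem_sigma_map_conj hG h1)

theorem H_ne (hG : IsMinSimpleOddOrder G) (o : Over M E P H) : H ≠ M := by
  have := o.not_conj hG 1
  rwa [Cfsg.Agent.Lib.H10.map_conj_one] at this

theorem sigma_disjoint (hG : IsMinSimpleOddOrder G) (o : Over M E P H) {q : ℕ}
    (hqM : q ∈ sigma M) : q ∉ sigma H := by
  intro hqH
  obtain ⟨g, hg⟩ := Cfsg.Agent.Lib.H7.BG14v.sigma_partition' hG o.hM o.hH hqM hqH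
  exact o.not_conj hG g hg

theorem coprime_sigmaCore (hG : IsMinSimpleOddOrder G) (o : Over M E P H) :
    (Nat.card ↥(sigmaCore M)).Coprime (Nat.card ↥(sigmaCore H)) := by
  apply Nat.coprime_of_dvd
  intro q hq h1 h2
  exact o.sigma_disjoint hG (Cfsg.Agent.Lib.H20.BGS.sigmaCore_isPiCard M q hq h1)
    (Cfsg.Agent.Lib.H20.BGS.sigmaCore_isPiCard H q hq h2)

theorem inf_sigmaCore (hG : IsMinSimpleOddOrder G) (o : Over M E P H) :
    sigmaCore M ⊓ sigmaCore H = ⊥ :=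
  (Subgroup.disjoint_of_coprime_natCard (o.coprime_sigmaCore hG)).eq_bot

theorem E_le (o : Over M E P H) : E ≤ H := (o.n.prime_normal P o.hPE o.hPc).trans o.hNP

theorem Y_le (o : Over M E P H) : sigmaCore M ⊓ Subgroup.centralizer (E : Set G) ≤ H :=
  (inf_le_right.trans (Subgroup.centralizer_le o.hPE)).trans
    ((Subgroup.centralizer_le_normalizer _).trans o.hNP)

theorem Z_le (o : Over M E P H) :
    E ⊔ (sigmaCore M ⊓ Subgroup.centralizer (E : Set G)) ≤ H := sup_le o.E_le o.Y_le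

/-- `M ∩ H = Z`. -/
theorem inf_eq (hG : IsMinSimpleOddOrder G) (o : Over M E P H) :
    M ⊓ H = E ⊔ (sigmaCore M ⊓ Subgroup.centralizer (E : Set G)) :=
  le_antisymm (o.bM.inf_le_of_prime hG o.E_le o.hPE o.P_ne (o.P_le_sigmaCore hG)
    (o.inf_sigmaCore hG)) (le_inf o.bM.Z_le o.Z_le)

/-- a subgroup `Y₀` of prime order of `C_{M_σ}(E)`: its order lies in `κ(H)`. -/
theorem mem_kappa_H (hG : IsMinSimpleOddOrder G) (o : Over M E P H) {Y₀ : Subgroup G}
    (hY₀ : Y₀ ≤ sigmaCore M ⊓ Subgroup.centralizer (E : Set G)) (hY₀c : (Nat.card Y₀).Prime) :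
    Nat.card Y₀ ∈ kappa H := by
  set q := Nat.card Y₀ with hq
  haveI hqF : Fact q.Prime := ⟨hY₀c⟩
  have hU := Cfsg.Agent.Lib.H20.BGT.uniq3 hG
  have hσH := (Cfsg.Agent.Lib.H20.BGS.sigma_core_hall hG hU o.hH).1
  have hY₀σ : Y₀ ≤ sigmaCore M := hY₀.trans inf_le_left
  have hqσM : q ∈ sigma M :=
    Cfsg.Agent.Lib.H20.BGS.sigmaCore_isPiCard M q hY₀c (Subgroup.card_dvd_of_le hY₀σ)
  have hqσH : q ∉ sigma H := o.sigma_disjoint hG hqσM
  have hY₀H : Y₀ ≤ H := hY₀.trans o.Y_le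
  have hY₀1 : Y₀ ≠ ⊥ := by
    intro h
    rw [hq, h, Subgroup.card_bot] at hY₀c
    exact Nat.not_prime_one hY₀c
  have hcent : sigmaCore H ⊓ Subgroup.centralizer (Y₀ : Set G) ≠ ⊥ := by
    apply _root_.ne_bot_of_le_ne_bot o.P_ne
    apply le_inf (o.P_le_sigmaCore hG)
    apply le_centralizer_comm
    exact (hY₀.trans inf_le_right).trans (Subgroup.centralizer_le o.hPE)
  have hrank : PRankLE q 1 ↥H := by
    by_contra hr
    have hr2 : PRankLE q 2 ↥H := by
      by_contra h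
      exact hqσH (alpha_subset_sigma hG hU o.hH ⟨hY₀c, h⟩)
    have hq2 : q ∈ tau2 H := ⟨hY₀c, hqσH, hr2, hr⟩
    obtain ⟨E', hE', hY₀E'⟩ := Cfsg.Agent.Lib.H19.BG13.exists_compl_ge hG o.hH hY₀H (by
      intro s hs hd
      have : s = q := (Nat.prime_dvd_prime_iff_eq hs hY₀c).1 hd
      rw [this]; exact hqσH)
    obtain ⟨T', hT'⟩ := SylIn.exists_sylIn q E'
    have hT'H : SylIn q T' H := Cfsg.Agent.Lib.H8.BG12.sylIn_of_compl hσH hE' hqσH hT'
    have hT'c : ¬ IsCyclic ↥T' := by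
      intro hc
      haveI := hc
      exact hr (pRankLE_of_sylIn hT'H (Cfsg.Agent.Lib.H7.BG13.pRankLE_one_of_isCyclic hY₀c))
    have hT'1 : T' ≠ ⊥ := by
      intro h
      apply hT'c
      rw [h]
      exact isCyclic_of_subsingleton
    have hq2' : q ≠ 2 :=
      prime_ne_two_of_dvd_card hG (dvd_card_of_ne_bot hT'H.isPGroup hT'H.le hT'1)
    obtain ⟨A, hAT, hAe, hAc⟩ :=
      Cfsg.Agent.Lib.H20.BGT.exists_elemAb_sq_of_not_cyclic hq2' hT'.isPGroup hT'c
    have hAE' : A ≤ E' := hAT.trans hT'.le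
    have h18 := Cfsg.Agent.S1418.result hG H o.hH E' hE' q hq2 A ⟨hAE', hAe, hAc⟩
    have hY₀A : Y₀ ≤ A := h18.1.2 Y₀ hY₀E' rfl
    have h3 := h18.2.2 Y₀ hY₀A rfl hcent
    have h4 := o.n.uniq hG o.hM hY₀σ hY₀c
    exact o.H_ne hG (h4.2 H o.hH h3.1)
  exact Cfsg.Agent.Lib.H7.BG13t.mem_kappa_of_centralizer_ne_bot hG o.hH hqσH hrank hY₀H rfl hcent

end Over

end Cfsg.Agent.Lib.H20.BGP
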