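import Mathlib
import Cfsg.Agent.Lib.H20.BGP5

/-!
# Blocks (helper20), part 6: the maximal subgroups over `N_G(P)` are blocks of `Z`
-/

set_option autoImplicit false
set_option linter.style.haveILetI false
set_option linter.unusedSectionVars false
set_option linter.unusedVariables false

open Cfsg
open Cfsg.Agent.Lib.H16.BG
open Cfsg.Agent.Lib.H7.BG7
open Cfsg.Agent.Lib.H7.BG10
open Cfsg.Agent.Lib.H19 (IsPiCard)
open Cfsg.Agent.Lib.H1 (CoprimeAction)
open Cfsg.Agent.Lib.H20.BGN (Nonreg)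

namespace Cfsg.Agent.Lib.H20.BGP

universe u
variable {G : Type u} [Group G] [Finite G]

local notation:max "cj(" g ", " X ")" => Subgroup.map (MulEquiv.toMonoidHom (MulAut.conj g)) X

namespace Over

variable {M E P H : Subgroup G}

/-- `C_{M_σ}(E)` is a `κ(H)`-group. -/
theorem isPiCard_Y (hG : IsMinSimpleOddOrder G) (o : Over M E P H) :
    IsPiCard (kappa H) (Nat.card ↥(sigmaCore M ⊓ Subgroup.centralizer (E : Set G))) := by
  intro q hq hd
  haveI : Fact q.Prime := ⟨hq⟩
  obtain ⟨x, hx⟩ := exists_prime_orderOf_dvd_card'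
    (G := ↥(sigmaCore M ⊓ Subgroup.centralizer (E : Set G))) q hd
  have hc : Nat.card (Subgroup.zpowers (x : G)) = q := by
    rw [Nat.card_zpowers, Subgroup.orderOf_coe, hx]
  have hle : Subgroup.zpowers (x : G) ≤ sigmaCore M ⊓ Subgroup.centralizer (E : Set G) := by
    rw [Subgroup.zpowers_le]; exact x.2
  have := o.mem_kappa_H hG hle (by rw [hc]; exact hq)
  rwa [hc] at this

/-- the pre-block over `N_G(P)`. -/
theorem exists_preBlock (hG : IsMinSimpleOddOrder G) (o : Over M E P H) :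
    ∃ K' : Subgroup G,
      IsPreBlock (E ⊔ (sigmaCore M ⊓ Subgroup.centralizer (E : Set G))) H K' := by
  haveI : Group.IsSolvable ↥H := solvable_of_coatom hG o.hH
  obtain ⟨K', hK', hYK'⟩ := Cfsg.Agent.Lib.H19.exists_isPiHallOf_ge o.Y_le (o.isPiCard_Y hG)
  have hK'1 : K' ≠ ⊥ := _root_.ne_bot_of_le_ne_bot o.n.star_ne hYK'
  refine ⟨K', ⟨o.hH, hK', hK'1, ?_⟩⟩
  obtain ⟨q, hq, Y₀, hY₀Y, hY₀c⟩ := Cfsg.Agent.Lib.H7.BG14u.exists_le_card_prime o.n.star_ne
  have hY₀p : (Nat.card Y₀).Prime := by rw [hY₀c]; exact hq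
  have h30 := (Cfsg.Agent.S1430.result hG H o.hH K' hK' hK'1).2.2 Y₀ (hY₀Y.trans hYK') hY₀p
  have hNM : Subgroup.normalizer (Y₀ : Set G) ≤ M :=
    o.n.normalizer_le hG o.hM (hY₀Y.trans inf_le_left) hY₀p
  apply le_antisymm
  · rw [← h30.1, ← o.inf_eq hG]
    exact le_inf (inf_le_right.trans hNM) inf_le_left
  · apply sup_le
    · rw [← h30.1]
      apply le_inf o.E_le
      refine le_trans ?_ (Subgroup.centralizer_le_normalizer _)
      apply le_centralizer_comm
      exact hY₀Y.trans inf_le_right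
    · exact hYK'.trans le_sup_left

end Over

end Cfsg.Agent.Lib.H20.BGP
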