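import Mathlib
import Cfsg.Agent.Lib.H20.BGP6
import Cfsg.Agent.S1429

/-!
# Blocks (helper20), part 7: the pre-blocks over `N_G(P)` are blocks (`U = 1`)
-/

set_option autoImplicit false
set_option linter.style.haveILetI false
set_option linter.unusedSectionVars false
set_option linter.unusedVariables false

open Cfsg
open Cfsg.Agent.Lib.H16.BG
open Cfsg.Agent.Lib.H7.BG7
open Cfsg.Agent.Lib.H7.BG10
open Cfsg.Agent.Lib.H19 (IsPiCard)
open Cfsg.Agent.Lib.H1 (CoprimeAction)
open Cfsg.Agent.Lib.H20.BGN (Nonreg)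

namespace Cfsg.Agent.Lib.H20.BGP

universe u
variable {G : Type u} [Group G] [Finite G]

local notation:max "cj(" g ", " X ")" => Subgroup.map (MulEquiv.toMonoidHom (MulAut.conj g)) X

namespace Over

variable {M E P H : Subgroup G}

/-- if `K'` is abelian and `H_σ` is nilpotent then `E` is abelian. -/
theorem comm_of_nilpotent (hG : IsMinSimpleOddOrder G) (o : Over M E P H) {K' : Subgroup G}
    (pb : IsPreBlock (E ⊔ (sigmaCore M ⊓ Subgroup.centralizer (E : Set G))) H K')
    (hKc : ∀ a ∈ K', ∀ b ∈ K', a * b = b * a)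
    (hnil : Group.IsNilpotent ↥(sigmaCore H)) : ∀ x ∈ E, ∀ y ∈ E, x * y = y * x := by
  have hU := Cfsg.Agent.Lib.H20.BGT.uniq3 hG
  have hσM := (Cfsg.Agent.Lib.H20.BGS.sigma_core_hall hG hU o.hM).1
  set E₂ : Subgroup G := E ⊓ (sigmaCore H ⊓ Subgroup.centralizer (K' : Set G)) with hE₂
  have hE₂nil : Group.IsNilpotent ↥E₂ :=
    isNilpotent_of_le hnil (inf_le_right.trans inf_le_left)
  have hE₂c : IsMulCommutative ↥E₂ := by
    apply (Cfsg.Agent.S1420.result hG M o.hM E o.n.compl).1 E₂ (inf_le_left.trans o.n.compl.1) hE₂nil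
    intro p hp hd
    exact Cfsg.Agent.Lib.H8.BG12.compl_not_sigma hσM o.n.compl hp
      (hd.trans (Subgroup.card_dvd_of_le inf_le_left))
  have hdec : ∀ x ∈ E, ∃ k ∈ K', ∃ c ∈ E₂, x = k * c := by
    intro x hx
    obtain ⟨k, hk, c, hc, hkc⟩ := pb.isComplIn_Z.2.2.2 x (le_sup_left (a := E) hx)
    refine ⟨k, hk, c, Subgroup.mem_inf.2 ⟨?_, hc⟩, hkc⟩
    have h1 := (pb.part_mem_zpowers hk hc).1
    rw [← hkc] at h1
    exact (Subgroup.zpowers_le.2 hx) h1
  intro x hx y hy
  obtain ⟨k, hk, c, hc, rfl⟩ := hdec x hx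
  obtain ⟨k', hk', c', hc', rfl⟩ := hdec y hy
  have h1 : k * k' = k' * k := hKc k hk k' hk'
  have h2 : c * c' = c' * c := by
    have := hE₂c.is_comm.comm (⟨c, hc⟩ : E₂) ⟨c', hc'⟩
    exact congrArg Subtype.val this
  have h3 : c * k' = k' * c :=
    (Subgroup.mem_centralizer_iff.1 (Subgroup.mem_inf.1 (Subgroup.mem_inf.1 hc).2).2 k' hk').symm
  have h4 : c' * k = k * c' :=
    (Subgroup.mem_centralizer_iff.1 (Subgroup.mem_inf.1 (Subgroup.mem_inf.1 hc').2).2 k hk).symm
  calc k * c * (k' * c') = k * (c * k') * c' := by group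
    _ = k * (k' * c) * c' := by rw [h3]
    _ = (k * k') * (c * c') := by group
    _ = (k' * k) * (c' * c) := by rw [h1, h2]
    _ = k' * (k * c') * c := by group
    _ = k' * (c' * k) * c := by rw [h4]
    _ = k' * c' * (k * c) := by group

/-- the pre-blocks over `N_G(P)` are blocks. -/
theorem isBlock_of_preBlock (hG : IsMinSimpleOddOrder G) (o : Over M E P H)
    (hEc : ¬ IsCyclic ↥E) {K' : Subgroup G}
    (pb : IsPreBlock (E ⊔ (sigmaCore M ⊓ Subgroup.centralizer (E : Set G))) H K') :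
    IsBlock (E ⊔ (sigmaCore M ⊓ Subgroup.centralizer (E : Set G))) H K' := by
  refine { toIsPreBlock := pb, compl := ?_ }
  by_cases hKc : IsCyclic ↥K'
  · have hKab : ∀ a ∈ K', ∀ b ∈ K', a * b = b * a := by
      intro a ha b hb
      haveI := hKc
      have := (IsCyclic.commGroup (α := K')).mul_comm ⟨a, ha⟩ ⟨b, hb⟩
      exact congrArg Subtype.val this
    have hnn : ¬ Group.IsNilpotent ↥(sigmaCore H) := by
      intro hnil
      exact hEc (isCyclic_of_comm_of_sylow_cyclic E (o.comm_of_nilpotent hG pb hKab hnil)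
        (fun p _ T hT => o.n.sylow_cyclic p T hT))
    have hall : ∀ q : ℕ, q.Prime → q ∣ Nat.card H → q ∉ sigma H → q ∈ kappa H := by
      by_contra hcon
      have hcon' := hcon
      push Not at hcon
      obtain ⟨q, hq, hqH, hqσ, hqκ⟩ := hcon
      haveI : Fact q.Prime := ⟨hq⟩
      obtain ⟨S⟩ : Nonempty (Sylow q ↥H) := inferInstance
      exact hnn (Cfsg.Agent.S1429.result hG H o.hH hcon' q hqH
        (by rintro (h | h); exact hqσ h; exact hqκ h) S).2.2
    have hU := Cfsg.Agent.Lib.H20.BGT.uniq3 hG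
    have hσH := (Cfsg.Agent.Lib.H20.BGS.sigma_core_hall hG hU o.hH).1
    obtain ⟨E', hE', hK'E'⟩ := Cfsg.Agent.Lib.H19.BG13.exists_compl_ge hG o.hH pb.hall.1
      (fun q hq hd => pb.K_not_sigma hq hd)
    have hE'K' : E' ≤ K' := by
      have h1 := Subgroup.relIndex_mul_relIndex K' E' H hK'E' hE'.1
      have h2 : K'.relIndex E' = 1 := by
        by_contra hne
        obtain ⟨q, hq, hqd⟩ := Nat.exists_prime_and_dvd hne
        have hqE' : q ∣ Nat.card E' :=
          hqd.trans (Subgroup.relIndex_dvd_card K' E')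
        have hqσ : q ∉ sigma H := Cfsg.Agent.Lib.H8.BG12.compl_not_sigma hσH hE' hq hqE'
        have hqκ : q ∈ kappa H :=
          hall q hq (hqE'.trans (Subgroup.card_dvd_of_le hE'.1)) hqσ
        apply pb.hall.2.2 q hq hqκ
        rw [← h1]
        exact Dvd.dvd.mul_right hqd _
      exact Subgroup.relIndex_eq_one.1 h2
    rw [le_antisymm hK'E' hE'K']
    exact hE'
  · exact (Cfsg.Agent.Lib.H20.BGN.nonreg_of_not_cyclic hG o.hH pb.hall hKc).compl

/-- **the maximal subgroups over `N_G(P)` are blocks of `Z`**. -/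
theorem exists_isBlock (hG : IsMinSimpleOddOrder G) (o : Over M E P H) (hEc : ¬ IsCyclic ↥E) :
    ∃ K' : Subgroup G,
      IsBlock (E ⊔ (sigmaCore M ⊓ Subgroup.centralizer (E : Set G))) H K' := by
  obtain ⟨K', pb⟩ := o.exists_preBlock hG
  exact ⟨K', o.isBlock_of_preBlock hG hEc pb⟩

end Over

end Cfsg.Agent.Lib.H20.BGP
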