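import Mathlib
import Cfsg.Agent.Lib.H20.BGP7
import Cfsg.Agent.Lib.H20.BGO4

/-!
# Blocks (helper20), part 8: conjugation into `K`, control of fusion in `Z`
-/

set_option autoImplicit false
set_option linter.style.haveILetI false
set_option linter.unusedSectionVars false
set_option linter.unusedVariables false

open Cfsg
open Cfsg.Agent.Lib.H16.BG
open Cfsg.Agent.Lib.H7.BG7
open Cfsg.Agent.Lib.H7.BG10
open Cfsg.Agent.Lib.H19 (IsPiCard)
open Cfsg.Agent.Lib.H1 (CoprimeAction)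
open Cfsg.Agent.Lib.H20.BGN (Nonreg)
open Cfsg.Agent.Lib.H20.BGO (Hits Avoid)

namespace Cfsg.Agent.Lib.H20.BGP

universe u
variable {G : Type u} [Group G] [Finite G]

local notation:max "cj(" g ", " X ")" => Subgroup.map (MulEquiv.toMonoidHom (MulAut.conj g)) X

theorem card_zpowers_isPiCard {π : Set ℕ} {x : G} (h : ∀ p : ℕ, p.Prime → p ∣ orderOf x → p ∈ π) :
    IsPiCard π (Nat.card (Subgroup.zpowers x)) := by
  intro p hp hd
  rw [Nat.card_zpowers] at hd
  exact h p hp hd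

theorem orderOf_dvd_card_of_mem {A : Subgroup G} {x : G} (hx : x ∈ A) : orderOf x ∣ Nat.card A := by
  have h1 : orderOf (⟨x, hx⟩ : A) ∣ Nat.card A := orderOf_dvd_natCard _
  rwa [← Subgroup.orderOf_coe] at h1

namespace IsPreBlock

variable {Z N K : Subgroup G}

/-- an element of `N` whose order involves only primes of `σ(N)` lies in `N_σ`. -/
theorem mem_sigmaCore_of_orderOf (hG : IsMinSimpleOddOrder G) (b : IsPreBlock Z N K) {x : G}
    (hx : x ∈ N) (h : ∀ p : ℕ, p.Prime → p ∣ orderOf x → p ∈ sigma N) : x ∈ sigmaCore N :=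
  b.le_sigmaCore hG (Subgroup.zpowers_le.2 hx) (card_zpowers_isPiCard h) (Subgroup.mem_zpowers x)

/-- an element of `Z` whose order involves only primes of `σ(N)` lies in `K*`. -/
theorem mem_star_of_orderOf (hG : IsMinSimpleOddOrder G) (b : IsPreBlock Z N K) {x : G}
    (hx : x ∈ Z) (h : ∀ p : ℕ, p.Prime → p ∣ orderOf x → p ∈ sigma N) :
    x ∈ sigmaCore N ⊓ Subgroup.centralizer (K : Set G) := by
  rw [← b.Z_inf_sigmaCore]
  exact Subgroup.mem_inf.2 ⟨hx, b.mem_sigmaCore_of_orderOf hG (b.Z_le hx) h⟩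

/-- **control of fusion**: if `x ∈ Z` hits `|N_σ|` and `g x g⁻¹ ∈ Z` then `g ∈ N`. -/
theorem mem_of_conj_mem (hG : IsMinSimpleOddOrder G) (b : IsPreBlock Z N K) {x g : G}
    (hx : x ∈ Z) (hgx : g * x * g⁻¹ ∈ Z) (hh : Hits (Nat.card ↥(sigmaCore N)) x) : g ∈ N := by
  obtain ⟨q, hq, hqa, hqx⟩ := hh
  have hqσ : q ∈ sigma N := Cfsg.Agent.Lib.H20.BGS.sigmaCore_isPiCard N q hq hqa
  have hx0 : orderOf x ≠ 0 := (isOfFinOrder_of_finite x).orderOf_pos.ne'
  set m := orderOf x / q with hm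
  have hord : orderOf (x ^ m) = q := orderOf_pow_orderOf_div hx0 hqx
  have hprimes : ∀ p : ℕ, p.Prime → p ∣ q → p ∈ sigma N := by
    intro p hp hd
    rw [(Nat.prime_dvd_prime_iff_eq hp hq).1 hd]; exact hqσ
  have h1 : x ^ m ∈ sigmaCore N ⊓ Subgroup.centralizer (K : Set G) :=
    b.mem_star_of_orderOf hG (Z.pow_mem hx m) (by rw [hord]; exact hprimes)
  have hconj : (g * x * g⁻¹) ^ m = g * x ^ m * g⁻¹ := conj_pow
  have hord2 : orderOf (g * x ^ m * g⁻¹) = q := by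
    rw [Cfsg.Agent.Lib.H20.BGO.orderOf_conj', hord]
  have h2 : g * x ^ m * g⁻¹ ∈ sigmaCore N ⊓ Subgroup.centralizer (K : Set G) := by
    apply b.mem_star_of_orderOf hG
    · rw [← hconj]; exact Z.pow_mem hgx m
    · rw [hord2]; exact hprimes
  by_contra hgN
  have hgN' : g⁻¹ ∉ N := fun h => hgN (by simpa using N.inv_mem h)
  have h3 := b.ti_star hG hgN'
  have h4 : x ^ m ∈ (sigmaCore N ⊓ Subgroup.centralizer (K : Set G)) ⊓ cj(g⁻¹, N) := by
    refine Subgroup.mem_inf.2 ⟨h1, ?_⟩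
    rw [Cfsg.Agent.Lib.H10.mem_map_conj, inv_inv]
    exact b.star_le.trans b.Z_le h2
  rw [h3, Subgroup.mem_bot] at h4
  rw [h4, orderOf_one] at hord
  exact hq.one_lt.ne hord

end IsPreBlock

namespace IsBlock

variable {Z N K : Subgroup G}

/-- `K` is a Hall `σ(N)'`-subgroup of `N`. -/
theorem isPiHallOf_compl (hG : IsMinSimpleOddOrder G) (b : IsBlock Z N K) :
    IsPiHallOf (sigma N)ᶜ K N := by
  have hm : IsPiCard (sigma N)ᶜ (Nat.card K) := fun p hp hd => b.K_not_sigma hp hd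
  have hn : IsPiCard (sigma N)ᶜᶜ (Nat.card ↥(sigmaCore N)) := by
    rw [compl_compl]; exact Cfsg.Agent.Lib.H20.BGS.sigmaCore_isPiCard N
  exact (Cfsg.Agent.Lib.H19.isPiHallOf_iff_card b.card_N.symm hm hn).2 ⟨b.K_le_N, rfl⟩

/-- an element of `N` of order prime to `|N_σ|` is conjugate in `N` to an element of `K`. -/
theorem exists_conj_mem_K (hG : IsMinSimpleOddOrder G) (b : IsBlock Z N K) {y : G} (hy : y ∈ N)
    (hcop : (orderOf y).Coprime (Nat.card ↥(sigmaCore N))) : ∃ n ∈ N, n * y * n⁻¹ ∈ K := by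
  haveI : Group.IsSolvable ↥N := solvable_of_coatom hG b.coatom
  have hπ : IsPiCard (sigma N)ᶜ (Nat.card (Subgroup.zpowers y)) := by
    intro p hp hd hpσ
    rw [Nat.card_zpowers] at hd
    have hpa : p ∣ Nat.card ↥(sigmaCore N) := by
      have hσ := b.sigma_hall hG
      by_contra hnd
      -- `p ∈ σ(N)` divides `|N|`, hence `|N_σ|`
      have hpN : p ∣ Nat.card N := hpσ.2.1
      rw [← Cfsg.Agent.Lib.H19.card_mul_relIndex hσ.1] at hpN
      rcases (Nat.Prime.dvd_mul hp).1 hpN with h | h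
      · exact hnd h
      · exact hσ.2.2 p hp hpσ h
    exact hp.one_lt.ne' (Nat.dvd_one.1 (hcop ▸ Nat.dvd_gcd hd hpa))
  obtain ⟨H₁, hH₁, hyH₁⟩ :=
    Cfsg.Agent.Lib.H19.exists_isPiHallOf_ge (Subgroup.zpowers_le.2 hy) hπ
  obtain ⟨n, hn, hconj⟩ := Cfsg.Agent.Lib.H19.isPiHallOf_exists_conj hH₁ (b.isPiHallOf_compl hG)
  refine ⟨n, hn, ?_⟩
  rw [← hconj]
  exact ⟨y, hyH₁ (Subgroup.mem_zpowers y), by simp [MulAut.conj_apply]⟩

end IsBlock

end Cfsg.Agent.Lib.H20.BGP
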