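import Mathlib
import Cfsg.Agent.Lib.H20.BGP8
import Cfsg.Agent.S1374
import Cfsg.Agent.S1425

/-!
# Blocks (helper20), part 9: the complements `R(y)` of BG 14.4 avoid the primes of the blocks
-/

set_option autoImplicit false
set_option linter.style.haveILetI false
set_option linter.unusedSectionVars false
set_option linter.unusedVariables false

open Cfsg
open Cfsg.Agent.Lib.H16.BG
open Cfsg.Agent.Lib.H7.BG7
open Cfsg.Agent.Lib.H7.BG10
open Cfsg.Agent.Lib.H19 (IsPiCard)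
open Cfsg.Agent.Lib.H1 (CoprimeAction)
open Cfsg.Agent.Lib.H20.BGN (Nonreg)
open Cfsg.Agent.Lib.H20.BGO (Hits Avoid)

namespace Cfsg.Agent.Lib.H20.BGP

universe u
variable {G : Type u} [Group G] [Finite G]

local notation:max "cj(" g ", " X ")" => Subgroup.map (MulEquiv.toMonoidHom (MulAut.conj g)) X

theorem zpowers_le_centralizer_of_commute {a b : G} (h : a * b = b * a) :
    Subgroup.zpowers a ≤ Subgroup.centralizer ((Subgroup.zpowers b : Subgroup G) : Set G) := by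
  rw [Subgroup.zpowers_le, Subgroup.mem_centralizer_iff]
  intro z hz
  obtain ⟨k, rfl⟩ := Subgroup.mem_zpowers_iff.1 hz
  have hc : Commute b a := h.symm
  exact (hc.zpow_left k).eq

/-- **the complement `R` has no prime of `σ(N₀)`**. -/
theorem false_of_sigma_prime (hG : IsMinSimpleOddOrder G) {N₀ : Subgroup G} (hN₀ : IsCoatom N₀)
    {y : G} (hy : y ∈ sigmaCore N₀) (hy1 : y ≠ 1) {R : Subgroup G}
    (hRc : R ≤ Subgroup.centralizer ({y} : Set G)) (hRN : N₀ ⊓ R = ⊥)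
    (huniq : ∀ g : G, y ∈ cj(g, N₀) → ∃! r : G, r ∈ R ∧ cj(r, N₀) = cj(g, N₀))
    {r₀ : G} (hr₀ : r₀ ∈ R) {q : ℕ} (hq : q.Prime) (hr₀q : orderOf r₀ = q)
    (hqσ : q ∈ sigma N₀) : False := by
  have hcomm : r₀ * y = y * r₀ := by
    have := Subgroup.mem_centralizer_iff.1 (hRc hr₀) y (Set.mem_singleton y)
    exact this.symm
  set B : Subgroup G := Subgroup.zpowers r₀ ⊔ Subgroup.zpowers y with hB
  have hyB : y ∈ B := Subgroup.mem_sup_right (Subgroup.mem_zpowers y)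
  have hrB : r₀ ∈ B := Subgroup.mem_sup_left (Subgroup.mem_zpowers r₀)
  have hB1 : B ≠ ⊥ := by
    intro h
    rw [h, Subgroup.mem_bot] at hyB
    exact hy1 hyB
  have hnorm : Subgroup.zpowers r₀ ≤
      Subgroup.normalizer ((Subgroup.zpowers y : Subgroup G) : Set G) :=
    (zpowers_le_centralizer_of_commute hcomm).trans (Subgroup.centralizer_le_normalizer _)
  have hcard := Cfsg.Agent.Lib.H19.card_sup_dvd_mul_of_le_normalizer hnorm
  have hBπ : ∀ p : ℕ, p.Prime → p ∣ Nat.card B → p ∈ sigma N₀ := by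
    intro p hp hd
    have hd2 := hd.trans hcard
    rw [Nat.card_zpowers, Nat.card_zpowers, hr₀q] at hd2
    rcases (Nat.Prime.dvd_mul hp).1 hd2 with h | h
    · rw [(Nat.prime_dvd_prime_iff_eq hp hq).1 h]; exact hqσ
    · exact Cfsg.Agent.Lib.H20.BGS.sigmaCore_isPiCard N₀ p hp
        (h.trans (orderOf_dvd_card_of_mem hy))
  obtain ⟨g, hg⟩ := Cfsg.Agent.S1425.result hG N₀ hN₀ B hB1 hBπ
  have hBle : B ≤ cj(g⁻¹, N₀) := by
    intro z hz
    rw [mem_cj_iff, inv_inv]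
    exact Cfsg.Agent.Lib.H20.BGS.sigmaCore_le N₀ (hg (conj_mem_cj hz))
  obtain ⟨r₁, ⟨hr₁R, hr₁c⟩, -⟩ := huniq g⁻¹ (hBle hyB)
  have h1 : r₀ ∈ cj(r₁, N₀) := by rw [hr₁c]; exact hBle hrB
  rw [mem_cj_iff] at h1
  have h2 : r₁⁻¹ * r₀ * r₁ ∈ N₀ ⊓ R :=
    Subgroup.mem_inf.2 ⟨h1, R.mul_mem (R.mul_mem (R.inv_mem hr₁R) hr₀) hr₁R⟩
  rw [hRN, Subgroup.mem_bot] at h2
  have h3 : r₀ = 1 := by
    have : r₀ = r₁ * (r₁⁻¹ * r₀ * r₁) * r₁⁻¹ := by group
    rw [this, h2]; group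
  rw [h3, orderOf_one] at hr₀q
  exact hq.one_lt.ne hr₀q

variable {Z N K N' K' : Subgroup G}

/-- **the complement `R` has no prime of another (nonregular) block**. -/
theorem false_of_other_prime (hG : IsMinSimpleOddOrder G) (b : IsBlock Z N K)
    (b' : IsBlock Z N' K') (n' : Nonreg N' K') (hne : N ≠ N') {t y : G}
    (hy : y ∈ cj(t, sigmaCore N)) (hy1 : y ≠ 1) {R : Subgroup G}
    (hRc : R ≤ Subgroup.centralizer ({y} : Set G)) (hRN : cj(t, N) ⊓ R = ⊥)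
    {r₀ : G} (hr₀ : r₀ ∈ R) {q : ℕ} (hq : q.Prime) (hr₀q : orderOf r₀ = q)
    (hqσ : q ∈ sigma N') : False := by
  have hcomm : r₀ * y = y * r₀ := by
    have := Subgroup.mem_centralizer_iff.1 (hRc hr₀) y (Set.mem_singleton y)
    exact this.symm
  have hr₀1 : r₀ ≠ 1 := by
    intro h
    rw [h, orderOf_one] at hr₀q
    exact hq.one_lt.ne hr₀q
  -- conjugate `r₀` into `N'_σ`
  have hX1 : Subgroup.zpowers r₀ ≠ ⊥ := by
    intro h
    exact hr₀1 (Subgroup.zpowers_eq_bot.1 h)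
  have hXπ : ∀ p : ℕ, p.Prime → p ∣ Nat.card (Subgroup.zpowers r₀) → p ∈ sigma N' := by
    intro p hp hd
    rw [Nat.card_zpowers, hr₀q] at hd
    rw [(Nat.prime_dvd_prime_iff_eq hp hq).1 hd]; exact hqσ
  obtain ⟨h, hh⟩ := Cfsg.Agent.S1425.result hG N' b'.coatom _ hX1 hXπ
  have hr₀' : h * r₀ * h⁻¹ ∈ sigmaCore N' := hh (conj_mem_cj (Subgroup.mem_zpowers r₀))
  have hord' : orderOf (h * r₀ * h⁻¹) = q := by
    rw [Cfsg.Agent.Lib.H20.BGO.orderOf_conj', hr₀q]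
  have hY₀ : Subgroup.zpowers (h * r₀ * h⁻¹) ≤ sigmaCore N' := Subgroup.zpowers_le.2 hr₀'
  have hY₀c : (Nat.card (Subgroup.zpowers (h * r₀ * h⁻¹))).Prime := by
    rw [Nat.card_zpowers, hord']; exact hq
  have hcent := (n'.uniq hG b'.coatom hY₀ hY₀c).1
  have hcomm' : (h * y * h⁻¹) * (h * r₀ * h⁻¹) = (h * r₀ * h⁻¹) * (h * y * h⁻¹) := by
    have e1 : (h * y * h⁻¹) * (h * r₀ * h⁻¹) = h * (y * r₀) * h⁻¹ := by group
    have e2 : (h * r₀ * h⁻¹) * (h * y * h⁻¹) = h * (r₀ * y) * h⁻¹ := by group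
    rw [e1, e2, hcomm]
  have hy'N' : h * y * h⁻¹ ∈ N' :=
    hcent (zpowers_le_centralizer_of_commute hcomm' (Subgroup.mem_zpowers _))
  -- the order of `y`
  have hyo : orderOf y ∣ Nat.card ↥(sigmaCore N) := by
    have := orderOf_dvd_card_of_mem hy
    rwa [card_cj] at this
  have hcop : (orderOf (h * y * h⁻¹)).Coprime (Nat.card ↥(sigmaCore N')) := by
    rw [Cfsg.Agent.Lib.H20.BGO.orderOf_conj']
    exact Nat.Coprime.coprime_dvd_left hyo (b.coprime_sigmaCore hG b' hne)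
  obtain ⟨n, hnN', hnK'⟩ := b'.exists_conj_mem_K hG hy'N' hcop
  set u := n * h with hu
  have hy'' : u * y * u⁻¹ ∈ sigmaCore N ⊓ Subgroup.centralizer (K : Set G) := by
    apply b.mem_star_of_orderOf hG
    · have : u * y * u⁻¹ = n * (h * y * h⁻¹) * n⁻¹ := by rw [hu]; group
      rw [this]
      exact b'.K_le hnK'
    · intro p hp hd
      rw [Cfsg.Agent.Lib.H20.BGO.orderOf_conj'] at hd
      exact Cfsg.Agent.Lib.H20.BGS.sigmaCore_isPiCard N p hp (hd.trans hyo)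
  have hy''1 : u * y * u⁻¹ ≠ 1 := by
    intro h1
    apply hy1
    have : y = u⁻¹ * (u * y * u⁻¹) * u := by group
    rw [this, h1]; group
  have key : ∀ s : G, y ∈ cj(s, N) → u * s ∈ N := by
    intro s hs
    by_contra hns
    have h3 := b.ti_star hG hns
    have h4 : u * y * u⁻¹ ∈ (sigmaCore N ⊓ Subgroup.centralizer (K : Set G)) ⊓ cj(u * s, N) := by
      refine Subgroup.mem_inf.2 ⟨hy'', ?_⟩
      rw [mem_cj_iff] at hs ⊢
      have : (u * s)⁻¹ * (u * y * u⁻¹) * (u * s) = s⁻¹ * y * s := by group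
      rw [this]; exact hs
    rw [h3, Subgroup.mem_bot] at h4
    exact hy''1 h4
  have hyt : y ∈ cj(t, N) := cj_mono t (Cfsg.Agent.Lib.H20.BGS.sigmaCore_le N) hy
  have h5 := key t hyt
  have h6 : u * (r₀ * t) ∈ N := by
    apply key
    rw [mem_cj_iff] at hyt ⊢
    have : (r₀ * t)⁻¹ * y * (r₀ * t) = t⁻¹ * (r₀⁻¹ * (y * r₀)) * t := by group
    rw [this, ← hcomm]
    have : t⁻¹ * (r₀⁻¹ * (r₀ * y)) * t = t⁻¹ * y * t := by group
    rw [this]; exact hyt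
  have h7 : t⁻¹ * r₀ * t ∈ N := by
    have : t⁻¹ * r₀ * t = (u * t)⁻¹ * (u * (r₀ * t)) := by group
    rw [this]
    exact N.mul_mem (N.inv_mem h5) h6
  have h8 : r₀ ∈ cj(t, N) ⊓ R := Subgroup.mem_inf.2 ⟨mem_cj_iff.2 h7, hr₀⟩
  rw [hRN, Subgroup.mem_bot] at h8
  exact hr₀1 h8

end Cfsg.Agent.Lib.H20.BGP
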