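import Mathlib
import Cfsg.Agent.Lib.H20.BGP9

/-!
# Blocks (helper20), part 10: the class counts of a block
-/

set_option autoImplicit false
set_option linter.style.haveILetI false
set_option linter.unusedSectionVars false
set_option linter.unusedVariables false

open Cfsg
open Cfsg.Agent.Lib.H16.BG
open Cfsg.Agent.Lib.H7.BG7
open Cfsg.Agent.Lib.H7.BG10
open Cfsg.Agent.Lib.H19 (IsPiCard)
open Cfsg.Agent.Lib.H1 (CoprimeAction)
open Cfsg.Agent.Lib.H20.BGN (Nonreg)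
open Cfsg.Agent.Lib.H20.BGO (Hits Avoid)

namespace Cfsg.Agent.Lib.H20.BGP

universe u
variable {G : Type u} [Group G] [Finite G]

local notation:max "cj(" g ", " X ")" => Subgroup.map (MulEquiv.toMonoidHom (MulAut.conj g)) X

namespace IsPreBlock

variable {Z N K : Subgroup G}

theorem dvd_card_sigmaCore (hG : IsMinSimpleOddOrder G) (b : IsPreBlock Z N K) {p : ℕ}
    (hpσ : p ∈ sigma N) : p ∣ Nat.card ↥(sigmaCore N) := by
  have hσ := b.sigma_hall hG
  have hpN : p ∣ Nat.card N := hpσ.2.1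
  rw [← Cfsg.Agent.Lib.H19.card_mul_relIndex hσ.1] at hpN
  rcases (Nat.Prime.dvd_mul hpσ.1).1 hpN with h | h
  · exact h
  · exact absurd h (hσ.2.2 p hpσ.1 hpσ)

theorem N_ne_bot (b : IsPreBlock Z N K) : N ≠ ⊥ :=
  _root_.ne_bot_of_le_ne_bot b.ne b.K_le_N

theorem normalizer_eq (hG : IsMinSimpleOddOrder G) (b : IsPreBlock Z N K) :
    Subgroup.normalizer (N : Set G) = N :=
  normalizer_eq_of_coatom hG b.coatom le_rfl b.N_ne_bot Subgroup.le_normalizer

end IsPreBlock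

namespace IsBlock

variable {Z N K : Subgroup G}

/-- the data of BG 14.4 for a conjugate `y` of a non-identity element of `N_σ`. -/
theorem exists_data (hG : IsMinSimpleOddOrder G) (b : IsBlock Z N K) {y : G}
    (hy : ∃ t : G, y ∈ cj(t, sigmaCore N)) (hy1 : y ≠ 1) :
    ∃ (N₀ R : Subgroup G), R ≤ Subgroup.centralizer ({y} : Set G) ∧
      (∀ s : G, y ∈ cj(s, N) → ∃! r : G, r ∈ R ∧ cj(r, N₀) = cj(s, N)) ∧
      (∀ r ∈ R, ∀ q : ℕ, q.Prime → q ∣ orderOf r → q ∉ sigma N ∧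
        ∀ N' K' : Subgroup G, IsBlock Z N' K' → Nonreg N' K' → N ≠ N' → q ∉ sigma N') := by
  obtain ⟨t, ht⟩ := hy
  have hN₀ : IsCoatom cj(t, N) := isCoatom_map_conj b.coatom t
  have hyσ : y ∈ sigmaCore cj(t, N) := by rw [sigmaCore_cj hG b.coatom t]; exact ht
  obtain ⟨-, R, -, hRc, huniq⟩ := Cfsg.Agent.S1374.result hG cj(t, N) hN₀ y hyσ hy1
  have hRy : R ≤ Subgroup.centralizer ({y} : Set G) := hRc.2.1
  have hRN : cj(t, N) ⊓ R = ⊥ := by
    rw [eq_bot_iff, ← hRc.2.2.1]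
    intro x hx
    obtain ⟨h1, h2⟩ := Subgroup.mem_inf.1 hx
    exact Subgroup.mem_inf.2 ⟨Subgroup.mem_inf.2 ⟨h1, hRy h2⟩, h2⟩
  refine ⟨cj(t, N), R, hRy, ?_, ?_⟩
  · intro s hs
    have h1 : cj(s * t⁻¹, cj(t, N)) = cj(s, N) := by
      rw [cj_cj, inv_mul_cancel_right]
    have := huniq (s * t⁻¹) (by rw [h1]; exact hs)
    rwa [h1] at this
  · intro r hr q hq hd
    have hr0 : orderOf r ≠ 0 := (isOfFinOrder_of_finite r).orderOf_pos.ne'
    have hord : orderOf (r ^ (orderOf r / q)) = q := orderOf_pow_orderOf_div hr0 hd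
    have hr₀ : r ^ (orderOf r / q) ∈ R := R.pow_mem hr _
    constructor
    · intro hqσ
      have hqσ' : q ∈ sigma cj(t, N) := by rw [sigma_cj]; exact hqσ
      exact false_of_sigma_prime hG hN₀ hyσ hy1 hRy hRN huniq hr₀ hq hord hqσ'
    · intro N' K' b' n' hne hqσ'
      exact false_of_other_prime hG b b' n' hne ht hy1 hRy hRN hr₀ hq hord hqσ'

end IsBlock

end Cfsg.Agent.Lib.H20.BGP
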