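import Mathlib
import Cfsg.Agent.Lib.H20.BGP10

/-!
# Blocks (helper20), part 11: the class counts of a block (`TI` case and `R`-trick case)
-/

set_option autoImplicit false
set_option linter.style.haveILetI false
set_option linter.unusedSectionVars false
set_option linter.unusedVariables false

open Cfsg
open Cfsg.Agent.Lib.H16.BG
open Cfsg.Agent.Lib.H7.BG7
open Cfsg.Agent.Lib.H7.BG10
open Cfsg.Agent.Lib.H19 (IsPiCard)
open Cfsg.Agent.Lib.H1 (CoprimeAction)
open Cfsg.Agent.Lib.H20.BGN (Nonreg)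
open Cfsg.Agent.Lib.H20.BGO (Hits Avoid)

namespace Cfsg.Agent.Lib.H20.BGP

universe u
variable {G : Type u} [Group G] [Finite G]

local notation:max "cj(" g ", " X ")" => Subgroup.map (MulEquiv.toMonoidHom (MulAut.conj g)) X

open scoped Classical

namespace IsBlock

variable {Z N K : Subgroup G}

/-- **the class count of a `TI` block**. -/
theorem ti_count [Fintype G] (hG : IsMinSimpleOddOrder G) (b : IsBlock Z N K)
    (hti : ∀ g : G, g ∉ N → sigmaCore N ⊓ cj(g, N) = ⊥) (P : G → Prop)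
    (hP : ∀ t x : G, x ∈ sigmaCore N → x ≠ 1 → P (t * x * t⁻¹)) :
    Fintype.card G * (Nat.card ↥(sigmaCore N) - 1) ≤
      Nat.card N * (Finset.univ.filter (fun x : G => P x)).card := by
  have hcs := Cfsg.Agent.Lib.H20.BGO.card_classSupport N (Cfsg.Agent.Lib.H20.BGO.sharp (sigmaCore N))
    (by
      intro ω hω n hn
      rw [Cfsg.Agent.Lib.H20.BGO.mem_sharp] at hω ⊢
      refine ⟨?_, ?_⟩
      · have hnn := Cfsg.Agent.Lib.H20.BGS.le_normalizer_sigmaCore N hn
        exact (Subgroup.mem_normalizer_iff.1 hnn ω).1 hω.1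
      · intro h
        apply hω.2
        have : ω = n⁻¹ * (n * ω * n⁻¹) * n := by group
        rw [this, h]; group)
    (by
      intro ω hω u hu
      rw [Cfsg.Agent.Lib.H20.BGO.mem_sharp] at hω hu
      by_contra huN
      have huN' : u⁻¹ ∉ N := fun h => huN (by simpa using N.inv_mem h)
      have h1 := hti u⁻¹ huN'
      have h2 : ω ∈ sigmaCore N ⊓ cj(u⁻¹, N) := by
        refine Subgroup.mem_inf.2 ⟨hω.1, ?_⟩
        rw [mem_cj_iff, inv_inv]
        exact Cfsg.Agent.Lib.H20.BGS.sigmaCore_le N hu.1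
      rw [h1, Subgroup.mem_bot] at h2
      exact hω.2 h2)
  rw [Cfsg.Agent.Lib.H20.BGO.card_sharp] at hcs
  have hsub : (Finset.univ.filter (fun x : G => ∃ t : G,
      ∃ ω ∈ Cfsg.Agent.Lib.H20.BGO.sharp (sigmaCore N), x = t * ω * t⁻¹)) ⊆
      Finset.univ.filter (fun x : G => P x) := by
    intro x hx
    simp only [Finset.mem_filter, Finset.mem_univ, true_and] at hx ⊢
    obtain ⟨t, ω, hω, rfl⟩ := hx
    rw [Cfsg.Agent.Lib.H20.BGO.mem_sharp] at hω
    exact hP t ω hω.1 hω.2
  have hle := Finset.card_le_card hsub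
  rw [Nat.card_eq_fintype_card (α := ↥(sigmaCore N)), Nat.card_eq_fintype_card (α := ↥N), ← hcs,
    mul_comm]
  exact Nat.mul_le_mul_left _ hle

end IsBlock

end Cfsg.Agent.Lib.H20.BGP
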