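import Mathlib
import Cfsg.Agent.Lib.H20.BGP12
import Cfsg.Agent.Lib.H20.BGO5

/-!
# Blocks (helper20), part 13: the final count: every Hall `κ(M)`-subgroup is cyclic
-/

set_option autoImplicit false
set_option linter.style.haveILetI false
set_option linter.unusedSectionVars false
set_option linter.unusedVariables false

open Cfsg
open Cfsg.Agent.Lib.H16.BG
open Cfsg.Agent.Lib.H7.BG7
open Cfsg.Agent.Lib.H7.BG10
open Cfsg.Agent.Lib.H19 (IsPiCard)
open Cfsg.Agent.Lib.H1 (CoprimeAction)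
open Cfsg.Agent.Lib.H20.BGN (Nonreg)
open Cfsg.Agent.Lib.H20.BGO (Hits Avoid)

namespace Cfsg.Agent.Lib.H20.BGP

universe u
variable {G : Type u} [Group G] [Finite G]

local notation:max "cj(" g ", " X ")" => Subgroup.map (MulEquiv.toMonoidHom (MulAut.conj g)) X

open scoped Classical

namespace IsBlock

variable {Z N K N' K' : Subgroup G}

/-- two distinct blocks of `Z` with cyclic complements: `Z` is abelian. -/
theorem comm_of_cyclic (hG : IsMinSimpleOddOrder G) (b : IsBlock Z N K) (b' : IsBlock Z N' K')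
    (hne : N ≠ N') (hcK : IsCyclic ↥K) (hcK' : IsCyclic ↥K') :
    ∀ x ∈ Z, ∀ y ∈ Z, x * y = y * x := by
  have hab : ∀ {L : Subgroup G}, IsCyclic ↥L → ∀ a ∈ L, ∀ c ∈ L, a * c = c * a := by
    intro L hL a ha c hc
    haveI := hL
    have := (IsCyclic.commGroup (α := L)).mul_comm ⟨a, ha⟩ ⟨c, hc⟩
    exact congrArg Subtype.val this
  have hsK' : sigmaCore N ⊓ Subgroup.centralizer (K : Set G) ≤ K' := b'.star_le_K hG b hne.symm
  intro x hx y hy
  obtain ⟨k, hk, c, hc, rfl⟩ := b.isComplIn_Z.2.2.2 x hx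
  obtain ⟨k', hk', c', hc', rfl⟩ := b.isComplIn_Z.2.2.2 y hy
  have h1 : k * k' = k' * k := hab hcK k hk k' hk'
  have h2 : c * c' = c' * c := hab hcK' c (hsK' hc) c' (hsK' hc')
  have h3 : c * k' = k' * c :=
    (Subgroup.mem_centralizer_iff.1 (Subgroup.mem_inf.1 hc).2 k' hk').symm
  have h4 : c' * k = k * c' :=
    (Subgroup.mem_centralizer_iff.1 (Subgroup.mem_inf.1 hc').2 k hk).symm
  calc k * c * (k' * c') = k * (c * k') * c' := by group
    _ = k * (k' * c) * c' := by rw [h3]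
    _ = (k * k') * (c * c') := by group
    _ = (k' * k) * (c' * c) := by rw [h1, h2]
    _ = k' * (k * c') * c := by group
    _ = k' * (c' * k) * c := by rw [h4]
    _ = k' * c' * (k * c) := by group

end IsBlock

/-- **BG 14.7 (count)**: a Hall `κ(M)`-subgroup of a maximal subgroup is cyclic. -/
theorem false_of_not_cyclic (hG : IsMinSimpleOddOrder G) {M E : Subgroup G} (hM : IsCoatom M)
    (hK : IsPiHallOf (kappa M) E M) (hEc : ¬ IsCyclic ↥E) : False := by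
  have n := Cfsg.Agent.Lib.H20.BGN.nonreg_of_not_cyclic hG hM hK hEc
  have hE1 : E ≠ ⊥ := by
    rintro rfl
    exact hEc isCyclic_of_subsingleton
  set Z : Subgroup G := E ⊔ (sigmaCore M ⊓ Subgroup.centralizer (E : Set G)) with hZ
  have bM : IsBlock Z M E := isBlock_of_nonreg n hM hK hE1
  haveI : Fintype G := Fintype.ofFinite G
  haveI : Fintype (Subgroup G) := Fintype.ofFinite _
  let 𝔅 : Finset (Subgroup G) := Finset.univ.filter (fun N => ∃ K', IsBlock Z N K')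
  have hmem : ∀ N, N ∈ 𝔅 ↔ ∃ K', IsBlock Z N K' := by
    intro N; simp [𝔅]
  have hexK : ∀ N, N ∈ 𝔅 → ∃ K', IsBlock Z N K' := fun N h => (hmem N).1 h
  choose! κ hκ using hexK
  have hMB : M ∈ 𝔅 := (hmem M).2 ⟨E, bM⟩
  -- blocks over the primes of `E`
  have hover : ∀ q : ℕ, q.Prime → q ∣ Nat.card E →
      ∃ H ∈ 𝔅, H ≠ M ∧ q ∣ Nat.card ↥(sigmaCore H) := by
    intro q hq hd
    haveI : Fact q.Prime := ⟨hq⟩
    obtain ⟨x, hx⟩ := exists_prime_orderOf_dvd_card' (G := ↥E) q hd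
    have hPc : Nat.card (Subgroup.zpowers (x : G)) = q := by
      rw [Nat.card_zpowers, Subgroup.orderOf_coe, hx]
    have hPE : Subgroup.zpowers (x : G) ≤ E := by
      rw [Subgroup.zpowers_le]; exact x.2
    have hPp : IsPGroup q (Subgroup.zpowers (x : G)) :=
      IsPGroup.of_card (n := 1) (by rw [hPc, pow_one])
    have hP1 : Subgroup.zpowers (x : G) ≠ ⊥ := by
      intro h
      rw [h, Subgroup.card_bot] at hPc
      exact hq.one_lt.ne hPc
    obtain ⟨H, hH, hNP⟩ := exists_coatom_ge (normalizer_ne_top_of_isPGroup hG hPp hP1)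
    have o : Over M E (Subgroup.zpowers (x : G)) H :=
      ⟨hM, n, hK, hE1, hPE, by rw [hPc]; exact hq, hH, hNP⟩
    obtain ⟨K', bH⟩ := o.exists_isBlock hG hEc
    refine ⟨H, (hmem H).2 ⟨K', bH⟩, o.H_ne hG, ?_⟩
    rw [← hPc]
    exact Subgroup.card_dvd_of_le (o.P_le_sigmaCore hG)
  have hcover : ∀ q : ℕ, q.Prime → q ∣ Nat.card Z → ∃ N ∈ 𝔅, q ∣ Nat.card ↥(sigmaCore N) := by
    intro q hq hd
    rw [← bM.card_Z] at hd
    rcases (Nat.Prime.dvd_mul hq).1 hd with h | h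
    · obtain ⟨H, hH, -, hqH⟩ := hover q hq h
      exact ⟨H, hH, hqH⟩
    · exact ⟨M, hMB, h.trans (Subgroup.card_dvd_of_le inf_le_left)⟩
  have h2 : 2 ≤ 𝔅.card := by
    have hc : Nat.card E ≠ 1 := fun h => hE1 (Subgroup.card_eq_one.1 h)
    obtain ⟨q, hq, hd⟩ := Nat.exists_prime_and_dvd hc
    obtain ⟨H, hH, hne, -⟩ := hover q hq hd
    exact Finset.one_lt_card.2 ⟨H, hH, M, hMB, hne⟩
  -- at most one block has a cyclic complement
  have hcyc : ∀ N ∈ 𝔅, ∀ N' ∈ 𝔅, N ≠ N' → IsCyclic ↥(κ N) → ¬ IsCyclic ↥(κ N') := by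
    intro N hN N' hN' hne hc hc'
    apply hEc
    have hab := (hκ N hN).comm_of_cyclic hG (hκ N' hN') hne hc hc'
    exact isCyclic_of_comm_of_sylow_cyclic E
      (fun x hx y hy => hab x (le_sup_left (a := E) hx) y (le_sup_left (a := E) hy))
      (fun p _ T hT => n.sylow_cyclic p T hT)
  -- the hypotheses of the count
  have hT1 : ∀ x ∈ Z, (∀ N ∈ 𝔅, x ∉ Z ⊓ sigmaCore N) →
      ∃ i ∈ 𝔅, ∃ j ∈ 𝔅, i ≠ j ∧ Hits (Nat.card ↥(sigmaCore i)) x ∧
        Hits (Nat.card ↥(sigmaCore j)) x := by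
    intro x hx hxW
    have hx1 : x ≠ 1 := by
      rintro rfl
      exact hxW M hMB (Subgroup.one_mem _)
    have ho1 : orderOf x ≠ 1 := fun h => hx1 (orderOf_eq_one_iff.1 h)
    obtain ⟨q, hq, hqx⟩ := Nat.exists_prime_and_dvd ho1
    have hoZ : orderOf x ∣ Nat.card Z := orderOf_dvd_card_of_mem hx
    obtain ⟨N₁, hN₁, hqN₁⟩ := hcover q hq (hqx.trans hoZ)
    have hh₁ : Hits (Nat.card ↥(sigmaCore N₁)) x := ⟨q, hq, hqN₁, hqx⟩
    by_contra hcon
    push Not at hcon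
    apply hxW N₁ hN₁
    rw [(hκ N₁ hN₁).Z_inf_sigmaCore]
    apply (hκ N₁ hN₁).mem_star_of_orderOf hG hx
    intro p hp hpx
    obtain ⟨N₂, hN₂, hpN₂⟩ := hcover p hp (hpx.trans hoZ)
    have hh₂ : Hits (Nat.card ↥(sigmaCore N₂)) x := ⟨p, hp, hpN₂, hpx⟩
    have heq : N₁ = N₂ := by
      by_contra hne
      exact hcon N₁ hN₁ N₂ hN₂ hne hh₁ hh₂
    rw [heq]
    exact Cfsg.Agent.Lib.H20.BGS.sigmaCore_isPiCard N₂ p hp hpN₂
  have hT2 : ∀ x ∈ Z, (∀ N ∈ 𝔅, x ∉ Z ⊓ sigmaCore N) → ∀ g : G, g * x * g⁻¹ ∈ Z → g ∈ Z := by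
    intro x hx hxW g hgx
    obtain ⟨i, hi, j, hj, hij, hhi, hhj⟩ := hT1 x hx hxW
    have h1 := (hκ i hi).mem_of_conj_mem hG hx hgx hhi
    have h2 := (hκ j hj).mem_of_conj_mem hG hx hgx hhj
    rw [← (hκ i hi).inf_eq hG (hκ j hj) hij]
    exact Subgroup.mem_inf.2 ⟨h1, h2⟩
  apply Cfsg.Agent.Lib.H20.BGO.false_of_count' 𝔅 Z (fun N => Nat.card ↥(sigmaCore N))
    (fun N => Nat.card ↥N) (fun N => Z ⊓ sigmaCore N)
    (fun N _ => inf_le_left)
    (by
      intro N hN u hu x hx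
      obtain ⟨hxZ, hxA⟩ := Subgroup.mem_inf.1 hx
      refine Subgroup.mem_inf.2 ⟨Z.mul_mem (Z.mul_mem hu hxZ) (Z.inv_mem hu), ?_⟩
      have hun := Cfsg.Agent.Lib.H20.BGS.le_normalizer_sigmaCore N ((hκ N hN).Z_le hu)
      exact (Subgroup.mem_normalizer_iff.1 hun x).1 hxA)
    (by
      intro N hN
      show Nat.card ↥N * Nat.card ↥(Z ⊓ sigmaCore N) = Nat.card ↥(sigmaCore N) * Nat.card ↥Z
      rw [(hκ N hN).Z_inf_sigmaCore]
      exact (hκ N hN).card_mul)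
    (by
      intro N hN
      show 3 * Nat.card ↥(Z ⊓ sigmaCore N) ≤ Nat.card ↥(sigmaCore N)
      rw [(hκ N hN).Z_inf_sigmaCore]
      exact (hκ N hN).three_le hG)
    ?_ hT1 hT2 h2
  -- the class counts
  intro N hN
  beta_reduce
  by_cases hc : IsCyclic ↥(κ N)
  · -- the `R`-trick
    have h1 := (hκ N hN).rtrick_count hG
      (fun q => ∃ j ∈ 𝔅, j ≠ N ∧ q ∣ Nat.card ↥(sigmaCore j))
      (by
        rintro q hq ⟨j, hj, hjN, hqj⟩
        refine ⟨j, κ j, hκ j hj, ?_, hjN.symm, ?_⟩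
        · exact Cfsg.Agent.Lib.H20.BGN.nonreg_of_not_cyclic hG (hκ j hj).coatom (hκ j hj).hall
            (hcyc N hN j hj hjN.symm hc)
        · exact Cfsg.Agent.Lib.H20.BGS.sigmaCore_isPiCard j q hq hqj)
    refine h1.trans (Nat.mul_le_mul_left _ (Finset.card_le_card ?_))
    intro x hx
    simp only [Finset.mem_filter, Finset.mem_univ, true_and] at hx ⊢
    refine ⟨hx.1, ?_⟩
    rintro j hj hjN ⟨p, hp, hpj, hpx⟩
    exact hx.2 p hp ⟨j, hj, hjN, hpj⟩ hpx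
  · -- the `TI` count
    have nN := Cfsg.Agent.Lib.H20.BGN.nonreg_of_not_cyclic hG (hκ N hN).coatom (hκ N hN).hall hc
    have h1 := (hκ N hN).ti_count hG (fun g hg => nN.ti g hg)
      (fun x : G => Hits (Nat.card ↥(sigmaCore N)) x ∧
        ∀ j ∈ 𝔅, j ≠ N → ¬ Hits (Nat.card ↥(sigmaCore j)) x)
      (by
        intro t x hx hx1
        have hxo : orderOf x ∣ Nat.card ↥(sigmaCore N) := orderOf_dvd_card_of_mem hx
        refine ⟨(Cfsg.Agent.Lib.H20.BGO.hits_conj t).2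
          (Cfsg.Agent.Lib.H20.BGO.hits_of_orderOf_dvd hxo hx1), ?_⟩
        intro j hj hjN hh
        rw [Cfsg.Agent.Lib.H20.BGO.hits_conj] at hh
        exact Cfsg.Agent.Lib.H20.BGO.not_hits_of_coprime
          (Nat.Coprime.coprime_dvd_left hxo
            ((hκ N hN).coprime_sigmaCore hG (hκ j hj) hjN.symm)) hh)
    refine h1.trans (Nat.mul_le_mul_left _ (Finset.card_le_card ?_))
    intro x hx
    simp only [Finset.mem_filter, Finset.mem_univ, true_and] at hx ⊢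
    exact hx

end Cfsg.Agent.Lib.H20.BGP
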