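import Mathlib

set_option autoImplicit false

namespace Cfsg.Agent.Lib.H20

/-- a `p`-element normalizing a Sylow `p`-subgroup lies in it -/
theorem mem_sylow_of_mem_normalizer {G : Type*} [Group G] {p : ℕ} [Fact p.Prime]
    (P : Sylow p G) {u : G} {e : ℕ} (hu : orderOf u = p ^ e)
    (hn : u ∈ Subgroup.normalizer ((P : Subgroup G) : Set G)) : u ∈ (P : Subgroup G) := by
  have hz : IsPGroup p (Subgroup.zpowers u) := by
    apply IsPGroup.of_card (n := e)
    rw [Nat.card_zpowers, hu]
  have hle : Subgroup.zpowers u ≤ Subgroup.normalizer ((P : Subgroup G) : Set G) :=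
    Subgroup.zpowers_le_of_mem hn
  have hpg : IsPGroup p (Subgroup.zpowers u ⊔ (P : Subgroup G) : Subgroup G) :=
    hz.to_sup_of_normal_right' P.isPGroup' hle
  have := P.is_maximal' hpg le_sup_right
  have h2 : Subgroup.zpowers u ≤ (P : Subgroup G) := by
    rw [← this]; exact le_sup_left
  exact h2 (Subgroup.mem_zpowers u)

/-- a `p`-subgroup normalized by a Sylow `p`-subgroup `P` lies in `P` -/
theorem le_sylow_of_le_normalizer {G : Type*} [Group G] {p : ℕ} [Fact p.Prime]
    (P : Sylow p G) (Y : Subgroup G) (hY : IsPGroup p Y)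
    (hn : (P : Subgroup G) ≤ Subgroup.normalizer (Y : Set G)) : Y ≤ (P : Subgroup G) := by
  have hpg : IsPGroup p ((P : Subgroup G) ⊔ Y : Subgroup G) :=
    P.isPGroup'.to_sup_of_normal_right' hY hn
  have := P.is_maximal' hpg le_sup_left
  rw [← this]; exact le_sup_right

/-- The closure of a set of pairwise commuting `p`-elements is a `p`-group. -/
theorem isPGroup_closure_of_pairwise_commute {G : Type*} [Group G] (p : ℕ) (T : Set G)
    (hT : ∀ t ∈ T, ∃ k : ℕ, t ^ (p ^ k) = 1) (hcomm : ∀ s ∈ T, ∀ t ∈ T, Commute s t) :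
    IsPGroup p (Subgroup.closure T) := by
  have h1 : T ⊆ Subgroup.centralizer T := by
    intro t ht
    rw [SetLike.mem_coe, Subgroup.mem_centralizer_iff]
    intro s hs
    exact hcomm s hs t ht
  have h2 : Subgroup.closure T ≤ Subgroup.centralizer T := (Subgroup.closure_le _).mpr h1
  have h3 : ∀ a ∈ Subgroup.closure T, ∀ b ∈ Subgroup.closure T, Commute a b := by
    intro a ha b hb
    have hb' : b ∈ Subgroup.centralizer (Subgroup.closure T : Set G) := by
      rw [Subgroup.centralizer_closure]; exact h2 hb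
    exact Subgroup.mem_centralizer_iff.mp hb' a ha
  have key : ∀ a ∈ Subgroup.closure T, ∃ k : ℕ, a ^ (p ^ k) = 1 := by
    intro a ha
    induction ha using Subgroup.closure_induction with
    | mem x hx => exact hT x hx
    | one => exact ⟨0, by simp⟩
    | mul x y hx hy ihx ihy =>
      obtain ⟨j, hj⟩ := ihx
      obtain ⟨k, hk⟩ := ihy
      refine ⟨j + k, ?_⟩
      rw [(h3 x hx y hy).mul_pow, pow_add, pow_mul, hj, one_pow, mul_comm (p ^ j), pow_mul, hk,
        one_pow, one_mul]
    | inv x _ ihx =>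
      obtain ⟨j, hj⟩ := ihx
      exact ⟨j, by rw [inv_pow, hj, inv_one]⟩
  intro a
  obtain ⟨k, hk⟩ := key a.1 a.2
  exact ⟨k, Subtype.ext (by simpa using hk)⟩

end Cfsg.Agent.Lib.H20
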