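import Mathlib

set_option autoImplicit false

namespace Cfsg.Agent.Lib.H20

/-- Orbit-stabilizer for a subgroup `N` acting by conjugation on an element `x` of the
ambient group: `|N| = #{n x n⁻¹ : n ∈ N} * |N ∩ C_G(x)|`. -/
theorem card_eq_ncard_conj_mul_card_inf_centralizer {G : Type*} [Group G] [Finite G]
    (N : Subgroup G) (x : G) :
    Nat.card N = {y : G | ∃ n ∈ N, n * x * n⁻¹ = y}.ncard *
      Nat.card ↥(N ⊓ Subgroup.centralizer ({x} : Set G)) := by
  letI : MulAction N G := MulAction.compHom G ((MulAut.conj : G →* MulAut G).comp N.subtype)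
  have hsmul : ∀ (n : N) (y : G), n • y = n.1 * y * n.1⁻¹ := fun n y => rfl
  have h1 := MulAction.index_stabilizer N x
  have h2 : MulAction.orbit N x = {y | ∃ n ∈ N, n * x * n⁻¹ = y} := by
    ext y; constructor
    · rintro ⟨n, rfl⟩; exact ⟨n.1, n.2, (hsmul n x).symm⟩
    · rintro ⟨n, hn, rfl⟩; exact ⟨⟨n, hn⟩, hsmul _ _⟩
  have h3 : Nat.card (MulAction.stabilizer N x) =
      Nat.card ↥(N ⊓ Subgroup.centralizer ({x} : Set G)) := by
    apply Nat.card_congr
    refine ⟨fun n => ⟨n.1.1, n.1.2, ?_⟩, fun m => ⟨⟨m.1, m.2.1⟩, ?_⟩, fun n => rfl, fun m => rfl⟩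
    · change n.1.1 ∈ Subgroup.centralizer ({x} : Set G)
      rw [Subgroup.mem_centralizer_singleton_iff]
      have := n.2
      rw [MulAction.mem_stabilizer_iff, hsmul] at this
      calc n.1.1 * x = (n.1.1 * x * n.1.1⁻¹) * n.1.1 := by group
        _ = x * n.1.1 := by rw [this]
    · rw [MulAction.mem_stabilizer_iff, hsmul]
      have : m.1 ∈ Subgroup.centralizer ({x} : Set G) := m.2.2
      rw [Subgroup.mem_centralizer_singleton_iff] at this
      calc m.1 * x * m.1⁻¹ = (x * m.1) * m.1⁻¹ := by rw [this]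
        _ = x := by group
  rw [← h2, ← h1, ← h3, mul_comm]
  exact (Subgroup.card_mul_index _).symm

end Cfsg.Agent.Lib.H20
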