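/-
S5630 project (Aschbacher, linear case), tool U5: tensor split.  (helper20)
-/
import Cfsg.Agent.Lib.Lead.AschDefs

set_option autoImplicit false

namespace Cfsg.Agent.Lib.H20.Asch

open Cfsg Cfsg.Geo
open scoped MatrixGroups Matrix Kronecker

variable {K : Type*} [Field K] {d k : ℕ}

/-- The `(i,j)` block of a matrix indexed by `Fin d × Fin k`. -/
def blk (G : Matrix (Fin d × Fin k) (Fin d × Fin k) K) (i j : Fin k) : Matrix (Fin d) (Fin d) K :=
  fun a b => G (a, i) (b, j)

lemma blk_mul_kron_one (G : Matrix (Fin d × Fin k) (Fin d × Fin k) K) (x : Matrix (Fin d) (Fin d) K)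
    (i j : Fin k) : blk (G * (x ⊗ₖ (1 : Matrix (Fin k) (Fin k) K))) i j = blk G i j * x := by
  ext a b
  simp only [blk, Matrix.mul_apply, Matrix.kroneckerMap_apply, Fintype.sum_prod_type]
  refine Finset.sum_congr rfl fun c _ => ?_
  rw [Finset.sum_eq_single j]
  · simp
  · intro l _ hl
    simp [Matrix.one_apply_ne hl]
  · simp

lemma blk_kron_one_mul (G : Matrix (Fin d × Fin k) (Fin d × Fin k) K) (x : Matrix (Fin d) (Fin d) K)
    (i j : Fin k) : blk ((x ⊗ₖ (1 : Matrix (Fin k) (Fin k) K)) * G) i j = x * blk G i j := by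
  ext a b
  simp only [blk, Matrix.mul_apply, Matrix.kroneckerMap_apply, Fintype.sum_prod_type]
  refine Finset.sum_congr rfl fun c _ => ?_
  rw [Finset.sum_eq_single i]
  · simp
  · intro l _ hl
    simp [Matrix.one_apply_ne hl.symm]
  · simp

/-- Schur: a matrix `A` with `A x = x' A` for all `x ∈ S` (`S` irreducible) is zero or invertible. -/
lemma isUnit_of_intertwines (S : Set (Matrix (Fin d) (Fin d) K)) (hS : ActsIrreducibly S)
    (A : Matrix (Fin d) (Fin d) K)
    (h : ∀ x ∈ S, ∃ x' : Matrix (Fin d) (Fin d) K, A * x = x' * A) (hA : A ≠ 0) : IsUnit A := by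
  have hker : ∀ s ∈ S, (LinearMap.ker (Matrix.toLin' A)).map (Matrix.toLin' s) ≤
      LinearMap.ker (Matrix.toLin' A) := by
    intro s hs v hv
    obtain ⟨w, hw, rfl⟩ := hv
    obtain ⟨x', hx'⟩ := h s hs
    have hw' : A *ᵥ w = 0 := by
      have := LinearMap.mem_ker.mp hw
      rwa [Matrix.toLin'_apply] at this
    rw [LinearMap.mem_ker, Matrix.toLin'_apply, Matrix.toLin'_apply, Matrix.mulVec_mulVec, hx',
      ← Matrix.mulVec_mulVec, hw', Matrix.mulVec_zero]
  rcases hS _ hker with h0 | h1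
  · -- injective
    rw [← Matrix.isUnit_toLin'_iff]
    have hinj : Function.Injective (Matrix.toLin' A) := LinearMap.ker_eq_bot.mp h0
    have hbij : Function.Bijective (Matrix.toLin' A) :=
      ⟨hinj, LinearMap.surjective_of_injective hinj⟩
    exact (LinearMap.isUnit_iff_ker_eq_bot _).mpr h0
  · exfalso
    apply hA
    have : Matrix.toLin' A = 0 := LinearMap.ker_eq_top.mp h1
    have h2 : Matrix.toLin' A = Matrix.toLin' (0 : Matrix (Fin d) (Fin d) K) := by
      rw [this]; simp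
    exact Matrix.toLin'.injective h2

/-- **U5** (tensor split). Any field. -/
theorem tensor_split (hd : 0 < d) (hk : 0 < k)
    (S : Set (Matrix (Fin d) (Fin d) K)) (hS : ActsAbsolutelyIrreducibly S)
    (g : GL (Fin d × Fin k) K)
    (h : ∀ x ∈ S, ∃ x' : Matrix (Fin d) (Fin d) K,
      (g : Matrix (Fin d × Fin k) (Fin d × Fin k) K) * (x ⊗ₖ (1 : Matrix (Fin k) (Fin k) K)) =
        (x' ⊗ₖ (1 : Matrix (Fin k) (Fin k) K)) * (g : Matrix (Fin d × Fin k) (Fin d × Fin k) K)) :
    ∃ (a : GL (Fin d) K) (b : GL (Fin k) K),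
      (g : Matrix (Fin d × Fin k) (Fin d × Fin k) K) =
        (a : Matrix (Fin d) (Fin d) K) ⊗ₖ (b : Matrix (Fin k) (Fin k) K) := by
  classical
  set G : Matrix (Fin d × Fin k) (Fin d × Fin k) K := (g : Matrix (Fin d × Fin k) (Fin d × Fin k) K)
    with hG
  -- block relations
  have hblk : ∀ x ∈ S, ∃ x' : Matrix (Fin d) (Fin d) K, ∀ i j, blk G i j * x = x' * blk G i j := by
    intro x hx
    obtain ⟨x', hx'⟩ := h x hx
    refine ⟨x', fun i j => ?_⟩
    rw [← blk_mul_kron_one, ← blk_kron_one_mul, hx']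
  -- G ≠ 0
  have hd' : Nonempty (Fin d) := ⟨⟨0, hd⟩⟩
  have hk' : Nonempty (Fin k) := ⟨⟨0, hk⟩⟩
  have hGne : G ≠ 0 := by
    intro h0
    have h1 : (g : Matrix (Fin d × Fin k) (Fin d × Fin k) K) *
        ((g⁻¹ : GL (Fin d × Fin k) K) : Matrix (Fin d × Fin k) (Fin d × Fin k) K) = 1 := by
      rw [← Units.val_mul, mul_inv_cancel, Units.val_one]
    rw [← hG, h0, zero_mul] at h1
    have := congrFun (congrFun h1 (⟨0, hd⟩, ⟨0, hk⟩)) (⟨0, hd⟩, ⟨0, hk⟩)
    simp at this
  obtain ⟨i₀, j₀, hA⟩ : ∃ i j, blk G i j ≠ 0 := by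
    by_contra hcon
    push Not at hcon
    apply hGne
    ext ⟨a, i⟩ ⟨b, j⟩
    have := congrFun (congrFun (hcon i j) a) b
    simpa [blk] using this
  set A := blk G i₀ j₀ with hAdef
  have hAu : IsUnit A := by
    apply isUnit_of_intertwines S hS.1 A _ hA
    intro x hx
    obtain ⟨x', hx'⟩ := hblk x hx
    exact ⟨x', hx' i₀ j₀⟩
  obtain ⟨Au, hAu'⟩ := hAu
  have hAinv : ((Au⁻¹ : (Matrix (Fin d) (Fin d) K)ˣ) : Matrix (Fin d) (Fin d) K) * A = 1 := by
    rw [← hAu', ← Units.val_mul, inv_mul_cancel, Units.val_one]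
  have hAinv' : A * ((Au⁻¹ : (Matrix (Fin d) (Fin d) K)ˣ) : Matrix (Fin d) (Fin d) K) = 1 := by
    rw [← hAu', ← Units.val_mul, mul_inv_cancel, Units.val_one]
  set Ai : Matrix (Fin d) (Fin d) K := ((Au⁻¹ : (Matrix (Fin d) (Fin d) K)ˣ) :
    Matrix (Fin d) (Fin d) K) with hAi
  -- each block is a scalar multiple of A
  have hscal : ∀ i j, ∃ c : K, blk G i j = c • A := by
    intro i j
    have hcomm : ∀ s ∈ S, (Ai * blk G i j) * s = s * (Ai * blk G i j) := by
      intro s hs
      obtain ⟨x', hx'⟩ := hblk s hs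
      have h1 := hx' i₀ j₀
      have h2 := hx' i j
      -- x' = A s Ai
      have hx'eq : x' = A * s * Ai := by
        calc x' = x' * (A * Ai) := by rw [hAinv', mul_one]
          _ = (x' * A) * Ai := by rw [mul_assoc]
          _ = A * s * Ai := by rw [← h1]
      calc (Ai * blk G i j) * s = Ai * (blk G i j * s) := by rw [mul_assoc]
        _ = Ai * (x' * blk G i j) := by rw [h2]
        _ = Ai * (A * s * Ai * blk G i j) := by rw [hx'eq]
        _ = (Ai * A) * s * (Ai * blk G i j) := by simp only [mul_assoc]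
        _ = s * (Ai * blk G i j) := by rw [hAinv, one_mul]
    obtain ⟨c, hc⟩ := hS.2 _ hcomm
    refine ⟨c, ?_⟩
    calc blk G i j = (A * Ai) * blk G i j := by rw [hAinv', one_mul]
      _ = A * (Ai * blk G i j) := by rw [mul_assoc]
      _ = A * (c • (1 : Matrix (Fin d) (Fin d) K)) := by rw [hc]
      _ = c • A := by rw [Matrix.mul_smul, mul_one]
  choose c hc using hscal
  set C : Matrix (Fin k) (Fin k) K := fun i j => c i j with hC
  have hGAC : G = A ⊗ₖ C := by
    ext ⟨a, i⟩ ⟨b, j⟩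
    have := congrFun (congrFun (hc i j) a) b
    simp only [blk, Matrix.smul_apply, smul_eq_mul] at this
    rw [Matrix.kroneckerMap_apply, this, hC]
    ring
  -- invertibility of C via determinants
  have hdetG : IsUnit G.det := by
    have : IsUnit G := ⟨g, rfl⟩
    exact (Matrix.isUnit_iff_isUnit_det _).mp this
  rw [hGAC, Matrix.det_kronecker] at hdetG
  have hdetC : IsUnit C.det := by
    have h2 : IsUnit (C.det ^ Fintype.card (Fin d)) := (IsUnit.mul_iff.mp hdetG).2
    rw [Fintype.card_fin] at h2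
    exact (isUnit_pow_iff (by omega)).mp h2
  have hCu : IsUnit C := (Matrix.isUnit_iff_isUnit_det _).mpr hdetC
  obtain ⟨Cu, hCu'⟩ := hCu
  exact ⟨Au, Cu, by rw [hAu', hCu']; exact hGAC⟩

end Cfsg.Agent.Lib.H20.Asch
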