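/-
S5630 project (Aschbacher, linear case), module M4, part a: every element of `H` is a Kronecker
product after the change of basis of the homogeneous data.  (helper20)
-/
import Cfsg.Agent.Lib.H20.AschU5

set_option autoImplicit false

namespace Cfsg.Agent.Lib.H20.Asch

open Cfsg Cfsg.Geo Cfsg.Agent.Lib.Lead.Asch
open scoped MatrixGroups Matrix Kronecker

variable {F : Type*} [Field F]

section reindex
variable {ι κ : Type} [Fintype ι] [DecidableEq ι] [Fintype κ] [DecidableEq κ]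

lemma glReindex_apply_apply (e : κ ≃ ι) (g : GL κ F) (i j : ι) :
    ((glReindex e g : GL ι F) : Matrix ι ι F) i j = (g : Matrix κ κ F) (e.symm i) (e.symm j) := rfl

lemma glReindex_symm_glReindex (e : κ ≃ ι) (g : GL κ F) : glReindex e.symm (glReindex e g) = g := by
  ext i j
  simp [glReindex_apply_apply]

lemma glReindex_glReindex_symm (e : κ ≃ ι) (g : GL ι F) : glReindex e (glReindex e.symm g) = g := by
  ext i j
  simp [glReindex_apply_apply]

lemma glReindex_trans {μ : Type} [Fintype μ] [DecidableEq μ] (e : κ ≃ ι) (e' : ι ≃ μ) (g : GL κ F) :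
    glReindex (e.trans e') g = glReindex e' (glReindex e g) := by
  ext i j
  simp [glReindex_apply_apply]

end reindex

variable {n : ℕ}

/-- After the change of basis of the homogeneous data, every element of `H` is a Kronecker product. -/
lemma mem_kronecker_of_homog (H N : Subgroup (GL (Fin n) F)) (hnorm : NormalizedBy H N)
    (D : HomogData N) (habs : ActsAbsolutelyIrreducibly (repSet D.ρ)) (hd : 0 < D.d) (hk : 0 < D.k)
    (h : GL (Fin n) F) (hh : h ∈ H) :
    glReindex D.e (D.P * h * D.P⁻¹) ∈ kroneckerSubgroup D.d D.k F := by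
  have e1 : ∀ z : N, ((glReindex D.e (D.P * (z : GL (Fin n) F) * D.P⁻¹) : GL (Fin D.d × Fin D.k) F) :
        Matrix (Fin D.d × Fin D.k) (Fin D.d × Fin D.k) F) =
      ((D.ρ z : GL (Fin D.d) F) : Matrix (Fin D.d) (Fin D.d) F) ⊗ₖ
        (1 : Matrix (Fin D.k) (Fin D.k) F) := by
    intro z
    ext i j
    rw [glReindex_apply_apply, D.eq z]
    simp
  have key : ∀ x ∈ repSet D.ρ, ∃ x' : Matrix (Fin D.d) (Fin D.d) F,
      ((glReindex D.e (D.P * h * D.P⁻¹) : GL (Fin D.d × Fin D.k) F) :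
        Matrix (Fin D.d × Fin D.k) (Fin D.d × Fin D.k) F) *
        (x ⊗ₖ (1 : Matrix (Fin D.k) (Fin D.k) F)) =
      (x' ⊗ₖ (1 : Matrix (Fin D.k) (Fin D.k) F)) *
        ((glReindex D.e (D.P * h * D.P⁻¹) : GL (Fin D.d × Fin D.k) F) :
        Matrix (Fin D.d × Fin D.k) (Fin D.d × Fin D.k) F) := by
    rintro x ⟨y, rfl⟩
    refine ⟨((D.ρ ⟨h * y * h⁻¹, hnorm h hh y y.2⟩ : GL (Fin D.d) F) :
      Matrix (Fin D.d) (Fin D.d) F), ?_⟩
    show ((glReindex D.e (D.P * h * D.P⁻¹) : GL (Fin D.d × Fin D.k) F) :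
        Matrix (Fin D.d × Fin D.k) (Fin D.d × Fin D.k) F) *
        (((D.ρ y : GL (Fin D.d) F) : Matrix (Fin D.d) (Fin D.d) F) ⊗ₖ
          (1 : Matrix (Fin D.k) (Fin D.k) F)) = _
    rw [← e1 y, ← e1 ⟨h * y * h⁻¹, hnorm h hh y y.2⟩, ← Units.val_mul, ← Units.val_mul, ← map_mul,
      ← map_mul]
    congr 2
    group
  obtain ⟨a, b, hab⟩ := tensor_split hd hk (repSet D.ρ) habs (glReindex D.e (D.P * h * D.P⁻¹)) key
  exact ⟨a, b, hab⟩

/-- A subgroup all of whose elements become Kronecker products lies in the tensor product subgroup. -/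
lemma le_tensorProductSubgroup (H : Subgroup (GL (Fin n) F)) {d k : ℕ} (e : Fin n ≃ Fin d × Fin k)
    (P : GL (Fin n) F)
    (hH : ∀ h ∈ H, glReindex e (P * h * P⁻¹) ∈ kroneckerSubgroup d k F) :
    H ≤ tensorProductSubgroup d k e P⁻¹ := by
  intro h hh
  refine ⟨glReindex e.symm (glReindex e (P * h * P⁻¹)), ⟨_, hH h hh, rfl⟩, ?_⟩
  rw [glReindex_symm_glReindex]
  simp only [MulEquiv.coe_toMonoidHom, MulAut.conj_apply, inv_inv]
  group

/-- Swapping the two factors of a Kronecker product. -/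
lemma prodComm_mem_kronecker {d k : ℕ} (g : GL (Fin d × Fin k) F)
    (hg : g ∈ kroneckerSubgroup d k F) :
    glReindex (Equiv.prodComm (Fin d) (Fin k)) g ∈ kroneckerSubgroup k d F := by
  obtain ⟨a, b, hab⟩ := hg
  refine ⟨b, a, ?_⟩
  ext ⟨i, j⟩ ⟨i', j'⟩
  rw [glReindex_apply_apply, hab]
  simp [Matrix.kroneckerMap_apply, mul_comm]

end Cfsg.Agent.Lib.H20.Asch
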