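/-
S5663 project (Aschbacher, unitary case), module UM4, task UM4-S (helper20): swapping the two
factors of a tensor form structure.  Any field, any twist, any form.
-/
import Cfsg.Agent.Lib.Lead.AschUDefs

set_option autoImplicit false

namespace Cfsg.Agent.Lib.H20.Asch

open Cfsg Cfsg.Geo
open scoped MatrixGroups Matrix Kronecker

variable {n : ℕ}

/-- **UM4-S**. -/
theorem isTensorFormStructure_swap {K : Type*} [Field K] (σ : K → K)
    (f : (Fin n → K) → (Fin n → K) → K) {n₁ n₂ : ℕ}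
    (f₁ : (Fin n₁ → K) → (Fin n₁ → K) → K) (f₂ : (Fin n₂ → K) → (Fin n₂ → K) → K)
    (e : Fin n ≃ Fin n₁ × Fin n₂) (P : GL (Fin n) K)
    (h : IsTensorFormStructure σ f f₁ f₂ e P) :
    IsTensorFormStructure σ f f₂ f₁ (e.trans (Equiv.prodComm (Fin n₁) (Fin n₂))) P := by
  obtain ⟨c, hc, hform⟩ := h
  refine ⟨c, hc, fun x y => ?_⟩
  have hx : (x ∘ (e.trans (Equiv.prodComm (Fin n₁) (Fin n₂)))) =
      (x ∘ (Equiv.prodComm (Fin n₁) (Fin n₂))) ∘ e := rfl
  have hy : (y ∘ (e.trans (Equiv.prodComm (Fin n₁) (Fin n₂)))) =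
      (y ∘ (Equiv.prodComm (Fin n₁) (Fin n₂))) ∘ e := rfl
  rw [hx, hy, hform]
  congr 1
  unfold formOfGram
  rw [← Equiv.sum_comp (Equiv.prodComm (Fin n₁) (Fin n₂))]
  refine Finset.sum_congr rfl fun a _ => ?_
  rw [← Equiv.sum_comp (Equiv.prodComm (Fin n₁) (Fin n₂))]
  refine Finset.sum_congr rfl fun b _ => ?_
  simp only [Function.comp_apply, Matrix.kroneckerMap_apply, Equiv.prodComm_apply, Prod.fst_swap,
    Prod.snd_swap]
  ring

end Cfsg.Agent.Lib.H20.Asch
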