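/-
S5630 project (Aschbacher, linear case), module M4, part b: the determinant form on `F^2 ⊗ F^2`,
transport of quadratic forms along linear equivalences, char 2 polar forms.  (helper20)
-/
import Cfsg.Agent.Lib.H20.AschM4a

set_option autoImplicit false

namespace Cfsg.Agent.Lib.H20.Asch

open Cfsg Cfsg.Geo Cfsg.Agent.Lib.Lead.Asch
open scoped MatrixGroups Matrix Kronecker

variable {F : Type*} [Field F]

/-- The determinant form on `2 × 2` matrices written as vectors indexed by `Fin 2 × Fin 2`. -/
def Q0 (X : Fin 2 × Fin 2 → F) : F := X (0, 0) * X (1, 1) - X (0, 1) * X (1, 0)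

/-- Its polar form. -/
def B0 (X Y : Fin 2 × Fin 2 → F) : F :=
  X (0, 0) * Y (1, 1) + Y (0, 0) * X (1, 1) - X (0, 1) * Y (1, 0) - Y (0, 1) * X (1, 0)

lemma polar_Q0 (X Y : Fin 2 × Fin 2 → F) : QuadraticMap.polar (Q0 (F := F)) X Y = B0 X Y := by
  simp only [QuadraticMap.polar, Q0, B0, Pi.add_apply]
  ring

lemma Q0_nondegenerate : IsNondegenerateQuadraticForm (Q0 (F := F)) := by
  have hpol : QuadraticMap.polar (Q0 (F := F)) = B0 := by
    funext X Y
    exact polar_Q0 X Y
  refine ⟨?_, ?_, ?_⟩
  · intro c v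
    simp only [Q0, Pi.smul_apply, smul_eq_mul]
    ring
  · rw [hpol]
    refine ⟨?_, ?_, ?_, ?_⟩
    · intro x y v
      simp only [B0, Pi.add_apply]; ring
    · intro c x v
      simp only [B0, Pi.smul_apply, smul_eq_mul]; ring
    · intro v x y
      simp only [B0, Pi.add_apply]; ring
    · intro c v x
      simp only [B0, Pi.smul_apply, smul_eq_mul]; ring
  · rw [hpol]
    intro v hv
    obtain ⟨⟨i, j⟩, hij⟩ := Function.ne_iff.mp hv
    have key : ∃ x : Fin 2 × Fin 2 → F, B0 x v ≠ 0 ∧ B0 v x ≠ 0 := by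
      fin_cases i <;> fin_cases j
      · refine ⟨Pi.single (1, 1) 1, ?_, ?_⟩ <;>
          simpa [B0, Pi.single_apply] using hij
      · refine ⟨Pi.single (1, 0) 1, ?_, ?_⟩ <;>
          simpa [B0, Pi.single_apply] using hij
      · refine ⟨Pi.single (0, 1) 1, ?_, ?_⟩ <;>
          simpa [B0, Pi.single_apply] using hij
      · refine ⟨Pi.single (0, 0) 1, ?_, ?_⟩ <;>
          simpa [B0, Pi.single_apply] using hij
    obtain ⟨x, h1, h2⟩ := key
    exact ⟨⟨x, h1⟩, ⟨x, h2⟩⟩

section transport
variable {ι κ : Type} [Fintype ι] [DecidableEq ι] [Fintype κ] [DecidableEq κ]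

lemma polar_comp (Q : (κ → F) → F) (T : (ι → F) ≃ₗ[F] (κ → F)) (v w : ι → F) :
    QuadraticMap.polar (fun v => Q (T v)) v w = QuadraticMap.polar Q (T v) (T w) := by
  simp only [QuadraticMap.polar, map_add]

/-- Transport of a non-degenerate quadratic form along a linear equivalence. -/
lemma quad_comp_equiv (Q : (κ → F) → F) (hQ : IsNondegenerateQuadraticForm Q)
    (T : (ι → F) ≃ₗ[F] (κ → F)) : IsNondegenerateQuadraticForm (fun v => Q (T v)) := by
  have hpol : QuadraticMap.polar (fun v => Q (T v)) = fun v w => QuadraticMap.polar Q (T v) (T w) := by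
    funext v w
    exact polar_comp Q T v w
  refine ⟨?_, ?_, ?_⟩
  · intro c v
    simp only [map_smul]
    exact hQ.smul c (T v)
  · rw [hpol]
    refine ⟨?_, ?_, ?_, ?_⟩
    · intro x y v
      simp only [map_add]
      exact hQ.polar_bilinear.add_left _ _ _
    · intro c x v
      simp only [map_smul]
      exact hQ.polar_bilinear.smul_left _ _ _
    · intro v x y
      simp only [map_add]
      exact hQ.polar_bilinear.add_right _ _ _
    · intro c v x
      simp only [map_smul]
      exact hQ.polar_bilinear.smul_right _ _ _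
  · rw [hpol]
    intro v hv
    have hTv : T v ≠ 0 := by
      intro h0
      exact hv (T.map_eq_zero_iff.mp h0)
    obtain ⟨⟨x, hx⟩, ⟨y, hy⟩⟩ := hQ.nondegenerate (T v) hTv
    exact ⟨⟨T.symm x, by simpa using hx⟩, ⟨T.symm y, by simpa using hy⟩⟩

/-- In characteristic two the polar form of a non-degenerate quadratic form is symplectic. -/
lemma symplectic_polar_of_char_two (h2 : (2 : F) = 0) (Q : (ι → F) → F)
    (hQ : IsNondegenerateQuadraticForm Q) : IsSymplecticForm (QuadraticMap.polar Q) := by
  have hneg : ∀ a : F, -a = a := by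
    intro a
    have : a + a = 0 := by rw [← two_mul, h2, zero_mul]
    exact neg_eq_of_add_eq_zero_left this
  refine ⟨hQ.polar_bilinear, ?_, ?_, hQ.nondegenerate⟩
  · intro v w
    rw [hneg]
    simp only [QuadraticMap.polar]
    rw [add_comm v w]
    ring
  · intro v
    simp only [QuadraticMap.polar]
    have h1 : v + v = (2 : F) • v := by rw [two_smul]
    rw [h1, hQ.smul, h2]
    have : Q v + Q v = 0 := by rw [← two_mul, h2, zero_mul]
    calc (0 : F) ^ 2 * Q v - Q v - Q v = -(Q v + Q v) := by ring
      _ = 0 := by rw [this, neg_zero]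

/-- Similarities of a quadratic form are similarities of its polar form. -/
lemma quadSimilarityGroup_le_similarityGroup_polar (Q : (ι → F) → F) :
    quadSimilarityGroup Q ≤ similarityGroup (QuadraticMap.polar Q) := by
  rintro g ⟨c, hc⟩
  refine ⟨c, fun u v => ?_⟩
  simp only [QuadraticMap.polar]
  rw [← Matrix.mulVec_add, hc, hc, hc]
  ring

end transport

end Cfsg.Agent.Lib.H20.Asch
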