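/-
S5630 project (Aschbacher, linear case), module M4: homogeneous with an absolutely irreducible
constituent of degree `d ≥ 2` and multiplicity `k ≥ 2` gives a member of class 4, 7 or 8.  (helper20)
-/
import Cfsg.Agent.Lib.H20.AschM4b
import Cfsg.Agent.Lib.Lead.AschDefs2

set_option autoImplicit false

namespace Cfsg.Agent.Lib.H20.Asch

open Cfsg Cfsg.Geo Cfsg.Agent.Lib.Lead.Asch
open scoped MatrixGroups Matrix Kronecker

variable {F : Type*} [Field F] {n : ℕ}

/-- The linear equivalence `v ↦ (P v) ∘ e.symm`. -/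
noncomputable def transEquiv {κ : Type} [Fintype κ] [DecidableEq κ] (e : Fin n ≃ κ)
    (P : GL (Fin n) F) : (Fin n → F) ≃ₗ[F] (κ → F) :=
  (Matrix.toLin'OfInv (M := ((P⁻¹ : GL (Fin n) F) : Matrix (Fin n) (Fin n) F))
      (M' := (P : Matrix (Fin n) (Fin n) F))
      (by rw [← Units.val_mul, inv_mul_cancel, Units.val_one])
      (by rw [← Units.val_mul, mul_inv_cancel, Units.val_one])).trans
    (LinearEquiv.funCongrLeft F F e.symm)

lemma transEquiv_apply {κ : Type} [Fintype κ] [DecidableEq κ] (e : Fin n ≃ κ)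
    (P : GL (Fin n) F) (v : Fin n → F) (x : κ) :
    transEquiv e P v x = ((P : Matrix (Fin n) (Fin n) F) *ᵥ v) (e.symm x) := by
  simp [transEquiv, LinearEquiv.funCongrLeft_apply]

/-- `transEquiv` intertwines `h` with the reindexed conjugate of `h`. -/
lemma transEquiv_mulVec {κ : Type} [Fintype κ] [DecidableEq κ] (e : Fin n ≃ κ)
    (P : GL (Fin n) F) (h : GL (Fin n) F) (v : Fin n → F) :
    transEquiv e P ((h : Matrix (Fin n) (Fin n) F) *ᵥ v) =
      ((glReindex e (P * h * P⁻¹) : GL κ F) : Matrix κ κ F) *ᵥ transEquiv e P v := by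
  funext x
  have h3 : ((P * h * P⁻¹ : GL (Fin n) F) : Matrix (Fin n) (Fin n) F) *
      (P : Matrix (Fin n) (Fin n) F) = (P : Matrix (Fin n) (Fin n) F) * (h : Matrix (Fin n) (Fin n) F) := by
    rw [← Units.val_mul, ← Units.val_mul]
    congr 1
    group
  symm
  calc (((glReindex e (P * h * P⁻¹) : GL κ F) : Matrix κ κ F) *ᵥ transEquiv e P v) x
      = ∑ l : κ, ((P * h * P⁻¹ : GL (Fin n) F) : Matrix (Fin n) (Fin n) F) (e.symm x) (e.symm l) *
          ((P : Matrix (Fin n) (Fin n) F) *ᵥ v) (e.symm l) := by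
        simp only [Matrix.mulVec, dotProduct, glReindex_apply_apply]
        refine Finset.sum_congr rfl fun l _ => ?_
        rw [transEquiv_apply]
        rfl
    _ = ∑ j : Fin n, ((P * h * P⁻¹ : GL (Fin n) F) : Matrix (Fin n) (Fin n) F) (e.symm x) j *
          ((P : Matrix (Fin n) (Fin n) F) *ᵥ v) j :=
        Equiv.sum_comp e.symm (fun j => ((P * h * P⁻¹ : GL (Fin n) F) : Matrix (Fin n) (Fin n) F)
          (e.symm x) j * ((P : Matrix (Fin n) (Fin n) F) *ᵥ v) j)
    _ = (((P * h * P⁻¹ : GL (Fin n) F) : Matrix (Fin n) (Fin n) F) *ᵥ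
          ((P : Matrix (Fin n) (Fin n) F) *ᵥ v)) (e.symm x) := rfl
    _ = transEquiv e P ((h : Matrix (Fin n) (Fin n) F) *ᵥ v) x := by
        rw [Matrix.mulVec_mulVec, h3, transEquiv_apply, Matrix.mulVec_mulVec]

/-- A Kronecker product of two `2 × 2` matrices multiplies the determinant form by the product of the
determinants. -/
lemma Q0_kronecker_mulVec (a b : Matrix (Fin 2) (Fin 2) F) (X : Fin 2 × Fin 2 → F) :
    Q0 ((a ⊗ₖ b) *ᵥ X) = (a.det * b.det) * Q0 X := by
  simp only [Q0, Matrix.mulVec, dotProduct, Fintype.sum_prod_type, Fin.sum_univ_two,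
    Matrix.kroneckerMap_apply, Matrix.det_fin_two]
  ring

/-- Case `d = k = 2`: class 8. -/
lemma tame_of_kronecker_two_two [Fintype F] (H : Subgroup (GL (Fin n) F))
    (e : Fin n ≃ Fin 2 × Fin 2) (P : GL (Fin n) F)
    (hH : ∀ h ∈ H, glReindex e (P * h * P⁻¹) ∈ kroneckerSubgroup 2 2 F) : TameC8 H := by
  have hn : n = 4 := by
    have := Fintype.card_congr e
    simpa using this
  set Q : (Fin n → F) → F := fun v => Q0 (transEquiv e P v) with hQdef
  have hQ : IsNondegenerateQuadraticForm Q := quad_comp_equiv Q0 Q0_nondegenerate (transEquiv e P)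
  have hle : H ≤ quadSimilarityGroup Q := by
    intro h hh
    obtain ⟨a, b, hab⟩ := hH h hh
    have hdet : IsUnit ((a : Matrix (Fin 2) (Fin 2) F).det * (b : Matrix (Fin 2) (Fin 2) F).det) := by
      have ha : IsUnit (a : Matrix (Fin 2) (Fin 2) F).det :=
        (Matrix.isUnit_iff_isUnit_det _).mp ⟨a, rfl⟩
      have hb : IsUnit (b : Matrix (Fin 2) (Fin 2) F).det :=
        (Matrix.isUnit_iff_isUnit_det _).mp ⟨b, rfl⟩
      exact ha.mul hb
    obtain ⟨c, hc⟩ := hdet
    refine ⟨c, fun v => ?_⟩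
    show Q0 (transEquiv e P ((h : Matrix (Fin n) (Fin n) F) *ᵥ v)) = (c : F) * Q0 (transEquiv e P v)
    rw [transEquiv_mulVec, hab, Q0_kronecker_mulVec, hc]
  by_cases hodd : Odd (Fintype.card F)
  · exact Or.inr (Or.inr ⟨Q, hQ, hodd, by omega, hle⟩)
  · have h2 : (2 : F) = 0 := by
      have hev : Fintype.card F % 2 = 0 := by
        rcases Nat.even_or_odd (Fintype.card F) with he | ho
        · exact Nat.even_iff.mp he
        · exact absurd ho hodd
      have hchar : ringChar F = 2 := FiniteField.even_card_iff_char_two.mpr hev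
      have : ((ringChar F : ℕ) : F) = 0 := ringChar.Nat.cast_ringChar
      rw [hchar] at this
      exact_mod_cast this
    refine Or.inl ⟨QuadraticMap.polar Q, symplectic_polar_of_char_two h2 Q hQ, ?_, by omega,
      hle.trans (quadSimilarityGroup_le_similarityGroup_polar Q)⟩
    rw [hn]
    decide

/-- A subgroup all of whose elements become members of the standard tensor-wreath subgroup lies in
the tensor-wreath subgroup. -/
lemma le_tensorWreathSubgroup (H : Subgroup (GL (Fin n) F)) {m t : ℕ} (e : Fin n ≃ (Fin t → Fin m))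
    (P : GL (Fin n) F)
    (hH : ∀ h ∈ H, glReindex e (P * h * P⁻¹) ∈ tensorWreathStandard m t F) :
    H ≤ tensorWreathSubgroup m t e P⁻¹ := by
  intro h hh
  refine ⟨glReindex e.symm (glReindex e (P * h * P⁻¹)), ⟨_, hH h hh, rfl⟩, ?_⟩
  rw [glReindex_symm_glReindex]
  simp only [MulEquiv.coe_toMonoidHom, MulAut.conj_apply, inv_inv]
  group

/-- A Kronecker product `a ⊗ b` of two matrices of the same size is a pure tensor with two factors. -/
lemma isPureTensor_of_kronecker {d : ℕ} (g : GL (Fin d × Fin d) F)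
    (hg : g ∈ kroneckerSubgroup d d F) :
    IsPureTensor d 2 (glReindex (finTwoArrowEquiv (Fin d)).symm g) := by
  obtain ⟨a, b, hab⟩ := hg
  refine ⟨![a, b], fun x y => ?_⟩
  rw [glReindex_apply_apply, hab, Fin.prod_univ_two]
  simp [Matrix.kroneckerMap_apply]

/-- Case `d = k ≥ 3`: class 7. -/
lemma tame_of_kronecker_eq [Fintype F] (H : Subgroup (GL (Fin n) F)) {d : ℕ} (hd : 3 ≤ d)
    (e : Fin n ≃ Fin d × Fin d) (P : GL (Fin n) F)
    (hH : ∀ h ∈ H, glReindex e (P * h * P⁻¹) ∈ kroneckerSubgroup d d F) : TameC7 H := by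
  set e' : Fin n ≃ (Fin 2 → Fin d) := e.trans (finTwoArrowEquiv (Fin d)).symm with he'
  refine ⟨d, 2, e', P⁻¹, hd, le_refl 2, ?_⟩
  apply le_tensorWreathSubgroup
  intro h hh
  rw [he', glReindex_trans]
  exact Subgroup.subset_closure (Or.inl (isPureTensor_of_kronecker _ (hH h hh)))

/-- Case `d < k`: class 4. -/
lemma tame_of_kronecker_lt [Fintype F] (H : Subgroup (GL (Fin n) F)) {d k : ℕ} (hd : 2 ≤ d) (hdk : d < k)
    (e : Fin n ≃ Fin d × Fin k) (P : GL (Fin n) F)
    (hH : ∀ h ∈ H, glReindex e (P * h * P⁻¹) ∈ kroneckerSubgroup d k F) : TameC4 H :=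
  ⟨d, k, e, P⁻¹, hd, hdk, le_tensorProductSubgroup H e P hH⟩

/-- All cases. -/
lemma tame_of_kronecker [Fintype F] (H : Subgroup (GL (Fin n) F)) {d k : ℕ} (hd : 2 ≤ d) (hk : 2 ≤ k)
    (e : Fin n ≃ Fin d × Fin k) (P : GL (Fin n) F)
    (hH : ∀ h ∈ H, glReindex e (P * h * P⁻¹) ∈ kroneckerSubgroup d k F) :
    TameC4 H ∨ TameC7 H ∨ TameC8 H := by
  rcases lt_trichotomy d k with hlt | heq | hgt
  · exact Or.inl (tame_of_kronecker_lt H hd hlt e P hH)
  · subst heq
    by_cases h3 : 3 ≤ d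
    · exact Or.inr (Or.inl (tame_of_kronecker_eq H h3 e P hH))
    · have h2 : d = 2 := by omega
      subst h2
      exact Or.inr (Or.inr (tame_of_kronecker_two_two H e P hH))
  · refine Or.inl ?_
    apply tame_of_kronecker_lt H hk hgt (e.trans (Equiv.prodComm (Fin d) (Fin k))) P
    intro h hh
    rw [glReindex_trans]
    exact prodComm_mem_kronecker _ (hH h hh)

/-- **M4** (C4, C7 with t = 2, C8 for n = 4). Homogeneous, absolutely irreducible constituent of
degree `d ≥ 2` with multiplicity `k ≥ 2`. -/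
theorem tame_of_homog_tensor [Fintype F] (H N : Subgroup (GL (Fin n) F))
    (hnorm : NormalizedBy H N) (D : HomogData N)
    (habs : ActsAbsolutelyIrreducibly (repSet D.ρ)) (hd : 2 ≤ D.d) (hk : 2 ≤ D.k) :
    TameC4 H ∨ TameC7 H ∨ TameC8 H :=
  tame_of_kronecker H hd hk D.e D.P fun h hh =>
    mem_kronecker_of_homog H N hnorm D habs (by omega) (by omega) h hh

end Cfsg.Agent.Lib.H20.Asch
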