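/-
S5663 project (Aschbacher, unitary case), tool UT4, part a (helper20): the involution `x ↦ x ^ q`
of a field with `q ^ 2` elements as a ring equivalence, and the algebraic core of the factorisation
of an invariant hermitian Gram matrix along a homogeneous decomposition `ρ ⊗ 1`.
-/
import Cfsg.Agent.Lib.H20.AschU5
import Cfsg.Agent.Lib.H6.AschU3c
import Cfsg.Agent.Lib.H4.Herm

set_option autoImplicit false

namespace Cfsg.Agent.Lib.H20.Asch

open Cfsg Cfsg.Geo Cfsg.Agent.Lib.Lead.Asch Cfsg.Agent.Lib.H6.Asch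
open scoped MatrixGroups Matrix Kronecker

section sigma
variable {F : Type*} [Field F] [Fintype F] {q : ℕ}

/-- `x ↦ x ^ q` as a ring equivalence of a field with `q ^ 2` elements. -/
noncomputable def sigmaQ (hF : Fintype.card F = q ^ 2) : F ≃+* F :=
  RingEquiv.ofRingHom (Classical.choose (Cfsg.Agent.Lib.H4.exists_frob hF))
    (Classical.choose (Cfsg.Agent.Lib.H4.exists_frob hF))
    (RingHom.ext fun x => (Classical.choose_spec (Cfsg.Agent.Lib.H4.exists_frob hF)).2 x)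
    (RingHom.ext fun x => (Classical.choose_spec (Cfsg.Agent.Lib.H4.exists_frob hF)).2 x)

lemma sigmaQ_apply (hF : Fintype.card F = q ^ 2) (x : F) : sigmaQ hF x = x ^ q := by
  unfold sigmaQ
  rw [RingEquiv.ofRingHom_apply]
  exact (Classical.choose_spec (Cfsg.Agent.Lib.H4.exists_frob hF)).1 x

lemma sigmaQ_invol (hF : Fintype.card F = q ^ 2) (x : F) : sigmaQ hF (sigmaQ hF x) = x := by
  rw [sigmaQ_apply, sigmaQ_apply, ← pow_mul, ← sq, ← hF]
  exact FiniteField.pow_card x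

lemma two_le_q (hF : Fintype.card F = q ^ 2) : 2 ≤ q := by
  have h1 : 1 < Fintype.card F := Fintype.one_lt_card
  rw [hF] at h1
  by_contra h
  have : q = 0 ∨ q = 1 := by omega
  rcases this with rfl | rfl <;> simp at h1

lemma sigmaQ_ne_refl (hF : Fintype.card F = q ^ 2) : sigmaQ hF ≠ RingEquiv.refl F := by
  classical
  intro h
  have hq : 2 ≤ q := two_le_q hF
  have hall : ∀ x : F, x ^ q = x := by
    intro x
    rw [← sigmaQ_apply hF, h]; rfl
  have hne : (Polynomial.X ^ q - Polynomial.X : Polynomial F) ≠ 0 :=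
    FiniteField.X_pow_card_sub_X_ne_zero F (by omega)
  have hsub : (Finset.univ : Finset F).val ⊆ (Polynomial.X ^ q - Polynomial.X : Polynomial F).roots := by
    intro x _
    rw [Polynomial.mem_roots hne]
    simp [hall x]
  have hle := Polynomial.card_le_degree_of_subset_roots hsub
  rw [FiniteField.X_pow_card_sub_X_natDegree_eq F (by omega), Finset.card_univ, hF] at hle
  nlinarith

end sigma

variable {F : Type*} [Field F]

/-- The algebraic core of UT4: a non-zero hermitian matrix on `Fin d × Fin k` invariant under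
`s ⊗ 1` for `s` in an absolutely irreducible set is a Kronecker product of hermitian matrices. -/
theorem tensor_form_core (σ : F ≃+* F) (hσ : σ ≠ RingEquiv.refl F) (hσ2 : ∀ a, σ (σ a) = a)
    {d k : ℕ} (S : Set (Matrix (Fin d) (Fin d) F)) (habs : ActsAbsolutelyIrreducibly S)
    (hinv : ∀ s ∈ S, IsUnit s.det)
    (G : Matrix (Fin d × Fin k) (Fin d × Fin k) F) (hG0 : G ≠ 0) (hGh : (G.map σ)ᵀ = G)
    (hfix : ∀ s ∈ S, (s ⊗ₖ (1 : Matrix (Fin k) (Fin k) F))ᵀ * G *
      (s ⊗ₖ (1 : Matrix (Fin k) (Fin k) F)).map σ = G) :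
    ∃ (B : Matrix (Fin d) (Fin d) F) (C : Matrix (Fin k) (Fin k) F),
      (B.map σ)ᵀ = B ∧ (C.map σ)ᵀ = C ∧ IsUnit B.det ∧ G = B ⊗ₖ C ∧
      ∀ s ∈ S, sᵀ * B * s.map (σ : F →+* F) = B := by
  -- the blocks are invariant
  have hblk : ∀ i j : Fin k, ∀ s ∈ S, sᵀ * blk G i j * s.map (σ : F →+* F) = blk G i j := by
    intro i j s hs
    have h1 := hfix s hs
    have e1 : (s ⊗ₖ (1 : Matrix (Fin k) (Fin k) F))ᵀ = sᵀ ⊗ₖ (1 : Matrix (Fin k) (Fin k) F) := by
      ext ⟨a, i⟩ ⟨b, j⟩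
      simp only [Matrix.transpose_apply, Matrix.kroneckerMap_apply, Matrix.one_apply]
      simp only [eq_comm]
    have e2 : (s ⊗ₖ (1 : Matrix (Fin k) (Fin k) F)).map σ =
        (s.map σ) ⊗ₖ (1 : Matrix (Fin k) (Fin k) F) := by
      ext ⟨a, i⟩ ⟨b, j⟩
      simp only [Matrix.map_apply, Matrix.kroneckerMap_apply, Matrix.one_apply]
      split_ifs <;> simp
    rw [e1, e2] at h1
    have h2 := congrArg (fun X => blk X i j) h1
    simp only [blk_mul_kron_one, Matrix.mul_assoc, blk_kron_one_mul] at h2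
    rw [Matrix.mul_assoc]
    exact h2
  -- a non-zero block
  obtain ⟨i₀, j₀, h0⟩ : ∃ i₀ j₀, blk G i₀ j₀ ≠ 0 := by
    by_contra hcon
    push Not at hcon
    apply hG0
    ext ⟨a, i⟩ ⟨b, j⟩
    have := congrFun (congrFun (hcon i j) a) b
    exact this
  set B₀ := blk G i₀ j₀ with hB₀
  have hB₀det : IsUnit B₀.det :=
    isUnit_det_of_fix (σ : F →+* F) S habs.1 hinv B₀ h0 (hblk i₀ j₀)
  have hprop : ∀ i j : Fin k, ∃ c : F, blk G i j = c • B₀ := fun i j =>
    core (σ : F →+* F) S habs.2 hinv B₀ (blk G i j) hB₀det (hblk i₀ j₀) (hblk i j)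
  choose C₀ hC₀ using hprop
  -- `σ(B₀)ᵀ` is invariant too
  have hfixS : ∀ g ∈ S, gᵀ * (B₀.map σ)ᵀ * g.map (σ : F →+* F) = (B₀.map σ)ᵀ := by
    intro g hg
    have h1 : (gᵀ * B₀ * g.map σ).map (σ : F →+* F) = B₀.map (σ : F →+* F) := by
      rw [show gᵀ * B₀ * g.map σ = B₀ from hblk i₀ j₀ g hg]
    rw [Matrix.map_mul, Matrix.map_mul] at h1
    change gᵀ.map σ * B₀.map σ * (g.map σ).map σ = B₀.map σ at h1
    rw [map_map_invol σ hσ2] at h1
    have h2 := congrArg Matrix.transpose h1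
    rw [Matrix.transpose_mul, Matrix.transpose_mul, ← Matrix.mul_assoc] at h2
    have h3 : ((gᵀ).map σ)ᵀ = g.map σ := by
      ext i j; rfl
    rw [h3] at h2
    exact h2
  obtain ⟨ε, hε⟩ := core (σ : F →+* F) S habs.2 hinv B₀ (B₀.map σ)ᵀ hB₀det (hblk i₀ j₀) hfixS
  have hεε : ε * σ ε = 1 := by
    have h1 : B₀ = (σ ε * ε) • B₀ := by
      have := congrArg (fun X : Matrix (Fin d) (Fin d) F => (X.map σ)ᵀ) hε
      rw [star_star σ hσ2, Cfsg.Agent.Lib.H6.Asch.star_smul, hε, smul_smul] at this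
      exact this
    obtain ⟨i, j, hij⟩ : ∃ i j, B₀ i j ≠ 0 := by
      by_contra hcon
      push Not at hcon
      exact h0 (by ext i j; exact hcon i j)
    have := congrFun (congrFun h1 i) j
    rw [Matrix.smul_apply, smul_eq_mul] at this
    have h3 : (σ ε * ε - 1) * B₀ i j = 0 := by rw [sub_mul, one_mul, ← this, sub_self]
    rcases mul_eq_zero.1 h3 with h4 | h4
    · rw [mul_comm]; exact sub_eq_zero.1 h4
    · exact absurd h4 hij
  obtain ⟨a, ha0, ha⟩ := hilbert90_two σ hσ hσ2 ε hεε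
  set B₁ : Matrix (Fin d) (Fin d) F := a • B₀ with hB₁
  have hherm : (B₁.map σ)ᵀ = B₁ := by
    rw [hB₁, Cfsg.Agent.Lib.H6.Asch.star_smul, hε, smul_smul, mul_comm, ha]
  have hB₁det : IsUnit B₁.det := by
    rw [hB₁, Matrix.det_smul]
    exact (IsUnit.mk0 _ (pow_ne_zero _ ha0)).mul hB₀det
  have hfix₁ : ∀ g ∈ S, gᵀ * B₁ * g.map (σ : F →+* F) = B₁ := by
    intro g hg
    rw [hB₁, Matrix.mul_smul, Matrix.smul_mul, hblk i₀ j₀ g hg]
  set C₁ : Matrix (Fin k) (Fin k) F := fun i j => a⁻¹ * C₀ i j with hC₁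
  have hGe : G = B₁ ⊗ₖ C₁ := by
    ext ⟨x, i⟩ ⟨y, j⟩
    have h1 : G (x, i) (y, j) = blk G i j x y := rfl
    rw [h1, hC₀ i j, Matrix.kroneckerMap_apply, hB₁, hC₁, Matrix.smul_apply, Matrix.smul_apply,
      smul_eq_mul, smul_eq_mul]
    field_simp
  refine ⟨B₁, C₁, hherm, ?_, hB₁det, hGe, hfix₁⟩
  -- `C₁` is hermitian
  obtain ⟨x, y, hxy0⟩ : ∃ x y, B₀ x y ≠ 0 := by
    by_contra hcon
    push Not at hcon
    exact h0 (by ext i j; exact hcon i j)
  have hxy : B₁ x y ≠ 0 := by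
    rw [hB₁, Matrix.smul_apply, smul_eq_mul]
    exact mul_ne_zero ha0 hxy0
  ext i j
  have h1 := congrFun (congrFun hGh (x, i)) (y, j)
  rw [Matrix.transpose_apply, Matrix.map_apply, hGe, Matrix.kroneckerMap_apply,
    Matrix.kroneckerMap_apply, map_mul] at h1
  have h2 := congrFun (congrFun hherm x) y
  rw [Matrix.transpose_apply, Matrix.map_apply] at h2
  rw [h2] at h1
  rw [Matrix.transpose_apply, Matrix.map_apply]
  exact mul_left_cancel₀ hxy h1

end Cfsg.Agent.Lib.H20.Asch
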