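/-
S5663 project (Aschbacher, unitary case), tool UT4 (helper20): factorisation of the hermitian
form along a homogeneous normal subgroup with absolutely irreducible constituent.
-/
import Cfsg.Agent.Lib.H20.AschUT4a
import Cfsg.Agent.Lib.H20.AschM4
import Cfsg.Agent.Lib.Lead.AschUDefs

set_option autoImplicit false

namespace Cfsg.Agent.Lib.H20.Asch

open Cfsg Cfsg.Geo Cfsg.Agent.Lib.Lead.Asch Cfsg.Agent.Lib.H6.Asch
open scoped MatrixGroups Matrix Kronecker

variable {F : Type*} [Field F]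

section general
variable {n : ℕ}

lemma transEquiv_symm_apply {κ : Type} [Fintype κ] [DecidableEq κ] (e : Fin n ≃ κ)
    (P : GL (Fin n) F) (X : κ → F) :
    (transEquiv e P).symm X = ((P⁻¹ : GL (Fin n) F) : Matrix (Fin n) (Fin n) F) *ᵥ (X ∘ e) := by
  rw [LinearEquiv.symm_apply_eq]
  funext x
  rw [transEquiv_apply, Matrix.mulVec_mulVec, ← Units.val_mul, mul_inv_cancel, Units.val_one,
    Matrix.one_mulVec, Function.comp_apply, Equiv.apply_symm_apply]

/-- In the coordinates of the homogeneous data, `x ∈ N` is `ρ x ⊗ 1`. -/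
lemma glReindex_conj_eq {N : Subgroup (GL (Fin n) F)} (D : HomogData N) (x : N) :
    ((glReindex D.e (D.P * (x : GL (Fin n) F) * D.P⁻¹) : GL (Fin D.d × Fin D.k) F) :
      Matrix (Fin D.d × Fin D.k) (Fin D.d × Fin D.k) F) =
      ((D.ρ x : GL (Fin D.d) F) : Matrix (Fin D.d) (Fin D.d) F) ⊗ₖ
        (1 : Matrix (Fin D.k) (Fin D.k) F) := by
  ext i j
  rw [glReindex_apply_apply, D.eq x]
  simp

/-- `x ∈ N` acts on the coordinates as `ρ x ⊗ 1`. -/
lemma transEquiv_symm_kron {N : Subgroup (GL (Fin n) F)} (D : HomogData N) (x : N)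
    (X : Fin D.d × Fin D.k → F) :
    (transEquiv D.e D.P).symm
      ((((D.ρ x : GL (Fin D.d) F) : Matrix (Fin D.d) (Fin D.d) F) ⊗ₖ
        (1 : Matrix (Fin D.k) (Fin D.k) F)) *ᵥ X) =
      ((x : GL (Fin n) F) : Matrix (Fin n) (Fin n) F) *ᵥ (transEquiv D.e D.P).symm X := by
  rw [LinearEquiv.symm_apply_eq, transEquiv_mulVec, glReindex_conj_eq, LinearEquiv.apply_symm_apply]

end general

section unitary
variable [Fintype F] {q : ℕ}

/-- `hermForm` is represented by the identity matrix. -/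
lemma rep_hermForm (hF : Fintype.card F = q ^ 2) (m : ℕ) :
    Rep ((sigmaQ hF : F ≃+* F) : F →+* F) (1 : Matrix (Fin m) (Fin m) F) (hermForm m F q) := by
  intro u v
  rw [Matrix.one_mulVec]
  unfold hermForm dotProduct
  refine Finset.sum_congr rfl fun i _ => ?_
  show u i * v i ^ q = u i * (sigmaQ hF) (v i)
  rw [sigmaQ_apply]

/-- A hermitian invertible matrix gives a unitary form. -/
lemma isUnitaryFormPow_formOf (hF : Fintype.card F = q ^ 2) {m : ℕ} (B : Matrix (Fin m) (Fin m) F)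
    (hB : (B.map (sigmaQ hF))ᵀ = B) (hdet : IsUnit B.det) :
    IsUnitaryFormPow q (formOf ((sigmaQ hF : F ≃+* F) : F →+* F) B) := by
  set σ := sigmaQ hF with hσ
  have hσ2 : ∀ a, σ (σ a) = a := sigmaQ_invol hF
  have hrep : Rep (σ : F →+* F) B (formOf (σ : F →+* F) B) := rep_formOf _ _
  refine ⟨hrep.add_left, hrep.smul_left, fun v w => ?_, hrep.nondegenerate hdet⟩
  rw [← sigmaQ_apply hF]
  show v ⬝ᵥ (B *ᵥ (fun i => (σ : F →+* F) (w i))) = σ (w ⬝ᵥ (B *ᵥ (fun i => (σ : F →+* F) (v i))))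
  have h1 : σ (w ⬝ᵥ (B *ᵥ (fun i => (σ : F →+* F) (v i)))) =
      (fun i => (σ : F →+* F) (w i)) ⬝ᵥ (B.map (σ : F →+* F) *ᵥ v) := by
    have e1 := RingHom.map_dotProduct (σ : F →+* F) w (B *ᵥ (fun i => (σ : F →+* F) (v i)))
    have e2 : ((σ : F →+* F) ∘ (B *ᵥ (fun i => (σ : F →+* F) (v i)))) = B.map (σ : F →+* F) *ᵥ v := by
      funext i
      rw [Function.comp_apply, RingHom.map_mulVec]
      congr 1
      funext j
      exact hσ2 (v j)
    rw [e2] at e1
    exact e1
  have hh2 : Bᵀ = B.map σ := by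
    have := congrArg Matrix.transpose hB
    rw [Matrix.transpose_transpose] at this
    exact this.symm
  rw [h1, Matrix.dotProduct_mulVec, dotProduct_comm, ← Matrix.mulVec_transpose, hh2]
  rfl

lemma isUnitaryFormPow_hermForm (hF : Fintype.card F = q ^ 2) (m : ℕ) :
    IsUnitaryFormPow q (hermForm m F q) := by
  have h := isUnitaryFormPow_formOf hF (1 : Matrix (Fin m) (Fin m) F)
    (by ext i j; simp [Matrix.one_apply, eq_comm]) (by simp)
  have : formOf ((sigmaQ hF : F ≃+* F) : F →+* F) (1 : Matrix (Fin m) (Fin m) F) = hermForm m F q := by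
    funext u v
    exact (rep_hermForm hF m u v).symm
  rwa [this] at h

lemma gramMatrix_formOf (τ : F →+* F) {m : ℕ} (B : Matrix (Fin m) (Fin m) F) :
    gramMatrix (formOf τ B) = B := by
  ext a b
  exact (rep_formOf τ B).apply_single a b

variable {n : ℕ}

/-- **UT4**. -/
theorem exists_tensor_form (hF : Fintype.card F = q ^ 2)
    (N : Subgroup (GL (Fin n) F)) (hN : N ≤ GU n F q) (D : HomogData N)
    (habs : ActsAbsolutelyIrreducibly (repSet D.ρ)) :
    ∃ (f₁ : (Fin D.d → F) → (Fin D.d → F) → F) (f₂ : (Fin D.k → F) → (Fin D.k → F) → F),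
      IsUnitaryFormPow q f₁ ∧ IsUnitaryFormPow q f₂ ∧
      IsTensorFormStructure (fun x : F => x ^ q) (hermForm n F q) f₁ f₂ D.e D.P⁻¹ ∧
      ∀ x : N, ∀ u v, f₁ ((D.ρ x : Matrix (Fin D.d) (Fin D.d) F) *ᵥ u)
        ((D.ρ x : Matrix (Fin D.d) (Fin D.d) F) *ᵥ v) = f₁ u v := by
  classical
  by_cases hn0 : n = 0
  · -- degenerate case
    subst hn0
    have : IsEmpty (Fin D.d × Fin D.k) := D.e.symm.isEmpty
    refine ⟨hermForm D.d F q, hermForm D.k F q, isUnitaryFormPow_hermForm hF _,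
      isUnitaryFormPow_hermForm hF _, ⟨1, one_ne_zero, fun X Y => ?_⟩, fun x u v => ?_⟩
    · simp [hermForm, formOfGram]
    · have hx : x = 1 := Subsingleton.elim _ _
      rw [hx, map_one]
      simp
  have hnpos : 0 < n := Nat.pos_of_ne_zero hn0
  set σ := sigmaQ hF with hσ
  have hσ2 : ∀ a, σ (σ a) = a := sigmaQ_invol hF
  have hσne : σ ≠ RingEquiv.refl F := sigmaQ_ne_refl hF
  set T := (transEquiv D.e D.P).symm with hT
  set g : (Fin D.d × Fin D.k → F) → (Fin D.d × Fin D.k → F) → F :=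
    fun X Y => hermForm n F q (T X) (T Y) with hg
  have hrepf := rep_hermForm hF n
  have hndf : IsNondegenerateForm (hermForm n F q) := hrepf.nondegenerate (by simp)
  have hgU : IsUnitaryForm σ g := by
    refine ⟨hσne, hσ2, fun x y v => ?_, fun c x v => ?_, fun v w => ?_, fun v hv => ?_⟩
    · simp only [hg]; rw [map_add]; exact Cfsg.Agent.Lib.H4.hermForm_add_left n _ _ _
    · simp only [hg]; rw [map_smul]; exact Cfsg.Agent.Lib.H4.hermForm_smul_left n _ _ _
    · simp only [hg]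
      rw [hσ, sigmaQ_apply, Cfsg.Agent.Lib.H4.hermForm_conj n hF]
    · have hTv : T v ≠ 0 := fun h => hv (T.map_eq_zero_iff.mp h)
      obtain ⟨⟨x, hx⟩, ⟨y, hy⟩⟩ := hndf (T v) hTv
      refine ⟨⟨T.symm x, ?_⟩, ⟨T.symm y, ?_⟩⟩
      · simp only [hg]; rw [LinearEquiv.apply_symm_apply]; exact hx
      · simp only [hg]; rw [LinearEquiv.apply_symm_apply]; exact hy
  obtain ⟨G, hG⟩ := exists_rep_of_unitary σ g hgU
  have hGdet : IsUnit G.det := hG.isUnit_det hgU.nondegenerate
  have hG0 : G ≠ 0 := by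
    intro h0
    have hcard : Fintype.card (Fin D.d × Fin D.k) = n := by
      rw [← Fintype.card_congr D.e]; simp
    have hne : Nonempty (Fin D.d × Fin D.k) := by
      rw [← Fintype.card_pos_iff, hcard]; exact hnpos
    haveI := hne
    rw [h0, Matrix.det_zero] at hGdet
    exact not_isUnit_zero hGdet
  have hGh : (G.map σ)ᵀ = G := by
    ext a b
    rw [Matrix.transpose_apply, Matrix.map_apply, ← hG.apply_single, ← hG.apply_single]
    exact (hgU.herm _ _).symm
  have hfix : ∀ s ∈ repSet D.ρ, (s ⊗ₖ (1 : Matrix (Fin D.k) (Fin D.k) F))ᵀ * G *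
      (s ⊗ₖ (1 : Matrix (Fin D.k) (Fin D.k) F)).map σ = G := by
    rintro _ ⟨x, rfl⟩
    have h1 := hG.matrix_eq ((((D.ρ x : GL (Fin D.d) F) : Matrix (Fin D.d) (Fin D.d) F) ⊗ₖ
        (1 : Matrix (Fin D.k) (Fin D.k) F))) 1 (by
      intro u v
      simp only [hg, hT]
      rw [transEquiv_symm_kron, transEquiv_symm_kron, one_mul]
      exact hN x.2 _ _)
    rw [one_smul] at h1
    exact h1
  have hinv : ∀ s ∈ repSet D.ρ, IsUnit s.det := by
    rintro _ ⟨x, rfl⟩
    exact (Matrix.isUnit_iff_isUnit_det _).mp ⟨D.ρ x, rfl⟩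
  obtain ⟨B, C, hBh, hCh, hBdet, hGe, hfixB⟩ :=
    tensor_form_core σ hσne hσ2 (repSet D.ρ) habs hinv G hG0 hGh hfix
  have hdpos : 0 < D.d := by
    rcases Nat.eq_zero_or_pos D.d with h | h
    · exfalso
      have hcard : Fintype.card (Fin D.d × Fin D.k) = n := by
        rw [← Fintype.card_congr D.e]; simp
      rw [Fintype.card_prod, Fintype.card_fin, h, zero_mul] at hcard
      omega
    · exact h
  have hCdet : IsUnit C.det := by
    rw [hGe, Matrix.det_kronecker] at hGdet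
    have := (IsUnit.mul_iff.mp hGdet).2
    rw [Fintype.card_fin] at this
    exact (isUnit_pow_iff hdpos.ne').mp this
  refine ⟨formOf (σ : F →+* F) B, formOf (σ : F →+* F) C, isUnitaryFormPow_formOf hF B hBh hBdet,
    isUnitaryFormPow_formOf hF C hCh hCdet, ⟨1, one_ne_zero, fun X Y => ?_⟩, fun x u v => ?_⟩
  · rw [one_mul, gramMatrix_formOf, gramMatrix_formOf, ← hGe, ← transEquiv_symm_apply,
      ← transEquiv_symm_apply]
    show g X Y = _
    rw [hG X Y]
    unfold formOfGram dotProduct Matrix.mulVec dotProduct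
    refine Finset.sum_congr rfl fun a _ => ?_
    rw [Finset.mul_sum]
    refine Finset.sum_congr rfl fun b _ => ?_
    show X a * (G a b * σ (Y b)) = X a * G a b * (Y b) ^ q
    rw [hσ, sigmaQ_apply, mul_assoc]
  · have := (rep_formOf (σ : F →+* F) B).apply_mulVec
      ((D.ρ x : GL (Fin D.d) F) : Matrix (Fin D.d) (Fin D.d) F) 1
      (by rw [one_smul]; exact hfixB _ ⟨x, rfl⟩) u v
    rw [one_mul] at this
    exact this

end unitary

end Cfsg.Agent.Lib.H20.Asch
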