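import Mathlib
import Cfsg.Agent.Lib.H17.GHDefs

/-!
# S4402 piece (N1) `eq_A1_or_eq_A2` (helper20)

See `tools/blueprints/S4402_sigs.lean`.
-/

set_option autoImplicit false
set_option linter.dupNamespace false

namespace Cfsg.Agent.Lib.H20.GH

open Subgroup Cfsg.Agent.Lib.H17.GH

/-- N1. The only `P`-normal elementary abelian subgroups of order 16 of `P` are `A1`, `A2`. -/
theorem eq_A1_or_eq_A2 {S : Type*} [Group S] {P : Subgroup S} (D : Data P) (V : Subgroup S)
    (hVP : V ≤ P) (hVn : ∀ g ∈ P, ∀ v ∈ V, g * v * g⁻¹ ∈ V) (hV2 : ∀ v ∈ V, v * v = 1)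
    (hVc : Nat.card V = 16) : V = D.A1 ∨ V = D.A2 := by
  -- V is abelian
  have hcomm : ∀ a ∈ V, ∀ b ∈ V, a * b = b * a := by
    intro a ha b hb
    have h1 := hV2 a ha
    have h2 := hV2 b hb
    have h3 := hV2 (a * b) (V.mul_mem ha hb)
    have ha' : a⁻¹ = a := inv_eq_of_mul_eq_one_left h1
    have hb' : b⁻¹ = b := inv_eq_of_mul_eq_one_left h2
    have hab' : (a * b)⁻¹ = a * b := inv_eq_of_mul_eq_one_left h3
    rw [← hab', mul_inv_rev, ha', hb']
  have hsub : (V : Set S) ⊆ (D.A1 : Set S) ∪ (D.A2 : Set S) := by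
    intro v hv
    have hv' : v ∈ V := hv
    have := D.good v (hVP hv') (hV2 v hv') (fun g hg => hcomm _ (hVn g hg v hv') _ hv')
    exact this
  have hfin : Finite V := Nat.finite_of_card_ne_zero (by rw [hVc]; norm_num)
  have hfin1 : Finite D.A1 := Nat.finite_of_card_ne_zero (by rw [D.A1_card]; norm_num)
  have hfin2 : Finite D.A2 := Nat.finite_of_card_ne_zero (by rw [D.A2_card]; norm_num)
  rcases SubgroupClass.subset_union.mp hsub with h | h
  · left
    exact Subgroup.eq_of_le_of_card_ge h (by rw [hVc, D.A1_card])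
  · right
    exact Subgroup.eq_of_le_of_card_ge h (by rw [hVc, D.A2_card])

end Cfsg.Agent.Lib.H20.GH
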