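import Mathlib
import Cfsg.Agent.Lib.H17.GHDefs

/-!
# S4402 pieces (G2) `card_dvd_of_injective_perm8` and (G1) `exists_sylow_equiv_of_injective` (helper20)

Generic, pure Mathlib.  See `tools/blueprints/S4402_sigs.lean`.
-/

set_option autoImplicit false
set_option linter.dupNamespace false

namespace Cfsg.Agent.Lib.H20.GH

open Subgroup Cfsg.Agent.Lib.H17.GH

/-- The order of `Perm Ω` for `|Ω| = 8`. -/
theorem card_perm8 {Ω : Type*} [Fintype Ω] (hΩ : Fintype.card Ω = 8) :
    Nat.card (Equiv.Perm Ω) = 40320 := by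
  classical
  rw [Nat.card_eq_fintype_card, Fintype.card_perm, hΩ]
  rfl

/-- G2 (generic, pure Mathlib). A 2-group acting faithfully on 8 points has order dividing 128. -/
theorem card_dvd_of_injective_perm8 {H : Type*} [Group H] [Finite H] (hH : IsPGroup 2 H) {Ω : Type*}
    [Fintype Ω] (hΩ : Fintype.card Ω = 8) (f : H →* Equiv.Perm Ω) (hf : Function.Injective f) :
    Nat.card H ∣ 128 := by
  classical
  have h1 : Nat.card H = Nat.card f.range := Nat.card_congr (MonoidHom.ofInjective hf).toEquiv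
  have h2 : Nat.card H ∣ 40320 := by
    rw [h1, ← card_perm8 hΩ]
    exact Subgroup.card_subgroup_dvd_card _
  obtain ⟨k, hk⟩ := IsPGroup.iff_card.mp hH
  rw [hk] at h2 ⊢
  by_cases hk7 : k ≤ 7
  · exact pow_dvd_pow 2 hk7
  · exfalso
    push Not at hk7
    have h3 : 2 ^ 8 ∣ 40320 := Dvd.dvd.trans (pow_dvd_pow 2 hk7) h2
    norm_num at h3

end Cfsg.Agent.Lib.H20.GH
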