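import Mathlib
import Cfsg.Agent.Lib.H17.GHDefs
import Cfsg.Agent.Lib.H20.GHG2

/-!
# S4402 piece (G1) `exists_sylow_equiv_of_injective` (helper20)

Generic, pure Mathlib.  See `tools/blueprints/S4402_sigs.lean`.
-/

set_option autoImplicit false
set_option linter.dupNamespace false

namespace Cfsg.Agent.Lib.H20.GH

open Subgroup Cfsg.Agent.Lib.H17.GH

/-- G1 (generic, pure Mathlib). A group of order 128 acting faithfully on 8 points is a Sylow 2-subgroup of `S_8`. -/
theorem exists_sylow_equiv_of_injective {H : Type*} [Group H] {Ω : Type*} [Fintype Ω]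
    (hΩ : Fintype.card Ω = 8) (f : H →* Equiv.Perm Ω) (hf : Function.Injective f)
    (hH : Nat.card H = 128) :
    ∃ T' : Sylow 2 (Equiv.Perm (Fin 8)), Nonempty (H ≃* ↥(T' : Subgroup (Equiv.Perm (Fin 8)))) := by
  classical
  haveI : Fact (Nat.Prime 2) := ⟨Nat.prime_two⟩
  have e : Ω ≃ Fin 8 := Fintype.equivFinOfCardEq hΩ
  set g : H →* Equiv.Perm (Fin 8) := (e.permCongrHom.toMonoidHom).comp f with hg
  have hginj : Function.Injective g := by
    rw [hg]
    exact e.permCongrHom.injective.comp hf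
  set K : Subgroup (Equiv.Perm (Fin 8)) := g.range with hK
  have eHK : H ≃* K := MonoidHom.ofInjective hginj
  have hKc : Nat.card K = 2 ^ 7 := by
    rw [← Nat.card_congr eHK.toEquiv, hH]; norm_num
  have hKp : IsPGroup 2 K := IsPGroup.of_card hKc
  obtain ⟨T', hKT⟩ := hKp.exists_le_sylow
  have hcard : Nat.card (Equiv.Perm (Fin 8)) = 2 ^ 7 * 315 := by
    rw [card_perm8 (by simp)]; norm_num
  have hTc : Nat.card (T' : Subgroup (Equiv.Perm (Fin 8))) = 2 ^ 7 := by
    rw [Sylow.card_eq_multiplicity, hcard,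
      Nat.factorization_mul (pow_ne_zero _ (by norm_num)) (by norm_num)]
    simp only [Finsupp.coe_add, Pi.add_apply]
    rw [Nat.Prime.factorization_pow Nat.prime_two,
      Nat.factorization_eq_zero_of_not_dvd (by norm_num : ¬ 2 ∣ 315)]
    simp
  have hKT' : K = (T' : Subgroup (Equiv.Perm (Fin 8))) :=
    Subgroup.eq_of_le_of_card_ge hKT (by rw [hKc, hTc])
  exact ⟨T', ⟨eHK.trans (MulEquiv.subgroupCongr hKT')⟩⟩

end Cfsg.Agent.Lib.H20.GH
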