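import Mathlib

set_option autoImplicit false

namespace Cfsg.Agent.Lib.H20

/-- In a finite cyclic group, an element whose order divides that of `y` is a power of `y`. -/
theorem mem_zpowers_of_orderOf_dvd_of_isCyclic {C : Type*} [Group C] [Finite C] [IsCyclic C]
    {x y : C} (h : orderOf x ∣ orderOf y) : x ∈ Subgroup.zpowers y := by
  classical
  let _inst : Fintype C := Fintype.ofFinite C
  set d := orderOf y with hd
  have hd0 : 0 < d := orderOf_pos y
  have h1 : (Finset.univ.filter (fun a : C => a ^ d = 1)).card ≤ d := IsCyclic.card_pow_eq_one_le hd0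
  have hsub : ((Subgroup.zpowers y : Set C)).toFinset ⊆ Finset.univ.filter (fun a : C => a ^ d = 1) := by
    intro a ha
    rw [Set.mem_toFinset] at ha
    rw [Finset.mem_filter]
    refine ⟨Finset.mem_univ _, ?_⟩
    obtain ⟨k, rfl⟩ := Subgroup.mem_zpowers_iff.mp ha
    rw [← zpow_natCast, ← zpow_mul, mul_comm, zpow_mul, zpow_natCast, hd, pow_orderOf_eq_one, one_zpow]
  have hcard : ((Subgroup.zpowers y : Set C)).toFinset.card = d := by
    rw [Set.toFinset_card]
    rw [hd, ← Nat.card_zpowers, Nat.card_eq_fintype_card]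
    rfl
  have heq := Finset.eq_of_subset_of_card_le hsub (by rw [hcard]; exact h1)
  have hx : x ∈ Finset.univ.filter (fun a : C => a ^ d = 1) := by
    rw [Finset.mem_filter]
    exact ⟨Finset.mem_univ _, orderOf_dvd_iff_pow_eq_one.mp h⟩
  rw [← heq, Set.mem_toFinset] at hx
  exact hx

/-- If `x, y` are powers of a finite-order `z` and `orderOf x ∣ orderOf y` then `x` is a power of `y`. -/
theorem mem_zpowers_of_orderOf_dvd {G : Type*} [Group G] [Finite G] {x y z : G}
    (hx : x ∈ Subgroup.zpowers z) (hy : y ∈ Subgroup.zpowers z) (h : orderOf x ∣ orderOf y) :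
    x ∈ Subgroup.zpowers y := by
  have := mem_zpowers_of_orderOf_dvd_of_isCyclic (C := Subgroup.zpowers z) (x := ⟨x, hx⟩) (y := ⟨y, hy⟩)
    (by rw [Subgroup.orderOf_mk, Subgroup.orderOf_mk]; exact h)
  obtain ⟨k, hk⟩ := Subgroup.mem_zpowers_iff.mp this
  rw [Subgroup.mem_zpowers_iff]
  refine ⟨k, ?_⟩
  have := congrArg Subtype.val hk
  simpa using this

end Cfsg.Agent.Lib.H20
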