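import Mathlib
import Cfsg.Agent.Lib.H24.CharKer

/-!
# S4591 definitions (helper20): the intersection of the kernels of the `p'`-degree characters
-/

set_option autoImplicit false

namespace Cfsg.Agent.Lib.H20.KPP

open Cfsg Cfsg.Agent.Lib.L0 Cfsg.Agent.Lib.H24

variable {G : Type*} [Group G] [Fintype G] (p : ℕ)

/-- The intersection of the kernels of the irreducible characters of degree prime to `p`. -/
def kerPP : Subgroup G :=
  ⨅ χ : {χ : IrrCharacter G // ¬ p ∣ charDegree (χ : G → ℂ)},
    charKer (χ.1 : G → ℂ) (isCharacter_of_irr χ.1.2)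

theorem mem_kerPP (g : G) : g ∈ kerPP (G := G) p ↔
    ∀ χ : IrrCharacter G, ¬ p ∣ charDegree (χ : G → ℂ) → (χ : G → ℂ) g = (χ : G → ℂ) 1 := by
  unfold kerPP
  rw [Subgroup.mem_iInf]
  constructor
  · intro h χ hχ
    exact mem_charKer.mp (h ⟨χ, hχ⟩)
  · intro h χ
    exact mem_charKer.mpr (h χ.1 χ.2)

instance kerPP_normal : (kerPP (G := G) p).Normal := by
  unfold kerPP
  exact Subgroup.normal_iInf_normal (fun χ => charKer_normal _ _)

end Cfsg.Agent.Lib.H20.KPP
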