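import Mathlib
import Cfsg.Agent.Lib.H23.CentralChar

/-!
# S2332 piece INT (helper20): integrality of the central character on a normal subset

For an irreducible complex representation `ρ` of a finite group `G` on `V`, a conjugation-stable
finset `T ⊆ G` on which the character is the constant integer `c`:
`dim V ∣ |T| * c`.  (The sum `∑_{x ∈ T} ρ x` commutes with `ρ`, hence is a scalar by Schur's lemma;
it is integral over `ℤ`, and it equals `|T| c / dim V`.)
-/

set_option autoImplicit false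

namespace Cfsg.Agent.Lib.H20.SLMin

open Cfsg.Agent.Lib.H23

section

variable {G : Type*} [Group G] {V : Type*} [AddCommGroup V] [Module ℂ V]
  [FiniteDimensional ℂ V]

/-- The sum of `ρ x` over `x ∈ T`. -/
noncomputable def setSumEnd (ρ : Representation ℂ G V) (T : Finset G) : V →ₗ[ℂ] V :=
  ∑ x ∈ T, ρ x

theorem setSumEnd_comm (ρ : Representation ℂ G V) (T : Finset G)
    (hT : ∀ g x : G, x ∈ T → g * x * g⁻¹ ∈ T) (h : G) :
    setSumEnd ρ T ∘ₗ ρ h = ρ h ∘ₗ setSumEnd ρ T := by
  classical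
  simp only [setSumEnd, ← Module.End.mul_eq_comp, Finset.mul_sum, Finset.sum_mul]
  symm
  refine Finset.sum_equiv (MulAut.conj h).toEquiv ?_ ?_
  · intro x
    simp only [MulEquiv.toEquiv_eq_coe, EquivLike.coe_coe, MulAut.conj_apply]
    constructor
    · intro hx
      exact hT h x hx
    · intro hx
      have := hT h⁻¹ _ hx
      have e : h⁻¹ * (h * x * h⁻¹) * h⁻¹⁻¹ = x := by group
      rwa [e] at this
  · intro x _
    simp only [MulEquiv.toEquiv_eq_coe, EquivLike.coe_coe, MulAut.conj_apply, ← map_mul]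
    congr 1
    group

theorem isIntegral_setSumEnd [Finite G] (ρ : Representation ℂ G V) (T : Finset G) :
    IsIntegral ℤ (setSumEnd ρ T) := by
  classical
  have hz : IsIntegral ℤ (∑ x ∈ T, MonoidAlgebra.of ℤ G x) :=
    IsIntegral.of_finite ℤ _
  have := IsIntegral.map (intGroupRingHom ρ) hz
  rw [map_sum] at this
  simpa [intGroupRingHom, setSumEnd] using this

end

theorem int_normal {G : Type*} [Group G] [Finite G] {V : Type*} [AddCommGroup V] [Module ℂ V]
    [FiniteDimensional ℂ V] (ρ : Representation ℂ G V) [ρ.IsIrreducible] (T : Finset G)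
    (hT : ∀ g x : G, x ∈ T → g * x * g⁻¹ ∈ T) (c : ℤ)
    (hc : ∀ x ∈ T, LinearMap.trace ℂ V (ρ x) = (c : ℂ)) :
    (Module.finrank ℂ V : ℤ) ∣ (T.card : ℤ) * c := by
  classical
  haveI := Fintype.ofFinite G
  have hV := nontrivial_of_isIrreducible ρ
  obtain ⟨l, hl⟩ := exists_scalar_of_commute ρ (setSumEnd ρ T) (setSumEnd_comm ρ T hT)
  have htr : LinearMap.trace ℂ V (setSumEnd ρ T) = (T.card : ℂ) * (c : ℂ) := by
    rw [setSumEnd, map_sum, Finset.sum_congr rfl hc, Finset.sum_const, nsmul_eq_mul]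
  have hn : (Module.finrank ℂ V : ℂ) ≠ 0 :=
    Nat.cast_ne_zero.mpr (finrank_pos_of_isIrreducible ρ).ne'
  have hl2 : l * (Module.finrank ℂ V : ℂ) = (T.card : ℂ) * (c : ℂ) := by
    rw [← htr, hl, map_smul, LinearMap.trace_id, smul_eq_mul]
  -- `l` is integral
  have hint : IsIntegral ℤ l := by
    have h := isIntegral_setSumEnd ρ T
    rw [hl] at h
    have hinj : Function.Injective (algebraMap ℂ (Module.End ℂ V)) :=
      FaithfulSMul.algebraMap_injective ℂ (Module.End ℂ V)
    rw [← isIntegral_algebraMap_iff hinj]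
    convert h using 1
    rw [Algebra.algebraMap_eq_smul_one]
    rfl
  -- `l` is rational
  have hnQ : ((Module.finrank ℂ V : ℤ) : ℚ) ≠ 0 := by
    have := (finrank_pos_of_isIrreducible ρ).ne'
    exact_mod_cast this
  have hrat : l = algebraMap ℚ ℂ ((((T.card : ℤ) * c : ℤ) : ℚ) / ((Module.finrank ℂ V : ℤ) : ℚ)) := by
    rw [map_div₀, eq_div_iff (by simpa using hn)]
    simpa using hl2
  rw [hrat] at hint
  have hint2 : IsIntegral ℤ ((((T.card : ℤ) * c : ℤ) : ℚ) / ((Module.finrank ℂ V : ℤ) : ℚ)) :=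
    (isIntegral_algebraMap_iff (algebraMap ℚ ℂ).injective).1 hint
  obtain ⟨z, hz⟩ := (IsIntegrallyClosed.isIntegral_iff (R := ℤ) (K := ℚ)).1 hint2
  refine ⟨z, ?_⟩
  rw [eq_div_iff hnQ] at hz
  have : (((T.card : ℤ) * c : ℤ) : ℚ) = (((Module.finrank ℂ V : ℤ) * z : ℤ) : ℚ) := by
    rw [← hz]; push_cast; simp [mul_comm]
  exact_mod_cast this

end Cfsg.Agent.Lib.H20.SLMin
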