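/-
REE-F3 (helper20, for helper12's REE TORI project): the non-trivial elements of order dividing `(q-1)/2`
in an abstract Ree system.

Generic part (any finite group): if `Hs` is cyclic of order `2e` and the centraliser of every non-trivial
element of order dividing `e` is a conjugate of `Hs`, then
`#{y ≠ 1, y^e = 1} * |N(Hs)| = |Γ| (e - 1)`.
-/
import Cfsg.Agent.Lib.H12.ReeU5
import Cfsg.Agent.Lib.H29.ReeB2
import Cfsg.Agent.Lib.H29.ReeD2

set_option autoImplicit false
set_option linter.unusedSectionVars false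
set_option linter.unusedVariables false

namespace Cfsg.Agent.Lib.H20.Ree

open Cfsg.Agent.Lib.H12.ReeC Cfsg.Agent.Lib.H12.ReeC.RSys

/-- the generic count -/
theorem card_half_torus {Γ : Type*} [Group Γ] [Finite Γ] (Hs : Subgroup Γ) (e : ℕ) (he : 1 < e)
    (hcyc : IsCyclic Hs) (hcard : Nat.card Hs = 2 * e)
    (hC : ∀ y : Γ, y ≠ 1 → y ^ e = 1 →
      ∃ g : Γ, Subgroup.centralizer {y} = Hs.map (MulAut.conj g).toMonoidHom) :
    Nat.card {y : Γ // y ≠ 1 ∧ y ^ e = 1} * Nat.card (Subgroup.normalizer (Hs : Set Γ)) =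
      Nat.card Γ * (e - 1) := by
  classical
  have he0 : 0 < e := by omega
  obtain ⟨c, hc⟩ := hcyc.exists_generator
  have hordc : orderOf c = 2 * e := by
    rw [orderOf_eq_card_of_forall_mem_zpowers hc, hcard]
  have hord : orderOf (c : Γ) = 2 * e := by rw [Subgroup.orderOf_coe, hordc]
  have hcHs : (c : Γ) ∈ Hs := c.2
  -- `Hs` is commutative
  have hcomm : ∀ u ∈ Hs, ∀ v ∈ Hs, u * v = v * u := by
    intro u hu v hv
    obtain ⟨i, hi⟩ := Subgroup.mem_zpowers_iff.mp (hc ⟨u, hu⟩)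
    obtain ⟨j, hj⟩ := Subgroup.mem_zpowers_iff.mp (hc ⟨v, hv⟩)
    have hi' : u = (c : Γ) ^ i := by
      have := congrArg Subtype.val hi
      simpa using this.symm
    have hj' : v = (c : Γ) ^ j := by
      have := congrArg Subtype.val hj
      simpa using this.symm
    rw [hi', hj', ← zpow_add, ← zpow_add, add_comm]
  -- the subgroup of index two
  set H₂ : Subgroup Γ := Subgroup.zpowers ((c : Γ) ^ 2) with hH₂
  have hmem : ∀ u : Γ, u ∈ H₂ ↔ u ∈ Hs ∧ u ^ e = 1 := by
    intro u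
    constructor
    · intro hu
      obtain ⟨k, rfl⟩ := Subgroup.mem_zpowers_iff.mp hu
      refine ⟨Subgroup.zpow_mem _ (Subgroup.pow_mem _ hcHs 2) k, ?_⟩
      rw [← zpow_natCast, ← zpow_mul, ← zpow_natCast, ← zpow_mul]
      have : ((2 : ℕ) : ℤ) * (k * (e : ℤ)) = ((2 * e : ℕ) : ℤ) * k := by push_cast; ring
      rw [this, zpow_mul, zpow_natCast, ← hord, pow_orderOf_eq_one, one_zpow]
    · rintro ⟨hu, hue⟩
      obtain ⟨k, hk⟩ := Subgroup.mem_zpowers_iff.mp (hc ⟨u, hu⟩)
      have hk' : u = (c : Γ) ^ k := by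
        have := congrArg Subtype.val hk
        simpa using this.symm
      rw [hk', ← zpow_natCast, ← zpow_mul] at hue
      have h1 := orderOf_dvd_iff_zpow_eq_one.mpr hue
      rw [hord] at h1
      have h2 : (2 : ℤ) ∣ k := by
        push_cast at h1
        have h3 : (e : ℤ) * 2 ∣ (e : ℤ) * k := by
          rw [mul_comm (e : ℤ) 2, mul_comm (e : ℤ) k]; exact h1
        exact (mul_dvd_mul_iff_left (by exact_mod_cast he0.ne')).mp h3
      obtain ⟨j, rfl⟩ := h2
      rw [hk', Subgroup.mem_zpowers_iff]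
      refine ⟨j, ?_⟩
      rw [← zpow_natCast, ← zpow_mul]
      norm_num
  have hcardH₂ : Nat.card H₂ = e := by
    rw [hH₂, Nat.card_zpowers, orderOf_pow' _ (by norm_num : (2 : ℕ) ≠ 0), hord]
    have : Nat.gcd (2 * e) 2 = 2 := Nat.gcd_eq_right (Dvd.intro _ rfl)
    rw [this]
    omega
  -- the centraliser of a non-trivial element of `H₂`
  have hcent : ∀ y ∈ H₂, y ≠ 1 → Subgroup.centralizer {y} = Hs := by
    intro y hy hy1
    obtain ⟨hyHs, hye⟩ := (hmem y).mp hy
    obtain ⟨g, hg⟩ := hC y hy1 hye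
    symm
    apply Subgroup.eq_of_le_of_card_ge
    · intro u hu
      rw [Subgroup.mem_centralizer_singleton_iff]
      exact hcomm u hu y hyHs
    · rw [hg, Subgroup.card_map_of_injective (MulAut.conj g).injective]
  -- conjugation
  have hconj_pow : ∀ (g u : Γ) (k : ℕ), (g * u * g⁻¹) ^ k = g * u ^ k * g⁻¹ := by
    intro g u k
    exact conj_pow
  -- `g y g⁻¹ ∈ H₂`, `y ∈ H₂ \ 1` forces `g ∈ N(Hs)`
  have hkey : ∀ g : Γ, ∀ y ∈ H₂, y ≠ 1 → g * y * g⁻¹ ∈ H₂ → g ∈ Subgroup.normalizer (Hs : Set Γ) := by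
    intro g y hy hy1 hgy
    have hgy1 : g * y * g⁻¹ ≠ 1 := by
      intro h
      apply hy1
      have : y = g⁻¹ * (g * y * g⁻¹) * g := by group
      rw [this, h]; group
    have h1 := hcent y hy hy1
    have h2 := hcent _ hgy hgy1
    -- `C(g y g⁻¹) = g C(y) g⁻¹`
    rw [Subgroup.mem_normalizer_iff]
    intro u
    constructor
    · intro hu
      rw [← h2, Subgroup.mem_centralizer_singleton_iff]
      rw [← h1, Subgroup.mem_centralizer_singleton_iff] at hu
      calc g * u * g⁻¹ * (g * y * g⁻¹) = g * (u * y) * g⁻¹ := by group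
        _ = g * (y * u) * g⁻¹ := by rw [hu]
        _ = _ := by group
    · intro hu
      rw [← h1, Subgroup.mem_centralizer_singleton_iff]
      rw [← h2, Subgroup.mem_centralizer_singleton_iff] at hu
      calc u * y = g⁻¹ * (g * u * g⁻¹ * (g * y * g⁻¹)) * g := by group
        _ = g⁻¹ * (g * y * g⁻¹ * (g * u * g⁻¹)) * g := by rw [hu]
        _ = _ := by group
  -- `N(Hs) ≤ N(H₂)`
  have hNle : ∀ g : Γ, g ∈ Subgroup.normalizer (Hs : Set Γ) → g ∈ Subgroup.normalizer (H₂ : Set Γ) := by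
    intro g hg
    rw [Subgroup.mem_normalizer_iff] at hg ⊢
    intro u
    rw [hmem, hmem, hconj_pow]
    constructor
    · rintro ⟨hu, hue⟩
      exact ⟨(hg u).mp hu, by rw [hue]; group⟩
    · rintro ⟨hu, hue⟩
      refine ⟨(hg u).mpr hu, ?_⟩
      have : u ^ e = g⁻¹ * (g * u ^ e * g⁻¹) * g := by group
      rw [this, hue]; group
  -- a non-trivial element of `H₂`
  obtain ⟨y₀, hy₀, hy₀1⟩ : ∃ y ∈ H₂, y ≠ 1 := by
    by_contra hcon
    push Not at hcon
    have : H₂ = ⊥ := by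
      rw [Subgroup.eq_bot_iff_forall]; exact hcon
    rw [this, Subgroup.card_bot] at hcardH₂
    omega
  have hNeq : Subgroup.normalizer (H₂ : Set Γ) = Subgroup.normalizer (Hs : Set Γ) := by
    apply le_antisymm
    · intro g hg
      apply hkey g y₀ hy₀ hy₀1
      exact (Subgroup.mem_normalizer_iff.mp hg y₀).mp hy₀
    · exact hNle
  have hTI : ∀ g : Γ, ∀ y ∈ H₂, y ≠ 1 → g * y * g⁻¹ ∈ H₂ → g ∈ Subgroup.normalizer (H₂ : Set Γ) :=
    fun g y hy hy1 hgy => hNle g (hkey g y hy hy1 hgy)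
  have hcover := Cfsg.Agent.Lib.H29.Ree.card_conj_cover H₂ hTI
  rw [hNeq, hcardH₂] at hcover
  rw [← hcover]
  congr 1
  apply Nat.card_congr
  apply Equiv.subtypeEquivRight
  intro y
  constructor
  · rintro ⟨hy1, hye⟩
    refine ⟨hy1, ?_⟩
    obtain ⟨g, hg⟩ := hC y hy1 hye
    have hyC : y ∈ Subgroup.centralizer {y} := by
      rw [Subgroup.mem_centralizer_singleton_iff]
    rw [hg] at hyC
    obtain ⟨w, hw, hwy⟩ := Subgroup.mem_map.mp hyC
    have hwy' : g * w * g⁻¹ = y := hwy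
    refine ⟨g, ?_⟩
    have hw' : g⁻¹ * y * g = w := by rw [← hwy']; group
    rw [hw', hmem]
    refine ⟨hw, ?_⟩
    have : w ^ e = g⁻¹ * (g * w * g⁻¹) ^ e * g := by rw [hconj_pow]; group
    rw [this, hwy', hye]; group
  · rintro ⟨hy1, g, hg⟩
    refine ⟨hy1, ?_⟩
    have h1 := ((hmem _).mp hg).2
    have : y ^ e = g * (g⁻¹ * y * g) ^ e * g⁻¹ := by
      have := hconj_pow g⁻¹ y e
      rw [inv_inv] at this
      rw [this]; group
    rw [this, h1]; group

variable {G K : Type*} [Group G] [Field K] {R : RSys G K} [Fintype K] [Finite G]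

/-- **REE-F3** the non-trivial elements of order dividing `(q-1)/2`. -/
theorem card_split_elements {q : ℕ} (D : R.ReeData q) (hF : R.TorusFacts) (hq27 : 27 ≤ q) :
    Nat.card {y : G // y ≠ 1 ∧ y ^ ((q - 1) / 2) = 1} * (2 * (q - 1)) = Nat.card G * ((q - 1) / 2 - 1) := by
  have hq8 := D.hq8
  have hcyc : IsCyclic R.Hs := by
    have := R.isCyclic_Hs_map (1 : G)
    have e : R.Hs.map (MulAut.conj (1 : G)).toMonoidHom = R.Hs := by
      ext u
      simp
    rwa [e] at this
  have hcardHs : Nat.card R.Hs = 2 * ((q - 1) / 2) := by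
    rw [R.card_Hs, D.hq]; omega
  have hN := Cfsg.Agent.Lib.H29.Ree.card_normalizer_Hs R hF (by rw [D.hq]; omega)
  rw [D.hq] at hN
  have h := card_half_torus R.Hs ((q - 1) / 2) (by omega) hcyc hcardHs
    (fun y hy1 hy => R.centralizer_of_pow_half hF q D.hq D.hcard (by omega) y hy1 hy)
  rw [hN] at h
  exact h

end Cfsg.Agent.Lib.H20.Ree
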