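/-
EO project (even-dimensional orthogonal Aschbacher, architect helper26), module EM4, binary symmetric factor
(helper20): orthogonal twin of helper18's SM4-C (`Lib/H18/AschSM4C.lean`, whose form-free parts are reused).
`q` odd, `δ` an `f`-skew matrix (`f = polar Q`) with `δ² = μ ≠ 0` and `h δ = ± δ h` for `h ∈ H`:
`μ` a square ⇒ the two eigenspaces are totally singular ⇒ `EC2b`; otherwise `K = F + Fδ` ⇒ `EC3b`.
-/
import Cfsg.Agent.Lib.H18.AschSM4C
import Cfsg.Agent.Lib.H26.AschEDefs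
import Cfsg.Agent.Lib.H17.AschO2E1
import Cfsg.Agent.Lib.H24.AschOBasic

set_option autoImplicit false

namespace Cfsg.Agent.Lib.H20.AschE

open Cfsg Cfsg.Geo Cfsg.Agent.Lib.Lead.Asch Cfsg.Agent.Lib.H6.Asch Cfsg.Agent.Lib.H20.Asch
  Cfsg.Agent.Lib.H8.AschS Cfsg.Agent.Lib.H18.AschS Cfsg.Agent.Lib.H26.AschE Cfsg.Agent.Lib.H17.OP2
open scoped MatrixGroups Matrix Kronecker

variable {F : Type*} [Field F] [Fintype F] {n : ℕ}

/-! ## The split case -/

theorem ec2b_of_split (Q : (Fin n → F) → F) (hQ : IsNondegenerateQuadraticForm Q)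
    (hq : Odd (Fintype.card F))
    (H : Subgroup (GL (Fin n) F)) (hn : 0 < n) (δ : Matrix (Fin n) (Fin n) F) (c : F) (hc : c ≠ 0)
    (hδ2 : δ * δ = (c * c) • (1 : Matrix (Fin n) (Fin n) F))
    (hskew : ∀ u v, QuadraticMap.polar Q (δ *ᵥ u) v = - QuadraticMap.polar Q u (δ *ᵥ v))
    (hH : ∀ h ∈ H, ∃ ε : F, (ε = 1 ∨ ε = -1) ∧
      (h : Matrix (Fin n) (Fin n) F) * δ = ε • (δ * (h : Matrix (Fin n) (Fin n) F))) :
    EC2b Q H := by
  have h2 := two_ne_zero_of_odd hq
  have hb := hQ.polar_bilinear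
  have hδδ : ∀ v : Fin n → F, δ *ᵥ (δ *ᵥ v) = (c * c) • v := by
    intro v
    rw [Matrix.mulVec_mulVec, hδ2, Matrix.smul_mulVec, Matrix.one_mulVec]
  -- totally isotropic
  have hti : ∀ i, ∀ u ∈ eigS δ c i, ∀ v ∈ eigS δ c i, QuadraticMap.polar Q u v = 0 := by
    intro i u hu v hv
    rw [mem_eigS] at hu hv
    have h1 := hskew u v
    rw [hu, hv, hb.smul_left, hb.smul_right] at h1
    have h3 : (2 * evS c i) * QuadraticMap.polar Q u v = 0 := by linear_combination h1
    rcases mul_eq_zero.1 h3 with h4 | h4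
    · exact absurd h4 (mul_ne_zero h2 (evS_ne_zero hc i))
    · exact h4
  -- totally singular
  have hts : ∀ i, IsTotallySingularQuad Q (eigS δ c i) := by
    intro i u hu
    have h4 := hti i u hu u hu
    rw [Cfsg.Agent.Lib.H24.Asch.polar_self hQ] at h4
    exact (mul_eq_zero.1 h4).resolve_left h2
  -- complementary
  have hdisj : eigS δ c 0 ⊓ eigS δ c 1 = ⊥ := by
    rw [eq_bot_iff]
    rintro v ⟨hv0, hv1⟩
    rw [SetLike.mem_coe, mem_eigS] at hv0 hv1
    rw [Submodule.mem_bot]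
    have h1 : (2 * c) • v = 0 := by
      have : evS c 0 • v = evS c 1 • v := by rw [← hv0, ← hv1]
      have h3 : evS c 0 = c := rfl
      have h4 : evS c 1 = -c := rfl
      rw [h3, h4] at this
      rw [two_mul, add_smul]
      nth_rewrite 1 [this]
      rw [neg_smul, neg_add_cancel]
    rcases smul_eq_zero.1 h1 with h3 | h3
    · exact absurd h3 (mul_ne_zero h2 hc)
    · exact h3
  have hsup : eigS δ c 0 ⊔ eigS δ c 1 = ⊤ := by
    rw [eq_top_iff]
    intro v _
    have ha : (2⁻¹ : F) • (v + c⁻¹ • δ *ᵥ v) ∈ eigS δ c 0 := by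
      rw [mem_eigS]
      have h3 : evS c 0 = c := rfl
      rw [h3, Matrix.mulVec_smul, Matrix.mulVec_add, Matrix.mulVec_smul, hδδ, smul_smul, smul_smul,
        smul_add, smul_add, smul_smul, smul_smul]
      have e1 : 2⁻¹ * (c⁻¹ * (c * c)) = c * 2⁻¹ := by field_simp
      have e2 : c * 2⁻¹ * c⁻¹ = 2⁻¹ := by field_simp
      rw [e1, e2, add_comm]
    have hb' : (2⁻¹ : F) • (v - c⁻¹ • δ *ᵥ v) ∈ eigS δ c 1 := by
      rw [mem_eigS]
      have h3 : evS c 1 = -c := rfl
      rw [h3, Matrix.mulVec_smul, Matrix.mulVec_sub, Matrix.mulVec_smul, hδδ, smul_smul, smul_smul,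
        smul_sub, smul_sub, smul_smul, smul_smul]
      have e1 : 2⁻¹ * (c⁻¹ * (c * c)) = c * 2⁻¹ := by field_simp
      have e2 : -c * 2⁻¹ * c⁻¹ = -2⁻¹ := by field_simp
      rw [e1, e2]
      module
    have hv : v = (2⁻¹ : F) • (v + c⁻¹ • δ *ᵥ v) + (2⁻¹ : F) • (v - c⁻¹ • δ *ᵥ v) := by
      rw [← smul_add, add_add_sub_cancel, ← two_smul F v, smul_smul, inv_mul_cancel₀ h2, one_smul]
    rw [hv]
    exact Submodule.add_mem_sup ha hb'
  -- dimensions
  have hdim := Submodule.finrank_sup_add_finrank_inf_eq (eigS δ c 0) (eigS δ c 1)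
  rw [hsup, hdisj, finrank_bot, finrank_top, Module.finrank_fin_fun, add_zero] at hdim
  have hle : ∀ i, 2 * Module.finrank F (eigS δ c i) ≤ n := by
    intro i
    have h1 : eigS δ c i ≤ (BpG hQ).orthogonal (eigS δ c i) := by
      intro v hv w hw
      exact hti i w hw v hv
    have h3 := Submodule.finrank_mono h1
    rw [LinearMap.BilinForm.finrank_orthogonal (BpG_nondeg hQ), Module.finrank_fin_fun] at h3
    have h4 : Module.finrank F (eigS δ c i) ≤ n := by
      have := Submodule.finrank_le (eigS δ c i)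
      rwa [Module.finrank_fin_fun] at this
    omega
  have hle0 := hle 0
  have hle1 := hle 1
  refine ⟨Module.finrank F (eigS δ c 0), eigS δ c, ?_, hts, ?_⟩
  · refine ⟨le_refl _, by omega, ?_, ?_, ?_⟩
    · intro i
      fin_cases i
      · rfl
      · show Module.finrank F (eigS δ c 1) = Module.finrank F (eigS δ c 0)
        omega
    · rw [iSupIndep_pair (i := (0 : Fin 2)) (j := 1) (by decide)
        (by intro i; fin_cases i <;> simp)]
      rw [disjoint_iff]
      exact hdisj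
    · rw [eq_top_iff, ← hsup]
      exact sup_le (le_iSup (eigS δ c) 0) (le_iSup (eigS δ c) 1)
  · intro h hh
    obtain ⟨ε, hε, hcomm⟩ := hH h hh
    rcases hε with rfl | rfl
    · refine ⟨1, fun i => ?_⟩
      exact map_eigS δ c h 1 (by ring) hcomm i i (by rw [one_mul])
    · refine ⟨Equiv.swap 0 1, fun i => ?_⟩
      apply map_eigS δ c h (-1) (by ring) hcomm
      fin_cases i
      · show evS c (Equiv.swap (0 : Fin 2) 1 0) = -1 * evS c 0
        rw [Equiv.swap_apply_left]
        show -c = -1 * c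
        ring
      · show evS c (Equiv.swap (0 : Fin 2) 1 1) = -1 * evS c 1
        rw [Equiv.swap_apply_right]
        show c = -1 * -c
        ring

/-! ## The non-split case -/

theorem ec3b_of_nonsplit (Q : (Fin n → F) → F) (hQ : IsNondegenerateQuadraticForm Q)
    (hq : Odd (Fintype.card F))
    (H : Subgroup (GL (Fin n) F)) (hn : 0 < n) (δ : Matrix (Fin n) (Fin n) F) (μ : F)
    (hμ : ∀ c : F, μ ≠ c * c)
    (hδ2 : δ * δ = μ • (1 : Matrix (Fin n) (Fin n) F))
    (hskew : ∀ u v, QuadraticMap.polar Q (δ *ᵥ u) v = - QuadraticMap.polar Q u (δ *ᵥ v))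
    (hH : ∀ h ∈ H, ∃ ε : F, (ε = 1 ∨ ε = -1) ∧
      (h : Matrix (Fin n) (Fin n) F) * δ = ε • (δ * (h : Matrix (Fin n) (Fin n) F))) :
    EC3b Q H := by
  have h2 := two_ne_zero_of_odd hq
  have hb := hQ.polar_bilinear
  haveI : Nonempty (Fin n) := ⟨⟨0, hn⟩⟩
  have hone : (1 : Matrix (Fin n) (Fin n) F) ≠ 0 := one_ne_zero
  -- `1, δ` are independent
  have hind : ∀ a b : F, a • (1 : Matrix (Fin n) (Fin n) F) + b • δ = 0 → a = 0 ∧ b = 0 := by
    intro a b hab
    have hb0 : b = 0 := by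
      by_contra hb0
      have h1 : δ = (-(a / b)) • (1 : Matrix (Fin n) (Fin n) F) := by
        have h3 : b • δ = (-a) • (1 : Matrix (Fin n) (Fin n) F) := by
          rw [neg_smul]
          exact eq_neg_of_add_eq_zero_right hab
        have h4 := congrArg (fun M => b⁻¹ • M) h3
        simp only [smul_smul, inv_mul_cancel₀ hb0, one_smul] at h4
        rw [h4]
        congr 1
        field_simp
      have h3 : δ * δ = ((a / b) * (a / b)) • (1 : Matrix (Fin n) (Fin n) F) := by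
        rw [h1, smul_mul_smul_comm, one_mul, neg_mul_neg]
      rw [hδ2] at h3
      have h4 : (μ - (a / b) * (a / b)) • (1 : Matrix (Fin n) (Fin n) F) = 0 := by
        rw [sub_smul, h3, sub_self]
      rcases smul_eq_zero.1 h4 with h5 | h5
      · exact hμ (a / b) (sub_eq_zero.1 h5)
      · exact hone h5
    refine ⟨?_, hb0⟩
    rw [hb0, zero_smul, add_zero] at hab
    rcases smul_eq_zero.1 hab with h5 | h5
    · exact h5
    · exact absurd h5 hone
  have hδK : δ ∈ quadAlg δ μ hδ2 := ⟨0, 1, by rw [zero_smul, zero_add, one_smul]⟩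
  have hδδ : ∀ v : Fin n → F, δ *ᵥ (δ *ᵥ v) = μ • v := by
    intro v
    rw [Matrix.mulVec_mulVec, hδ2, Matrix.smul_mulVec, Matrix.one_mulVec]
  refine ⟨quadAlg δ μ hδ2, ⟨?_, ?_, ?_⟩, ?_, ?_, ?_, ?_⟩
  · -- commutative
    rintro _ ⟨a, b, rfl⟩ _ ⟨a', b', rfl⟩
    simp only [add_mul, mul_add, smul_mul_smul_comm, one_mul, mul_one, hδ2]
    module
  · -- inverses
    rintro _ ⟨a, b, rfl⟩ hx
    have hN : a * a - b * b * μ ≠ 0 := by
      intro hN
      by_cases hb0 : b = 0
      · rw [hb0, zero_mul, zero_mul, sub_zero] at hN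
        have ha : a = 0 := mul_self_eq_zero.1 hN
        apply hx
        rw [ha, hb0, zero_smul, zero_smul, add_zero]
      · apply hμ (a / b)
        field_simp
        linear_combination -hN
    refine ⟨(a * a - b * b * μ)⁻¹ • (a • (1 : Matrix (Fin n) (Fin n) F) + (-b) • δ),
      ⟨(a * a - b * b * μ)⁻¹ * a, (a * a - b * b * μ)⁻¹ * (-b), by
        rw [smul_add, smul_smul, smul_smul]⟩, ?_⟩
    rw [mul_smul_comm]
    have h1 : (a • (1 : Matrix (Fin n) (Fin n) F) + b • δ) * (a • (1 : Matrix (Fin n) (Fin n) F) + (-b) • δ)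
        = (a * a - b * b * μ) • (1 : Matrix (Fin n) (Fin n) F) := by
      simp only [add_mul, mul_add, smul_mul_smul_comm, one_mul, mul_one, hδ2]
      module
    rw [h1, smul_smul, inv_mul_cancel₀ hN, one_smul]
  · -- dimension two
    have hspan : Subalgebra.toSubmodule (quadAlg δ μ hδ2) =
        Submodule.span F (Set.range ![(1 : Matrix (Fin n) (Fin n) F), δ]) := by
      ext x
      rw [Subalgebra.mem_toSubmodule, mem_quadAlg, Submodule.mem_span_range_iff_exists_fun]
      constructor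
      · rintro ⟨a, b, rfl⟩
        exact ⟨![a, b], by simp [Fin.sum_univ_two]⟩
      · rintro ⟨c, rfl⟩
        exact ⟨c 0, c 1, by simp [Fin.sum_univ_two]⟩
    have hli : LinearIndependent F ![(1 : Matrix (Fin n) (Fin n) F), δ] := by
      rw [LinearIndependent.pair_iff]
      intro a b hab
      exact hind a b hab
    have h1 := finrank_span_eq_card hli
    rw [← hspan, Fintype.card_fin] at h1
    exact h1
  · -- adjoint-closed
    rintro _ ⟨a, b, rfl⟩
    refine ⟨a • (1 : Matrix (Fin n) (Fin n) F) + (-b) • δ, ⟨a, -b, rfl⟩, fun u v => ?_⟩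
    simp only [Matrix.add_mulVec, Matrix.smul_mulVec, Matrix.one_mulVec, hb.add_left,
      hb.add_right, hb.smul_left, hb.smul_right, hskew]
    ring
  · -- not self-adjoint
    intro hsa
    have h1 : ∀ u v, QuadraticMap.polar Q (δ *ᵥ u) v = 0 := by
      intro u v
      have h3 := hsa δ hδK u v
      have h4 := hskew u v
      have h5 : 2 * QuadraticMap.polar Q (δ *ᵥ u) v = 0 := by linear_combination h3 + h4
      rcases mul_eq_zero.1 h5 with h6 | h6
      · exact absurd h6 h2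
      · exact h6
    have h3 : ∀ u, δ *ᵥ u = 0 := by
      intro u
      by_contra hne
      obtain ⟨x, hx⟩ := (hQ.nondegenerate _ hne).2
      exact hx (h1 u x)
    have h4 : δ = 0 := by
      ext i j
      have := congrFun (h3 (Pi.single j 1)) i
      simpa using this
    have hμ0 : μ = 0 := by
      have h5 : μ • (1 : Matrix (Fin n) (Fin n) F) = 0 := by rw [← hδ2, h4, mul_zero]
      rcases smul_eq_zero.1 h5 with h6 | h6
      · exact h6
      · exact absurd h6 hone
    exact hμ 0 (by rw [hμ0, mul_zero])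
  · -- every element of `K` is a similitude of `Q`
    rintro _ ⟨a, b, rfl⟩
    refine ⟨a * a - b * b * μ, fun v => ?_⟩
    have e1 : (a • (1 : Matrix (Fin n) (Fin n) F) + b • δ) *ᵥ v = a • v + b • δ *ᵥ v := by
      rw [Matrix.add_mulVec, Matrix.smul_mulVec, Matrix.one_mulVec, Matrix.smul_mulVec]
    have h5 := Cfsg.Agent.Lib.H24.Asch.polar_self hQ (a • v + b • δ *ᵥ v)
    have h6 := Cfsg.Agent.Lib.H24.Asch.polar_self hQ v
    have h7 := hskew v v
    have h8 := hskew v (δ *ᵥ v)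
    rw [hδδ, hb.smul_right] at h8
    simp only [hb.add_left, hb.add_right, hb.smul_left, hb.smul_right] at h5
    rw [e1]
    have h9 : 2 * (Q (a • v + b • δ *ᵥ v) - (a * a - b * b * μ) * Q v) = 0 := by
      linear_combination -h5 + (a * a - b * b * μ) * h6 + (a * b) * h7 + (b * b) * h8
    have := (mul_eq_zero.1 h9).resolve_left h2
    linear_combination this
  · -- normalised
    have key : ∀ g : GL (Fin n) F, ∀ ε : F, ε * ε = 1 →
        (g : Matrix (Fin n) (Fin n) F) * δ = ε • (δ * (g : Matrix (Fin n) (Fin n) F)) →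
        ∀ k ∈ quadAlg δ μ hδ2, (g : Matrix (Fin n) (Fin n) F) * k *
          ((g⁻¹ : GL (Fin n) F) : Matrix (Fin n) (Fin n) F) ∈ quadAlg δ μ hδ2 := by
      rintro g ε hε hg _ ⟨a, b, rfl⟩
      refine ⟨a, b * ε, ?_⟩
      have hgg : (g : Matrix (Fin n) (Fin n) F) * ((g⁻¹ : GL (Fin n) F) : Matrix (Fin n) (Fin n) F) = 1 := by
        rw [← Units.val_mul, mul_inv_cancel, Units.val_one]
      rw [mul_add, add_mul, mul_smul_comm, mul_one, smul_mul_assoc, hgg, mul_smul_comm, hg,
        smul_mul_assoc, smul_mul_assoc, Matrix.mul_assoc, hgg, mul_one, smul_smul]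
    intro h hh
    obtain ⟨ε, hε, hcomm⟩ := hH h hh
    have hεε : ε * ε = 1 := by
      rcases hε with rfl | rfl <;> ring
    intro k
    constructor
    · exact key h ε hεε hcomm k
    · intro hk
      have hcomm' : ((h⁻¹ : GL (Fin n) F) : Matrix (Fin n) (Fin n) F) * δ =
          ε • (δ * ((h⁻¹ : GL (Fin n) F) : Matrix (Fin n) (Fin n) F)) := by
        have hgg : ((h⁻¹ : GL (Fin n) F) : Matrix (Fin n) (Fin n) F) * (h : Matrix (Fin n) (Fin n) F) = 1 := by
          rw [← Units.val_mul, inv_mul_cancel, Units.val_one]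
        have hgg' : (h : Matrix (Fin n) (Fin n) F) * ((h⁻¹ : GL (Fin n) F) : Matrix (Fin n) (Fin n) F) = 1 := by
          rw [← Units.val_mul, mul_inv_cancel, Units.val_one]
        have h1 : δ * ((h⁻¹ : GL (Fin n) F) : Matrix (Fin n) (Fin n) F) =
            ε • (((h⁻¹ : GL (Fin n) F) : Matrix (Fin n) (Fin n) F) * δ) := by
          calc δ * ((h⁻¹ : GL (Fin n) F) : Matrix (Fin n) (Fin n) F)
              = ((h⁻¹ : GL (Fin n) F) : Matrix (Fin n) (Fin n) F) * ((h : Matrix (Fin n) (Fin n) F) * δ) *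
                  ((h⁻¹ : GL (Fin n) F) : Matrix (Fin n) (Fin n) F) := by
                rw [← Matrix.mul_assoc, hgg, one_mul]
            _ = ε • (((h⁻¹ : GL (Fin n) F) : Matrix (Fin n) (Fin n) F) * δ) := by
                rw [hcomm, mul_smul_comm, smul_mul_assoc, ← Matrix.mul_assoc, Matrix.mul_assoc, hgg',
                  mul_one]
        rw [h1, smul_smul, hεε, one_smul]
      have h3 := key h⁻¹ ε hεε hcomm' _ hk
      rw [inv_inv] at h3
      have h4 : ((h⁻¹ : GL (Fin n) F) : Matrix (Fin n) (Fin n) F) *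
          ((h : Matrix (Fin n) (Fin n) F) * k * ((h⁻¹ : GL (Fin n) F) : Matrix (Fin n) (Fin n) F)) *
          (h : Matrix (Fin n) (Fin n) F) = k := by
        have hgg : ((h⁻¹ : GL (Fin n) F) : Matrix (Fin n) (Fin n) F) * (h : Matrix (Fin n) (Fin n) F) = 1 := by
          rw [← Units.val_mul, inv_mul_cancel, Units.val_one]
        rw [← Matrix.mul_assoc, ← Matrix.mul_assoc, hgg, one_mul, Matrix.mul_assoc, hgg, mul_one]
      rw [h4] at h3
      exact h3

theorem ec2b_or_ec3b_of_skew (Q : (Fin n → F) → F) (hQ : IsNondegenerateQuadraticForm Q)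
    (hq : Odd (Fintype.card F))
    (H : Subgroup (GL (Fin n) F)) (hn : 0 < n) (δ : Matrix (Fin n) (Fin n) F) (μ : F) (hμ0 : μ ≠ 0)
    (hδ2 : δ * δ = μ • (1 : Matrix (Fin n) (Fin n) F))
    (hskew : ∀ u v, QuadraticMap.polar Q (δ *ᵥ u) v = - QuadraticMap.polar Q u (δ *ᵥ v))
    (hH : ∀ h ∈ H, ∃ ε : F, (ε = 1 ∨ ε = -1) ∧
      (h : Matrix (Fin n) (Fin n) F) * δ = ε • (δ * (h : Matrix (Fin n) (Fin n) F))) :
    EC2b Q H ∨ EC3b Q H := by
  by_cases h : ∃ c : F, μ = c * c
  · obtain ⟨c, rfl⟩ := h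
    have hc : c ≠ 0 := by
      intro h0
      apply hμ0
      rw [h0, mul_zero]
    exact Or.inl (ec2b_of_split Q hQ hq H hn δ c hc hδ2 hskew hH)
  · push Not at h
    exact Or.inr (ec3b_of_nonsplit Q hQ hq H hn δ μ h hδ2 hskew hH)

/-- **EM4-C**: binary symmetric factor, `q` odd. -/
theorem ec2b_or_ec3b_of_tensor_two (Q : (Fin n → F) → F) (hQ : IsNondegenerateQuadraticForm Q)
    (hq : Odd (Fintype.card F))
    (H : Subgroup (GL (Fin n) F)) (hH : FixesForm (matrixSet H) (QuadraticMap.polar Q))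
    {n₁ : ℕ} (hn₁ : 0 < n₁) (e : Fin n ≃ Fin n₁ × Fin 2) (P : GL (Fin n) F)
    (A : Matrix (Fin n₁) (Fin n₁) F) (S : Matrix (Fin 2) (Fin 2) F)
    (hS : Sᵀ = S) (hAdet : IsUnit A.det) (hSdet : IsUnit S.det)
    (hform : ∀ x y : Fin n₁ × Fin 2 → F,
      QuadraticMap.polar Q (((P⁻¹ : GL (Fin n) F) : Matrix (Fin n) (Fin n) F) *ᵥ (x ∘ e))
        (((P⁻¹ : GL (Fin n) F) : Matrix (Fin n) (Fin n) F) *ᵥ (y ∘ e)) =
        formOfGram id (A ⊗ₖ S) x y)
    (hkron : ∀ h ∈ H, glReindex e (P * h * P⁻¹) ∈ kroneckerSubgroup n₁ 2 F) :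
    EC2b Q H ∨ EC3b Q H := by
  have hn : 0 < n := by
    have h3 := Fintype.card_congr e
    rw [Fintype.card_fin, Fintype.card_prod, Fintype.card_fin, Fintype.card_fin] at h3
    omega
  have hA0 : A ≠ 0 := ne_zero_of_isUnit_det hn₁ A hAdet
  have hS0 : S ≠ 0 := ne_zero_of_isUnit_det (by norm_num) S hSdet
  have hSd : S.det ≠ 0 := hSdet.ne_zero
  apply ec2b_or_ec3b_of_skew Q hQ hq H hn (trM e P (M0 n₁ S)) (-S.det) (neg_ne_zero.2 hSd)
  · rw [← trM_mul, M0_sq S hS, trM_smul, trM_one]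
  · intro u v
    obtain ⟨X, rfl⟩ := exists_coord e P u
    obtain ⟨Y, rfl⟩ := exists_coord e P v
    rw [trM_mulVec, trM_mulVec, hform, hform, formOfGram_mulVec_left, formOfGram_mulVec_right,
      M0_skew A S hS, formOfGram_neg_matrix]
  · intro h hh
    obtain ⟨a, b, hab⟩ := hkron h hh
    have hfix := gram_fix_of_fixesForm H hH e P (A ⊗ₖ S) hform h hh
    rw [hab] at hfix
    obtain ⟨ε, hε, hcomm⟩ := M0_comm A (a : Matrix (Fin n₁) (Fin n₁) F) S
      (b : Matrix (Fin 2) (Fin 2) F) hA0 hS0 hSd hfix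
    refine ⟨ε, hε, ?_⟩
    have h1 : (h : Matrix (Fin n) (Fin n) F) =
        trM e P ((a : Matrix (Fin n₁) (Fin n₁) F) ⊗ₖ (b : Matrix (Fin 2) (Fin 2) F)) := by
      rw [← hab, trM_glReindex]
    rw [h1, ← trM_mul, ← trM_mul, hcomm, trM_smul]

end Cfsg.Agent.Lib.H20.AschE
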