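/-
Even-dimensional orthogonal Aschbacher project (EO), tensor case, helper20: def-independent core for
characteristic 2.  If `Q` is a quadratic map on `F^n` (`|F|` even) fixed by a subgroup `N` with homogeneous
data `D` of degree `d ≥ 2`, and the polar form of `Q` is `G₁ ⊗ C` in the coordinates of `D` with `G₁`, `C`
symmetric with zero diagonal, `G₁` fixed by `ρ(N)`, then `Q` VANISHES ON THE PURE TENSORS of these coordinates.
(The difference of `Q` and the standard quadratic form of `G₁ ⊗ C` is additive, `c²`-homogeneous and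
`N`-invariant; on each summand `F^d ⊗ e_j` its zero set is an invariant subspace of codimension ≤ 1.)
-/
import Cfsg.Agent.Lib.H3.AschSM4D
import Cfsg.Agent.Lib.H8.AschSM4E

set_option autoImplicit false

namespace Cfsg.Agent.Lib.H20.Asch

open Cfsg Cfsg.Geo Cfsg.Agent.Lib.Lead.Asch Cfsg.Agent.Lib.H6.Asch
open scoped MatrixGroups Matrix Kronecker

variable {F : Type*} [Field F]

/-- An additive, `c²`-homogeneous map on `F^d` (`d ≥ 2`, `F` finite of characteristic 2) invariant under an
irreducible set of matrices vanishes. -/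
theorem semiquad_zero_of_irr [Finite F] (h2 : (2 : F) = 0) {d : ℕ} (hd : 2 ≤ d)
    (S : Set (Matrix (Fin d) (Fin d) F)) (hirr : ActsIrreducibly S)
    (φ : (Fin d → F) → F) (hadd : ∀ u v, φ (u + v) = φ u + φ v)
    (hsmul : ∀ (c : F) v, φ (c • v) = c ^ 2 * φ v)
    (hinv : ∀ s ∈ S, ∀ v, φ (s *ᵥ v) = φ v) (v : Fin d → F) : φ v = 0 := by
  have h0 : φ 0 = 0 := by
    have := hsmul 0 0
    rw [zero_smul] at this
    rw [this]; ring
  let K : Submodule F (Fin d → F) :=
    { carrier := {v | φ v = 0}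
      add_mem' := by
        intro a b ha hb
        show φ (a + b) = 0
        rw [hadd, show φ a = 0 from ha, show φ b = 0 from hb, add_zero]
      zero_mem' := h0
      smul_mem' := by
        intro c v hv
        show φ (c • v) = 0
        rw [hsmul, show φ v = 0 from hv, mul_zero] }
  have hKmem : ∀ v, v ∈ K ↔ φ v = 0 := fun v => Iff.rfl
  have hKinv : ∀ s ∈ S, K.map (Matrix.toLin' s) ≤ K := by
    rintro s hs _ ⟨v, hv, rfl⟩
    rw [hKmem, Matrix.toLin'_apply, hinv s hs]
    exact hv
  have hKne : K ≠ ⊥ := by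
    intro hbot
    set i0 : Fin d := ⟨0, by omega⟩ with hi0
    set i1 : Fin d := ⟨1, by omega⟩ with hi1
    have h01 : i1 ≠ i0 := by
      intro h
      have := congrArg Fin.val h
      simp [hi0, hi1] at this
    by_cases hz : φ (Pi.single i0 1) = 0
    · have hmem : (Pi.single i0 1 : Fin d → F) ∈ K := hz
      rw [hbot, Submodule.mem_bot] at hmem
      have := congrFun hmem i0
      simp at this
    · obtain ⟨c, hc⟩ := Cfsg.Agent.Lib.H8.AschS.sq_surjective h2
        (φ (Pi.single i1 1) / φ (Pi.single i0 1))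
      have hmem : (Pi.single i1 1 + c • Pi.single i0 1 : Fin d → F) ∈ K := by
        rw [hKmem, hadd, hsmul, hc, div_mul_cancel₀ _ hz]
        have : φ (Pi.single i1 1) + φ (Pi.single i1 1) = 2 * φ (Pi.single i1 1) := by ring
        rw [this, h2, zero_mul]
      rw [hbot, Submodule.mem_bot] at hmem
      have := congrFun hmem i1
      simp [Pi.single_eq_of_ne h01] at this
  rcases hirr K hKinv with h | h
  · exact absurd h hKne
  · have : v ∈ K := by rw [h]; exact Submodule.mem_top
    exact this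

variable [Fintype F] {n : ℕ}

/-- **Characteristic 2: `Q` vanishes on the pure tensors** of the coordinates of a homogeneous normal
subgroup in which its polar form is a tensor product of two alternating forms. -/
theorem quad_pure_eq_zero (h2 : (2 : F) = 0) (Q : (Fin n → F) → F)
    (hsmul : ∀ (c : F) (v : Fin n → F), Q (c • v) = c ^ 2 * Q v)
    (N : Subgroup (GL (Fin n) F))
    (hN : ∀ x ∈ N, ∀ v : Fin n → F, Q ((x : Matrix (Fin n) (Fin n) F) *ᵥ v) = Q v)
    (D : HomogData N) (hd : 2 ≤ D.d)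
    (G₁ : Matrix (Fin D.d) (Fin D.d) F) (C : Matrix (Fin D.k) (Fin D.k) F)
    (hG₁ : G₁ᵀ = G₁) (hC : Cᵀ = C) (hG₁0 : ∀ a, G₁ a a = 0) (hC0 : ∀ b, C b b = 0)
    (hfix : ∀ x : N, ((D.ρ x : GL (Fin D.d) F) : Matrix (Fin D.d) (Fin D.d) F)ᵀ * G₁ *
        ((D.ρ x : GL (Fin D.d) F) : Matrix (Fin D.d) (Fin D.d) F) = G₁)
    (hform : ∀ x y : Fin D.d × Fin D.k → F,
      QuadraticMap.polar Q (((D.P⁻¹ : GL (Fin n) F) : Matrix (Fin n) (Fin n) F) *ᵥ (x ∘ D.e))
        (((D.P⁻¹ : GL (Fin n) F) : Matrix (Fin n) (Fin n) F) *ᵥ (y ∘ D.e)) =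
        formOfGram id (G₁ ⊗ₖ C) x y)
    (v : Fin D.d → F) (w : Fin D.k → F) :
    Q (((D.P⁻¹ : GL (Fin n) F) : Matrix (Fin n) (Fin n) F) *ᵥ ((fun p => v p.1 * w p.2) ∘ D.e)) = 0 := by
  classical
  obtain ⟨Q₀, hQ₀smul, hQ₀pol, hQ₀pure⟩ :=
    Cfsg.Agent.Lib.H3.AschS.exists_quad_of_tensor_alt h2 G₁ C hG₁ hC hG₁0 hC0
  set T : (Fin D.d × Fin D.k → F) → (Fin n → F) := fun X => (transEquiv D.e D.P).symm X with hT
  have hTe : ∀ X, T X = ((D.P⁻¹ : GL (Fin n) F) : Matrix (Fin n) (Fin n) F) *ᵥ (X ∘ D.e) :=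
    fun X => transEquiv_symm_apply D.e D.P X
  set Δ : (Fin D.d × Fin D.k → F) → F := fun X => Q (T X) - Q₀ X with hΔ
  -- Δ is additive
  have hΔadd : ∀ X Y, Δ (X + Y) = Δ X + Δ Y := by
    intro X Y
    have h1 : QuadraticMap.polar Q (T X) (T Y) = QuadraticMap.polar Q₀ X Y := by
      rw [hTe, hTe, hform, hQ₀pol]
    unfold QuadraticMap.polar at h1
    have h3 : T (X + Y) = T X + T Y := map_add _ X Y
    simp only [hΔ]
    rw [h3]
    linear_combination h1
  have hΔsmul : ∀ (c : F) X, Δ (c • X) = c ^ 2 * Δ X := by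
    intro c X
    have h3 : T (c • X) = c • T X := map_smul _ c X
    simp only [hΔ]
    rw [h3, hsmul, hQ₀smul]
    ring
  have hΔ0 : Δ 0 = 0 := by
    have := hΔsmul 0 0
    rw [zero_smul] at this
    rw [this]; ring
  -- Δ is invariant under ρ x ⊗ 1
  have hΔinv : ∀ x : N, ∀ X, Δ ((((D.ρ x : GL (Fin D.d) F) : Matrix (Fin D.d) (Fin D.d) F) ⊗ₖ
      (1 : Matrix (Fin D.k) (Fin D.k) F)) *ᵥ X) = Δ X := by
    intro x X
    have e1 : ((glReindex D.e (D.P * (x : GL (Fin n) F) * D.P⁻¹) : GL (Fin D.d × Fin D.k) F) :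
          Matrix (Fin D.d × Fin D.k) (Fin D.d × Fin D.k) F) =
        ((D.ρ x : GL (Fin D.d) F) : Matrix (Fin D.d) (Fin D.d) F) ⊗ₖ
          (1 : Matrix (Fin D.k) (Fin D.k) F) := by
      ext i j
      rw [glReindex_apply_apply, D.eq x]
      simp
    have e2 : T ((((D.ρ x : GL (Fin D.d) F) : Matrix (Fin D.d) (Fin D.d) F) ⊗ₖ
        (1 : Matrix (Fin D.k) (Fin D.k) F)) *ᵥ X) =
        ((x : GL (Fin n) F) : Matrix (Fin n) (Fin n) F) *ᵥ T X := by
      rw [← e1]
      exact Cfsg.Agent.Lib.H8.AschS.transEquiv_symm_mulVec D.e D.P (x : GL (Fin n) F) X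
    have e3 : Q₀ ((((D.ρ x : GL (Fin D.d) F) : Matrix (Fin D.d) (Fin D.d) F) ⊗ₖ
        (1 : Matrix (Fin D.k) (Fin D.k) F)) *ᵥ X) = Q₀ X := by
      apply Cfsg.Agent.Lib.H3.AschS.SM4D_quad_fixed (G₁ ⊗ₖ C) Q₀ hQ₀smul hQ₀pol hQ₀pure
      rw [Cfsg.Agent.Lib.H8.AschS.kron_transpose, ← Matrix.mul_kronecker_mul,
        ← Matrix.mul_kronecker_mul, hfix x, Matrix.transpose_one, Matrix.one_mul, Matrix.mul_one]
    simp only [hΔ]
    rw [e2, e3, hN _ x.2]
  -- Δ vanishes on `v ⊗ e_j`
  have hΔpure : ∀ (j : Fin D.k) (v : Fin D.d → F),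
      Δ (fun p => v p.1 * (Pi.single j 1 : Fin D.k → F) p.2) = 0 := by
    intro j
    apply semiquad_zero_of_irr h2 hd (repSet D.ρ) D.irr
    · intro u v
      rw [← hΔadd]
      congr 1
      funext p
      simp only [Pi.add_apply]
      ring
    · intro c v
      rw [← hΔsmul]
      congr 1
      funext p
      simp only [Pi.smul_apply, smul_eq_mul]
      ring
    · rintro s ⟨x, rfl⟩ v
      rw [← hΔinv x (fun p => v p.1 * (Pi.single j 1 : Fin D.k → F) p.2)]
      congr 1
      funext p
      obtain ⟨p1, p2⟩ := p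
      simp only [Matrix.mulVec, dotProduct, Fintype.sum_prod_type, Matrix.kroneckerMap_apply,
        Matrix.one_apply]
      rw [Finset.sum_mul]
      refine Finset.sum_congr rfl fun a _ => ?_
      by_cases hp : p2 = j
      · subst hp
        simp [Pi.single_apply]
      · have : ∀ y : Fin D.k, (if p2 = y then (1 : F) else 0) * (Pi.single j 1 : Fin D.k → F) y = 0 := by
          intro y
          by_cases hy : p2 = y
          · subst hy
            simp [Pi.single_apply, hp]
          · simp [hy]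
        simp [Pi.single_apply, hp, mul_assoc, this]
  -- Δ = 0
  have hΔzero : ∀ X, Δ X = 0 := by
    intro X
    have key : ∀ s : Finset (Fin D.k),
        Δ (fun p => if p.2 ∈ s then X p else 0) = 0 := by
      intro s
      induction s using Finset.induction_on with
      | empty =>
        have : (fun p : Fin D.d × Fin D.k => if p.2 ∈ (∅ : Finset (Fin D.k)) then X p else 0) = 0 := by
          funext p; simp
        rw [this, hΔ0]
      | insert j s hj ih =>
        have : (fun p : Fin D.d × Fin D.k => if p.2 ∈ insert j s then X p else 0) =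
            (fun p => (fun a => X (a, j)) p.1 * (Pi.single j 1 : Fin D.k → F) p.2) +
              (fun p => if p.2 ∈ s then X p else 0) := by
          funext p
          obtain ⟨p1, p2⟩ := p
          simp only [Pi.add_apply, Finset.mem_insert, Pi.single_apply]
          by_cases h1 : p2 = j
          · subst h1
            simp [hj]
          · simp [h1]
        rw [this, hΔadd, ih, add_zero]
        exact hΔpure j (fun a => X (a, j))
    have := key Finset.univ
    simpa using this
  have := hΔzero (fun p => v p.1 * w p.2)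
  simp only [hΔ] at this
  rw [hQ₀pure, sub_zero, hTe] at this
  exact this

end Cfsg.Agent.Lib.H20.Asch
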