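/-
Aschbacher projects (S5630 / S5662 / S5663 / S5673), helper20: form-free tools for the tensor
modules: change of basis inside the two tensor factors, forms given by Gram matrices.
-/
import Cfsg.Agent.Lib.H20.AschM4
import Cfsg.Agent.Lib.H6.AschU3b

set_option autoImplicit false

namespace Cfsg.Agent.Lib.H20.Asch

open Cfsg Cfsg.Geo Cfsg.Agent.Lib.Lead.Asch Cfsg.Agent.Lib.H6.Asch
open scoped MatrixGroups Matrix Kronecker

variable {F : Type*} [Field F]

section change
variable {n : ℕ} {κ : Type} [Fintype κ] [DecidableEq κ]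

/-- `glReindex e.symm K` acts on `X ∘ e` as `K` acts on `X`. -/
lemma glReindex_symm_mulVec_comp (e : Fin n ≃ κ) (K : GL κ F) (X : κ → F) :
    ((glReindex e.symm K : GL (Fin n) F) : Matrix (Fin n) (Fin n) F) *ᵥ (X ∘ e) =
      ((K : Matrix κ κ F) *ᵥ X) ∘ e := by
  funext i
  simp only [Matrix.mulVec, dotProduct, Function.comp_apply, glReindex_apply_apply,
    Equiv.symm_symm]
  exact Equiv.sum_comp e (fun b => (K : Matrix κ κ F) (e i) b * X b)

/-- The new change of basis after the change of coordinates `K` on `κ → F`. -/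
def changeP (e : Fin n ≃ κ) (P : GL (Fin n) F) (K : GL κ F) : GL (Fin n) F :=
  (glReindex e.symm K)⁻¹ * P

lemma changeP_inv_mulVec (e : Fin n ≃ κ) (P : GL (Fin n) F) (K : GL κ F) (X : κ → F) :
    (((changeP e P K)⁻¹ : GL (Fin n) F) : Matrix (Fin n) (Fin n) F) *ᵥ (X ∘ e) =
      ((P⁻¹ : GL (Fin n) F) : Matrix (Fin n) (Fin n) F) *ᵥ (((K : Matrix κ κ F) *ᵥ X) ∘ e) := by
  have h1 : (changeP e P K)⁻¹ = P⁻¹ * glReindex e.symm K := by
    unfold changeP; group
  rw [h1, Units.val_mul, ← Matrix.mulVec_mulVec, glReindex_symm_mulVec_comp]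

lemma glReindex_changeP (e : Fin n ≃ κ) (P : GL (Fin n) F) (K : GL κ F) (h : GL (Fin n) F) :
    glReindex e (changeP e P K * h * (changeP e P K)⁻¹) = K⁻¹ * glReindex e (P * h * P⁻¹) * K := by
  have h1 : changeP e P K * h * (changeP e P K)⁻¹ =
      (glReindex e.symm K)⁻¹ * (P * h * P⁻¹) * glReindex e.symm K := by
    unfold changeP; group
  rw [h1, map_mul, map_mul, map_inv, glReindex_glReindex_symm]

end change

/-- The Kronecker product of two invertible matrices as an element of `GL`. -/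
def kronGL {d k : ℕ} (a : GL (Fin d) F) (b : GL (Fin k) F) : GL (Fin d × Fin k) F :=
  ⟨(a : Matrix (Fin d) (Fin d) F) ⊗ₖ (b : Matrix (Fin k) (Fin k) F),
    ((a⁻¹ : GL (Fin d) F) : Matrix (Fin d) (Fin d) F) ⊗ₖ ((b⁻¹ : GL (Fin k) F) : Matrix (Fin k) (Fin k) F),
    by rw [← Matrix.mul_kronecker_mul, ← Units.val_mul, ← Units.val_mul, mul_inv_cancel,
      mul_inv_cancel, Units.val_one, Units.val_one, Matrix.one_kronecker_one],
    by rw [← Matrix.mul_kronecker_mul, ← Units.val_mul, ← Units.val_mul, inv_mul_cancel,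
      inv_mul_cancel, Units.val_one, Units.val_one, Matrix.one_kronecker_one]⟩

lemma kronGL_val {d k : ℕ} (a : GL (Fin d) F) (b : GL (Fin k) F) :
    ((kronGL a b : GL (Fin d × Fin k) F) : Matrix (Fin d × Fin k) (Fin d × Fin k) F) =
      (a : Matrix (Fin d) (Fin d) F) ⊗ₖ (b : Matrix (Fin k) (Fin k) F) := rfl

lemma kronGL_mem {d k : ℕ} (a : GL (Fin d) F) (b : GL (Fin k) F) :
    kronGL a b ∈ kroneckerSubgroup d k F := ⟨a, b, rfl⟩

/-- Change of basis inside the two tensor factors keeps the Kronecker structure. -/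
lemma kron_changeP {n : ℕ} (H : Subgroup (GL (Fin n) F)) {d k : ℕ} (e : Fin n ≃ Fin d × Fin k)
    (P : GL (Fin n) F) (hH : ∀ h ∈ H, glReindex e (P * h * P⁻¹) ∈ kroneckerSubgroup d k F)
    (K : GL (Fin d × Fin k) F) (hK : K ∈ kroneckerSubgroup d k F) :
    ∀ h ∈ H, glReindex e (changeP e P K * h * (changeP e P K)⁻¹) ∈ kroneckerSubgroup d k F := by
  intro h hh
  rw [glReindex_changeP]
  exact Subgroup.mul_mem _ (Subgroup.mul_mem _ (Subgroup.inv_mem _ hK) (hH h hh)) hK

section forms
variable {ι : Type} [Fintype ι] [DecidableEq ι]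

/-- `formOfGram` for a ring homomorphism is `formOf`. -/
lemma formOfGram_eq_formOf (τ : F →+* F) (G : Matrix ι ι F) (x y : ι → F) :
    formOfGram (τ : F → F) G x y = formOf τ G x y := by
  unfold formOfGram formOf dotProduct Matrix.mulVec dotProduct
  refine Finset.sum_congr rfl fun a _ => ?_
  rw [Finset.mul_sum]
  refine Finset.sum_congr rfl fun b _ => ?_
  rw [mul_assoc]

/-- Change of variables in a form given by a Gram matrix. -/
lemma formOf_mulVec (τ : F →+* F) (B s : Matrix ι ι F) (u v : ι → F) :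
    formOf τ B (s *ᵥ u) (s *ᵥ v) = formOf τ (sᵀ * B * s.map τ) u v := by
  unfold formOf
  rw [map_mulVec_fun, Matrix.mulVec_mulVec, Matrix.dotProduct_mulVec, Matrix.vecMul_mulVec,
    ← Matrix.dotProduct_mulVec, ← Matrix.mul_assoc]

/-- An isometry between two forms given by Gram matrices is a congruence of the matrices. -/
lemma congr_of_isometry (τ : F →+* F) (B₁ B₂ s : Matrix ι ι F)
    (h : ∀ u v, formOf τ B₂ (s *ᵥ u) (s *ᵥ v) = formOf τ B₁ u v) : sᵀ * B₂ * s.map τ = B₁ := by
  ext i j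
  have h1 := h (Pi.single i 1) (Pi.single j 1)
  rw [formOf_mulVec, (rep_formOf τ _).apply_single, (rep_formOf τ _).apply_single] at h1
  exact h1

end forms

end Cfsg.Agent.Lib.H20.Asch
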