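/-
Aschbacher projects (S5662 / S5663 / S5673), helper20: factorisation of an invariant (twisted)
Gram matrix along a homogeneous decomposition `ρ ⊗ 1`, for an arbitrary ring homomorphism `τ`
(`τ = id`: bilinear forms), and the bilinear (symmetric / skew) refinement.
-/
import Cfsg.Agent.Lib.H20.AschTensorTools
import Cfsg.Agent.Lib.H20.AschU5

set_option autoImplicit false

namespace Cfsg.Agent.Lib.H20.Asch

open Cfsg Cfsg.Geo Cfsg.Agent.Lib.Lead.Asch Cfsg.Agent.Lib.H6.Asch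
open scoped MatrixGroups Matrix Kronecker

variable {F : Type*} [Field F]

/-- A non-zero matrix on `Fin d × Fin k` invariant (as a `τ`-twisted form) under `s ⊗ 1` for `s` in an
absolutely irreducible set of invertible matrices is a Kronecker product `B ⊗ C` with `B` invertible
and invariant; and every invariant `B'` is a multiple of `B`. -/
theorem tensor_form_split (τ : F →+* F) {d k : ℕ} (S : Set (Matrix (Fin d) (Fin d) F))
    (habs : ActsAbsolutelyIrreducibly S) (hinv : ∀ s ∈ S, IsUnit s.det)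
    (G : Matrix (Fin d × Fin k) (Fin d × Fin k) F) (hG0 : G ≠ 0)
    (hfix : ∀ s ∈ S, (s ⊗ₖ (1 : Matrix (Fin k) (Fin k) F))ᵀ * G *
      (s ⊗ₖ (1 : Matrix (Fin k) (Fin k) F)).map τ = G) :
    ∃ (B : Matrix (Fin d) (Fin d) F) (C : Matrix (Fin k) (Fin k) F),
      IsUnit B.det ∧ G = B ⊗ₖ C ∧ (∀ s ∈ S, sᵀ * B * s.map τ = B) ∧
      ∀ B' : Matrix (Fin d) (Fin d) F, (∀ s ∈ S, sᵀ * B' * s.map τ = B') → ∃ c : F, B' = c • B := by
  have hblk : ∀ i j : Fin k, ∀ s ∈ S, sᵀ * blk G i j * s.map τ = blk G i j := by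
    intro i j s hs
    have h1 := hfix s hs
    have e1 : (s ⊗ₖ (1 : Matrix (Fin k) (Fin k) F))ᵀ = sᵀ ⊗ₖ (1 : Matrix (Fin k) (Fin k) F) := by
      ext ⟨a, i⟩ ⟨b, j⟩
      simp only [Matrix.transpose_apply, Matrix.kroneckerMap_apply, Matrix.one_apply]
      simp only [eq_comm]
    have e2 : (s ⊗ₖ (1 : Matrix (Fin k) (Fin k) F)).map τ =
        (s.map τ) ⊗ₖ (1 : Matrix (Fin k) (Fin k) F) := by
      ext ⟨a, i⟩ ⟨b, j⟩
      simp only [Matrix.map_apply, Matrix.kroneckerMap_apply, Matrix.one_apply]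
      split_ifs <;> simp
    rw [e1, e2] at h1
    have h2 := congrArg (fun X => blk X i j) h1
    simp only [blk_mul_kron_one, Matrix.mul_assoc, blk_kron_one_mul] at h2
    rw [Matrix.mul_assoc]
    exact h2
  obtain ⟨i₀, j₀, h0⟩ : ∃ i₀ j₀, blk G i₀ j₀ ≠ 0 := by
    by_contra hcon
    push Not at hcon
    apply hG0
    ext ⟨a, i⟩ ⟨b, j⟩
    have := congrFun (congrFun (hcon i j) a) b
    exact this
  set B₀ := blk G i₀ j₀ with hB₀
  have hB₀det : IsUnit B₀.det := isUnit_det_of_fix τ S habs.1 hinv B₀ h0 (hblk i₀ j₀)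
  have hprop : ∀ B' : Matrix (Fin d) (Fin d) F, (∀ s ∈ S, sᵀ * B' * s.map τ = B') →
      ∃ c : F, B' = c • B₀ := fun B' hB' =>
    core τ S habs.2 hinv B₀ B' hB₀det (hblk i₀ j₀) hB'
  have hprop' : ∀ i j : Fin k, ∃ c : F, blk G i j = c • B₀ := fun i j => hprop _ (hblk i j)
  choose C₀ hC₀ using hprop'
  refine ⟨B₀, Matrix.of fun i j => C₀ i j, hB₀det, ?_, hblk i₀ j₀, hprop⟩
  ext ⟨x, i⟩ ⟨y, j⟩
  have h1 : G (x, i) (y, j) = blk G i j x y := rfl
  have h2 : (B₀ ⊗ₖ (Matrix.of fun i j => C₀ i j : Matrix (Fin k) (Fin k) F)) (x, i) (y, j) =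
      B₀ x y * C₀ i j := rfl
  rw [h1, hC₀ i j, h2, Matrix.smul_apply, smul_eq_mul, mul_comm]

/-- Bilinear refinement: `τ = id`, `G` with `Gᵀ = η G`: then `Bᵀ = ε B`, `ε = ±1`, and `Cᵀ = (η ε) C`. -/
theorem tensor_form_bilin {d k : ℕ} (S : Set (Matrix (Fin d) (Fin d) F))
    (habs : ActsAbsolutelyIrreducibly S) (hinv : ∀ s ∈ S, IsUnit s.det)
    (G : Matrix (Fin d × Fin k) (Fin d × Fin k) F) (hG0 : G ≠ 0) (η : F) (hGs : Gᵀ = η • G)
    (hfix : ∀ s ∈ S, (s ⊗ₖ (1 : Matrix (Fin k) (Fin k) F))ᵀ * G *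
      (s ⊗ₖ (1 : Matrix (Fin k) (Fin k) F)) = G) :
    ∃ (B : Matrix (Fin d) (Fin d) F) (C : Matrix (Fin k) (Fin k) F) (ε : F),
      (ε = 1 ∨ ε = -1) ∧ Bᵀ = ε • B ∧ Cᵀ = (η * ε) • C ∧ IsUnit B.det ∧ G = B ⊗ₖ C ∧
      ∀ s ∈ S, sᵀ * B * s = B := by
  obtain ⟨B, C, hBdet, hGe, hfixB, huniq⟩ := tensor_form_split (RingHom.id F) S habs hinv G hG0
    (by intro s hs; rw [map_id_eq]; exact hfix s hs)
  have hfixB' : ∀ s ∈ S, sᵀ * B * s = B := by
    intro s hs
    have := hfixB s hs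
    rwa [map_id_eq] at this
  -- `Bᵀ` is invariant
  obtain ⟨ε, hε⟩ := huniq Bᵀ (by
    intro s hs
    rw [map_id_eq]
    have := congrArg Matrix.transpose (hfixB' s hs)
    rw [Matrix.transpose_mul, Matrix.transpose_mul, Matrix.transpose_transpose,
      ← Matrix.mul_assoc] at this
    exact this)
  obtain ⟨x, y, hxy⟩ : ∃ x y, B x y ≠ 0 := by
    by_contra hcon
    push Not at hcon
    have hB0 : B = 0 := by ext i j; exact hcon i j
    apply hG0
    rw [hGe, hB0]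
    ext ⟨a, i⟩ ⟨b, j⟩
    simp
  have hε2 : ε * ε = 1 := by
    have h1 : B = (ε * ε) • B := by
      have := congrArg Matrix.transpose hε
      rw [Matrix.transpose_transpose, Matrix.transpose_smul, hε, smul_smul] at this
      exact this
    have := congrFun (congrFun h1 x) y
    rw [Matrix.smul_apply, smul_eq_mul] at this
    have h3 : (ε * ε - 1) * B x y = 0 := by rw [sub_mul, one_mul, ← this, sub_self]
    rcases mul_eq_zero.1 h3 with h4 | h4
    · exact sub_eq_zero.1 h4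
    · exact absurd h4 hxy
  have hε1 : ε = 1 ∨ ε = -1 := by
    have : (ε - 1) * (ε + 1) = 0 := by ring_nf; rw [show ε ^ 2 = ε * ε from sq ε, hε2]; ring
    rcases mul_eq_zero.1 this with h | h
    · exact Or.inl (sub_eq_zero.1 h)
    · exact Or.inr (eq_neg_of_add_eq_zero_left h)
  refine ⟨B, C, ε, hε1, hε, ?_, hBdet, hGe, hfixB'⟩
  -- `Cᵀ = (η ε) C`
  ext i j
  have h1 := congrFun (congrFun hGs (y, i)) (x, j)
  rw [Matrix.transpose_apply, Matrix.smul_apply, hGe, Matrix.kroneckerMap_apply,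
    Matrix.kroneckerMap_apply, smul_eq_mul] at h1
  have h2 := congrFun (congrFun hε y) x
  rw [Matrix.transpose_apply, Matrix.smul_apply, smul_eq_mul] at h2
  -- h1 : B x y * C j i = η * (B y x * C i j),  h2 : B x y = ε * B y x
  have hyx : B y x ≠ 0 := by
    intro h0; rw [h0, mul_zero] at h2; exact hxy h2
  rw [Matrix.transpose_apply, Matrix.smul_apply, smul_eq_mul]
  have h3 : B y x * (ε * C j i) = B y x * (η * C i j) := by
    rw [h2] at h1
    linear_combination h1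
  have h4 := mul_left_cancel₀ hyx h3
  calc C j i = (ε * ε) * C j i := by rw [hε2, one_mul]
    _ = ε * (ε * C j i) := by ring
    _ = ε * (η * C i j) := by rw [h4]
    _ = η * ε * C i j := by ring

end Cfsg.Agent.Lib.H20.Asch
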