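/-
Aschbacher projects (S5662 / S5673), helper20: factorisation of an invariant non-degenerate
BILINEAR form (symmetric or skew) along a homogeneous normal subgroup with absolutely irreducible
constituent: in the coordinates of the homogeneous data the Gram matrix is `B ⊗ C`.
-/
import Cfsg.Agent.Lib.H20.AschTensorSplit
import Cfsg.Agent.Lib.H20.AschUT4

set_option autoImplicit false

namespace Cfsg.Agent.Lib.H20.Asch

open Cfsg Cfsg.Geo Cfsg.Agent.Lib.Lead.Asch Cfsg.Agent.Lib.H6.Asch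
open scoped MatrixGroups Matrix Kronecker

variable {F : Type*} [Field F] {n : ℕ}

/-- Bilinear UT4: `f` bilinear, non-degenerate, `f u v = η f v u`, invariant under `N`. -/
theorem exists_tensor_gram_bilin (hn : 0 < n) (f : (Fin n → F) → (Fin n → F) → F)
    (hf : IsBilinearForm f) (hnd : IsNondegenerateForm f) (η : F) (hη : ∀ u v, f u v = η * f v u)
    (N : Subgroup (GL (Fin n) F))
    (hN : ∀ x ∈ N, ∀ u v, f ((x : Matrix (Fin n) (Fin n) F) *ᵥ u)
      ((x : Matrix (Fin n) (Fin n) F) *ᵥ v) = f u v)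
    (D : HomogData N) (habs : ActsAbsolutelyIrreducibly (repSet D.ρ)) :
    ∃ (B : Matrix (Fin D.d) (Fin D.d) F) (C : Matrix (Fin D.k) (Fin D.k) F) (ε : F),
      (ε = 1 ∨ ε = -1) ∧ Bᵀ = ε • B ∧ Cᵀ = (η * ε) • C ∧ IsUnit B.det ∧ IsUnit C.det ∧
      (∀ X Y : Fin D.d × Fin D.k → F,
        f (((D.P⁻¹ : GL (Fin n) F) : Matrix (Fin n) (Fin n) F) *ᵥ (X ∘ D.e))
          (((D.P⁻¹ : GL (Fin n) F) : Matrix (Fin n) (Fin n) F) *ᵥ (Y ∘ D.e)) =
        formOf (RingHom.id F) (B ⊗ₖ C) X Y) ∧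
      ∀ x : N, ((D.ρ x : GL (Fin D.d) F) : Matrix (Fin D.d) (Fin D.d) F)ᵀ * B *
        ((D.ρ x : GL (Fin D.d) F) : Matrix (Fin D.d) (Fin D.d) F) = B := by
  classical
  set T := (transEquiv D.e D.P).symm with hT
  set g : (Fin D.d × Fin D.k → F) → (Fin D.d × Fin D.k → F) → F :=
    fun X Y => f (T X) (T Y) with hg
  have hgB : IsBilinearForm g := by
    refine ⟨fun x y v => ?_, fun c x v => ?_, fun v x y => ?_, fun c v x => ?_⟩
    · simp only [hg]; rw [map_add]; exact hf.add_left _ _ _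
    · simp only [hg]; rw [map_smul]; exact hf.smul_left _ _ _
    · simp only [hg]; rw [map_add]; exact hf.add_right _ _ _
    · simp only [hg]; rw [map_smul]; exact hf.smul_right _ _ _
  have hgnd : IsNondegenerateForm g := by
    intro v hv
    have hTv : T v ≠ 0 := fun h => hv (T.map_eq_zero_iff.mp h)
    obtain ⟨⟨x, hx⟩, ⟨y, hy⟩⟩ := hnd (T v) hTv
    refine ⟨⟨T.symm x, ?_⟩, ⟨T.symm y, ?_⟩⟩
    · simp only [hg]; rw [LinearEquiv.apply_symm_apply]; exact hx
    · simp only [hg]; rw [LinearEquiv.apply_symm_apply]; exact hy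
  obtain ⟨G, hG⟩ := exists_rep_of_bilinear g hgB
  have hGdet : IsUnit G.det := hG.isUnit_det hgnd
  have hcard : Fintype.card (Fin D.d × Fin D.k) = n := by
    rw [← Fintype.card_congr D.e]; simp
  have hG0 : G ≠ 0 := by
    intro h0
    have hne : Nonempty (Fin D.d × Fin D.k) := by
      rw [← Fintype.card_pos_iff, hcard]; exact hn
    haveI := hne
    rw [h0, Matrix.det_zero] at hGdet
    exact not_isUnit_zero hGdet
  have hGs : Gᵀ = η • G := by
    ext a b
    rw [Matrix.transpose_apply, Matrix.smul_apply, smul_eq_mul, ← hG.apply_single,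
      ← hG.apply_single]
    exact hη _ _
  have hfix : ∀ s ∈ repSet D.ρ, (s ⊗ₖ (1 : Matrix (Fin D.k) (Fin D.k) F))ᵀ * G *
      (s ⊗ₖ (1 : Matrix (Fin D.k) (Fin D.k) F)) = G := by
    rintro _ ⟨x, rfl⟩
    have h1 := hG.matrix_eq ((((D.ρ x : GL (Fin D.d) F) : Matrix (Fin D.d) (Fin D.d) F) ⊗ₖ
        (1 : Matrix (Fin D.k) (Fin D.k) F))) 1 (by
      intro u v
      simp only [hg, hT]
      rw [transEquiv_symm_kron, transEquiv_symm_kron, one_mul]
      exact hN x x.2 _ _)
    rw [one_smul, map_id_eq] at h1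
    exact h1
  have hinv : ∀ s ∈ repSet D.ρ, IsUnit s.det := by
    rintro _ ⟨x, rfl⟩
    exact (Matrix.isUnit_iff_isUnit_det _).mp ⟨D.ρ x, rfl⟩
  obtain ⟨B, C, ε, hε, hBt, hCt, hBdet, hGe, hfixB⟩ :=
    tensor_form_bilin (repSet D.ρ) habs hinv G hG0 η hGs hfix
  have hdpos : 0 < D.d := by
    rcases Nat.eq_zero_or_pos D.d with h | h
    · exfalso
      rw [Fintype.card_prod, Fintype.card_fin, h, zero_mul] at hcard
      omega
    · exact h
  have hCdet : IsUnit C.det := by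
    rw [hGe, Matrix.det_kronecker] at hGdet
    have := (IsUnit.mul_iff.mp hGdet).2
    rw [Fintype.card_fin] at this
    exact (isUnit_pow_iff hdpos.ne').mp this
  refine ⟨B, C, ε, hε, hBt, hCt, hBdet, hCdet, fun X Y => ?_, fun x => hfixB _ ⟨x, rfl⟩⟩
  rw [← transEquiv_symm_apply, ← transEquiv_symm_apply, ← hGe]
  exact hG X Y

end Cfsg.Agent.Lib.H20.Asch
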