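/-
Aschbacher projects, helper20: `tensorPower_of_congr` with one more conclusion: the new coordinates map
pure tensors `x 0 ⊗ x 1` to the old pure tensors `x 0 ⊗ T (x 1)` (needed for the clause
"`Q` vanishes on the pure tensors" of the even-dimensional orthogonal class 7).
-/
import Cfsg.Agent.Lib.H20.AschTensorPower

set_option autoImplicit false

namespace Cfsg.Agent.Lib.H20.Asch

open Cfsg Cfsg.Geo Cfsg.Agent.Lib.Lead.Asch Cfsg.Agent.Lib.H6.Asch
open scoped MatrixGroups Matrix Kronecker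

variable {F : Type*} [Field F] {n : ℕ}

theorem tensorPower_of_congr_pure (τ : F →+* F) (f : (Fin n → F) → (Fin n → F) → F)
    (H : Subgroup (GL (Fin n) F)) {d : ℕ} (e : Fin n ≃ Fin d × Fin d) (P : GL (Fin n) F)
    (f₁ f₂ : (Fin d → F) → (Fin d → F) → F)
    (hform : IsTensorFormStructure (τ : F → F) f f₁ f₂ e P⁻¹)
    (hH : ∀ h ∈ H, glReindex e (P * h * P⁻¹) ∈ kroneckerSubgroup d d F)
    (T : GL (Fin d) F) (a : F) (ha : a ≠ 0)
    (hcong : (T : Matrix (Fin d) (Fin d) F)ᵀ * gramMatrix f₂ * (T : Matrix (Fin d) (Fin d) F).map τ =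
      a • gramMatrix f₁) :
    ∃ (e' : Fin n ≃ (Fin 2 → Fin d)) (P' : GL (Fin n) F),
      IsTensorPowerFormStructure (τ : F → F) f f₁ e' P' ∧ H ≤ tensorWreathSubgroup d 2 e' P' ∧
      ∀ x : Fin 2 → Fin d → F,
        (P' : Matrix (Fin n) (Fin n) F) *ᵥ ((fun a : Fin 2 → Fin d => ∏ i, x i (a i)) ∘ e') =
          ((P⁻¹ : GL (Fin n) F) : Matrix (Fin n) (Fin n) F) *ᵥ
            ((fun p : Fin d × Fin d => x 0 p.1 * ((T : Matrix (Fin d) (Fin d) F) *ᵥ x 1) p.2) ∘ e) := by
  obtain ⟨c, hc, hc'⟩ := hform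
  set G₁ := gramMatrix f₁ with hG₁
  set G₂ := gramMatrix f₂ with hG₂
  set K : GL (Fin d × Fin d) F := kronGL 1 T with hK
  set P₀ : GL (Fin n) F := changeP e P K with hP₀
  set φ := finTwoArrowEquiv (Fin d) with hφ
  set e' : Fin n ≃ (Fin 2 → Fin d) := e.trans φ.symm with he'
  have hKK : (K : Matrix (Fin d × Fin d) (Fin d × Fin d) F)ᵀ * (G₁ ⊗ₖ G₂) *
      (K : Matrix (Fin d × Fin d) (Fin d × Fin d) F).map τ = a • (G₁ ⊗ₖ G₁) := by
    have e1 : (K : Matrix (Fin d × Fin d) (Fin d × Fin d) F)ᵀ =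
        (1 : Matrix (Fin d) (Fin d) F) ⊗ₖ (T : Matrix (Fin d) (Fin d) F)ᵀ := by
      rw [hK, kronGL_val, Units.val_one]
      ext ⟨a, i⟩ ⟨b, j⟩
      simp only [Matrix.transpose_apply, Matrix.kroneckerMap_apply, Matrix.one_apply]
      simp only [eq_comm]
    have e2 : (K : Matrix (Fin d × Fin d) (Fin d × Fin d) F).map τ =
        (1 : Matrix (Fin d) (Fin d) F) ⊗ₖ ((T : Matrix (Fin d) (Fin d) F).map τ) := by
      rw [hK, kronGL_val, Units.val_one]
      ext ⟨a, i⟩ ⟨b, j⟩
      simp only [Matrix.map_apply, Matrix.kroneckerMap_apply, Matrix.one_apply]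
      split_ifs <;> simp
    rw [e1, e2, ← Matrix.mul_kronecker_mul, ← Matrix.mul_kronecker_mul, Matrix.one_mul,
      Matrix.mul_one, hcong]
    ext ⟨x, i⟩ ⟨y, j⟩
    simp only [Matrix.kroneckerMap_apply, Matrix.smul_apply, smul_eq_mul]
    ring
  refine ⟨e', P₀⁻¹, ⟨c * a, mul_ne_zero hc ha, fun x y => ?_⟩, ?_, ?_⟩
  · have hx : x ∘ e' = (x ∘ φ.symm) ∘ e := rfl
    have hy : y ∘ e' = (y ∘ φ.symm) ∘ e := rfl
    rw [hx, hy, hP₀, changeP_inv_mulVec, changeP_inv_mulVec, hc', mul_assoc]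
    congr 1
    rw [formOfGram_eq_formOf, formOf_mulVec, hKK]
    unfold formOf dotProduct Matrix.mulVec dotProduct
    rw [← Equiv.sum_comp φ, Finset.mul_sum]
    refine Finset.sum_congr rfl fun x' _ => ?_
    rw [Finset.mul_sum, ← Equiv.sum_comp φ, Finset.mul_sum]
    refine Finset.sum_congr rfl fun y' _ => ?_
    rw [Fin.prod_univ_two]
    have h1 : ∀ z : Fin 2 → Fin d, φ z = (z 0, z 1) := fun z => rfl
    simp only [Function.comp_apply, Equiv.symm_apply_apply, Matrix.kroneckerMap_apply,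
      Matrix.smul_apply, smul_eq_mul]
    simp only [h1]
    ring
  · apply le_tensorWreathSubgroup
    intro h hh
    rw [he', glReindex_trans]
    exact Subgroup.subset_closure (Or.inl (isPureTensor_of_kronecker _
      (kron_changeP H e P hH K (kronGL_mem 1 T) h hh)))
  · intro x
    have hx : (fun a : Fin 2 → Fin d => ∏ i, x i (a i)) ∘ e' =
        (fun p : Fin d × Fin d => x 0 p.1 * x 1 p.2) ∘ e := by
      funext i
      simp only [Function.comp_apply, he', Equiv.trans_apply, Fin.prod_univ_two]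
      rfl
    rw [hx, hP₀, changeP_inv_mulVec]
    congr 2
    funext p
    obtain ⟨p1, p2⟩ := p
    rw [hK, kronGL_val, Units.val_one]
    simp only [Matrix.mulVec, dotProduct, Fintype.sum_prod_type, Matrix.kroneckerMap_apply,
      Matrix.one_apply]
    rw [Finset.sum_eq_single p1]
    · rw [Finset.mul_sum]
      refine Finset.sum_congr rfl fun j _ => ?_
      rw [if_pos rfl]
      ring
    · intro b _ hb
      refine Finset.sum_eq_zero fun j _ => ?_
      rw [if_neg (Ne.symm hb)]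
      ring
    · intro h
      exact absurd (Finset.mem_univ p1) h

end Cfsg.Agent.Lib.H20.Asch
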