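/-
EO project (even-dimensional orthogonal Aschbacher, architect helper26), module **EM4** (tensor case of a
homogeneous normal subgroup with absolutely irreducible constituent), helper20.
`etame_of_homog_tensor` has the exact signature of `tools/blueprints/EO_sigs.lean`.
-/
import Cfsg.Agent.Lib.H20.AschEM4C
import Cfsg.Agent.Lib.H20.AschEQPure
import Cfsg.Agent.Lib.H20.AschTensorBilin
import Cfsg.Agent.Lib.H20.AschTensorPower2
import Cfsg.Agent.Lib.H20.AschM4
import Cfsg.Agent.Lib.H17.AschSP2F0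
import Cfsg.Agent.Lib.H11.InvCls2

set_option autoImplicit false

namespace Cfsg.Agent.Lib.H20.AschE

open Cfsg Cfsg.Geo Cfsg.Agent.Lib.Lead.Asch Cfsg.Agent.Lib.H6.Asch Cfsg.Agent.Lib.H20.Asch
  Cfsg.Agent.Lib.H8.AschS Cfsg.Agent.Lib.H26.AschE
open scoped MatrixGroups Matrix Kronecker

variable {F : Type*} [Field F] [Fintype F] {n : ℕ}

theorem isSymplecticForm_formOfGram_of_alt {m : ℕ} (B : Matrix (Fin m) (Fin m) F) (hBT : Bᵀ = -B)
    (halt : ∀ v : Fin m → F, v ⬝ᵥ B *ᵥ v = 0) (hdet : IsUnit B.det) :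
    IsSymplecticForm (formOfGram id B) := by
  have hskew : ∀ u v, formOfGram id B u v = - formOfGram id B v u := by
    intro u v
    rw [← formOfGram_transpose, hBT]
    have : (-B) = (-1 : F) • B := by rw [neg_smul, one_smul]
    rw [this, formOfGram_smul_matrix]
    ring
  refine ⟨(rep_formOfGram B).bilinear, hskew, fun v => ?_, (rep_formOfGram B).nondegenerate hdet⟩
  rw [Cfsg.Agent.Lib.H3.AschS.SM4D_formOfGram_eq]
  exact halt v

/-- alternating ⊗ alternating with `Q` vanishing on the pure tensors: `EC4a` or `EC7a`. -/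
theorem ec4a_or_ec7a_of_alt (Q : (Fin n → F) → F) (H : Subgroup (GL (Fin n) F)) {d k : ℕ}
    (hd : 2 ≤ d) (hk : 2 ≤ k) (e : Fin n ≃ Fin d × Fin k) (P : GL (Fin n) F)
    (B : Matrix (Fin d) (Fin d) F) (C : Matrix (Fin k) (Fin k) F)
    (hB : Bᵀ = -B) (hC : Cᵀ = -C) (hBalt : ∀ v : Fin d → F, v ⬝ᵥ B *ᵥ v = 0)
    (hCalt : ∀ v : Fin k → F, v ⬝ᵥ C *ᵥ v = 0) (hBdet : IsUnit B.det) (hCdet : IsUnit C.det)
    (hform : ∀ x y : Fin d × Fin k → F,
      QuadraticMap.polar Q (((P⁻¹ : GL (Fin n) F) : Matrix (Fin n) (Fin n) F) *ᵥ (x ∘ e))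
        (((P⁻¹ : GL (Fin n) F) : Matrix (Fin n) (Fin n) F) *ᵥ (y ∘ e)) =
        formOfGram id (B ⊗ₖ C) x y)
    (hpure : ∀ (v : Fin d → F) (w : Fin k → F),
      Q (((P⁻¹ : GL (Fin n) F) : Matrix (Fin n) (Fin n) F) *ᵥ
        ((fun p : Fin d × Fin k => v p.1 * w p.2) ∘ e)) = 0)
    (hkron : ∀ h ∈ H, glReindex e (P * h * P⁻¹) ∈ kroneckerSubgroup d k F) :
    EC4a Q H ∨ EC7a Q H := by
  have hsB := isSymplecticForm_formOfGram_of_alt B hB hBalt hBdet
  have hsC := isSymplecticForm_formOfGram_of_alt C hC hCalt hCdet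
  rcases lt_trichotomy d k with hlt | heq | hgt
  · refine Or.inl ⟨d, k, e, P⁻¹, formOfGram id B, formOfGram id C, hd, hlt, hsB, hsC,
      ⟨1, one_ne_zero, fun x y => ?_⟩, hpure, le_tensorProductSubgroup H e P hkron⟩
    rw [one_mul, gramMatrix_formOfGram, gramMatrix_formOfGram]
    exact hform x y
  · subst heq
    right
    obtain ⟨m, hm⟩ := Cfsg.Agent.Lib.H17.AschSP2.even_card_of_isSymplecticForm _ hsB
    rw [Fintype.card_fin] at hm
    obtain ⟨g, hg⟩ := Cfsg.Agent.Lib.H11.InvCls.alt_congr_any m (by omega) B C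
      (fun v => hBalt v)
      (Cfsg.Agent.Lib.H11.InvCls.nondeg_of_det B hBdet.ne_zero)
      (fun v => hCalt v)
      (Cfsg.Agent.Lib.H11.InvCls.nondeg_of_det C hCdet.ne_zero)
    have hform' : IsTensorFormStructure ((RingHom.id F : F →+* F) : F → F)
        (QuadraticMap.polar Q) (formOfGram id B) (formOfGram id C) e P⁻¹ := by
      refine ⟨1, one_ne_zero, fun x y => ?_⟩
      rw [one_mul, gramMatrix_formOfGram, gramMatrix_formOfGram, RingHom.coe_id]
      exact hform x y
    have hcong : (g : Matrix (Fin d) (Fin d) F)ᵀ * gramMatrix (formOfGram id C) *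
        (g : Matrix (Fin d) (Fin d) F).map (RingHom.id F) =
        (1 : F) • gramMatrix (formOfGram id B) := by
      have hmap : (g : Matrix (Fin d) (Fin d) F).map (RingHom.id F) =
          (g : Matrix (Fin d) (Fin d) F) := by
        ext i j; simp
      rw [hmap, gramMatrix_formOfGram, gramMatrix_formOfGram, one_smul, ← hg]
    obtain ⟨e', P', hstr, hle, hpt⟩ := tensorPower_of_congr_pure (RingHom.id F)
      (QuadraticMap.polar Q) H e P (formOfGram id B) (formOfGram id C) hform' hkron g 1 one_ne_zero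
      hcong
    rw [RingHom.coe_id] at hstr
    refine ⟨d, 2, e', P', formOfGram id B, hd, le_refl 2, hsB, hstr, fun x => ?_, hle⟩
    rw [hpt x]
    exact hpure _ _
  · have hform' := hform_swap e P B C hform
    have hkron' := hkron_swap H e P hkron
    refine Or.inl ⟨k, d, e.trans (Equiv.prodComm (Fin d) (Fin k)), P⁻¹, formOfGram id C,
      formOfGram id B, hk, hgt, hsC, hsB, ⟨1, one_ne_zero, fun x y => ?_⟩, fun x₁ x₂ => ?_,
      le_tensorProductSubgroup H _ P hkron'⟩
    · rw [one_mul, gramMatrix_formOfGram, gramMatrix_formOfGram]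
      exact hform' x y
    · have h1 : (fun a : Fin k × Fin d => x₁ a.1 * x₂ a.2) ∘
          (e.trans (Equiv.prodComm (Fin d) (Fin k))) =
          (fun p : Fin d × Fin k => x₂ p.1 * x₁ p.2) ∘ e := by
        funext i
        simp only [Function.comp_apply, Equiv.trans_apply, Equiv.prodComm_apply, Prod.fst_swap,
          Prod.snd_swap]
        ring
      rw [h1]
      exact hpure x₂ x₁

/-- symmetric ⊗ symmetric, `q` odd, both factors of dimension at least 3: `EC4b`. -/
theorem ec4b_of_symm (Q : (Fin n → F) → F) (hq : Odd (Fintype.card F))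
    (H : Subgroup (GL (Fin n) F)) {d k : ℕ}
    (hd : 3 ≤ d) (hk : 3 ≤ k) (e : Fin n ≃ Fin d × Fin k) (P : GL (Fin n) F)
    (B : Matrix (Fin d) (Fin d) F) (C : Matrix (Fin k) (Fin k) F)
    (hB : Bᵀ = B) (hC : Cᵀ = C) (hBdet : IsUnit B.det) (hCdet : IsUnit C.det)
    (hform : ∀ x y : Fin d × Fin k → F,
      QuadraticMap.polar Q (((P⁻¹ : GL (Fin n) F) : Matrix (Fin n) (Fin n) F) *ᵥ (x ∘ e))
        (((P⁻¹ : GL (Fin n) F) : Matrix (Fin n) (Fin n) F) *ᵥ (y ∘ e)) =
        formOfGram id (B ⊗ₖ C) x y)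
    (hkron : ∀ h ∈ H, glReindex e (P * h * P⁻¹) ∈ kroneckerSubgroup d k F) :
    EC4b Q H := by
  have hsB := isSymmetricForm_formOfGram B hB hBdet
  have hsC := isSymmetricForm_formOfGram C hC hCdet
  rcases le_total d k with hle | hle
  · refine ⟨d, k, e, P⁻¹, formOfGram id B, formOfGram id C, hq, hd, hle, hsB, hsC,
      ⟨1, one_ne_zero, fun x y => ?_⟩, le_tensorProductSubgroup H e P hkron⟩
    rw [one_mul, gramMatrix_formOfGram, gramMatrix_formOfGram]
    exact hform x y
  · have hform' := hform_swap e P B C hform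
    have hkron' := hkron_swap H e P hkron
    refine ⟨k, d, e.trans (Equiv.prodComm (Fin d) (Fin k)), P⁻¹, formOfGram id C,
      formOfGram id B, hq, hk, hle, hsC, hsB, ⟨1, one_ne_zero, fun x y => ?_⟩,
      le_tensorProductSubgroup H _ P hkron'⟩
    rw [one_mul, gramMatrix_formOfGram, gramMatrix_formOfGram]
    exact hform' x y

/-- **EM4** (exact signature of `tools/blueprints/EO_sigs.lean`). -/
theorem etame_of_homog_tensor (Q : (Fin n → F) → F) (hQ : IsNondegenerateQuadraticForm Q) (hn : 5 ≤ n)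
    (H N : Subgroup (GL (Fin n) F)) (hH : H ≤ isometryGroup F Q)
    (hirr : ActsIrreducibly (matrixSet H)) (hNH : N ≤ H)
    (hnorm : NormalizedBy H N) (D : HomogData N)
    (habs : ActsAbsolutelyIrreducibly (repSet D.ρ)) (hd : 2 ≤ D.d) (hk : 2 ≤ D.k) :
    EC4 Q H ∨ EC7 Q H ∨ EC2b Q H ∨ EC3b Q H := by
  classical
  have hfixH : FixesForm (matrixSet H) (QuadraticMap.polar Q) := by
    rintro _ ⟨x, hx, rfl⟩ u v
    exact Cfsg.Agent.Lib.H24.Asch.polar_isometry Q x (hH hx) u v
  have hNfix : ∀ x ∈ N, ∀ u v : Fin n → F,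
      QuadraticMap.polar Q ((x : Matrix (Fin n) (Fin n) F) *ᵥ u)
        ((x : Matrix (Fin n) (Fin n) F) *ᵥ v) = QuadraticMap.polar Q u v :=
    fun x hx => Cfsg.Agent.Lib.H24.Asch.polar_isometry Q x (hH (hNH hx))
  have hNQ : ∀ x ∈ N, ∀ v : Fin n → F, Q ((x : Matrix (Fin n) (Fin n) F) *ᵥ v) = Q v :=
    fun x hx => (Cfsg.Agent.Lib.H24.Asch.mem_isometryGroup_iff Q x).1 (hH (hNH hx))
  obtain ⟨B, C, ε, hε, hB, hC, hBdet, hCdet, hform0, hfix⟩ :=
    exists_tensor_gram_bilin (by omega) (QuadraticMap.polar Q) hQ.polar_bilinear hQ.nondegenerate 1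
      (by intro u v; rw [one_mul]; exact QuadraticMap.polar_comm Q u v) N hNfix D habs
  have hform : ∀ x y : Fin D.d × Fin D.k → F,
      QuadraticMap.polar Q (((D.P⁻¹ : GL (Fin n) F) : Matrix (Fin n) (Fin n) F) *ᵥ (x ∘ D.e))
        (((D.P⁻¹ : GL (Fin n) F) : Matrix (Fin n) (Fin n) F) *ᵥ (y ∘ D.e)) =
        formOfGram id (B ⊗ₖ C) x y := by
    intro x y
    rw [hform0, Cfsg.Agent.Lib.H8.AschS.formOfGram_eq_formOf]
  have hkron : ∀ h ∈ H, glReindex D.e (D.P * h * D.P⁻¹) ∈ kroneckerSubgroup D.d D.k F :=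
    fun h hh => mem_kronecker_of_homog H N hnorm D habs (by omega) (by omega) h hh
  rw [one_mul] at hC
  by_cases hq : Odd (Fintype.card F)
  · have h2 : (2 : F) ≠ 0 := Cfsg.Agent.Lib.H24.Asch.two_ne_zero_of_odd hq
    rcases hε with rfl | rfl
    · -- symmetric ⊗ symmetric
      rw [one_smul] at hB hC
      by_cases hd3 : 3 ≤ D.d
      · by_cases hk3 : 3 ≤ D.k
        · exact Or.inl (Or.inr (ec4b_of_symm Q hq H hd3 hk3 D.e D.P B C hB hC hBdet hCdet hform hkron))
        · have hk2 : D.k = 2 := by omega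
          have hd0 : 0 < D.d := by omega
          obtain ⟨d, k, e, P, ρ, irr, eq⟩ := D
          simp only at hk2 hform hkron hC hCdet hd0
          subst hk2
          rcases ec2b_or_ec3b_of_tensor_two Q hQ hq H hfixH hd0 e P B C hC hBdet hCdet hform
            hkron with h | h
          · exact Or.inr (Or.inr (Or.inl h))
          · exact Or.inr (Or.inr (Or.inr h))
      · have hd2 : D.d = 2 := by omega
        have hform' := hform_swap D.e D.P B C hform
        have hkron' := hkron_swap H D.e D.P hkron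
        have hk0 : 0 < D.k := by omega
        obtain ⟨d, k, e, P, ρ, irr, eq⟩ := D
        simp only at hd2 hform' hkron' hB hBdet hk0
        subst hd2
        rcases ec2b_or_ec3b_of_tensor_two Q hQ hq H hfixH hk0 _ P C B hB hCdet hBdet hform'
          hkron' with h | h
        · exact Or.inr (Or.inr (Or.inl h))
        · exact Or.inr (Or.inr (Or.inr h))
    · -- alternating ⊗ alternating
      rw [neg_one_smul] at hB hC
      have halt : ∀ {m : ℕ} (M : Matrix (Fin m) (Fin m) F), Mᵀ = -M → ∀ v : Fin m → F,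
          v ⬝ᵥ M *ᵥ v = 0 := by
        intro m M hM v
        have h1 : v ⬝ᵥ M *ᵥ v = - (v ⬝ᵥ M *ᵥ v) := by
          conv_lhs => rw [Matrix.dotProduct_mulVec, dotProduct_comm, ← Matrix.mulVec_transpose, hM,
            Matrix.neg_mulVec, dotProduct_neg]
        have h3 : (2 : F) * (v ⬝ᵥ M *ᵥ v) = 0 := by linear_combination h1
        exact (mul_eq_zero.1 h3).resolve_left h2
      have hpure : ∀ (v : Fin D.d → F) (w : Fin D.k → F),
          Q (((D.P⁻¹ : GL (Fin n) F) : Matrix (Fin n) (Fin n) F) *ᵥ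
            ((fun p : Fin D.d × Fin D.k => v p.1 * w p.2) ∘ D.e)) = 0 := by
        intro v w
        have h1 := Cfsg.Agent.Lib.H24.Asch.polar_self hQ
          (((D.P⁻¹ : GL (Fin n) F) : Matrix (Fin n) (Fin n) F) *ᵥ
            ((fun p : Fin D.d × Fin D.k => v p.1 * w p.2) ∘ D.e))
        rw [hform, Cfsg.Agent.Lib.H3.AschS.SM4D_formOfGram_eq] at h1
        have h3 := Cfsg.Agent.Lib.H3.AschS.SM4D_qf_kron_pure B C v w
        unfold Cfsg.Agent.Lib.H3.AschS.SM4D_qf at h3
        rw [h3, halt B hB v, zero_mul] at h1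
        exact (mul_eq_zero.1 h1.symm).resolve_left h2
      rcases ec4a_or_ec7a_of_alt Q H hd hk D.e D.P B C hB hC (halt B hB) (halt C hC) hBdet hCdet
        hform hpure hkron with h | h
      · exact Or.inl (Or.inl h)
      · exact Or.inr (Or.inl (Or.inl h))
  · -- `q` even
    have h2 : (2 : F) = 0 := two_eq_zero_of_not_odd hq
    have hneg := neg_eq_self_of_not_odd hq
    have hB' : Bᵀ = B := by
      rcases hε with rfl | rfl
      · rw [hB, one_smul]
      · rw [hB, neg_smul, one_smul]; ext i j; exact hneg _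
    have hC' : Cᵀ = C := by
      rcases hε with rfl | rfl
      · rw [hC, one_smul]
      · rw [hC, neg_smul, one_smul]; ext i j; exact hneg _
    obtain ⟨hB0, hC0⟩ := alt_of_even hq H N hfixH hirr D hd hk B C hB' hC' hBdet hCdet hfix hform
      hkron
    have hpure : ∀ (v : Fin D.d → F) (w : Fin D.k → F),
        Q (((D.P⁻¹ : GL (Fin n) F) : Matrix (Fin n) (Fin n) F) *ᵥ
          ((fun p : Fin D.d × Fin D.k => v p.1 * w p.2) ∘ D.e)) = 0 :=
      quad_pure_eq_zero h2 Q hQ.smul N hNQ D hd B C hB' hC' hB0 hC0 hfix hform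
    have hBn : Bᵀ = -B := by rw [hB']; ext i j; exact (hneg _).symm
    have hCn : Cᵀ = -C := by rw [hC']; ext i j; exact (hneg _).symm
    rcases ec4a_or_ec7a_of_alt Q H hd hk D.e D.P B C hBn hCn
      (Cfsg.Agent.Lib.H3.AschS.SM4D_dot_self_eq_zero h2 B hB' hB0)
      (Cfsg.Agent.Lib.H3.AschS.SM4D_dot_self_eq_zero h2 C hC' hC0) hBdet hCdet
      hform hpure hkron with h | h
    · exact Or.inl (Or.inl h)
    · exact Or.inr (Or.inl (Or.inl h))

end Cfsg.Agent.Lib.H20.AschE
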