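/-
Phase 2 of the S5630 project (SL_n rows), helper20: a decomposition into lines gives a basis in
which every element of the stabiliser is monomial.  Common core of P2-E1, P2-E2, P2-E3.
-/
import Cfsg.Agent.Lib.Lead.AschDefs2
import Cfsg.Agent.Lib.H28.GLBasic

set_option autoImplicit false

namespace Cfsg.Agent.Lib.H20.AschP2

open Cfsg Cfsg.Geo Cfsg.Agent.Lib.Lead.Asch
open scoped MatrixGroups Matrix

variable {F : Type*} [Field F] {n : ℕ}

/-- A decomposition into lines: a basis `b` with `b i ∈ D i`, in which every element of the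
stabiliser of `D` is monomial. -/
theorem exists_basis_of_lines {t : ℕ} (D : Fin t → Submodule F (Fin n → F))
    (hD : IsMDecomposition 1 D) :
    ∃ b : Module.Basis (Fin t) F (Fin n → F), (∀ i, b i ∈ D i) ∧
      ∀ g ∈ decompositionStabilizer D, ∃ (σ : Equiv.Perm (Fin t)) (c : Fin t → F),
        (∀ i, c i ≠ 0) ∧
        (∀ i, (g : Matrix (Fin n) (Fin n) F) *ᵥ b i = c i • b (σ i)) ∧
        ∀ (v : Fin n → F) (i : Fin t),
          b.repr ((g : Matrix (Fin n) (Fin n) F) *ᵥ v) (σ i) = c i * b.repr v i := by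
  -- choose generators
  have hgen : ∀ i, ∃ a : Fin n → F, a ∈ D i ∧ a ≠ 0 ∧ D i = Submodule.span F {a} := by
    intro i
    obtain ⟨v, hv0, hv⟩ := finrank_eq_one_iff'.mp (hD.finrank_eq i)
    refine ⟨v, v.2, fun h => hv0 (Subtype.ext h), ?_⟩
    apply le_antisymm
    · intro w hw
      obtain ⟨c, hc⟩ := hv ⟨w, hw⟩
      rw [Submodule.mem_span_singleton]
      exact ⟨c, congrArg Subtype.val hc⟩
    · rw [Submodule.span_singleton_le_iff_mem]; exact v.2
  choose a haD ha0 hspan using hgen
  have hli : LinearIndependent F a := hD.indep.linearIndependent D haD ha0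
  have hsp : ⊤ ≤ Submodule.span F (Set.range a) := by
    rw [Submodule.span_range_eq_iSup, ← hD.iSup_eq_top]
    exact iSup_mono fun i => (hspan i).le
  set b : Module.Basis (Fin t) F (Fin n → F) := Module.Basis.mk hli hsp with hb
  have hba : ∀ i, b i = a i := fun i => by rw [hb, Module.Basis.mk_apply]
  refine ⟨b, fun i => by rw [hba]; exact haD i, ?_⟩
  rintro g ⟨σ, hσ⟩
  have hmem : ∀ i, (g : Matrix (Fin n) (Fin n) F) *ᵥ a i ∈ D (σ i) := by
    intro i
    rw [← hσ i]
    exact ⟨a i, haD i, by simp [Matrix.toLin'_apply]⟩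
  have hc : ∀ i, ∃ c : F, c • a (σ i) = (g : Matrix (Fin n) (Fin n) F) *ᵥ a i := by
    intro i
    have := hmem i
    rw [hspan (σ i), Submodule.mem_span_singleton] at this
    exact this
  choose c hc using hc
  have hcancel : ∀ w : Fin n → F, ((g⁻¹ : GL (Fin n) F) : Matrix (Fin n) (Fin n) F) *ᵥ
      ((g : Matrix (Fin n) (Fin n) F) *ᵥ w) = w := by
    intro w
    rw [Matrix.mulVec_mulVec, ← Units.val_mul, inv_mul_cancel, Units.val_one, Matrix.one_mulVec]
  have hc0 : ∀ i, c i ≠ 0 := by
    intro i h0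
    apply ha0 i
    have h1 := hc i
    rw [h0, zero_smul] at h1
    rw [← hcancel (a i), ← h1, Matrix.mulVec_zero]
  have hgb : ∀ i, (g : Matrix (Fin n) (Fin n) F) *ᵥ b i = c i • b (σ i) := by
    intro i; rw [hba, hba, hc]
  refine ⟨σ, c, hc0, hgb, fun v i => ?_⟩
  have hv : v = ∑ j, b.repr v j • b j := (b.sum_repr v).symm
  have h1 : (g : Matrix (Fin n) (Fin n) F) *ᵥ v = ∑ j, (b.repr v j * c j) • b (σ j) := by
    conv_lhs => rw [hv]
    rw [← Matrix.toLin'_apply, map_sum]
    refine Finset.sum_congr rfl fun j _ => ?_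
    rw [map_smul, Matrix.toLin'_apply, hgb, smul_smul]
  rw [h1, map_sum, Finsupp.coe_finset_sum, Finset.sum_apply]
  rw [Finset.sum_eq_single i]
  · rw [map_smul, Module.Basis.repr_self, Finsupp.smul_apply, Finsupp.single_eq_same, smul_eq_mul,
      mul_one, mul_comm]
  · intro j _ hji
    rw [map_smul, Module.Basis.repr_self, Finsupp.smul_apply,
      Finsupp.single_eq_of_ne (fun h => hji (σ.injective h).symm), smul_zero]
  · intro h; exact absurd (Finset.mem_univ i) h

/-- Change of variables in sums over the coordinates. -/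
theorem sum_repr_perm {t : ℕ} {M : Type*} [AddCommMonoid M] (σ : Equiv.Perm (Fin t))
    (φ : Fin t → M) : ∑ j, φ j = ∑ i, φ (σ i) := (Equiv.sum_comp σ φ).symm

end Cfsg.Agent.Lib.H20.AschP2
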