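import Mathlib
import Cfsg.Agent.Lib.H13.HSDefs

/-!
# S2536 piece P4 (caseA): prime degree, two primes

A transitive Hall `π`-subgroup `H` of `Perm α`, `|α| = n` prime, `π ∩ [1,n] = {r, n}` with `r < n`,
and some prime `t ≤ n` outside `π`: impossible (Jordan).
-/

namespace Cfsg.Agent.Lib.H20.HS
open Equiv MulAction Cfsg.Agent.Lib.H13.HS
open scoped Pointwise

/-- local copy of `hall_conj_elt`: an element of `r`-power order (`r ∈ π`) is conjugate into a Hall
`π`-subgroup. -/
theorem p4_conj_elt {G : Type*} [Group G] [Finite G] {π : Set ℕ} {H : Subgroup G}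
    (hH : Cfsg.IsPiHall π H) {r : ℕ} (hr : r.Prime) (hrπ : r ∈ π)
    (x : G) (k : ℕ) (hx : orderOf x = r ^ k) : ∃ g : G, g * x * g⁻¹ ∈ H := by
  have : Fact r.Prime := ⟨hr⟩
  obtain ⟨_, hfree⟩ := hH
  obtain ⟨P⟩ : Nonempty (Sylow r H) := inferInstance
  have hQ : IsPGroup r ((P : Subgroup H).map H.subtype) := P.2.map _
  have hidx : ¬ r ∣ ((P : Subgroup H).map H.subtype).index := by
    rw [Subgroup.index_map_subtype]
    exact Nat.Prime.not_dvd_mul hr P.not_dvd_index (hfree r hr hrπ)
  let Q : Sylow r G := hQ.toSylow hidx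
  have hxP : IsPGroup r (Subgroup.zpowers x) := by
    apply IsPGroup.of_card (n := k)
    rw [Nat.card_zpowers, hx]
  obtain ⟨Q', hQ'⟩ := hxP.exists_le_sylow
  obtain ⟨g, hg⟩ := MulAction.exists_smul_eq G Q' Q
  refine ⟨g, ?_⟩
  have hxQ' : x ∈ (Q' : Subgroup G) := hQ' (Subgroup.mem_zpowers x)
  have h1 : g * x * g⁻¹ ∈ ((g • Q' : Sylow r G) : Subgroup G) := by
    rw [Sylow.coe_subgroup_smul]
    have := Subgroup.smul_mem_pointwise_smul x (MulAut.conj g) (Q' : Subgroup G) hxQ'
    simpa [MulAut.smul_def] using this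
  rw [hg] at h1
  have h2 : g * x * g⁻¹ ∈ (P : Subgroup H).map H.subtype := (hQ.mem_toSylow hidx).mp h1
  obtain ⟨y, _, hy⟩ := h2
  rw [← hy]
  exact y.2

theorem caseA {α : Type*} [Finite α] {π : Set ℕ} {H : Subgroup (Perm α)}
    (hH : Cfsg.IsPiHall π H) (htr : IsPretransitive H α) (hn : (Nat.card α).Prime)
    {r : ℕ} (hr : r.Prime) (hrπ : r ∈ π) (hrn : r < Nat.card α)
    (hfew : ∀ s : ℕ, s.Prime → s ∈ π → s ≤ Nat.card α → s = r ∨ s = Nat.card α)
    (ht : ∃ t : ℕ, t.Prime ∧ t ≤ Nat.card α ∧ t ∉ π) : False := by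
  classical
  have := Fintype.ofFinite α
  -- an `r`-cycle in `Perm α`
  have hex : ∃ g₀ : Perm α, g₀.cycleType = {r} := by
    rw [Equiv.Perm.exists_with_cycleType_iff]
    refine ⟨?_, ?_⟩
    · simp only [Multiset.sum_singleton]
      rw [← Nat.card_eq_fintype_card]; exact hrn.le
    · intro a ha
      rw [Multiset.mem_singleton] at ha
      rw [ha]; exact hr.two_le
  obtain ⟨g₀, hg₀⟩ := hex
  have hord₀ : orderOf g₀ = r ^ 1 := by
    rw [← Equiv.Perm.lcm_cycleType, hg₀]; simp
  obtain ⟨c, hc⟩ := p4_conj_elt hH hr hrπ g₀ 1 hord₀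
  set g : Perm α := c * g₀ * c⁻¹ with hgdef
  have hgct : g.cycleType = {r} := by
    rw [hgdef, Equiv.Perm.cycleType_conj, hg₀]
  have hgcyc : g.IsCycle := by
    rw [← Equiv.Perm.card_cycleType_eq_one, hgct]; simp
  have hgsupp : g.support.card = r := by
    rw [← Equiv.Perm.sum_cycleType, hgct]; simp
  -- `H` is primitive
  have hprim : IsPreprimitive H α := IsPreprimitive.of_prime_card hn
  obtain ⟨t, htp, htn, htπ⟩ := ht
  by_cases hr2 : r = 2
  · -- `g` is a swap, so `H = ⊤`
    have hswap : g.IsSwap := by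
      rw [← Equiv.Perm.card_support_eq_two, hgsupp, hr2]
    have htop : H = ⊤ := Equiv.Perm.subgroup_eq_top_of_isPreprimitive_of_isSwap_mem hprim g hswap hc
    have hcard : Nat.card H = (Nat.card α).factorial := by
      rw [htop, Subgroup.card_top, Nat.card_perm]
    have htdvd : t ∣ Nat.card H := by
      rw [hcard]; exact (htp.dvd_factorial).mpr htn
    exact htπ (hH.1 t htp htdvd)
  · -- `r` odd: Jordan gives 2-transitivity, hence an element of even order
    have hr3 : 3 ≤ r := by
      have := hr.two_le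
      omega
    have hsn : ((g.support : Set α)ᶜ).ncard = (Nat.card α - r - 1) + 1 := by
      have h1 := Set.ncard_add_ncard_compl (g.support : Set α)
      rw [Set.ncard_coe_finset, hgsupp] at h1
      omega
    have hsn' : (Nat.card α - r - 1) + 2 < Nat.card α := by omega
    have h2tr : IsMultiplyPretransitive H α 2 :=
      hprim.is_two_pretransitive hsn hsn' (Equiv.Perm.isPretransitive_of_isCycle_mem hgcyc hc)
    rw [MulAction.is_two_pretransitive_iff] at h2tr
    -- two distinct points
    have hcard2 : 1 < Nat.card α := hn.one_lt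
    rw [Nat.card_eq_fintype_card] at hcard2
    obtain ⟨a, b, hab⟩ := Fintype.exists_pair_of_one_lt_card hcard2
    obtain ⟨h, hha, hhb⟩ := h2tr hab hab.symm
    -- `h` has even order
    have h2dvd : 2 ∣ orderOf h := by
      by_contra hodd
      have hodd' : Odd (orderOf h) := Nat.odd_iff.mpr (Nat.two_dvd_ne_zero.mp hodd)
      obtain ⟨m, hm⟩ := hodd'
      have hsq : ∀ j : ℕ, (h ^ (2 * j)) • a = a := by
        intro j
        induction j with
        | zero => simp
        | succ j ih =>
          rw [show 2 * (j + 1) = 2 * j + 1 + 1 by ring, pow_succ, pow_succ, mul_assoc, mul_smul,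
            mul_smul, hha, hhb, ih]
      have : (h ^ (2 * m + 1)) • a = a := by rw [← hm, pow_orderOf_eq_one, one_smul]
      rw [pow_succ', mul_smul, hsq m, hha] at this
      exact hab this.symm
    have h2card : 2 ∣ Nat.card H := h2dvd.trans (orderOf_dvd_natCard h)
    -- so `2 ∈ π`
    have : 2 ∣ Nat.card H → False := by
      intro h2
      -- Sylow: need `2 ∈ π` from PiNum
      have h2π : (2 : ℕ) ∈ π := hH.1 2 Nat.prime_two h2
      rcases hfew 2 Nat.prime_two h2π (hr.two_le.trans hrn.le) with h | h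
      · exact hr2 h.symm
      · omega
    exact this h2card
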