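import Mathlib
import Cfsg.Agent.Lib.H13.HSDefs

/-!
# S2536 piece P9: the stabilizer of a partition into two halves has order `2 (k!)²`
-/

namespace Cfsg.Agent.Lib.H20.HS
open Equiv MulAction Cfsg.Agent.Lib.H13.HS
open scoped Pointwise

/-- membership in the set stabilizer, pointwise form. -/
theorem p9_mem_stabilizer_set {α : Type*} (s : Set α) (g : Perm α) :
    g ∈ stabilizer (Perm α) s ↔ ∀ a, g a ∈ s ↔ a ∈ s := by
  rw [mem_stabilizer_iff]
  constructor
  · intro h a
    have h1 : g a ∈ g • s ↔ a ∈ s := by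
      rw [show g a = g • a from rfl]
      exact Set.smul_mem_smul_set_iff
    rw [h] at h1
    exact h1
  · intro h
    ext x
    rw [Set.mem_smul_set_iff_inv_smul_mem]
    have := h (g⁻¹ • x)
    rw [show g (g⁻¹ • x) = x by simp [Perm.smul_def]] at this
    exact this.symm

/-- local copy of P2 `card_stabilizer_set`. -/
theorem p9_card_stabilizer_set {α : Type*} [Finite α] (s : Set α) :
    Nat.card (stabilizer (Perm α) s) = (s.ncard).factorial * (sᶜ.ncard).factorial := by
  classical
  have key := DomMulAct.stabilizer_ncard (α := α) (fun a => decide (a ∈ s))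
  rw [Fintype.prod_bool] at key
  have h1 : {a : α | decide (a ∈ s) = true} = s := by ext a; simp
  have h2 : {a : α | decide (a ∈ s) = false} = sᶜ := by ext a; simp
  rw [h1, h2] at key
  rw [← key, ← Nat.card_coe_set_eq]
  apply Nat.card_congr
  refine Equiv.subtypeEquivRight ?_
  intro g
  rw [p9_mem_stabilizer_set, Set.mem_ofPred_eq]
  constructor
  · intro h
    funext a
    simp only [Function.comp_apply, decide_eq_decide]
    exact h a
  · intro h a
    have := congrFun h a
    simpa only [Function.comp_apply, decide_eq_decide] using this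

theorem card_partStab {α : Type*} [Finite α] (s : Set α) (hs : s.ncard = sᶜ.ncard) (h0 : 0 < s.ncard) :
    Nat.card (partStab s) = 2 * ((s.ncard).factorial * (s.ncard).factorial) := by
  classical
  have hne : sᶜ ≠ s := by
    obtain ⟨a, ha⟩ : s.Nonempty := (Set.ncard_pos (Set.toFinite s)).mp h0
    intro h
    have : a ∈ sᶜ := by rw [h]; exact ha
    exact this ha
  have hcompl : ∀ g : Perm α, g • sᶜ = (g • s)ᶜ := fun g => Set.smul_set_compl
  have hmem : ∀ g : Perm α, g ∈ partStab s ↔ (g • s = s ∨ g • s = sᶜ) := by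
    intro g
    unfold partStab
    rw [mem_stabilizer_iff, Set.smul_set_insert, Set.smul_set_singleton, hcompl]
    constructor
    · intro h
      have : g • s ∈ ({s, sᶜ} : Set (Set α)) := by rw [← h]; exact Set.mem_insert _ _
      simpa using this
    · rintro (h | h)
      · rw [h]
      · rw [h, compl_compl, Set.pair_comm]
  have hKle : stabilizer (Perm α) s ≤ partStab s :=
    fun g hg => (hmem g).mpr (Or.inl (mem_stabilizer_iff.mp hg))
  -- a permutation interchanging `s` and `sᶜ`
  have hcard : Nat.card ↥s = Nat.card ↥(sᶜ) := by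
    rw [Nat.card_coe_set_eq, Nat.card_coe_set_eq, hs]
  obtain ⟨e⟩ : Nonempty (↥s ≃ ↥(sᶜ)) := Finite.card_eq.mp hcard
  let e' : {x // x ∈ s} ≃ {x // x ∈ sᶜ} := e
  have : Finite ↥{x | x ∈ s} := Subtype.finite
  set σ : Perm α := e'.extendSubtype with hσ
  have hσs : σ • s = sᶜ := by
    ext x
    rw [Set.mem_smul_set_iff_inv_smul_mem]
    constructor
    · intro h
      have := e'.extendSubtype_mem (σ⁻¹ • x) h
      rw [← hσ, show σ (σ⁻¹ • x) = x by simp [Perm.smul_def]] at this
      exact this
    · intro h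
      by_contra hn
      have := e'.extendSubtype_not_mem (σ⁻¹ • x) hn
      rw [← hσ, show σ (σ⁻¹ • x) = x by simp [Perm.smul_def]] at this
      exact this h
  have hσP : σ ∈ partStab s := (hmem σ).mpr (Or.inr hσs)
  -- index two
  have hidx : ((stabilizer (Perm α) s).subgroupOf (partStab s)).index = 2 := by
    rw [Subgroup.index_eq_two_iff]
    refine ⟨⟨σ, hσP⟩, ?_⟩
    rintro ⟨b, hb⟩
    have hP : (⟨b, hb⟩ * ⟨σ, hσP⟩ : partStab s) ∈ (stabilizer (Perm α) s).subgroupOf (partStab s) ↔
        (b • s)ᶜ = s := by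
      rw [Subgroup.mem_subgroupOf]
      show b * σ ∈ stabilizer (Perm α) s ↔ _
      rw [mem_stabilizer_iff, mul_smul, hσs, hcompl]
    have hQ : (⟨b, hb⟩ : partStab s) ∈ (stabilizer (Perm α) s).subgroupOf (partStab s) ↔
        b • s = s := by
      rw [Subgroup.mem_subgroupOf]
      show b ∈ stabilizer (Perm α) s ↔ _
      rw [mem_stabilizer_iff]
    rw [hP, hQ]
    rcases (hmem b).mp hb with h | h
    · right
      refine ⟨h, ?_⟩
      rw [h]; exact hne
    · left
      refine ⟨by rw [h, compl_compl], ?_⟩
      rw [h]; exact hne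
  have h1 := Subgroup.card_mul_index ((stabilizer (Perm α) s).subgroupOf (partStab s))
  rw [hidx, Nat.card_congr (Subgroup.subgroupOfEquivOfLe hKle).toEquiv, p9_card_stabilizer_set,
    ← hs] at h1
  rw [← h1]; ring
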