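import Mathlib

set_option autoImplicit false

/-!
# Counting elements by the cyclic subgroup they generate, and related counting lemmas
-/

namespace Cfsg.Agent.Lib.H20.OrdCnt

open Finset

variable {G : Type*} [Group G]

open Classical in
/-- The number of generators of `zpowers y₀`. -/
theorem card_filter_zpowers_eq [Fintype G] (y₀ : G) :
    (univ.filter (fun y : G => Subgroup.zpowers y = Subgroup.zpowers y₀)).card =
      Nat.totient (orderOf y₀) := by
  classical
  have hcard : Nat.card (Subgroup.zpowers y₀) = orderOf y₀ := Nat.card_zpowers y₀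
  have h1 := IsCyclic.card_orderOf_eq_totient (α := Subgroup.zpowers y₀) (d := orderOf y₀)
    (by rw [← Nat.card_eq_fintype_card, hcard])
  rw [← h1]
  symm
  apply Finset.card_bij (fun (z : Subgroup.zpowers y₀) _ => (z : G))
  · intro z hz
    simp only [mem_filter, mem_univ, true_and] at hz ⊢
    have hzo : orderOf (z : G) = orderOf y₀ := by rw [Subgroup.orderOf_coe]; exact hz
    apply Subgroup.eq_of_le_of_card_ge
    · rw [Subgroup.zpowers_le]; exact z.2
    · rw [Nat.card_zpowers, Nat.card_zpowers, hzo]
  · intro z₁ _ z₂ _ h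
    exact Subtype.ext h
  · intro x hx
    simp only [mem_filter, mem_univ, true_and] at hx
    have hxm : x ∈ Subgroup.zpowers y₀ := hx ▸ Subgroup.mem_zpowers x
    refine ⟨⟨x, hxm⟩, ?_, rfl⟩
    simp only [mem_filter, mem_univ, true_and]
    rw [← Subgroup.orderOf_coe]
    change orderOf x = orderOf y₀
    rw [← Nat.card_zpowers, ← Nat.card_zpowers, hx]

open Classical in
/-- A set closed under "generating the same cyclic subgroup" has cardinality the sum of
`φ(|T|)` over the cyclic subgroups `T` it meets. -/
theorem card_eq_sum_totient [Fintype G] (S : Set G)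
    (hS : ∀ y ∈ S, ∀ y' : G, Subgroup.zpowers y' = Subgroup.zpowers y → y' ∈ S) :
    (univ.filter (fun y : G => y ∈ S)).card =
      ∑ T ∈ (univ : Finset (Subgroup G)).filter (fun T => ∃ y ∈ S, Subgroup.zpowers y = T),
        Nat.totient (Nat.card T) := by
  classical
  rw [Finset.card_eq_sum_card_fiberwise (f := fun x => Subgroup.zpowers x)
    (t := (univ : Finset (Subgroup G))) (fun x _ => mem_coe.mpr (mem_univ _)), Finset.sum_filter]
  apply Finset.sum_congr rfl
  intro T _
  by_cases hT : ∃ y ∈ S, Subgroup.zpowers y = T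
  · rw [if_pos hT]
    obtain ⟨y₀, hy₀, rfl⟩ := hT
    rw [Nat.card_zpowers, ← card_filter_zpowers_eq y₀]
    congr 1
    ext y
    simp only [mem_filter, mem_univ, true_and]
    exact ⟨fun h => h.2, fun h => ⟨hS y₀ hy₀ y h, h⟩⟩
  · rw [if_neg hT]
    rw [Finset.card_eq_zero, Finset.filter_eq_empty_iff]
    intro y hy hyT
    simp only [mem_filter, mem_univ, true_and] at hy
    exact hT ⟨y, hy, hyT⟩

/-- Divisibility version. -/
theorem dvd_card_of_gen_closed [Finite G] (S : Set G) (m : ℕ)
    (hS : ∀ y ∈ S, ∀ y' : G, Subgroup.zpowers y' = Subgroup.zpowers y → y' ∈ S)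
    (hm : ∀ y ∈ S, m ∣ Nat.totient (orderOf y)) : m ∣ Nat.card S := by
  classical
  haveI : Fintype G := Fintype.ofFinite G
  have h0 : Nat.card S = (univ.filter (fun y : G => y ∈ S)).card := by
    rw [Nat.card_eq_fintype_card, Fintype.card_subtype]
  rw [h0, card_eq_sum_totient S hS]
  apply Finset.dvd_sum
  intro T hT
  simp only [mem_filter, mem_univ, true_and] at hT
  obtain ⟨y, hy, rfl⟩ := hT
  rw [Nat.card_zpowers]
  exact hm y hy

/-- The number of elements of order `d` is `φ(d)` times the number of cyclic subgroups of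
order `d`. -/
theorem card_orderOf_eq_totient_mul [Finite G] (d : ℕ) :
    Nat.card {x : G // orderOf x = d} =
      Nat.totient d * Nat.card {T : Subgroup G // IsCyclic T ∧ Nat.card T = d} := by
  classical
  haveI : Fintype G := Fintype.ofFinite G
  rw [Nat.card_eq_fintype_card, Fintype.card_subtype]
  have h := card_eq_sum_totient {x : G | orderOf x = d} (by
    intro y hy y' hy'
    rw [Set.mem_ofPred_eq] at hy ⊢
    rw [← Nat.card_zpowers, hy', Nat.card_zpowers, hy])
  simp only [Set.mem_ofPred_eq] at h
  rw [h]
  have hfilter : (univ : Finset (Subgroup G)).filter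
      (fun T => ∃ y : G, orderOf y = d ∧ Subgroup.zpowers y = T) =
      (univ : Finset (Subgroup G)).filter (fun T : Subgroup G => IsCyclic T ∧ Nat.card T = d) := by
    ext T
    simp only [mem_filter, mem_univ, true_and]
    constructor
    · rintro ⟨y, hy, rfl⟩
      exact ⟨inferInstance, by rw [Nat.card_zpowers, hy]⟩
    · rintro ⟨hc, hcard⟩
      obtain ⟨g, hg⟩ := hc.exists_generator
      refine ⟨(g : G), ?_, ?_⟩
      · rw [Subgroup.orderOf_coe, orderOf_eq_card_of_forall_mem_zpowers hg, hcard]
      · apply Subgroup.eq_of_le_of_card_ge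
        · rw [Subgroup.zpowers_le]; exact g.2
        · rw [Nat.card_zpowers, Subgroup.orderOf_coe, orderOf_eq_card_of_forall_mem_zpowers hg]
  rw [hfilter, Finset.sum_congr rfl (g := fun _ => Nat.totient d)]
  · rw [Finset.sum_const, smul_eq_mul, mul_comm, Nat.card_eq_fintype_card, Fintype.card_subtype]
  · intro T hT
    simp only [mem_filter, mem_univ, true_and] at hT
    rw [hT.2]

end Cfsg.Agent.Lib.H20.OrdCnt
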