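import Mathlib
import Cfsg.Agent.Lib.H20.OrderCount1

/-!
# S3592, piece NO55 (helper20): a group of order 7920 whose Sylow 11-normalizers have order 55 and
whose order-counts are "good" has no element of order 55 (Burnside transfer + counting in the
normal 11-complement of order 720).
-/

set_option autoImplicit false

namespace Cfsg.Agent.Lib.H20.NSE

variable {G : Type*} [Group G] [Finite G]

/-- an element whose order is `3` lies in every normal subgroup of index `11` -/
theorem mem_of_orderOf_three {K : Subgroup G} [K.Normal] (hK : K.index = 11) {x : G}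
    (hx : orderOf x = 3) : x ∈ K := by
  have h11 : x ^ 11 ∈ K := hK ▸ K.pow_index_mem x
  have h3 : x ^ 3 = 1 := by rw [← hx]; exact pow_orderOf_eq_one x
  have h22 : (x ^ 11) ^ 2 = x := by
    rw [← pow_mul]
    calc x ^ (11 * 2) = (x ^ 3) ^ 7 * x := by rw [← pow_mul, ← pow_succ]
      _ = x := by rw [h3, one_pow, one_mul]
  rw [← h22]
  exact K.pow_mem h11 2

/-- an element whose order is `5` lies in every normal subgroup of index `11` -/
theorem mem_of_orderOf_five {K : Subgroup G} [K.Normal] (hK : K.index = 11) {x : G}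
    (hx : orderOf x = 5) : x ∈ K := by
  have h11 : x ^ 11 ∈ K := hK ▸ K.pow_index_mem x
  have h5 : x ^ 5 = 1 := by rw [← hx]; exact pow_orderOf_eq_one x
  have h11' : x ^ 11 = x := by
    calc x ^ 11 = (x ^ 5) ^ 2 * x := by rw [← pow_mul, ← pow_succ]
      _ = x := by rw [h5, one_pow, one_mul]
  rw [← h11']
  exact h11

/-- counting inside a subgroup of order `720` -/
theorem card_three_add_card_five_lt {K : Subgroup G} (hK : Nat.card K = 720)
    (h3 : ∀ x : G, orderOf x = 3 → x ∈ K) (h5 : ∀ x : G, orderOf x = 5 → x ∈ K) :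
    Nat.card {g : G // orderOf g = 3} + Nat.card {g : G // orderOf g = 5} + 1 ≤ 720 := by
  classical
  haveI : Fintype G := Fintype.ofFinite G
  rw [Nat.card_eq_fintype_card, Nat.card_eq_fintype_card, Fintype.card_subtype,
    Fintype.card_subtype]
  set S3 := Finset.univ.filter (fun x : G => orderOf x = 3) with hS3
  set S5 := Finset.univ.filter (fun x : G => orderOf x = 5) with hS5
  set Kf := Finset.univ.filter (fun x : G => x ∈ K) with hKf
  have hKcard : Kf.card = 720 := by
    rw [← hK, Nat.card_eq_fintype_card, Fintype.card_subtype]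
  have hd35 : Disjoint S3 S5 := by
    rw [Finset.disjoint_left]
    intro x hx3 hx5
    rw [hS3, Finset.mem_filter] at hx3
    rw [hS5, Finset.mem_filter] at hx5
    omega
  have hd1 : Disjoint (S3 ∪ S5) {(1 : G)} := by
    rw [Finset.disjoint_singleton_right, Finset.mem_union]
    rintro (h | h)
    · rw [hS3, Finset.mem_filter, orderOf_one] at h
      omega
    · rw [hS5, Finset.mem_filter, orderOf_one] at h
      omega
  have hsub : (S3 ∪ S5) ∪ {(1 : G)} ⊆ Kf := by
    intro x hx
    rw [hKf, Finset.mem_filter]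
    refine ⟨Finset.mem_univ _, ?_⟩
    rw [Finset.mem_union, Finset.mem_union, Finset.mem_singleton] at hx
    rcases hx with (hx | hx) | hx
    · exact h3 x (Finset.mem_filter.1 hx).2
    · exact h5 x (Finset.mem_filter.1 hx).2
    · rw [hx]; exact K.one_mem
  have := Finset.card_le_card hsub
  rw [Finset.card_union_of_disjoint hd1, Finset.card_union_of_disjoint hd35,
    Finset.card_singleton, hKcard] at this
  exact this

/-- (G3) no element of order `55` -/
theorem no55_core (hcard : Nat.card G = 7920)
    (hN : ∀ P : Sylow 11 G, Nat.card (Subgroup.normalizer ((P : Subgroup G) : Set G)) = 55)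
    (hgood : ∀ n : ℕ, 0 < Nat.card {g : G // orderOf g = n} →
      Nat.card {g : G // orderOf g = n} = 1 ∨ 165 ∣ Nat.card {g : G // orderOf g = n} ∨
      440 ∣ Nat.card {g : G // orderOf g = n} ∨ 1584 ∣ Nat.card {g : G // orderOf g = n} ∨
      Nat.card {g : G // orderOf g = n} = 1440) :
    ¬ ∃ g : G, orderOf g = 55 := by
  classical
  haveI : Fact (Nat.Prime 11) := ⟨by norm_num⟩
  haveI : Fact (Nat.Prime 3) := ⟨Nat.prime_three⟩
  haveI : Fact (Nat.Prime 5) := ⟨Nat.prime_five⟩
  rintro ⟨g, hg⟩
  set t := g ^ 5 with ht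
  have ht11 : orderOf t = 11 := by
    rw [ht, orderOf_pow' g (by norm_num : 5 ≠ 0), hg]
    norm_num
  have hfac : (Nat.card G).factorization 11 = 1 := by
    rw [hcard]
    have h1 : (7920 : ℕ) = 11 ^ 1 * 720 := by norm_num
    rw [h1, Nat.factorization_mul (by norm_num) (by norm_num), Finsupp.add_apply,
      Nat.Prime.factorization_pow (by norm_num), Finsupp.single_eq_same,
      Nat.factorization_eq_zero_of_not_dvd (by norm_num)]
  have hcardT : Nat.card (Subgroup.zpowers t) = 11 ^ (Nat.card G).factorization 11 := by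
    rw [Nat.card_zpowers, ht11, hfac, pow_one]
  let P : Sylow 11 G := Sylow.ofCard (Subgroup.zpowers t) hcardT
  have hPcoe : (P : Subgroup G) = Subgroup.zpowers t := Sylow.coe_ofCard _ _
  have hPcard : Nat.card (P : Subgroup G) = 11 := by rw [hPcoe, Nat.card_zpowers, ht11]
  -- `g` centralises `P`
  have hgt : Commute t g := (Commute.refl g).pow_left 5
  have hgC : g ∈ Subgroup.centralizer ((P : Subgroup G) : Set G) := by
    rw [hPcoe, Subgroup.mem_centralizer_iff]
    intro y hy
    obtain ⟨k, rfl⟩ := Subgroup.mem_zpowers_iff.1 hy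
    exact (hgt.zpow_left k).eq
  have hgN : g ∈ Subgroup.normalizer ((P : Subgroup G) : Set G) :=
    Subgroup.centralizer_le_normalizer _ hgC
  -- `N(P) = ⟨g⟩`
  have hNeq : Subgroup.zpowers g = Subgroup.normalizer ((P : Subgroup G) : Set G) := by
    apply Subgroup.eq_of_le_of_card_ge
    · rw [Subgroup.zpowers_le]; exact hgN
    · rw [hN P, Nat.card_zpowers, hg]
  -- `N(P) ≤ C(P)`
  have hNC : Subgroup.normalizer ((P : Subgroup G) : Set G) ≤
      Subgroup.centralizer ((P : Subgroup G) : Set G) := by
    intro n hn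
    rw [← hNeq] at hn
    obtain ⟨k, rfl⟩ := Subgroup.mem_zpowers_iff.1 hn
    exact Subgroup.zpow_mem _ hgC k
  -- Burnside
  have hcompl := MonoidHom.ker_transferSylow_isComplement' P hNC
  set K := (MonoidHom.transferSylow P hNC).ker with hK
  have hKcard : Nat.card K = 720 := by
    have := hcompl.card_mul_card
    rw [hPcard, hcard] at this
    omega
  have hKidx : K.index = 11 := by
    rw [← hPcard]
    exact hcompl.symm.index_eq_card
  have h3K : ∀ x : G, orderOf x = 3 → x ∈ K := fun x hx => mem_of_orderOf_three hKidx hx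
  have h5K : ∀ x : G, orderOf x = 5 → x ∈ K := fun x hx => mem_of_orderOf_five hKidx hx
  have hcount := card_three_add_card_five_lt hKcard h3K h5K
  -- the counts
  have hc3pos : 0 < Nat.card {g : G // orderOf g = 3} := by
    obtain ⟨x, hx⟩ := exists_prime_orderOf_dvd_card' (G := G) 3 (by rw [hcard]; norm_num)
    haveI : Nonempty {g : G // orderOf g = 3} := ⟨⟨x, hx⟩⟩
    exact Nat.card_pos
  have hc5pos : 0 < Nat.card {g : G // orderOf g = 5} := by
    obtain ⟨x, hx⟩ := exists_prime_orderOf_dvd_card' (G := G) 5 (by rw [hcard]; norm_num)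
    haveI : Nonempty {g : G // orderOf g = 5} := ⟨⟨x, hx⟩⟩
    exact Nat.card_pos
  have hc3even : 2 ∣ Nat.card {g : G // orderOf g = 3} := by
    rw [Cfsg.Agent.Lib.H20.OrdCnt.card_orderOf_eq_totient_mul]
    have : Nat.totient 3 = 2 := by decide
    rw [this]
    exact Dvd.intro _ rfl
  have hc5four : 4 ∣ Nat.card {g : G // orderOf g = 5} := by
    rw [Cfsg.Agent.Lib.H20.OrdCnt.card_orderOf_eq_totient_mul]
    have : Nat.totient 5 = 4 := by decide
    rw [this]
    exact Dvd.intro _ rfl
  have hg3 := hgood 3 hc3pos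
  have hg5 := hgood 5 hc5pos
  have h330 : 330 ≤ Nat.card {g : G // orderOf g = 3} := by
    rcases hg3 with h | h | h | h | h <;> omega
  have h440 : 440 ≤ Nat.card {g : G // orderOf g = 5} := by
    rcases hg5 with h | h | h | h | h <;> omega
  omega

end Cfsg.Agent.Lib.H20.NSE
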