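import Mathlib
import Cfsg.Agent.Lib.H13.NSE11Defs
import Cfsg.Agent.Lib.H20.NSE55

/-!
# S3592, piece NO55 = (G3) (helper20): `no_order_55` in the exact signature of
`tools/blueprints/S3592_sigs.lean`.
-/

set_option autoImplicit false

universe u

namespace Cfsg.Agent.Lib.H20.NSE11

open Cfsg.Agent.Lib.H13.NSE11

variable {G : Type u} [Group G] [Finite G]

/-- the normalizer of a Sylow 11-subgroup has order 55 when there are 144 of them -/
theorem card_normalizer_sylow11 (hG : Nat.card G = 7920) (h144 : Nat.card (Sylow 11 G) = 144)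
    (P : Sylow 11 G) : Nat.card (Subgroup.normalizer ((P : Subgroup G) : Set G)) = 55 := by
  haveI : Fact (Nat.Prime 11) := ⟨by norm_num⟩
  have h1 : Nat.card (Sylow 11 G) = (Subgroup.normalizer ((P : Subgroup G) : Set G)).index :=
    Sylow.card_eq_index_normalizer P
  have h2 := Subgroup.card_mul_index (Subgroup.normalizer ((P : Subgroup G) : Set G))
  rw [← h1, h144, hG] at h2
  omega

/-- (G3 = NO55) `|g| = 55`: `P = ⟨g ^ 5⟩` is a Sylow 11-subgroup, `N(P)` has order 55 and contains `g`, so
`N(P) = ⟨g⟩` is abelian and `N(P) ≤ C(P)`; Burnside (`MonoidHom.ker_transferSylow_isComplement'`) gives a normal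
`K` with `|K| = 720`, index 11.  `K` contains every element of order 3 or 5 (`Subgroup.pow_index_mem`).
`#{|g| = 3}` is even (`φ(3) ∣`), positive (Cauchy) and `Good`, so `≥ 330`; `#{|g| = 5}` is divisible by 4,
positive and `Good`, so `≥ 440`; `1 + 330 + 440 > 720`. -/
theorem no_order_55 (hG : Nat.card G = 7920) (h144 : Nat.card (Sylow 11 G) = 144)
    (hgood : ∀ n, 0 < Nat.card {g : G // orderOf g = n} →
      Good (Nat.card {g : G // orderOf g = n})) :
    ¬ ∃ g : G, orderOf g = 11 * 5 :=
  Cfsg.Agent.Lib.H20.NSE.no55_core hG (card_normalizer_sylow11 hG h144) hgood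

end Cfsg.Agent.Lib.H20.NSE11
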