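import Mathlib
import Cfsg.Prelude.Def_Characters
import Cfsg.Prelude.Def_Blocks

/-!
# S4711 farm-out: the shared definition `sqSum` (helper20)
-/

set_option autoImplicit false

namespace Cfsg.Agent.Lib.H20.PL1

open Cfsg

/-- Sum of the squares of the degrees over a set of irreducible characters. -/
noncomputable def sqSum {G : Type*} [Group G] (B : Set (IrrCharacter G)) : ℕ :=
  ∑ᶠ χ ∈ B, (charDegree (χ : G → ℂ)) ^ 2

end Cfsg.Agent.Lib.H20.PL1
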