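import Mathlib

set_option autoImplicit false

namespace Cfsg.Agent.Lib.H20

/-- A group all of whose elements are powers of `t` with `t ^ m = 1` is a quotient of `ZMod m`. -/
theorem exists_surjective_zmod_hom {A : Type*} [Group A] (m : ℕ) (t : A) (ht : t ^ m = 1)
    (hgen : ∀ c : A, c ∈ Subgroup.zpowers t) :
    ∃ π : Multiplicative (ZMod m) →* A, Function.Surjective π := by
  let f : ℤ →+ Additive A := zmultiplesHom (Additive A) (Additive.ofMul t)
  have hf : f m = 0 := by
    simp only [f, zmultiplesHom_apply, natCast_zsmul]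
    rw [← ofMul_pow, ht, ofMul_one]
  let g : ZMod m →+ Additive A := ZMod.lift m ⟨f, hf⟩
  refine ⟨AddMonoidHom.toMultiplicativeLeft g, ?_⟩
  intro c
  obtain ⟨k, hk⟩ := Subgroup.mem_zpowers_iff.mp (hgen c)
  refine ⟨Multiplicative.ofAdd (k : ZMod m), ?_⟩
  change Additive.toMul (g (k : ZMod m)) = c
  have h1 : g (k : ZMod m) = f k := ZMod.lift_coe m ⟨f, hf⟩ k
  rw [h1]
  simp only [f, zmultiplesHom_apply]
  rw [← ofMul_zpow, toMul_ofMul, hk]

end Cfsg.Agent.Lib.H20
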