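import Mathlib

/-!
# `q`-subgroups of `S_n` for `n < q ^ 2`, and elements of order `p * q` in `A_n` (helper20)
-/

set_option autoImplicit false

namespace Cfsg.Agent.Lib.H20.AltPQ

open Equiv Equiv.Perm

/-- If `q ^ k` divides `q!` then `k ≤ 1`. -/
theorem le_one_of_pow_dvd_factorial {q k : ℕ} (hq : q.Prime) (h : q ^ k ∣ q.factorial) : k ≤ 1 := by
  by_contra hk
  push Not at hk
  have h2 : q ^ 2 ∣ q.factorial := (pow_dvd_pow q hk).trans h
  obtain ⟨m, rfl⟩ : ∃ m, q = m + 1 := ⟨q - 1, by have := hq.pos; omega⟩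
  rw [Nat.factorial_succ, pow_two] at h2
  have h3 : (m + 1) ∣ m.factorial := Nat.dvd_of_mul_dvd_mul_left (Nat.succ_pos m) h2
  have := (hq.dvd_factorial).mp h3
  omega

/-- A `q`-subgroup of `S_n` with `n < q ^ 2` is abelian. -/
theorem perm_pgroup_comm {n q : ℕ} (hq : q.Prime) (hn : n < q ^ 2)
    (Q : Subgroup (Perm (Fin n))) (hQ : IsPGroup q Q) (x y : Perm (Fin n)) (hx : x ∈ Q)
    (hy : y ∈ Q) : x * y = y * x := by
  haveI : Fact q.Prime := ⟨hq⟩
  refine Equiv.ext fun a => ?_
  let ρ : Q →* Perm (MulAction.orbit Q a) := MulAction.toPermHom Q (MulAction.orbit Q a)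
  -- the size of the orbit
  obtain ⟨k, hk⟩ := hQ.card_orbit a
  have hle : Nat.card (MulAction.orbit Q a) ≤ n := by
    have := Nat.card_le_card_of_injective (Subtype.val : MulAction.orbit Q a → Fin n)
      Subtype.val_injective
    simpa using this
  have hk1 : k ≤ 1 := by
    by_contra hcon
    push Not at hcon
    have : q ^ 2 ≤ q ^ k := Nat.pow_le_pow_right hq.pos hcon
    rw [hk] at hle
    omega
  -- the image is a `q`-group of order dividing `q`
  have hR : IsPGroup q ρ.range := IsPGroup.of_surjective hQ ρ.rangeRestrict ρ.rangeRestrict_surjective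
  obtain ⟨m, hm⟩ := IsPGroup.iff_card.mp hR
  have hdvd : Nat.card ρ.range ∣ (Nat.card (MulAction.orbit Q a)).factorial := by
    rw [← Nat.card_perm]
    exact Subgroup.card_subgroup_dvd_card _
  have hm1 : m ≤ 1 := by
    rw [hm, hk] at hdvd
    interval_cases k
    · rw [pow_zero, Nat.factorial_one] at hdvd
      by_contra hcon
      push Not at hcon
      have h1 : q ∣ q ^ m := dvd_pow_self q (by omega)
      have h2 : q ∣ 1 := h1.trans hdvd
      exact hq.one_lt.ne' (Nat.dvd_one.mp h2)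
    · rw [pow_one] at hdvd
      exact le_one_of_pow_dvd_factorial hq hdvd
  have hcard : Nat.card ρ.range ∣ q := by
    rw [hm]
    calc q ^ m ∣ q ^ 1 := pow_dvd_pow q hm1
      _ = q := pow_one q
  haveI : IsCyclic ρ.range := isCyclic_of_card_dvd_prime hcard
  have hcomm : (⟨ρ ⟨x, hx⟩, ⟨_, rfl⟩⟩ : ρ.range) * ⟨ρ ⟨y, hy⟩, ⟨_, rfl⟩⟩ =
      ⟨ρ ⟨y, hy⟩, ⟨_, rfl⟩⟩ * ⟨ρ ⟨x, hx⟩, ⟨_, rfl⟩⟩ :=
    (IsCyclic.isMulCommutative (α := ρ.range)).is_comm.comm _ _
  have h2 : ρ ⟨x, hx⟩ * ρ ⟨y, hy⟩ = ρ ⟨y, hy⟩ * ρ ⟨x, hx⟩ := congrArg Subtype.val hcomm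
  have h3 := congrArg (fun f : Perm (MulAction.orbit Q a) =>
    ((f ⟨a, MulAction.mem_orbit_self a⟩ : MulAction.orbit Q a) : Fin n)) h2
  simpa [ρ, MulAction.toPermHom_apply, MulAction.toPerm_apply, MulAction.orbit.coe_smul,
    Subgroup.smul_def, Equiv.Perm.smul_def] using h3

/-- Existence of an even permutation of order `p * q` for odd primes `p ≠ q` with `p + q ≤ n`. -/
theorem exists_orderOf_eq_mul_of_odd {n p q : ℕ} (hp : p.Prime) (hq : q.Prime) (hpq : p ≠ q)
    (hp2 : p ≠ 2) (hq2 : q ≠ 2) (hn : p + q ≤ n) :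
    ∃ g : Perm (Fin n), g ∈ alternatingGroup (Fin n) ∧ orderOf g = p * q := by
  obtain ⟨g, hg⟩ := (Equiv.Perm.exists_with_cycleType_iff (α := Fin n)
    (m := ({p, q} : Multiset ℕ))).mpr ⟨by simpa using hn, by
      intro a ha
      simp only [Multiset.insert_eq_cons, Multiset.mem_cons, Multiset.mem_singleton] at ha
      rcases ha with rfl | rfl
      · exact hp.two_le
      · exact hq.two_le⟩
  refine ⟨g, ?_, ?_⟩
  · rw [Equiv.Perm.mem_alternatingGroup, Equiv.Perm.sign_of_cycleType, hg]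
    have hpo : Odd p := hp.odd_of_ne_two hp2
    have hqo : Odd q := hq.odd_of_ne_two hq2
    have : Even (({p, q} : Multiset ℕ).sum + Multiset.card ({p, q} : Multiset ℕ)) := by
      simp only [Multiset.insert_eq_cons, Multiset.sum_cons, Multiset.sum_singleton,
        Multiset.card_cons, Multiset.card_singleton]
      have := hpo.add_odd hqo
      exact this.add (by decide)
    exact this.neg_one_pow
  · rw [← Equiv.Perm.lcm_cycleType, hg]
    simp only [Multiset.insert_eq_cons, Multiset.lcm_cons, Multiset.lcm_singleton, normalize_eq]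
    have hcop : Nat.Coprime p q := (Nat.coprime_primes hp hq).mpr hpq
    exact hcop.lcm_eq_mul

/-- Existence of an even permutation of order `2 * q` for an odd prime `q` with `q + 4 ≤ n`. -/
theorem exists_orderOf_eq_two_mul {n q : ℕ} (hq : q.Prime) (hq2 : q ≠ 2) (hn : q + 4 ≤ n) :
    ∃ g : Perm (Fin n), g ∈ alternatingGroup (Fin n) ∧ orderOf g = 2 * q := by
  obtain ⟨g, hg⟩ := (Equiv.Perm.exists_with_cycleType_iff (α := Fin n)
    (m := ({2, 2, q} : Multiset ℕ))).mpr ⟨by
      simp only [Multiset.insert_eq_cons, Multiset.sum_cons, Multiset.sum_singleton,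
        Fintype.card_fin]
      omega, by
      intro a ha
      simp only [Multiset.insert_eq_cons, Multiset.mem_cons, Multiset.mem_singleton] at ha
      rcases ha with rfl | rfl | rfl
      · exact le_refl 2
      · exact le_refl 2
      · exact hq.two_le⟩
  refine ⟨g, ?_, ?_⟩
  · rw [Equiv.Perm.mem_alternatingGroup, Equiv.Perm.sign_of_cycleType, hg]
    have hqo : Odd q := hq.odd_of_ne_two hq2
    have : Even (({2, 2, q} : Multiset ℕ).sum + Multiset.card ({2, 2, q} : Multiset ℕ)) := by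
      simp only [Multiset.insert_eq_cons, Multiset.sum_cons, Multiset.sum_singleton,
        Multiset.card_cons, Multiset.card_singleton]
      obtain ⟨r, hr⟩ := hqo
      exact ⟨r + 4, by omega⟩
    exact this.neg_one_pow
  · rw [← Equiv.Perm.lcm_cycleType, hg]
    simp only [Multiset.insert_eq_cons, Multiset.lcm_cons, Multiset.lcm_singleton, normalize_eq]
    have hcop : Nat.Coprime 2 q := (Nat.coprime_primes Nat.prime_two hq).mpr (Ne.symm hq2)
    rw [lcm_eq_nat_lcm, lcm_eq_nat_lcm, hcop.lcm_eq_mul]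
    exact Nat.lcm_eq_right (Dvd.intro q rfl) |>.symm ▸ rfl

end Cfsg.Agent.Lib.H20.AltPQ
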