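import Mathlib
import Cfsg.Agent.Lib.H18.AutAlt
import Cfsg.Agent.Lib.H20.AltPQ1

/-!
# `q`-subgroups of `Aut(A_n)` for `n < q ^ 2` are abelian (helper20)
-/

set_option autoImplicit false

namespace Cfsg.Agent.Lib.H20.AltPQ

open Equiv Equiv.Perm Cfsg.Agent.Lib.H18

section General

variable {α : Type*} [Fintype α] [DecidableEq α]

/-- An automorphism of `A_n` (`n ≥ 4`) mapping 3-cycles to 3-cycles is induced by conjugation by an
element of `S_n` (same proof as `H18.conjNormal_alternating_surjective`). -/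
theorem exists_conjNormal_eq_of_map_threeCycle (h : 4 ≤ Fintype.card α)
    (φ : MulAut (alternatingGroup α))
    (hφ : ∀ g : alternatingGroup α, (g : Perm α).IsThreeCycle →
      ((φ g : alternatingGroup α) : Perm α).IsThreeCycle) :
    ∃ σ : Perm α, (MulAut.conjNormal σ : MulAut (alternatingGroup α)) = φ := by
  haveI : Nontrivial α := Fintype.one_lt_card_iff_nontrivial.mp (by omega)
  obtain ⟨p0, p1, h01⟩ := exists_pair_ne α
  obtain ⟨i0, i1, hi0p0, hi0p1, hi1p0, hi1p1, hi01⟩ := exists_two_not_mem h p0 p1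
  let T := {i : α // i ≠ p0 ∧ i ≠ p1}
  let X : T → alternatingGroup α := fun i =>
    ⟨c3 p0 p1 i.1, c3_mem_alternating h01 i.2.1.symm i.2.2.symm⟩
  have hXval : ∀ i : T, ((X i : alternatingGroup α) : Perm α) = c3 p0 p1 i.1 := fun i => rfl
  let Y : T → Perm α := fun i => ((φ (X i) : alternatingGroup α) : Perm α)
  have hYdef : ∀ i : T, Y i = ((φ (X i) : alternatingGroup α) : Perm α) := fun i => rfl
  have hY3 : ∀ i : T, (Y i).IsThreeCycle := fun i =>
    hφ (X i) (isThreeCycle_c3 h01 i.2.1.symm i.2.2.symm)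
  have hYrel : ∀ i j : T, i ≠ j → (Y i * Y j) * (Y i * Y j) = 1 ∧ Y i * Y j ≠ 1 := by
    intro i j hij
    have hij' : i.1 ≠ j.1 := fun hh => hij (Subtype.ext hh)
    obtain ⟨e1, e2⟩ := c3_mul_c3_sq h01 i.2.1.symm j.2.1.symm i.2.2.symm j.2.2.symm hij'
    have e1' : (X i * X j) * (X i * X j) = 1 := Subtype.ext e1
    have e2' : X i * X j ≠ 1 := fun hh => e2 (congrArg Subtype.val hh)
    constructor
    · have := congrArg φ e1'
      rw [map_mul, map_mul, map_one] at this
      exact congrArg Subtype.val this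
    · intro hcon
      apply e2'
      apply φ.injective
      rw [map_mul, map_one]
      exact Subtype.ext hcon
  let t0 : T := ⟨i0, hi0p0, hi0p1⟩
  let t1 : T := ⟨i1, hi1p0, hi1p1⟩
  have ht01 : t0 ≠ t1 := fun hh => hi01 (congrArg Subtype.val hh)
  obtain ⟨hr1, hr2⟩ := hYrel t0 t1 ht01
  obtain ⟨a, b, c, d, hab, hac, had, hbc, hbd, hcd, hY0, hY1⟩ :=
    exists_common_edge (hY3 t0) (hY3 t1) hr1 hr2
  have hex : ∀ i : T, ∃ e, e ≠ a ∧ e ≠ b ∧ Y i = c3 a b e := by
    intro i
    by_cases hi0 : i = t0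
    · exact ⟨c, hac.symm, hbc.symm, by rw [hi0, hY0]⟩
    by_cases hi1 : i = t1
    · exact ⟨d, had.symm, hbd.symm, by rw [hi1, hY1]⟩
    obtain ⟨q1, q2⟩ := hYrel t0 i (Ne.symm hi0)
    obtain ⟨q3, q4⟩ := hYrel t1 i (Ne.symm hi1)
    rw [hY0] at q1 q2
    rw [hY1] at q3 q4
    exact common_edge_clique hab hac had hbc hbd hcd (hY3 i) q1 q2 q3 q4
  choose e hea heb hYe using hex
  have he_inj : Function.Injective e := by
    intro i j hij
    have h1 : Y i = Y j := by rw [hYe i, hYe j, hij]
    have h2 : X i = X j := φ.injective (Subtype.ext h1)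
    have h3 : c3 p0 p1 i.1 = c3 p0 p1 j.1 := congrArg Subtype.val h2
    have h4 : c3 p0 p1 i.1 p1 = c3 p0 p1 j.1 p1 := by rw [h3]
    rw [c3_apply h01 i.2.1.symm i.2.2.symm, c3_apply h01 j.2.1.symm j.2.2.symm,
      if_neg h01.symm, if_pos rfl, if_neg h01.symm, if_pos rfl] at h4
    exact Subtype.ext h4
  let f : α → α := fun p => if h0 : p = p0 then a else if h1 : p = p1 then b else e ⟨p, h0, h1⟩
  have hf0 : f p0 = a := dif_pos rfl
  have hf1 : f p1 = b := by
    change (if h0 : p1 = p0 then a else if h1 : p1 = p1 then b else e ⟨p1, h0, h1⟩) = b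
    rw [dif_neg h01.symm, dif_pos rfl]
  have hfT : ∀ i : T, f i.1 = e i := by
    intro i
    change (if h0 : i.1 = p0 then a else if h1 : i.1 = p1 then b else e ⟨i.1, h0, h1⟩) = e i
    rw [dif_neg i.2.1, dif_neg i.2.2]
  have htri : ∀ p, p = p0 ∨ p = p1 ∨ ∃ i : T, p = i.1 := fun p => by
    by_cases h0 : p = p0
    · exact Or.inl h0
    by_cases h1 : p = p1
    · exact Or.inr (Or.inl h1)
    exact Or.inr (Or.inr ⟨⟨p, h0, h1⟩, rfl⟩)
  have hf_inj : Function.Injective f := by
    intro p p' hpp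
    rcases htri p with hp | hp | ⟨i, hp⟩ <;> rcases htri p' with hp' | hp' | ⟨j, hp'⟩ <;>
      rw [hp, hp'] at hpp ⊢
    · exact absurd (hf0.symm.trans (hpp.trans hf1)) hab
    · exact absurd ((hfT j).symm.trans (hpp.symm.trans hf0)) (hea j)
    · exact absurd (hf1.symm.trans (hpp.trans hf0)) hab.symm
    · exact absurd ((hfT j).symm.trans (hpp.symm.trans hf1)) (heb j)
    · exact absurd ((hfT i).symm.trans (hpp.trans hf0)) (hea i)
    · exact absurd ((hfT i).symm.trans (hpp.trans hf1)) (heb i)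
    · have := he_inj ((hfT i).symm.trans (hpp.trans (hfT j)))
      rw [this]
  let σ : Perm α := Equiv.ofBijective f (Finite.injective_iff_bijective.mp hf_inj)
  have hσ : ∀ p, σ p = f p := fun p => rfl
  refine ⟨σ, ?_⟩
  have hagree : ∀ i : T, (MulAut.conjNormal σ : MulAut (alternatingGroup α)) (X i) = φ (X i) := by
    intro i
    apply Subtype.ext
    rw [MulAut.conjNormal_apply, hXval, conj_c3, hσ, hσ, hσ, hf0, hf1, hfT, ← hYe i]
  have hgen : Subgroup.closure (Set.range X) = ⊤ := by
    rw [eq_top_iff]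
    have key : ∀ g : Perm α, g ∈ Subgroup.closure
        {x : Perm α | ∃ i, i ≠ p0 ∧ i ≠ p1 ∧ x = c3 p0 p1 i} →
        ∃ hg : g ∈ alternatingGroup α,
          (⟨g, hg⟩ : alternatingGroup α) ∈ Subgroup.closure (Set.range X) := by
      intro g hg
      induction hg using Subgroup.closure_induction with
      | mem x hx =>
        obtain ⟨i, hi0, hi1, rfl⟩ := hx
        exact ⟨c3_mem_alternating h01 hi0.symm hi1.symm,
          Subgroup.subset_closure ⟨⟨i, hi0, hi1⟩, rfl⟩⟩
      | one => exact ⟨Subgroup.one_mem _, Subgroup.one_mem _⟩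
      | mul x y _ _ hx hy =>
        obtain ⟨hx1, hx2⟩ := hx
        obtain ⟨hy1, hy2⟩ := hy
        exact ⟨Subgroup.mul_mem _ hx1 hy1, Subgroup.mul_mem _ hx2 hy2⟩
      | inv x _ hx =>
        obtain ⟨hx1, hx2⟩ := hx
        exact ⟨Subgroup.inv_mem _ hx1, Subgroup.inv_mem _ hx2⟩
    intro g _
    have hg : (g : Perm α) ∈ Subgroup.closure {σ : Perm α | σ.IsThreeCycle} := by
      rw [Equiv.Perm.closure_three_cycles_eq_alternating]
      exact g.2
    have hle : Subgroup.closure {σ : Perm α | σ.IsThreeCycle} ≤ Subgroup.closure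
        {x : Perm α | ∃ i, i ≠ p0 ∧ i ≠ p1 ∧ x = c3 p0 p1 i} := by
      rw [Subgroup.closure_le]
      intro x hx
      exact isThreeCycle_mem_closure h01 hx
    obtain ⟨_, h2⟩ := key g (hle hg)
    exact h2
  have hhom : (MulAut.conjNormal σ : MulAut (alternatingGroup α)).toMonoidHom = φ.toMonoidHom := by
    apply MonoidHom.eq_of_eqOn_dense hgen
    rintro _ ⟨i, rfl⟩
    exact hagree i
  exact MulEquiv.ext fun x => DFunLike.congr_fun hhom x

end General

section Six

/-- An element of order `3` of `S_6` has cycle type `{3}` or `{3, 3}`. -/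
theorem cycleType_of_orderOf_three (g : Perm (Fin 6)) (hg : orderOf g = 3) :
    g.IsThreeCycle ∨ g.cycleType = {3, 3} := by
  obtain ⟨k, hk⟩ := cycleType_prime_order (σ := g) (by rw [hg]; exact Nat.prime_three)
  rw [hg] at hk
  have hsum : 3 * (k + 1) ≤ 6 := by
    have h1 := Equiv.Perm.sum_cycleType g
    rw [hk, Multiset.sum_replicate, smul_eq_mul] at h1
    have h2 : g.support.card ≤ 6 := by
      have := g.support.card_le_univ
      simpa using this
    omega
  have hk01 : k = 0 ∨ k = 1 := by omega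
  rcases hk01 with rfl | rfl
  · left
    rw [Equiv.Perm.IsThreeCycle, hk]
    rfl
  · right
    rw [hk]
    rfl

/-- Two even permutations of `S_6` of cycle type `{3, 3}` are conjugate in `A_6`. -/
theorem exists_conj_of_cycleType_three_three (u v : alternatingGroup (Fin 6))
    (hu : (u : Perm (Fin 6)).cycleType = {3, 3}) (hv : (v : Perm (Fin 6)).cycleType = {3, 3}) :
    ∃ x : alternatingGroup (Fin 6), x * u * x⁻¹ = v := by
  have hconj : IsConj (u : Perm (Fin 6)) (v : Perm (Fin 6)) :=
    Equiv.Perm.isConj_iff_cycleType_eq.mpr (hu.trans hv.symm)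
  obtain ⟨s, hs⟩ := isConj_iff.mp hconj
  by_cases hsA : s ∈ alternatingGroup (Fin 6)
  · exact ⟨⟨s, hsA⟩, Subtype.ext hs⟩
  · -- an odd permutation centralizing `u`
    have hnot : ¬ Subgroup.centralizer {(u : Perm (Fin 6))} ≤ alternatingGroup (Fin 6) := by
      intro hle
      have := Equiv.Perm.count_le_one_of_centralizer_le_alternating hle 3
      rw [hu] at this
      revert this
      decide
    obtain ⟨τ, hτc, hτA⟩ := SetLike.not_le_iff_exists.mp hnot
    have hτu : τ * (u : Perm (Fin 6)) = (u : Perm (Fin 6)) * τ :=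
      (Subgroup.mem_centralizer_singleton_iff.mp hτc)
    have hsτ : s * τ ∈ alternatingGroup (Fin 6) := by
      rw [Equiv.Perm.mem_alternatingGroup] at hsA hτA ⊢
      rw [Equiv.Perm.sign_mul]
      rcases Int.units_eq_one_or (Equiv.Perm.sign s) with h1 | h1
      · exact absurd h1 hsA
      rcases Int.units_eq_one_or (Equiv.Perm.sign τ) with h2 | h2
      · exact absurd h2 hτA
      rw [h1, h2]
      rfl
    refine ⟨⟨s * τ, hsτ⟩, Subtype.ext ?_⟩
    change s * τ * (u : Perm (Fin 6)) * (s * τ)⁻¹ = (v : Perm (Fin 6))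
    rw [← hs, mul_inv_rev, mul_assoc s τ, hτu]
    group

/-- For every automorphism `φ` of `A_6`, the square of `φ` maps 3-cycles to 3-cycles. -/
theorem isThreeCycle_map_map (φ : MulAut (alternatingGroup (Fin 6))) (t : alternatingGroup (Fin 6))
    (ht : (t : Perm (Fin 6)).IsThreeCycle) :
    ((φ (φ t) : alternatingGroup (Fin 6)) : Perm (Fin 6)).IsThreeCycle := by
  have hord : ∀ g : alternatingGroup (Fin 6), orderOf (g : Perm (Fin 6)) = 3 →
      orderOf ((φ g : alternatingGroup (Fin 6)) : Perm (Fin 6)) = 3 := by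
    intro g hg
    rw [Subgroup.orderOf_coe, MulEquiv.orderOf_eq, ← Subgroup.orderOf_coe, hg]
  -- conjugates of 3-cycles are 3-cycles
  have hconj3 : ∀ (x g : alternatingGroup (Fin 6)), (g : Perm (Fin 6)).IsThreeCycle →
      ((x * g * x⁻¹ : alternatingGroup (Fin 6)) : Perm (Fin 6)).IsThreeCycle := by
    intro x g hg
    have : ((x * g * x⁻¹ : alternatingGroup (Fin 6)) : Perm (Fin 6)) =
        (x : Perm (Fin 6)) * (g : Perm (Fin 6)) * (x : Perm (Fin 6))⁻¹ := rfl
    rw [this, Equiv.Perm.IsThreeCycle, Equiv.Perm.cycleType_conj]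
    exact hg
  have h5 : 5 ≤ Nat.card (Fin 6) := by simp
  by_cases h1 : ((φ t : alternatingGroup (Fin 6)) : Perm (Fin 6)).IsThreeCycle
  · -- `φ` maps all 3-cycles to 3-cycles
    obtain ⟨x, hx⟩ := isConj_iff.mp (alternatingGroup.isThreeCycle_isConj h5 ht h1)
    rw [← hx, map_mul, map_mul, map_inv]
    exact hconj3 _ _ h1
  · have h2 : ((φ t : alternatingGroup (Fin 6)) : Perm (Fin 6)).cycleType = {3, 3} :=
      (cycleType_of_orderOf_three _ (hord t ht.orderOf)).resolve_left h1
    by_contra h3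
    have h4 : ((φ (φ t) : alternatingGroup (Fin 6)) : Perm (Fin 6)).cycleType = {3, 3} := by
      refine (cycleType_of_orderOf_three _ (hord (φ t) ?_)).resolve_left h3
      exact hord t ht.orderOf
    obtain ⟨x, hx⟩ := exists_conj_of_cycleType_three_three _ _ h2 h4
    obtain ⟨y, rfl⟩ := φ.surjective x
    have h5' : φ (y * t * y⁻¹) = φ (φ t) := by
      rw [map_mul, map_mul, map_inv]
      exact hx
    have h6 : y * t * y⁻¹ = φ t := φ.injective h5'
    apply h1
    rw [← h6]
    exact hconj3 _ _ ht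

/-- An automorphism of `A_6` of odd order maps 3-cycles to 3-cycles. -/
theorem isThreeCycle_map_of_odd (ψ : MulAut (alternatingGroup (Fin 6))) (hψ : Odd (orderOf ψ))
    (t : alternatingGroup (Fin 6)) (ht : (t : Perm (Fin 6)).IsThreeCycle) :
    ((ψ t : alternatingGroup (Fin 6)) : Perm (Fin 6)).IsThreeCycle := by
  obtain ⟨k, hk⟩ := hψ
  have hpow : ∀ j : ℕ, ∀ g : alternatingGroup (Fin 6), (g : Perm (Fin 6)).IsThreeCycle →
      ((((ψ * ψ) ^ j) g : alternatingGroup (Fin 6)) : Perm (Fin 6)).IsThreeCycle := by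
    intro j
    induction j with
    | zero => intro g hg; simpa using hg
    | succ j ih =>
      intro g hg
      rw [pow_succ, MulAut.mul_apply, MulAut.mul_apply]
      exact ih _ (isThreeCycle_map_map ψ g hg)
  have hψeq : ψ = (ψ * ψ) ^ (k + 1) := by
    rw [← pow_two, ← pow_mul]
    have h1 : 2 * (k + 1) = orderOf ψ + 1 := by omega
    rw [h1, pow_succ, pow_orderOf_eq_one, one_mul]
  rw [hψeq]
  exact hpow (k + 1) t ht

end Six

section Main

/-- A `q`-subgroup of `Aut(A_n)`, `n ≥ 5`, `n < q ^ 2` (and `q` odd if `n = 6`) is abelian. -/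
theorem aut_pgroup_comm {n q : ℕ} (hn : 5 ≤ n) (hq : q.Prime) (hnq : n < q ^ 2)
    (h6 : n = 6 → q ≠ 2) (Q : Subgroup (MulAut (alternatingGroup (Fin n)))) (hQ : IsPGroup q Q)
    (x y : MulAut (alternatingGroup (Fin n))) (hx : x ∈ Q) (hy : y ∈ Q) : x * y = y * x := by
  have h4 : 4 ≤ Fintype.card (Fin n) := by rw [Fintype.card_fin]; omega
  -- every element of `Q` is induced by a permutation
  have hrange : ∀ z ∈ Q, ∃ σ : Perm (Fin n),
      (MulAut.conjNormal σ : MulAut (alternatingGroup (Fin n))) = z := by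
    intro z hz
    by_cases hn6 : n = 6
    · subst hn6
      have hq2 : q ≠ 2 := h6 rfl
      obtain ⟨k, hk⟩ := hQ ⟨z, hz⟩
      have hk' : z ^ q ^ k = 1 := by
        have := congrArg Subtype.val hk
        simpa using this
      have hodd : Odd (orderOf z) := by
        have hdvd : orderOf z ∣ q ^ k := orderOf_dvd_of_pow_eq_one hk'
        have hqodd : Odd (q ^ k) := (hq.odd_of_ne_two hq2).pow
        exact hqodd.of_dvd_nat hdvd
      exact exists_conjNormal_eq_of_map_threeCycle h4 z
        (fun g hg => isThreeCycle_map_of_odd z hodd g hg)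
    · exact conjNormal_alternating_surjective h4 (by rw [Fintype.card_fin]; exact hn6) z
  obtain ⟨σ, rfl⟩ := hrange x hx
  obtain ⟨τ, rfl⟩ := hrange y hy
  let Q' : Subgroup (Perm (Fin n)) := Q.comap (MulAut.conjNormal : Perm (Fin n) →* _)
  have hQ' : IsPGroup q Q' := hQ.comap_of_injective _ (conjNormal_alternating_injective h4)
  have hστ : σ * τ = τ * σ := perm_pgroup_comm hq hnq Q' hQ' σ τ hx hy
  rw [← map_mul, ← map_mul, hστ]

/-- The inner automorphism map of `A_n` is injective for `n ≥ 4`. -/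
theorem conj_alternating_injective {n : ℕ} (hn : 4 ≤ n) :
    Function.Injective (MulAut.conj : alternatingGroup (Fin n) →* MulAut (alternatingGroup (Fin n))) := by
  have h4 : 4 ≤ Fintype.card (Fin n) := by rw [Fintype.card_fin]; omega
  intro x y hxy
  have h1 : (MulAut.conjNormal (x : Perm (Fin n)) : MulAut (alternatingGroup (Fin n))) =
      MulAut.conjNormal (y : Perm (Fin n)) := by
    refine MulEquiv.ext fun g => Subtype.ext ?_
    have := DFunLike.congr_fun hxy g
    simp only [MulAut.conj_apply] at this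
    rw [MulAut.conjNormal_apply, MulAut.conjNormal_apply]
    have h2 := congrArg Subtype.val this
    simpa using h2
  exact Subtype.ext (conjNormal_alternating_injective h4 h1)

end Main

end Cfsg.Agent.Lib.H20.AltPQ
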