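import Mathlib
import Cfsg.Agent.Lib.H1.Hall
import Cfsg.Agent.Lib.H8.FrobFpf
import Cfsg.Agent.Lib.H19.HallPi
import Cfsg.Agent.Lib.H20.Solvable

/-!
# The "three primes lemma" for finite solvable groups (helper20)

If `G` is a finite solvable group and `S` is a set of at least three primes dividing `|G|`, then `G`
has an element of order `a * b` for two distinct `a b ∈ S`.
-/

set_option autoImplicit false

namespace Cfsg.Agent.Lib.H20

universe u

/-- a nontrivial `s`-element has a power of order `s` -/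
theorem exists_pow_orderOf_eq_prime {G : Type*} [Group G] {s : ℕ} (hs : s.Prime) {x : G}
    (hx1 : x ≠ 1) (hx : ∃ k : ℕ, x ^ (s ^ k) = 1) : ∃ j : ℕ, orderOf (x ^ j) = s := by
  obtain ⟨k, hk⟩ := hx
  obtain ⟨i, -, hi⟩ := (Nat.dvd_prime_pow hs).mp (orderOf_dvd_of_pow_eq_one hk)
  have hi0 : i ≠ 0 := by
    intro h0; rw [h0, pow_zero] at hi; exact hx1 (orderOf_eq_one_iff.mp hi)
  obtain ⟨i', rfl⟩ : ∃ i', i = i' + 1 := ⟨i - 1, by omega⟩
  refine ⟨s ^ i', ?_⟩
  rw [orderOf_pow_of_dvd (pow_ne_zero _ hs.ne_zero)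
    (by rw [hi]; exact pow_dvd_pow s (Nat.le_succ i')), hi, pow_succ,
    Nat.mul_div_cancel_left _ (pow_pos hs.pos _)]

/-- commuting nontrivial `a`- and `b`-elements give an element of order `a * b` -/
theorem exists_orderOf_eq_mul_of_commute {G : Type*} [Group G] {a b : ℕ} (ha : a.Prime)
    (hb : b.Prime) (hab : a ≠ b) {x y : G} (hx1 : x ≠ 1) (hy1 : y ≠ 1)
    (hx : ∃ k : ℕ, x ^ (a ^ k) = 1) (hy : ∃ k : ℕ, y ^ (b ^ k) = 1) (hc : x * y = y * x) :
    ∃ z : G, orderOf z = a * b := by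
  obtain ⟨i, hi⟩ := exists_pow_orderOf_eq_prime ha hx1 hx
  obtain ⟨j, hj⟩ := exists_pow_orderOf_eq_prime hb hy1 hy
  have hc' : Commute (x ^ i) (y ^ j) := (Commute.pow_pow (show Commute x y from hc) i j)
  refine ⟨x ^ i * y ^ j, ?_⟩
  rw [hc'.orderOf_mul_eq_mul_orderOf_of_coprime
    (by rw [hi, hj]; exact (Nat.coprime_primes ha hb).mpr hab), hi, hj]

/-- a nontrivial finite solvable group has a nontrivial normal abelian subgroup of prime
exponent -/
theorem exists_normal_abelian_exponent_prime {G : Type*} [Group G] [Finite G]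
    [Group.IsSolvable G] [Nontrivial G] :
    ∃ (s : ℕ) (N : Subgroup G), s.Prime ∧ N.Normal ∧ N ≠ ⊥ ∧ (∀ a ∈ N, a ^ s = 1) ∧
      ∀ a ∈ N, ∀ b ∈ N, a * b = b * a := by
  obtain ⟨A, hAc, hA1, hAcomm⟩ := exists_normal_abelian_of_solvable (G := G)
  haveI hAn : A.Normal := Subgroup.normal_of_characteristic A
  have hcard : Nat.card A ≠ 1 := fun h => hA1 (Subgroup.card_eq_one.mp h)
  obtain ⟨s, hs, hsd⟩ := Nat.exists_prime_and_dvd hcard
  haveI : Fact s.Prime := ⟨hs⟩
  obtain ⟨a₀, ha₀⟩ := exists_prime_orderOf_dvd_card' s hsd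
  let N : Subgroup G :=
    { carrier := {a | a ∈ A ∧ a ^ s = 1}
      one_mem' := ⟨A.one_mem, one_pow s⟩
      mul_mem' := by
        rintro a b ⟨ha, has⟩ ⟨hb, hbs⟩
        refine ⟨A.mul_mem ha hb, ?_⟩
        have hab : Commute a b := hAcomm a ha b hb
        rw [hab.mul_pow, has, hbs, one_mul]
      inv_mem' := by
        rintro a ⟨ha, has⟩
        exact ⟨A.inv_mem ha, by rw [inv_pow, has, inv_one]⟩ }
  have hmemN : ∀ a : G, a ∈ N ↔ a ∈ A ∧ a ^ s = 1 := fun a => Iff.rfl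
  refine ⟨s, N, hs, ?_, ?_, ?_, ?_⟩
  · constructor
    intro a ha g
    rw [hmemN] at ha ⊢
    refine ⟨hAn.conj_mem a ha.1 g, ?_⟩
    rw [conj_pow, ha.2, mul_one, mul_inv_cancel]
  · intro hbot
    have hmem : (a₀ : G) ∈ N := by
      rw [hmemN]
      refine ⟨a₀.2, ?_⟩
      have : (a₀ : G) ^ s = ((a₀ ^ s : A) : G) := by simp
      rw [this, ← ha₀, pow_orderOf_eq_one]; rfl
    rw [hbot, Subgroup.mem_bot] at hmem
    have : a₀ = 1 := Subtype.ext hmem
    rw [this, orderOf_one] at ha₀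
    exact hs.one_lt.ne ha₀
  · intro a ha
    exact ((hmemN a).mp ha).2
  · intro a ha b hb
    exact hAcomm a ((hmemN a).mp ha).1 b ((hmemN b).mp hb).1

theorem three_primes_aux : ∀ (n : ℕ) (G : Type u) [Group G] [Finite G] [Group.IsSolvable G],
    Nat.card G = n → ∀ S : Finset ℕ, 3 ≤ S.card → (∀ a ∈ S, a.Prime ∧ a ∣ Nat.card G) →
    ∃ x : G, ∃ a ∈ S, ∃ b ∈ S, a ≠ b ∧ orderOf x = a * b := by
  intro n
  induction n using Nat.strong_induction_on with
  | _ n ih =>
  intro G _ _ _ hn S hS3 hSp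
  by_contra hno
  push_neg at hno
  -- `G` is nontrivial
  obtain ⟨a₁, ha₁⟩ : ∃ a, a ∈ S := by
    apply Finset.card_pos.mp; omega
  haveI : Nontrivial G := by
    rw [← Finite.one_lt_card_iff_nontrivial]
    exact lt_of_lt_of_le (hSp a₁ ha₁).1.one_lt (Nat.le_of_dvd Nat.card_pos (hSp a₁ ha₁).2)
  obtain ⟨s, N, hs, hNn, hN1, hNs, hNc⟩ := exists_normal_abelian_exponent_prime (G := G)
  haveI := hNn
  haveI : Fact s.Prime := ⟨hs⟩
  have hNp : IsPGroup s N := by
    intro x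
    refine ⟨1, ?_⟩
    apply Subtype.ext
    rw [pow_one]
    exact hNs x x.2
  obtain ⟨k, hk⟩ := IsPGroup.iff_card.mp hNp
  have hcardG : Nat.card G = Nat.card (G ⧸ N) * Nat.card N :=
    Subgroup.card_eq_card_quotient_mul_card_subgroup N
  by_cases hA : ∀ a ∈ S, a ∣ Nat.card (G ⧸ N)
  · -- induction on the quotient
    have hlt : Nat.card (G ⧸ N) < n := by
      rw [← hn, hcardG]
      have h1 : 1 < Nat.card N := (Subgroup.one_lt_card_iff_ne_bot N).mpr hN1
      have h2 : 0 < Nat.card (G ⧸ N) := Nat.card_pos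
      nlinarith
    obtain ⟨xbar, a, ha, b, hb, hab, hx⟩ := ih (Nat.card (G ⧸ N)) hlt (G ⧸ N) rfl S hS3
      (fun a ha => ⟨(hSp a ha).1, hA a ha⟩)
    obtain ⟨x, rfl⟩ := QuotientGroup.mk_surjective xbar
    have hdvd : a * b ∣ orderOf x := by
      rw [← hx]
      exact orderOf_map_dvd (QuotientGroup.mk' N) x
    have hpos : 0 < orderOf x := orderOf_pos x
    have hne : orderOf x / (a * b) ≠ 0 := by
      intro h0
      have := Nat.div_mul_cancel hdvd
      rw [h0, zero_mul] at this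
      omega
    apply hno (x ^ (orderOf x / (a * b))) a ha b hb hab
    rw [orderOf_pow_of_dvd hne (Nat.div_dvd_of_dvd hdvd), Nat.div_div_self hdvd hpos.ne']
  · push_neg at hA
    obtain ⟨s', hs'S, hs'nd⟩ := hA
    have hs'p := (hSp s' hs'S).1
    have hs's : s' = s := by
      have h1 := (hSp s' hs'S).2
      rw [hcardG] at h1
      rcases (Nat.Prime.dvd_mul hs'p).mp h1 with h | h
      · exact absurd h hs'nd
      · rw [hk] at h
        exact (Nat.prime_dvd_prime_iff_eq hs'p hs).mp (hs'p.dvd_of_dvd_pow h)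
    subst hs's
    -- two other primes
    have hcard2 : 1 < (S.erase s').card := by
      rw [Finset.card_erase_of_mem hs'S]; omega
    obtain ⟨q, hq, r, hr, hqr⟩ := Finset.one_lt_card.mp hcard2
    have hqS := Finset.mem_of_mem_erase hq
    have hrS := Finset.mem_of_mem_erase hr
    have hqs : q ≠ s' := Finset.ne_of_mem_erase hq
    have hrs : r ≠ s' := Finset.ne_of_mem_erase hr
    have hqp := (hSp q hqS).1
    have hrp := (hSp r hrS).1
    -- Hall `{q, r}`-subgroup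
    obtain ⟨m, n', hmn, hm, hn'⟩ :=
      Cfsg.Agent.Lib.H19.exists_pi_decomp ({q, r} : Set ℕ) (Nat.card G) Nat.card_pos.ne'
    have hcop : m.Coprime n' := by
      apply Nat.coprime_of_dvd
      intro l hl hlm hln
      exact hn' l hl hln (hm l hl hlm)
    obtain ⟨K, hK⟩ := Cfsg.Agent.Lib.H1.hall_exists (G := G) hmn hcop
    have hdvdm : ∀ l : ℕ, l.Prime → l ∈ ({q, r} : Set ℕ) → l ∣ Nat.card G → l ∣ m := by
      intro l hl hlπ hlG
      rw [hmn] at hlG
      rcases (Nat.Prime.dvd_mul hl).mp hlG with h | h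
      · exact h
      · exact absurd hlπ (hn' l hl h)
    have hqm : q ∣ m := hdvdm q hqp (Or.inl rfl) (hSp q hqS).2
    have hrm : r ∣ m := hdvdm r hrp (Or.inr rfl) (hSp r hrS).2
    haveI : Nontrivial K := by
      rw [← Finite.one_lt_card_iff_nontrivial, hK]
      exact lt_of_lt_of_le hqp.one_lt (Nat.le_of_dvd (Nat.pos_of_ne_zero (by
        rintro rfl; rw [zero_mul] at hmn; exact Nat.card_pos.ne' hmn)) hqm)
    obtain ⟨t, M₀, ht, hM₀n, hM₀1, hM₀t, hM₀c⟩ := exists_normal_abelian_exponent_prime (G := K)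
    haveI : Fact t.Prime := ⟨ht⟩
    have htm : t ∣ m := by
      obtain ⟨z, hz⟩ := Subgroup.ne_bot_iff_exists_ne_one.mp hM₀1
      have hzt : (z : K) ^ t = 1 := hM₀t z z.2
      have hz1 : (z : K) ≠ 1 := fun h => hz (Subtype.ext h)
      have : orderOf (z : K) = t := orderOf_eq_prime hzt hz1
      rw [← this, ← hK]
      exact orderOf_dvd_natCard _
    have htqr : t = q ∨ t = r := hm t ht htm
    -- the other prime
    obtain ⟨t', ht'p, ht't, ht'm, ht'S, htS, hts, ht's⟩ : ∃ t' : ℕ, t'.Prime ∧ t' ≠ t ∧ t' ∣ m ∧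
        t' ∈ S ∧ t ∈ S ∧ t ≠ s' ∧ t' ≠ s' := by
      rcases htqr with rfl | rfl
      · exact ⟨r, hrp, hqr.symm, hrm, hrS, hqS, hqs, hrs⟩
      · exact ⟨q, hqp, hqr, hqm, hqS, hrS, hrs, hqs⟩
    haveI : Fact t'.Prime := ⟨ht'p⟩
    obtain ⟨y₀, hy₀⟩ := exists_prime_orderOf_dvd_card' (G := K) t' (by rw [hK]; exact ht'm)
    let M : Subgroup G := M₀.map K.subtype
    have hMmem : ∀ x : G, x ∈ M ↔ ∃ x₀ : K, x₀ ∈ M₀ ∧ (x₀ : G) = x := fun x => Iff.rfl
    have hMt : ∀ x ∈ M, x ^ t = 1 := by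
      rintro _ ⟨x₀, hx₀, rfl⟩
      have := hM₀t x₀ hx₀
      have h2 := congrArg Subtype.val this
      simpa using h2
    have hM1 : M ≠ ⊥ := by
      intro hbot
      apply hM₀1
      rw [Subgroup.eq_bot_iff_forall]
      intro x₀ hx₀
      have : (x₀ : G) ∈ M := ⟨x₀, hx₀, rfl⟩
      rw [hbot, Subgroup.mem_bot] at this
      exact Subtype.ext this
    have hyo : orderOf (y₀ : G) = t' := by rw [Subgroup.orderOf_coe]; exact hy₀
    have hy1 : (y₀ : G) ≠ 1 := by
      intro h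
      rw [h, orderOf_one] at hyo
      exact ht'p.one_lt.ne hyo
    have hyt' : (y₀ : G) ^ t' = 1 := by rw [← hyo]; exact pow_orderOf_eq_one _
    have hyM : ∀ x ∈ M, (y₀ : G) * x * (y₀ : G)⁻¹ ∈ M := by
      rintro _ ⟨x₀, hx₀, rfl⟩
      exact ⟨y₀ * x₀ * y₀⁻¹, hM₀n.conj_mem x₀ hx₀ y₀, rfl⟩
    have hst : s' ≠ t := fun h => hts h.symm
    have hst' : s' ≠ t' := fun h => ht's h.symm
    have hNel : ∀ x ∈ N, ∃ k : ℕ, x ^ (s' ^ k) = 1 := fun x hx => ⟨1, by rw [pow_one]; exact hNs x hx⟩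
    have hMel : ∀ x ∈ M, ∃ k : ℕ, x ^ (t ^ k) = 1 := fun x hx => ⟨1, by rw [pow_one]; exact hMt x hx⟩
    have hyel : ∃ k : ℕ, (y₀ : G) ^ (t' ^ k) = 1 := ⟨1, by rw [pow_one]; exact hyt'⟩
    have key := Cfsg.Agent.Lib.H8.pow_card_eq_one_of_fpf N M hNc hM1 (y₀ : G) t' ht'p.pos hyt' hyM
      (by
        intro x hx hx1 v hv hcomm
        by_contra hv1
        obtain ⟨z, hz⟩ := exists_orderOf_eq_mul_of_commute ht hs hts hx1 hv1 (hMel x hx) (hNel v hv) hcomm
        exact hno z t htS s' hs'S hts hz)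
      (by
        intro v hv hcomm
        by_contra hv1
        obtain ⟨z, hz⟩ := exists_orderOf_eq_mul_of_commute ht'p hs ht's hy1 hv1 hyel (hNel v hv) hcomm
        exact hno z t' ht'S s' hs'S ht's hz)
      (by
        intro i hi0 hit x hx hcomm
        by_contra hx1
        -- `y₀` is a power of `y₀ ^ i`
        have hcop : Nat.Coprime i (orderOf (y₀ : G)) := by
          rw [hyo]
          exact (Nat.coprime_of_lt_prime hi0.ne' hit ht'p).symm
        obtain ⟨j, hj⟩ := exists_pow_eq_self_of_coprime hcop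
        have hcomm' : (y₀ : G) * x = x * (y₀ : G) := by
          have h1 : Commute ((y₀ : G) ^ i) x := hcomm
          have h2 : Commute (((y₀ : G) ^ i) ^ j) x := h1.pow_left j
          rw [hj] at h2
          exact h2
        obtain ⟨z, hz⟩ := exists_orderOf_eq_mul_of_commute ht'p ht ht't hy1 hx1 hyel (hMel x hx) hcomm'
        exact hno z t' ht'S t htS ht't hz)
    -- contradiction
    obtain ⟨v, hv1⟩ := Subgroup.ne_bot_iff_exists_ne_one.mp hN1
    have hv1' : (v : G) ≠ 1 := fun h => hv1 (Subtype.ext h)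
    have hvo : orderOf (v : G) = s' := orderOf_eq_prime (hNs v v.2) hv1'
    have hdvd : s' ∣ Nat.card M := by
      rw [← hvo]
      exact orderOf_dvd_of_pow_eq_one (key v v.2)
    have hMp : IsPGroup t M := by
      intro x
      refine ⟨1, ?_⟩
      apply Subtype.ext
      rw [pow_one]
      exact hMt x x.2
    obtain ⟨j, hj⟩ := IsPGroup.iff_card.mp hMp
    rw [hj] at hdvd
    exact hst ((Nat.prime_dvd_prime_iff_eq hs ht).mp (hs.dvd_of_dvd_pow hdvd))

/-- **Three primes lemma.** -/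
theorem three_primes {G : Type u} [Group G] [Finite G] [Group.IsSolvable G] (S : Finset ℕ)
    (hS3 : 3 ≤ S.card) (hSp : ∀ a ∈ S, a.Prime ∧ a ∣ Nat.card G) :
    ∃ x : G, ∃ a ∈ S, ∃ b ∈ S, a ≠ b ∧ orderOf x = a * b :=
  three_primes_aux _ G rfl S hS3 hSp

end Cfsg.Agent.Lib.H20
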