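/-
Phase 2 of the S5630 project (SL_n rows): tasks P2-B4 and P2-B7 (helper20):
`SL_n` is contained in no tensor-product subgroup and in no tensor-wreath subgroup.
-/
import Cfsg.Agent.Lib.Lead.AschDefs2
import Cfsg.Agent.Lib.H28.GLBasic
import Cfsg.Agent.Lib.H20.AschM4a

set_option autoImplicit false

namespace Cfsg.Agent.Lib.H20.AschP2

open Cfsg Cfsg.Geo Cfsg.Agent.Lib.Lead.Asch Cfsg.Agent.Lib.H20.Asch
open scoped MatrixGroups Matrix Kronecker

variable {F : Type*} [Field F]

section reduction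
variable {κ : Type} [Fintype κ] [DecidableEq κ] {n : ℕ}

/-- The elementary transvection `1 + E_{x,y}` as an element of `GL`. -/
noncomputable def elemTv (x y : κ) (hxy : x ≠ y) : GL κ F :=
  Matrix.GeneralLinearGroup.mkOfDetNeZero (Matrix.transvection x y (1 : F))
    (by rw [Matrix.det_transvection_of_ne x y hxy]; exact one_ne_zero)

lemma elemTv_val (x y : κ) (hxy : x ≠ y) :
    ((elemTv (F := F) x y hxy : GL κ F) : Matrix κ κ F) = Matrix.transvection x y (1 : F) := rfl

lemma elemTv_apply (x y : κ) (hxy : x ≠ y) (a b : κ) :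
    ((elemTv (F := F) x y hxy : GL κ F) : Matrix κ κ F) a b =
      (if a = b then 1 else 0) + (if a = x ∧ b = y then 1 else 0) := by
  rw [elemTv_val, Matrix.transvection, Matrix.add_apply, Matrix.one_apply, Matrix.single_apply]
  simp only [eq_comm]

lemma elemTv_det (x y : κ) (hxy : x ≠ y) :
    ((elemTv (F := F) x y hxy : GL κ F) : Matrix κ κ F).det = 1 := by
  rw [elemTv_val, Matrix.det_transvection_of_ne x y hxy]

/-- Reduction: if `SL_n` lies in the conjugate of the transport of `S`, then `S` contains every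
element of determinant one. -/
lemma mem_of_sl_le (S : Subgroup (GL κ F)) (e : Fin n ≃ κ) (P : GL (Fin n) F)
    (h : specialLinear (Fin n) F ≤
      (S.map (glReindex e.symm).toMonoidHom).map (MulAut.conj P).toMonoidHom)
    (T : GL κ F) (hT : (T : Matrix κ κ F).det = 1) : T ∈ S := by
  have hg : (MulAut.conj P) (glReindex e.symm T) ∈ specialLinear (Fin n) F := by
    rw [Cfsg.Agent.Lib.H28.mem_specialLinear_iff]
    rw [MulAut.conj_apply, Units.val_mul, Units.val_mul, Matrix.det_mul, Matrix.det_mul]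
    have h1 : ((glReindex e.symm T : GL (Fin n) F) : Matrix (Fin n) (Fin n) F).det = 1 := by
      have : ((glReindex e.symm T : GL (Fin n) F) : Matrix (Fin n) (Fin n) F) =
          Matrix.reindex e.symm e.symm (T : Matrix κ κ F) := rfl
      rw [this, Matrix.det_reindex_self, hT]
    rw [h1, mul_one, ← Matrix.det_mul, ← Units.val_mul, mul_inv_cancel, Units.val_one,
      Matrix.det_one]
  obtain ⟨k', ⟨k, hk, rfl⟩, hk'⟩ := h hg
  have h2 : (glReindex e.symm).toMonoidHom k = glReindex e.symm T :=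
    (MulAut.conj P).injective hk'
  have h3 : k = T := (glReindex e.symm).injective h2
  rw [← h3]; exact hk

end reduction

variable {n : ℕ}

/-- **P2-B4**. -/
theorem not_sl_le_tensorProductSubgroup (n₁ n₂ : ℕ) (e : Fin n ≃ Fin n₁ × Fin n₂)
    (P : GL (Fin n) F) (h1 : 2 ≤ n₁) (h2 : 2 ≤ n₂) :
    ¬ specialLinear (Fin n) F ≤ tensorProductSubgroup n₁ n₂ e P := by
  intro h
  set a0 : Fin n₁ := ⟨0, by omega⟩ with ha0
  set a1 : Fin n₁ := ⟨1, by omega⟩ with ha1
  set b0 : Fin n₂ := ⟨0, by omega⟩ with hb0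
  set b1 : Fin n₂ := ⟨1, by omega⟩ with hb1
  have ha : a0 ≠ a1 := by simp [ha0, ha1, Fin.ext_iff]
  have hb : b0 ≠ b1 := by simp [hb0, hb1, Fin.ext_iff]
  have hxy : ((a0, b0) : Fin n₁ × Fin n₂) ≠ (a1, b1) := by
    intro h'; exact ha (Prod.ext_iff.mp h').1
  obtain ⟨a, b, hab⟩ := mem_of_sl_le (kroneckerSubgroup n₁ n₂ F) e P h
    (elemTv (a0, b0) (a1, b1) hxy) (elemTv_det _ _ hxy)
  have e1 := congrFun (congrFun hab (a0, b0)) (a0, b0)
  have e2 := congrFun (congrFun hab (a0, b0)) (a1, b1)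
  have e3 := congrFun (congrFun hab (a0, b0)) (a0, b1)
  rw [elemTv_apply, Matrix.kroneckerMap_apply] at e1 e2 e3
  have hne1 : ¬ ((a0, b0) : Fin n₁ × Fin n₂) = (a1, b1) := hxy
  have hne2 : ¬ ((a0, b0) : Fin n₁ × Fin n₂) = (a0, b1) := by
    intro h'; exact hb (Prod.ext_iff.mp h').2
  have hne3 : ¬ (((a0, b0) : Fin n₁ × Fin n₂) = (a0, b0) ∧ ((a0, b1) : Fin n₁ × Fin n₂) = (a1, b1)) := by
    rintro ⟨-, h'⟩; exact ha (Prod.ext_iff.mp h').1
  simp only [hne1, hne2, hne3, if_true, if_false, and_false, and_self, add_zero, zero_add] at e1 e2 e3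
  have hx : (a : Matrix (Fin n₁) (Fin n₁) F) a0 a0 ≠ 0 := by
    intro h0; rw [h0, zero_mul] at e1; exact one_ne_zero e1
  have hy : (b : Matrix (Fin n₂) (Fin n₂) F) b0 b1 ≠ 0 := by
    intro h0; rw [h0, mul_zero] at e2; exact one_ne_zero e2
  exact (mul_ne_zero hx hy) e3.symm

/-! ### Pure vectors -/

/-- A vector of the `t`-fold tensor power which is a pure tensor. -/
def PureVec (m t : ℕ) (v : (Fin t → Fin m) → F) : Prop :=
  ∃ w : Fin t → Fin m → F, ∀ x, v x = ∏ i, w i (x i)

lemma pureVec_of_isPureTensor {m t : ℕ} (g : GL (Fin t → Fin m) F) (hg : IsPureTensor m t g)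
    (v : (Fin t → Fin m) → F) (hv : PureVec m t v) :
    PureVec m t ((g : Matrix (Fin t → Fin m) (Fin t → Fin m) F) *ᵥ v) := by
  obtain ⟨gs, hgs⟩ := hg
  obtain ⟨w, hw⟩ := hv
  refine ⟨fun i => (gs i : Matrix (Fin m) (Fin m) F) *ᵥ w i, fun x => ?_⟩
  simp only [Matrix.mulVec, dotProduct]
  rw [Finset.prod_univ_sum]
  rw [Fintype.piFinset_univ]
  refine Finset.sum_congr rfl fun y _ => ?_
  rw [hgs, hw, Finset.prod_mul_distrib]

lemma pureVec_of_isFactorPermutation {m t : ℕ} (g : GL (Fin t → Fin m) F)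
    (hg : IsFactorPermutation m t g)
    (v : (Fin t → Fin m) → F) (hv : PureVec m t v) :
    PureVec m t ((g : Matrix (Fin t → Fin m) (Fin t → Fin m) F) *ᵥ v) := by
  obtain ⟨σ, hσ⟩ := hg
  obtain ⟨w, hw⟩ := hv
  refine ⟨fun i => w (σ.symm i), fun x => ?_⟩
  simp only [Matrix.mulVec, dotProduct]
  simp only [hσ, ite_mul, one_mul, zero_mul]
  rw [Finset.sum_ite_eq' Finset.univ (x ∘ σ)]
  simp only [Finset.mem_univ, if_true]
  rw [hw]
  rw [← Equiv.prod_comp σ (fun i => w (σ.symm i) (x i))]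
  simp

/-- The sum of two basis vectors differing in two coordinates is not pure. -/
lemma not_pureVec_add {m t : ℕ} (x₀ y₀ : Fin t → Fin m) (i₀ i₁ : Fin t) (hi : i₀ ≠ i₁)
    (h0 : x₀ i₀ ≠ y₀ i₀) (h1 : x₀ i₁ ≠ y₀ i₁) :
    ¬ PureVec m t ((Pi.single y₀ (1 : F) + Pi.single x₀ (1 : F) : (Fin t → Fin m) → F)) := by
  rintro ⟨w, hw⟩
  set z : Fin t → Fin m := Function.update x₀ i₀ (y₀ i₀) with hz
  set z' : Fin t → Fin m := Function.update y₀ i₀ (x₀ i₀) with hz'
  have hxy : x₀ ≠ y₀ := fun h => h0 (congrFun h i₀)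
  have hzx : z ≠ x₀ := by
    intro h; apply h0; have := congrFun h i₀; simp [hz] at this; exact this.symm
  have hzy : z ≠ y₀ := by
    intro h; apply h1; have := congrFun h i₁; simp [hz, hi.symm] at this; exact this
  have hzx' : z' ≠ x₀ := by
    intro h; apply h1; have := congrFun h i₁; simp [hz', hi.symm] at this; exact this.symm
  have hzy' : z' ≠ y₀ := by
    intro h; apply h0; have := congrFun h i₀; simp [hz'] at this; exact this
  have ex := hw x₀
  have ey := hw y₀
  have ez := hw z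
  have ez' := hw z'
  simp only [Pi.add_apply, Pi.single_apply, hxy, hxy.symm, hzx, hzy, hzx', hzy', if_true, if_false,
    add_zero, zero_add] at ex ey ez ez'
  have key : (∏ i, w i (x₀ i)) * (∏ i, w i (y₀ i)) = (∏ i, w i (z i)) * (∏ i, w i (z' i)) := by
    rw [← Finset.prod_mul_distrib, ← Finset.prod_mul_distrib]
    refine Finset.prod_congr rfl fun i _ => ?_
    by_cases hii : i = i₀
    · subst hii; simp [hz, hz', mul_comm]
    · simp [hz, hz', hii]
  rw [← ex, ← ey, ← ez] at key
  simp at key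

/-- **P2-B7**. -/
theorem not_sl_le_tensorWreathSubgroup [Fintype F] (m t : ℕ) (e : Fin n ≃ (Fin t → Fin m))
    (P : GL (Fin n) F) (hm : 2 ≤ m) (ht : 2 ≤ t) :
    ¬ specialLinear (Fin n) F ≤ tensorWreathSubgroup m t e P := by
  intro h
  set c0 : Fin m := ⟨0, by omega⟩ with hc0
  set c1 : Fin m := ⟨1, by omega⟩ with hc1
  set i₀ : Fin t := ⟨0, by omega⟩ with hi0
  set i₁ : Fin t := ⟨1, by omega⟩ with hi1
  have hc : c0 ≠ c1 := by simp [hc0, hc1, Fin.ext_iff]
  have hi : i₀ ≠ i₁ := by simp [hi0, hi1, Fin.ext_iff]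
  set x₀ : Fin t → Fin m := fun _ => c0 with hx0
  set y₀ : Fin t → Fin m := fun _ => c1 with hy0
  have hxy : x₀ ≠ y₀ := fun h' => hc (congrFun h' i₀)
  have hT := mem_of_sl_le (tensorWreathStandard m t F) e P h (elemTv x₀ y₀ hxy) (elemTv_det _ _ hxy)
  -- every element of the standard group maps pure vectors to pure vectors
  have hall : ∀ g ∈ tensorWreathStandard m t F, ∀ v : (Fin t → Fin m) → F, PureVec m t v →
      PureVec m t ((g : Matrix (Fin t → Fin m) (Fin t → Fin m) F) *ᵥ v) := by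
    intro g hg
    unfold tensorWreathStandard at hg
    induction hg using Subgroup.closure_induction with
    | mem g hg =>
      rcases hg with hg | hg
      · exact pureVec_of_isPureTensor g hg
      · exact pureVec_of_isFactorPermutation g hg
    | one => intro v hv; simpa using hv
    | mul a b _ _ iha ihb =>
      intro v hv
      rw [Units.val_mul, ← Matrix.mulVec_mulVec]
      exact iha _ (ihb v hv)
    | inv a _ iha =>
      intro v hv
      have hpow : ∀ k : ℕ, PureVec m t (((a ^ k : GL (Fin t → Fin m) F) :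
          Matrix (Fin t → Fin m) (Fin t → Fin m) F) *ᵥ v) := by
        intro k
        induction k with
        | zero => simpa using hv
        | succ k ih =>
          rw [pow_succ', Units.val_mul, ← Matrix.mulVec_mulVec]
          exact iha _ ih
      have hinv : a⁻¹ = a ^ (orderOf a - 1) := by
        have hpos : 0 < orderOf a := orderOf_pos a
        rw [eq_comm, ← mul_eq_one_iff_eq_inv', ← pow_succ', Nat.sub_add_cancel hpos,
          pow_orderOf_eq_one]
      rw [hinv]
      exact hpow _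
  have hpure : PureVec m t ((Pi.single y₀ (1 : F) : (Fin t → Fin m) → F)) := by
    refine ⟨fun i => (Pi.single (y₀ i) (1 : F) : Fin m → F), fun x => ?_⟩
    by_cases hx : x = y₀
    · subst hx; simp
    · rw [Pi.single_apply, if_neg hx]
      obtain ⟨i, hi'⟩ : ∃ i, x i ≠ y₀ i := by
        by_contra hcon
        push Not at hcon
        exact hx (funext hcon)
      symm
      apply Finset.prod_eq_zero (Finset.mem_univ i)
      show (Pi.single (y₀ i) (1 : F) : Fin m → F) (x i) = 0
      rw [Pi.single_apply, if_neg hi']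
  have hmv : ((elemTv (F := F) x₀ y₀ hxy : GL (Fin t → Fin m) F) :
      Matrix (Fin t → Fin m) (Fin t → Fin m) F) *ᵥ ((Pi.single y₀ (1 : F) : (Fin t → Fin m) → F)) =
      (Pi.single y₀ (1 : F) + Pi.single x₀ (1 : F) : (Fin t → Fin m) → F) := by
    rw [elemTv_val, Matrix.transvection, Matrix.add_mulVec, Matrix.one_mulVec]
    congr 1
    funext a
    simp [Matrix.mulVec, dotProduct, Matrix.single_apply, Pi.single_apply, eq_comm]
  have := hall _ hT _ hpure
  rw [hmv] at this
  exact not_pureVec_add x₀ y₀ i₀ i₁ hi hc hc this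

end Cfsg.Agent.Lib.H20.AschP2
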