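/-
S5663 project (Aschbacher, unitary case), module UM4, task UM4-P (helper20): `d = k ≥ 3` gives
class 7 with `t = 2`.
-/
import Cfsg.Agent.Lib.H20.AschUT4
import Cfsg.Agent.Lib.H20.AschTensorTools

set_option autoImplicit false

namespace Cfsg.Agent.Lib.H20.Asch

open Cfsg Cfsg.Geo Cfsg.Agent.Lib.Lead.Asch Cfsg.Agent.Lib.H6.Asch
open scoped MatrixGroups Matrix Kronecker

variable {F : Type*} [Field F] [Fintype F] {n q : ℕ}

/-- A unitary form (for `x ↦ x ^ q`) is a unitary form for `sigmaQ`. -/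
lemma isUnitaryForm_of_pow (hF : Fintype.card F = q ^ 2) {m : ℕ}
    (f : (Fin m → F) → (Fin m → F) → F) (hf : IsUnitaryFormPow q f) :
    IsUnitaryForm (sigmaQ hF) f :=
  ⟨sigmaQ_ne_refl hF, sigmaQ_invol hF, hf.add_left, hf.smul_left,
    fun v w => by rw [sigmaQ_apply]; exact hf.herm v w, hf.nondegenerate⟩

/-- A unitary form is represented by its Gram matrix. -/
lemma rep_gramMatrix (hF : Fintype.card F = q ^ 2) {m : ℕ}
    (f : (Fin m → F) → (Fin m → F) → F) (hf : IsUnitaryFormPow q f) :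
    Rep ((sigmaQ hF : F ≃+* F) : F →+* F) (gramMatrix f) f := by
  obtain ⟨B, hB⟩ := exists_rep_of_unitary (sigmaQ hF) f (isUnitaryForm_of_pow hF f hf)
  have : gramMatrix f = B := by
    ext a b
    exact hB.apply_single a b
  rw [this]; exact hB

lemma eq_formOf_gramMatrix (hF : Fintype.card F = q ^ 2) {m : ℕ}
    (f : (Fin m → F) → (Fin m → F) → F) (hf : IsUnitaryFormPow q f) :
    f = formOf ((sigmaQ hF : F ≃+* F) : F →+* F) (gramMatrix f) := by
  funext u v
  exact rep_gramMatrix hF f hf u v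

lemma coe_sigmaQ (hF : Fintype.card F = q ^ 2) :
    (((sigmaQ hF : F ≃+* F) : F →+* F) : F → F) = fun x : F => x ^ q := by
  funext x
  exact sigmaQ_apply hF x

/-- **UM4-P**, with the isometry of UM4-E as a hypothesis. -/
theorem uc7_of_kronecker_eq_aux (hF : Fintype.card F = q ^ 2) (H : Subgroup (GL (Fin n) F)) {d : ℕ}
    (hd : 3 ≤ d) (hq : ¬ (q = 2 ∧ d = 3)) (e : Fin n ≃ Fin d × Fin d) (P : GL (Fin n) F)
    (f₁ f₂ : (Fin d → F) → (Fin d → F) → F) (h₁ : IsUnitaryFormPow q f₁) (h₂ : IsUnitaryFormPow q f₂)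
    (hform : IsTensorFormStructure (fun x : F => x ^ q) (hermForm n F q) f₁ f₂ e P⁻¹)
    (hH : ∀ h ∈ H, glReindex e (P * h * P⁻¹) ∈ kroneckerSubgroup d d F)
    (hE : ∃ T : GL (Fin d) F, ∀ u v : Fin d → F,
      f₂ ((T : Matrix (Fin d) (Fin d) F) *ᵥ u) ((T : Matrix (Fin d) (Fin d) F) *ᵥ v) = f₁ u v) :
    UC7 q H := by
  obtain ⟨T, hT⟩ := hE
  obtain ⟨c, hc, hc'⟩ := hform
  set τ : F →+* F := ((sigmaQ hF : F ≃+* F) : F →+* F) with hτ
  set G₁ := gramMatrix f₁ with hG₁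
  set G₂ := gramMatrix f₂ with hG₂
  -- the congruence
  have hcong : (T : Matrix (Fin d) (Fin d) F)ᵀ * G₂ * (T : Matrix (Fin d) (Fin d) F).map τ = G₁ := by
    apply congr_of_isometry
    intro u v
    rw [← eq_formOf_gramMatrix hF f₂ h₂, ← eq_formOf_gramMatrix hF f₁ h₁]
    exact hT u v
  set K : GL (Fin d × Fin d) F := kronGL 1 T with hK
  set P₀ : GL (Fin n) F := changeP e P K with hP₀
  set φ := finTwoArrowEquiv (Fin d) with hφ
  set e' : Fin n ≃ (Fin 2 → Fin d) := e.trans φ.symm with he'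
  have hKK : (K : Matrix (Fin d × Fin d) (Fin d × Fin d) F)ᵀ * (G₁ ⊗ₖ G₂) *
      (K : Matrix (Fin d × Fin d) (Fin d × Fin d) F).map τ = G₁ ⊗ₖ G₁ := by
    have e1 : (K : Matrix (Fin d × Fin d) (Fin d × Fin d) F)ᵀ =
        (1 : Matrix (Fin d) (Fin d) F) ⊗ₖ (T : Matrix (Fin d) (Fin d) F)ᵀ := by
      rw [hK, kronGL_val, Units.val_one]
      ext ⟨a, i⟩ ⟨b, j⟩
      simp only [Matrix.transpose_apply, Matrix.kroneckerMap_apply, Matrix.one_apply]
      simp only [eq_comm]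
    have e2 : (K : Matrix (Fin d × Fin d) (Fin d × Fin d) F).map τ =
        (1 : Matrix (Fin d) (Fin d) F) ⊗ₖ ((T : Matrix (Fin d) (Fin d) F).map τ) := by
      rw [hK, kronGL_val, Units.val_one]
      ext ⟨a, i⟩ ⟨b, j⟩
      simp only [Matrix.map_apply, Matrix.kroneckerMap_apply, Matrix.one_apply]
      split_ifs <;> simp
    rw [e1, e2, ← Matrix.mul_kronecker_mul, ← Matrix.mul_kronecker_mul, Matrix.one_mul,
      Matrix.mul_one, hcong]
  refine ⟨d, 2, e', P₀⁻¹, f₁, hd, le_refl 2, hq, h₁, ⟨c, hc, fun x y => ?_⟩, ?_⟩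
  · -- the form
    have hx : x ∘ e' = (x ∘ φ.symm) ∘ e := rfl
    have hy : y ∘ e' = (y ∘ φ.symm) ∘ e := rfl
    rw [hx, hy, hP₀, changeP_inv_mulVec, changeP_inv_mulVec, hc']
    congr 1
    rw [← coe_sigmaQ hF, formOfGram_eq_formOf, formOf_mulVec, hKK]
    unfold formOf dotProduct Matrix.mulVec dotProduct
    rw [← Equiv.sum_comp φ]
    refine Finset.sum_congr rfl fun a _ => ?_
    rw [Finset.mul_sum, ← Equiv.sum_comp φ]
    refine Finset.sum_congr rfl fun b _ => ?_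
    rw [Fin.prod_univ_two]
    have h1 : ∀ a : Fin 2 → Fin d, φ a = (a 0, a 1) := fun a => rfl
    simp only [Function.comp_apply, Equiv.symm_apply_apply, Matrix.kroneckerMap_apply]
    simp only [h1]
    ring
  · -- the group
    apply le_tensorWreathSubgroup
    intro h hh
    rw [he', glReindex_trans]
    exact Subgroup.subset_closure (Or.inl (isPureTensor_of_kronecker _
      (kron_changeP H e P hH K (kronGL_mem 1 T) h hh)))

end Cfsg.Agent.Lib.H20.Asch
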