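/-
S5663 (Aschbacher, unitary case), UM4-P: exact-signature wrapper of `uc7_of_kronecker_eq_aux`
(Lib/H20/AschUM4P.lean) with helper22's UM4-E (`exists_isometry_unitary`).
-/
import Cfsg.Agent.Lib.H20.AschUM4P
import Cfsg.Agent.Lib.H22.AschUM4E

set_option autoImplicit false

namespace Cfsg.Agent.Lib.H20.Asch

open Cfsg Cfsg.Geo Cfsg.Agent.Lib.Lead.Asch
open scoped MatrixGroups Matrix Kronecker

variable {F : Type*} [Field F] [Fintype F] {n q : ℕ}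

/-- **UM4-P** (exact signature of `tools/blueprints/S5663_UM4_sigs.lean`). -/
theorem uc7_of_kronecker_eq (hF : Fintype.card F = q ^ 2) (H : Subgroup (GL (Fin n) F)) {d : ℕ}
    (hd : 3 ≤ d) (hq : ¬ (q = 2 ∧ d = 3)) (e : Fin n ≃ Fin d × Fin d) (P : GL (Fin n) F)
    (f₁ f₂ : (Fin d → F) → (Fin d → F) → F) (h₁ : IsUnitaryFormPow q f₁) (h₂ : IsUnitaryFormPow q f₂)
    (hform : IsTensorFormStructure (fun x : F => x ^ q) (hermForm n F q) f₁ f₂ e P⁻¹)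
    (hH : ∀ h ∈ H, glReindex e (P * h * P⁻¹) ∈ kroneckerSubgroup d d F) : UC7 q H :=
  uc7_of_kronecker_eq_aux hF H hd hq e P f₁ f₂ h₁ h₂ hform hH
    (Cfsg.Agent.Lib.H22.Asch.exists_isometry_unitary hF f₁ f₂ h₁ h₂)

end Cfsg.Agent.Lib.H20.Asch
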