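import Mathlib
import Cfsg.Agent.S1351
import Cfsg.Agent.S1375
import Cfsg.Agent.Lib.H7.BG14v
import Cfsg.Agent.Lib.H16.BGCovD

/-!
# Blocks (helper20), part Q1: the complements `R(y)` of BG 14.4 avoid the primes of every maximal
subgroup whose Hall `κ`-subgroup is a complement of its `σ`-core (no nonregularity needed)
-/

set_option autoImplicit false
set_option linter.style.haveILetI false
set_option linter.unusedSectionVars false
set_option linter.unusedVariables false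

open Cfsg
open Cfsg.Agent.Lib.H16.BG
open Cfsg.Agent.Lib.H7.BG7
open Cfsg.Agent.Lib.H7.BG10
open Cfsg.Agent.Lib.H19 (IsPiCard)
open Cfsg.Agent.Lib.H20.BGO (Hits Avoid)
open Cfsg.Agent.Lib.H20.BGP

namespace Cfsg.Agent.Lib.H20.BGQ

universe u
variable {G : Type u} [Group G] [Finite G]

local notation:max "cj(" g ", " X ")" => Subgroup.map (MulEquiv.toMonoidHom (MulAut.conj g)) X

/-- a subgroup of order coprime to the index of a normal subgroup lies in it. -/
theorem le_of_normal_coprime {R C S : Subgroup G} (hRC : R ≤ C)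
    (hnorm : C ≤ Subgroup.normalizer (R : Set G)) (hSC : S ≤ C)
    (hcop : (Nat.card S).Coprime (R.relIndex C)) : S ≤ R := by
  have hSR : S ≤ Subgroup.normalizer (R : Set G) := hSC.trans hnorm
  have h1 : Nat.card (S ⊔ R : Subgroup G) ∣ Nat.card S * Nat.card R :=
    Cfsg.Agent.Lib.H19.card_sup_dvd_mul_of_le_normalizer hSR
  have hle : R ≤ S ⊔ R := le_sup_right
  have hle2 : S ⊔ R ≤ C := sup_le hSC hRC
  have h2 := Cfsg.Agent.Lib.H19.card_mul_relIndex hle
  have h3 : R.relIndex (S ⊔ R) ∣ Nat.card S := by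
    rw [← h2, mul_comm (Nat.card S)] at h1
    exact Nat.dvd_of_mul_dvd_mul_left Nat.card_pos h1
  have h4 : R.relIndex (S ⊔ R) ∣ R.relIndex C := by
    rw [← Subgroup.relIndex_mul_relIndex R (S ⊔ R) C hle hle2]
    exact dvd_mul_right _ _
  have h5 : R.relIndex (S ⊔ R) = 1 := Nat.eq_one_of_dvd_coprimes hcop h3 h4
  have h6 : S ⊔ R ≤ R := Subgroup.relIndex_eq_one.1 h5
  exact le_sup_left.trans h6

theorem sup_eq_of_isComplIn {A B M : Subgroup G} (h : IsComplIn A B M) : A ⊔ B = M := by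
  apply le_antisymm (sup_le h.1 h.2.1)
  intro m hm
  obtain ⟨a, ha, c, hc, rfl⟩ := h.2.2.2 m hm
  exact Subgroup.mul_mem_sup ha hc

/-- the standard factorisation `cj(g, M) = cj(g, K) · 1 · cj(g, M)_σ` when `K` is a complement of
`M_σ`. -/
theorem isSigmaDecomposition_cj_bot (hG : IsMinSimpleOddOrder G) {M K : Subgroup G}
    (hM : IsCoatom M) (hK : IsPiHallOf (kappa M) K M) (hc : IsComplIn K (sigmaCore M) M) (g : G) :
    IsSigmaDecomposition cj(g, M) cj(g, K) ⊥ := by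
  have hKc : IsCyclic ↥K := (Cfsg.Agent.S1351.result hG M hM).2 K hK
  refine ⟨?_, ?_, ?_, ?_⟩
  · haveI := hKc
    exact isCyclic_of_surjective
      (Subgroup.equivMapOfInjective K (MulEquiv.toMonoidHom (MulAut.conj g))
        (MulAut.conj g).injective)
      (Subgroup.equivMapOfInjective K (MulEquiv.toMonoidHom (MulAut.conj g))
        (MulAut.conj g).injective).surjective
  · refine ⟨cj_mono g hK.1, ?_, ?_⟩
    · intro p hp hd
      rw [Cfsg.Agent.Lib.H16.BGCov.kappa_cj hG hM g]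
      rw [card_cj] at hd
      exact hK.2.1 p hp hd
    · intro p hp hpκ hd
      rw [Cfsg.Agent.Lib.H16.BGCov.kappa_cj hG hM g] at hpκ
      rw [Cfsg.Agent.Lib.H10.relIndex_map_conj] at hd
      exact hK.2.2 p hp hpκ hd
  · have heq : cj(g, K) ⊔ sigmaCore cj(g, M) = cj(g, M) := by
      rw [sigmaCore_cj hG hM g, ← Subgroup.map_sup, sup_eq_of_isComplIn hc]
    refine ⟨bot_le, heq.le, bot_inf_eq _, ?_⟩
    intro m hm
    refine ⟨1, Subgroup.one_mem _, m, ?_, (one_mul m).symm⟩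
    rw [heq]; exact hm
  · intro x _
    rw [Subgroup.mem_normalizer_iff]
    intro n
    simp [Subgroup.mem_bot]

/-- **the complement `R` of BG 14.4 has no prime of `σ(N')`** for a maximal subgroup `N'` whose
Hall `κ(N')`-subgroup is a complement of `N'_σ`. -/
theorem false_of_prime_of_compl (hG : IsMinSimpleOddOrder G) {N₀ : Subgroup G}
    (hN₀ : IsCoatom N₀) {y : G} (hy : y ∈ sigmaCore N₀) (hy1 : y ≠ 1) {R : Subgroup G}
    (hcop : (Nat.card ↥(N₀ ⊓ Subgroup.centralizer ({y} : Set G))).Coprime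
      ((N₀ ⊓ Subgroup.centralizer ({y} : Set G)).relIndex (Subgroup.centralizer ({y} : Set G))))
    (hRcompl : IsComplIn (N₀ ⊓ Subgroup.centralizer ({y} : Set G)) R
      (Subgroup.centralizer ({y} : Set G)))
    {r₀ : G} (hr₀ : r₀ ∈ R) {q : ℕ} (hq : q.Prime) (hr₀q : orderOf r₀ = q)
    {N' K' : Subgroup G} (hN' : IsCoatom N') (hK' : IsPiHallOf (kappa N') K' N')
    (hc' : IsComplIn K' (sigmaCore N') N') (hqσ : q ∈ sigma N') : False := by
  have hr₀1 : r₀ ≠ 1 := by
    intro h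
    rw [h, orderOf_one] at hr₀q
    exact hq.one_lt.ne hr₀q
  have hRC : R ≤ Subgroup.centralizer ({y} : Set G) := hRcompl.2.1
  have hnle : ¬ Subgroup.centralizer ({y} : Set G) ≤ N₀ := by
    intro hle
    have h1 : r₀ ∈ (N₀ ⊓ Subgroup.centralizer ({y} : Set G)) ⊓ R :=
      Subgroup.mem_inf.2 ⟨Subgroup.mem_inf.2 ⟨hle (hRC hr₀), hRC hr₀⟩, hr₀⟩
    rw [hRcompl.2.2.1, Subgroup.mem_bot] at h1
    exact hr₀1 h1
  obtain ⟨N'', ⟨hN'', hCN''⟩, -, -, hnorm'', hcompl'', -, hdec⟩ :=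
    Cfsg.Agent.S1375.result hG N₀ hN₀ y hy hy1 hnle
  -- `R ≤ N''_σ ∩ C(y)`
  have hcard1 := Cfsg.Agent.Lib.H7.isComplIn_card_mul hRcompl
  have hcard2 := Cfsg.Agent.Lib.H7.isComplIn_card_mul hcompl''
  have hcard3 := Cfsg.Agent.Lib.H19.card_mul_relIndex hRcompl.1
  have hcard4 := Cfsg.Agent.Lib.H19.card_mul_relIndex hcompl''.2.1
  have hA0 : 0 < Nat.card ↥(N₀ ⊓ Subgroup.centralizer ({y} : Set G)) := Nat.card_pos
  have hS0 : 0 < Nat.card ↥(sigmaCore N'' ⊓ Subgroup.centralizer ({y} : Set G)) := Nat.card_pos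
  have e1 : Nat.card R =
      (N₀ ⊓ Subgroup.centralizer ({y} : Set G)).relIndex (Subgroup.centralizer ({y} : Set G)) := by
    apply Nat.eq_of_mul_eq_mul_left hA0
    rw [hcard1, hcard3]
  have e2 : (sigmaCore N'' ⊓ Subgroup.centralizer ({y} : Set G)).relIndex
      (Subgroup.centralizer ({y} : Set G)) =
      Nat.card ↥(N₀ ⊓ Subgroup.centralizer ({y} : Set G)) := by
    apply Nat.eq_of_mul_eq_mul_left hS0
    rw [hcard4, mul_comm, hcard2]
  have hRS : R ≤ sigmaCore N'' ⊓ Subgroup.centralizer ({y} : Set G) := by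
    apply le_of_normal_coprime hcompl''.2.1 hnorm'' hRC
    rw [e1, e2]
    exact hcop.symm
  have hr₀σ : r₀ ∈ sigmaCore N'' := (Subgroup.mem_inf.1 (hRS hr₀)).1
  have hqσ'' : q ∈ sigma N'' := by
    apply Cfsg.Agent.Lib.H20.BGS.sigmaCore_isPiCard N'' q hq
    rw [← hr₀q]
    exact orderOf_dvd_card_of_mem hr₀σ
  obtain ⟨g, hg⟩ := Cfsg.Agent.Lib.H7.BG14v.sigma_partition' hG hN' hN'' hqσ hqσ''
  have hdec' := isSigmaDecomposition_cj_bot hG hN' hK' hc' g
  rw [← hg] at hdec'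
  exact (hdec _ _ hdec').1 rfl

end Cfsg.Agent.Lib.H20.BGQ
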