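import Mathlib
import Cfsg.Agent.Lib.H20.BGQ1

/-!
# Blocks (helper20), part Q2: the class count of a block by the `R`-trick, all rivals being blocks
-/

set_option autoImplicit false
set_option linter.style.haveILetI false
set_option linter.unusedSectionVars false
set_option linter.unusedVariables false

open Cfsg
open Cfsg.Agent.Lib.H16.BG
open Cfsg.Agent.Lib.H7.BG7
open Cfsg.Agent.Lib.H7.BG10
open Cfsg.Agent.Lib.H19 (IsPiCard)
open Cfsg.Agent.Lib.H20.BGO (Hits Avoid)
open Cfsg.Agent.Lib.H20.BGP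

namespace Cfsg.Agent.Lib.H20.BGQ

universe u
variable {G : Type u} [Group G] [Finite G]

local notation:max "cj(" g ", " X ")" => Subgroup.map (MulEquiv.toMonoidHom (MulAut.conj g)) X

open scoped Classical

variable {Z N K : Subgroup G}

/-- the data of BG 14.4 for a conjugate `y` of a non-identity element of `N_σ`: the complement `R`
has no prime of any block. -/
theorem exists_data' (hG : IsMinSimpleOddOrder G) (b : IsBlock Z N K) {y : G}
    (hy : ∃ t : G, y ∈ cj(t, sigmaCore N)) (hy1 : y ≠ 1) :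
    ∃ (N₀ R : Subgroup G), R ≤ Subgroup.centralizer ({y} : Set G) ∧
      (∀ s : G, y ∈ cj(s, N) → ∃! r : G, r ∈ R ∧ cj(r, N₀) = cj(s, N)) ∧
      (∀ r ∈ R, ∀ q : ℕ, q.Prime → q ∣ orderOf r →
        ∀ N' K' : Subgroup G, IsBlock Z N' K' → q ∉ sigma N') := by
  obtain ⟨t, ht⟩ := hy
  have hN₀ : IsCoatom cj(t, N) := isCoatom_map_conj b.coatom t
  have hyσ : y ∈ sigmaCore cj(t, N) := by rw [sigmaCore_cj hG b.coatom t]; exact ht
  obtain ⟨hcop, R, -, hRc, huniq⟩ := Cfsg.Agent.S1374.result hG cj(t, N) hN₀ y hyσ hy1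
  have hRy : R ≤ Subgroup.centralizer ({y} : Set G) := hRc.2.1
  refine ⟨cj(t, N), R, hRy, ?_, ?_⟩
  · intro s hs
    have h1 : cj(s * t⁻¹, cj(t, N)) = cj(s, N) := by
      rw [cj_cj, inv_mul_cancel_right]
    have := huniq (s * t⁻¹) (by rw [h1]; exact hs)
    rwa [h1] at this
  · intro r hr q hq hd N' K' b' hqσ'
    have hr0 : orderOf r ≠ 0 := (isOfFinOrder_of_finite r).orderOf_pos.ne'
    have hord : orderOf (r ^ (orderOf r / q)) = q := orderOf_pow_orderOf_div hr0 hd
    have hr₀ : r ^ (orderOf r / q) ∈ R := R.pow_mem hr _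
    exact false_of_prime_of_compl hG hN₀ hyσ hy1 hcop hRc hr₀ hq hord b'.coatom b'.hall
      b'.compl hqσ'

/-- **the class count of a block by the `R`-trick**: all the other blocks (those carrying a
"bad" prime) being blocks too. -/
theorem rtrick_count' [Fintype G] (hG : IsMinSimpleOddOrder G) (b : IsBlock Z N K)
    (bad : ℕ → Prop)
    (hbad : ∀ q : ℕ, q.Prime → bad q → ∃ N' K' : Subgroup G, IsBlock Z N' K' ∧
      N ≠ N' ∧ q ∈ sigma N') :
    Fintype.card G * (Nat.card ↥(sigmaCore N) - 1) ≤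
      Nat.card N * (Finset.univ.filter (fun x : G => Hits (Nat.card ↥(sigmaCore N)) x ∧
        ∀ q : ℕ, q.Prime → bad q → ¬ q ∣ orderOf x)).card := by
  have hex : ∀ y : G, (∃ t : G, y ∈ cj(t, sigmaCore N)) → y ≠ 1 →
      ∃ (N₀ R : Subgroup G), R ≤ Subgroup.centralizer ({y} : Set G) ∧
      (∀ s : G, y ∈ cj(s, N) → ∃! r : G, r ∈ R ∧ cj(r, N₀) = cj(s, N)) ∧
      (∀ r ∈ R, ∀ q : ℕ, q.Prime → q ∣ orderOf r →
        ∀ N' K' : Subgroup G, IsBlock Z N' K' → q ∉ sigma N') :=
    fun y hy hy1 => exists_data' hG b hy hy1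
  choose! N₀ R hRc huniq hprimes using hex
  let ρ' : G → Subgroup G → G := fun y C =>
    if h : ∃ r : G, r ∈ R y ∧ cj(r, N₀ y) = C then Classical.choose h else 1
  let ρ : G → G → G := fun y t => ρ' y cj(t, N)
  set a := Nat.card ↥(sigmaCore N) with ha
  -- the specification of `ρ`
  have hyex : ∀ (t x : G), x ∈ sigmaCore N → ∃ t' : G, t * x * t⁻¹ ∈ cj(t', sigmaCore N) :=
    fun t x hx => ⟨t, conj_mem_cj hx⟩
  have hy1 : ∀ (t x : G), x ≠ 1 → t * x * t⁻¹ ≠ 1 := by
    intro t x hx h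
    apply hx
    have : x = t⁻¹ * (t * x * t⁻¹) * t := by group
    rw [this, h]; group
  have hspec : ∀ (t x : G), x ∈ sigmaCore N → x ≠ 1 →
      ρ (t * x * t⁻¹) t ∈ R (t * x * t⁻¹) ∧
        cj(ρ (t * x * t⁻¹) t, N₀ (t * x * t⁻¹)) = cj(t, N) := by
    intro t x hx hx1
    have hyN : t * x * t⁻¹ ∈ cj(t, N) :=
      conj_mem_cj (Cfsg.Agent.Lib.H20.BGS.sigmaCore_le N hx)
    obtain ⟨r, hr, -⟩ := huniq _ (hyex t x hx) (hy1 t x hx1) t hyN
    have hexr : ∃ r : G, r ∈ R (t * x * t⁻¹) ∧ cj(r, N₀ (t * x * t⁻¹)) = cj(t, N) := ⟨r, hr⟩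
    have : ρ (t * x * t⁻¹) t = Classical.choose hexr := by
      simp only [ρ, ρ', dif_pos hexr]
    rw [this]
    exact Classical.choose_spec hexr
  have hyo : ∀ (t x : G), x ∈ sigmaCore N → orderOf (t * x * t⁻¹) ∣ a := by
    intro t x hx
    rw [Cfsg.Agent.Lib.H20.BGO.orderOf_conj']
    exact orderOf_dvd_card_of_mem hx
  have hρcop : ∀ (t x : G), x ∈ sigmaCore N → x ≠ 1 →
      (orderOf (ρ (t * x * t⁻¹) t)).Coprime a := by
    intro t x hx hx1
    apply Nat.coprime_of_dvd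
    intro q hq hd1 hd2
    exact hprimes _ (hyex t x hx) (hy1 t x hx1) _ (hspec t x hx hx1).1 q hq hd1 N K b
      (Cfsg.Agent.Lib.H20.BGS.sigmaCore_isPiCard N q hq hd2)
  have hρcomm : ∀ (t x : G), x ∈ sigmaCore N → x ≠ 1 →
      Commute (t * x * t⁻¹) (ρ (t * x * t⁻¹) t) := by
    intro t x hx hx1
    have h1 := hRc _ (hyex t x hx) (hy1 t x hx1) (hspec t x hx hx1).1
    exact Subgroup.mem_centralizer_iff.1 h1 _ (Set.mem_singleton _)
  have hmain := Cfsg.Agent.Lib.H20.BGO.rtrick N (sigmaCore N)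
    (by
      intro n hn x hx
      have hnn := Cfsg.Agent.Lib.H20.BGS.le_normalizer_sigmaCore N hn
      exact (Subgroup.mem_normalizer_iff.1 hnn x).1 hx)
    (fun x : G => Hits a x ∧ ∀ q : ℕ, q.Prime → bad q → ¬ q ∣ orderOf x) a
    (by
      intro x hx
      have := pow_card_eq_one' (G := ↥(sigmaCore N)) (x := ⟨x, hx⟩)
      exact congrArg Subtype.val this)
    ρ
    (by
      intro t n hn y
      have : cj(t * n, N) = cj(t, N) := by
        rw [← cj_cj, cj_eq_self_of_mem hn]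
      simp only [ρ, this])
    hρcomm hρcop
    (by
      intro t x hx hx1
      have hcop : (orderOf (t * x * t⁻¹)).Coprime (orderOf (ρ (t * x * t⁻¹) t)) :=
        Nat.Coprime.coprime_dvd_left (hyo t x hx) (hρcop t x hx hx1).symm
      refine ⟨?_, ?_⟩
      · exact (Cfsg.Agent.Lib.H20.BGO.hits_mul (hρcomm t x hx hx1) hcop).2
          (Or.inl (Cfsg.Agent.Lib.H20.BGO.hits_of_orderOf_dvd (hyo t x hx) (hy1 t x hx1)))
      · intro q hq hbq hd
        obtain ⟨N', K', b', hne, hqσ'⟩ := hbad q hq hbq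
        rw [(hρcomm t x hx hx1).orderOf_mul_eq_mul_orderOf_of_coprime hcop] at hd
        rcases (Nat.Prime.dvd_mul hq).1 hd with h | h
        · have h1 : q ∣ a := h.trans (hyo t x hx)
          have h2 : q ∣ Nat.card ↥(sigmaCore N') := b'.dvd_card_sigmaCore hG hqσ'
          have h3 := b.coprime_sigmaCore hG b' hne
          exact hq.one_lt.ne' (Nat.dvd_one.1 (h3 ▸ Nat.dvd_gcd h1 h2))
        · exact hprimes _ (hyex t x hx) (hy1 t x hx1) _ (hspec t x hx hx1).1 q hq h
            N' K' b' hqσ')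
    (by
      intro t t' x hx x' hx' hx1 hconj hρeq
      have hx'1 : x' ≠ 1 := by
        intro h
        apply hy1 t x hx1
        rw [hconj, h]; group
      have s1 := (hspec t x hx hx1).2
      have s2 := (hspec t' x' hx' hx'1).2
      rw [← hconj] at s2
      rw [hρeq, s2] at s1
      -- `cj(t', N) = cj(t, N)`
      have h3 : cj(t⁻¹ * t', N) = N := by
        rw [← cj_cj, s1, cj_inv_cj]
      have h4 : t⁻¹ * t' ∈ Subgroup.normalizer (N : Set G) :=
        Subgroup.mem_normalizer_iff_map_conj_eq.2 h3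
      rwa [b.normalizer_eq hG] at h4)
  have hmain' := hmain
  simp only [← Nat.card_eq_fintype_card] at hmain'
  rw [← Nat.card_eq_fintype_card (α := G)]
  convert hmain' using 3
  ext x
  simp only [Finset.mem_filter, Finset.mem_univ, true_and]

end Cfsg.Agent.Lib.H20.BGQ
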