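import Mathlib
import Cfsg.Agent.Lib.H20.BGQ2

/-!
# Blocks (helper20), part Q3: two distinct blocks of `Z` cannot cover all the primes of `Z`
-/

set_option autoImplicit false
set_option linter.style.haveILetI false
set_option linter.unusedSectionVars false
set_option linter.unusedVariables false

open Cfsg
open Cfsg.Agent.Lib.H16.BG
open Cfsg.Agent.Lib.H7.BG7
open Cfsg.Agent.Lib.H7.BG10
open Cfsg.Agent.Lib.H19 (IsPiCard)
open Cfsg.Agent.Lib.H20.BGO (Hits Avoid)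
open Cfsg.Agent.Lib.H20.BGP

namespace Cfsg.Agent.Lib.H20.BGQ

universe u
variable {G : Type u} [Group G] [Finite G]

local notation:max "cj(" g ", " X ")" => Subgroup.map (MulEquiv.toMonoidHom (MulAut.conj g)) X

open scoped Classical

/-- **the count**: if `Z` has two distinct blocks and every prime divisor of `|Z|` lies in `σ(N)`
for some block `N` of `Z`, we have a contradiction. -/
theorem false_of_cover (hG : IsMinSimpleOddOrder G) {Z N K N' K' : Subgroup G}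
    (b : IsBlock Z N K) (b' : IsBlock Z N' K') (hne : N ≠ N')
    (hcover : ∀ q : ℕ, q.Prime → q ∣ Nat.card ↥Z →
      ∃ N'' K'' : Subgroup G, IsBlock Z N'' K'' ∧ q ∈ sigma N'') : False := by
  haveI : Fintype G := Fintype.ofFinite G
  haveI : Fintype (Subgroup G) := Fintype.ofFinite _
  let 𝔅 : Finset (Subgroup G) := Finset.univ.filter (fun N => ∃ K', IsBlock Z N K')
  have hmem : ∀ N, N ∈ 𝔅 ↔ ∃ K', IsBlock Z N K' := by
    intro N; simp [𝔅]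
  have hexK : ∀ N, N ∈ 𝔅 → ∃ K', IsBlock Z N K' := fun N h => (hmem N).1 h
  choose! κ hκ using hexK
  have hNB : N ∈ 𝔅 := (hmem N).2 ⟨K, b⟩
  have hN'B : N' ∈ 𝔅 := (hmem N').2 ⟨K', b'⟩
  have hcover' : ∀ q : ℕ, q.Prime → q ∣ Nat.card Z → ∃ N ∈ 𝔅, q ∣ Nat.card ↥(sigmaCore N) := by
    intro q hq hd
    obtain ⟨N'', K'', b'', hqσ⟩ := hcover q hq hd
    exact ⟨N'', (hmem N'').2 ⟨K'', b''⟩, b''.dvd_card_sigmaCore hG hqσ⟩
  have h2 : 2 ≤ 𝔅.card := Finset.one_lt_card.2 ⟨N, hNB, N', hN'B, hne⟩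
  -- the hypotheses of the count
  have hT1 : ∀ x ∈ Z, (∀ N ∈ 𝔅, x ∉ Z ⊓ sigmaCore N) →
      ∃ i ∈ 𝔅, ∃ j ∈ 𝔅, i ≠ j ∧ Hits (Nat.card ↥(sigmaCore i)) x ∧
        Hits (Nat.card ↥(sigmaCore j)) x := by
    intro x hx hxW
    have hx1 : x ≠ 1 := by
      rintro rfl
      exact hxW N hNB (Subgroup.one_mem _)
    have ho1 : orderOf x ≠ 1 := fun h => hx1 (orderOf_eq_one_iff.1 h)
    obtain ⟨q, hq, hqx⟩ := Nat.exists_prime_and_dvd ho1
    have hoZ : orderOf x ∣ Nat.card Z := orderOf_dvd_card_of_mem hx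
    obtain ⟨N₁, hN₁, hqN₁⟩ := hcover' q hq (hqx.trans hoZ)
    have hh₁ : Hits (Nat.card ↥(sigmaCore N₁)) x := ⟨q, hq, hqN₁, hqx⟩
    by_contra hcon
    push Not at hcon
    apply hxW N₁ hN₁
    rw [(hκ N₁ hN₁).Z_inf_sigmaCore]
    apply (hκ N₁ hN₁).mem_star_of_orderOf hG hx
    intro p hp hpx
    obtain ⟨N₂, hN₂, hpN₂⟩ := hcover' p hp (hpx.trans hoZ)
    have hh₂ : Hits (Nat.card ↥(sigmaCore N₂)) x := ⟨p, hp, hpN₂, hpx⟩
    have heq : N₁ = N₂ := by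
      by_contra hne
      exact hcon N₁ hN₁ N₂ hN₂ hne hh₁ hh₂
    rw [heq]
    exact Cfsg.Agent.Lib.H20.BGS.sigmaCore_isPiCard N₂ p hp hpN₂
  have hT2 : ∀ x ∈ Z, (∀ N ∈ 𝔅, x ∉ Z ⊓ sigmaCore N) → ∀ g : G, g * x * g⁻¹ ∈ Z → g ∈ Z := by
    intro x hx hxW g hgx
    obtain ⟨i, hi, j, hj, hij, hhi, hhj⟩ := hT1 x hx hxW
    have h1 := (hκ i hi).mem_of_conj_mem hG hx hgx hhi
    have h2 := (hκ j hj).mem_of_conj_mem hG hx hgx hhj
    rw [← (hκ i hi).inf_eq hG (hκ j hj) hij]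
    exact Subgroup.mem_inf.2 ⟨h1, h2⟩
  apply Cfsg.Agent.Lib.H20.BGO.false_of_count' 𝔅 Z (fun N => Nat.card ↥(sigmaCore N))
    (fun N => Nat.card ↥N) (fun N => Z ⊓ sigmaCore N)
    (fun N _ => inf_le_left)
    (by
      intro N hN u hu x hx
      obtain ⟨hxZ, hxA⟩ := Subgroup.mem_inf.1 hx
      refine Subgroup.mem_inf.2 ⟨Z.mul_mem (Z.mul_mem hu hxZ) (Z.inv_mem hu), ?_⟩
      have hun := Cfsg.Agent.Lib.H20.BGS.le_normalizer_sigmaCore N ((hκ N hN).Z_le hu)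
      exact (Subgroup.mem_normalizer_iff.1 hun x).1 hxA)
    (by
      intro N hN
      show Nat.card ↥N * Nat.card ↥(Z ⊓ sigmaCore N) = Nat.card ↥(sigmaCore N) * Nat.card ↥Z
      rw [(hκ N hN).Z_inf_sigmaCore]
      exact (hκ N hN).card_mul)
    (by
      intro N hN
      show 3 * Nat.card ↥(Z ⊓ sigmaCore N) ≤ Nat.card ↥(sigmaCore N)
      rw [(hκ N hN).Z_inf_sigmaCore]
      exact (hκ N hN).three_le hG)
    ?_ hT1 hT2 h2
  -- the class counts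
  intro N hN
  beta_reduce
  have h1 := rtrick_count' hG (hκ N hN)
    (fun q => ∃ j ∈ 𝔅, j ≠ N ∧ q ∣ Nat.card ↥(sigmaCore j))
    (by
      rintro q hq ⟨j, hj, hjN, hqj⟩
      exact ⟨j, κ j, hκ j hj, hjN.symm, Cfsg.Agent.Lib.H20.BGS.sigmaCore_isPiCard j q hq hqj⟩)
  refine h1.trans (Nat.mul_le_mul_left _ (Finset.card_le_card ?_))
  intro x hx
  simp only [Finset.mem_filter, Finset.mem_univ, true_and] at hx ⊢
  refine ⟨hx.1, ?_⟩
  rintro j hj hjN ⟨p, hp, hpj, hpx⟩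
  exact hx.2 p hp ⟨j, hj, hjN, hpj⟩ hpx

end Cfsg.Agent.Lib.H20.BGQ
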