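import Cfsg.Agent.Lib.H10.S4415BadDefs

/-!
# S4415, step (B3), group half

For an `XS`-subgroup `X` (extraspecial with centre `{1,z}`) normalised but not centralised by an
element `b` of order `3` fixing `z`, some commutator `h = g⁻¹ b⁻¹ g b` (`g ∈ X`) has `h * h = z`.

Route (no quotient groups, no bimultiplicativity of the commutator form): write
`κ x = x⁻¹ b⁻¹ x b`.  If every `κ x` had square `1`, then `κ (x y) = (y⁻¹ κ x y) κ y` shows that all
`κ x` commute pairwise; comparing `κ (x y)` and `κ (y x)` for `y = κ w` shows `κ (κ w)` central, so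
`b²` acts trivially on `X` modulo `z`, hence `b = b⁴` centralises `X`.
-/

namespace Cfsg.Agent.Lib.H20.S4415B3G

open Cfsg.Agent.Lib.H10.S4415

variable {S : Type*} [Group S]

/-- `κ x = x⁻¹ x^b`. -/
def kap (b x : S) : S := x⁻¹ * b⁻¹ * x * b

theorem kap_mul (b x y : S) : kap b (x * y) = (y⁻¹ * kap b x * y) * kap b y := by
  unfold kap; group

theorem binv_eq (b : S) (hb3 : b * b * b = 1) : b⁻¹ = b * b :=
  (eq_inv_of_mul_eq_one_left hb3).symm

theorem binv_conj_mem (X : Subgroup S) (b : S) (hb3 : b * b * b = 1)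
    (hbX : ∀ g ∈ X, b * g * b⁻¹ ∈ X) {x : S} (hx : x ∈ X) : b⁻¹ * x * b ∈ X := by
  have h1 := hbX _ (hbX x hx)
  have hb : b⁻¹ = b * b := binv_eq b hb3
  have e : b * (b * x * b⁻¹) * b⁻¹ = b⁻¹ * x * b := by
    have hb' : b⁻¹ * b⁻¹ = b := by
      rw [hb]
      calc b * b * (b * b) = (b * b * b) * b := by group
        _ = b := by rw [hb3, one_mul]
    calc b * (b * x * b⁻¹) * b⁻¹ = (b * b) * x * (b⁻¹ * b⁻¹) := by group
      _ = b⁻¹ * x * b := by rw [← hb, hb']
  rw [e] at h1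
  exact h1

theorem kap_mem (X : Subgroup S) (b : S) (hb3 : b * b * b = 1)
    (hbX : ∀ g ∈ X, b * g * b⁻¹ ∈ X) {x : S} (hx : x ∈ X) : kap b x ∈ X := by
  have h := binv_conj_mem X b hb3 hbX hx
  have e : kap b x = x⁻¹ * (b⁻¹ * x * b) := by unfold kap; group
  rw [e]
  exact X.mul_mem (X.inv_mem hx) h

/-- `κ (z v) = κ v` when `z` commutes with `v` and `b`. -/
theorem kap_z_mul (b z v : S) (hbz : b * z = z * b) (hzv : z * v = v * z) :
    kap b (z * v) = kap b v := by
  have h1 : b⁻¹ * z = z * b⁻¹ := by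
    have := congrArg (fun t => b⁻¹ * t * b⁻¹) hbz
    simpa [mul_assoc] using this.symm
  unfold kap
  calc (z * v)⁻¹ * b⁻¹ * (z * v) * b = v⁻¹ * z⁻¹ * (b⁻¹ * z) * v * b := by group
    _ = v⁻¹ * z⁻¹ * (z * b⁻¹) * v * b := by rw [h1]
    _ = v⁻¹ * b⁻¹ * v * b := by group

/-- **(B3g)**: some commutator `g⁻¹ b⁻¹ g b` with `g ∈ X` squares to `z`. -/
theorem exists_comm_sq (z b : S) (X : Subgroup S) (hX : XS z X) (hb3 : b * b * b = 1)
    (hbX : ∀ g ∈ X, b * g * b⁻¹ ∈ X) (hbz : b * z = z * b)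
    (hnc : ∃ g ∈ X, b * g ≠ g * b) :
    ∃ g ∈ X, (g⁻¹ * b⁻¹ * g * b) * (g⁻¹ * b⁻¹ * g * b) = z := by
  by_contra hcon
  push Not at hcon
  have hkm : ∀ {x : S}, x ∈ X → kap b x ∈ X := fun hx => kap_mem X b hb3 hbX hx
  have hk1 : ∀ g ∈ X, kap b g * kap b g = 1 := fun g hg =>
    (hX.sq _ (hkm hg)).resolve_right (hcon g hg)
  -- conjugation sign
  have hsign : ∀ y ∈ X, ∀ k ∈ X, y⁻¹ * k * y = k ∨ y⁻¹ * k * y = z * k := by
    intro y hy k hk
    rcases hX.comm y⁻¹ (X.inv_mem hy) k hk with h | h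
    · left
      rw [inv_inv] at h
      exact mul_inv_eq_one.mp h
    · right
      rw [inv_inv] at h
      exact mul_inv_eq_iff_eq_mul.mp h
  -- an auxiliary: involutions with involutive product commute
  have hinv_comm : ∀ a c : S, a * a = 1 → c * c = 1 → (a * c) * (a * c) = 1 → a * c = c * a := by
    intro a c ha hc hac
    have h1 : (a * c)⁻¹ = a * c := inv_eq_of_mul_eq_one_right hac
    have h2 : a⁻¹ = a := inv_eq_of_mul_eq_one_right ha
    have h3 : c⁻¹ = c := inv_eq_of_mul_eq_one_right hc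
    rw [mul_inv_rev, h2, h3] at h1
    exact h1.symm
  -- step 2: all `κ x` commute
  have hcommK : ∀ x ∈ X, ∀ y ∈ X, kap b x * kap b y = kap b y * kap b x := by
    intro x hx y hy
    have hkx := hkm hx
    have hky := hkm hy
    have hxy := hk1 (x * y) (X.mul_mem hx hy)
    rw [kap_mul] at hxy
    rcases hsign y hy _ hkx with h | h
    · rw [h] at hxy
      exact hinv_comm _ _ (hk1 x hx) (hk1 y hy) hxy
    · rw [h] at hxy
      set t := kap b x * kap b y with ht
      have htX : t ∈ X := X.mul_mem hkx hky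
      have hzt : t * z = z * t := hX.z_central t htX
      have e : z * kap b x * kap b y = z * t := by rw [ht, mul_assoc]
      rw [e] at hxy
      have e2 : z * t * (z * t) = t * t := by
        calc z * t * (z * t) = z * (t * z) * t := by group
          _ = z * (z * t) * t := by rw [hzt]
          _ = (z * z) * (t * t) := by group
          _ = t * t := by rw [hX.z_sq, one_mul]
      rw [e2] at hxy
      exact hinv_comm _ _ (hk1 x hx) (hk1 y hy) hxy
  -- step 3/4: `κ (κ w)` is central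
  have hkk : ∀ w ∈ X, kap b (kap b w) = 1 ∨ kap b (kap b w) = z := by
    intro w hw
    have hyX : kap b w ∈ X := hkm hw
    apply hX.center _ (hkm hyX)
    intro x hx
    set y := kap b w with hy
    have hkx := hkm hx
    have hky := hkm hyX
    -- `κ (x y) = κ (y x)`
    have hsymm : kap b (x * y) = kap b (y * x) := by
      rcases hX.comm x hx y hyX with h | h
      · have : x * y = y * x := by
          have h' := mul_inv_eq_one.mp h
          exact mul_inv_eq_iff_eq_mul.mp h'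
        rw [this]
      · have h' : x * y = z * (y * x) := by
          have h1 := mul_inv_eq_iff_eq_mul.mp h
          have h2 := mul_inv_eq_iff_eq_mul.mp h1
          rw [h2, mul_assoc]
        rw [h']
        have hz : z * (y * x) = (y * x) * z := (hX.z_central _ (X.mul_mem hyX hx)).symm
        exact kap_z_mul b z (y * x) hbz hz
    -- `y` commutes with `κ x`
    have hy_kx : y⁻¹ * kap b x * y = kap b x := by
      have hc := hcommK w hw x hx
      -- hc : y * κ x = κ x * y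
      calc y⁻¹ * kap b x * y = y⁻¹ * (kap b x * y) := by group
        _ = y⁻¹ * (y * kap b x) := by rw [← hc]
        _ = kap b x := by group
    have h1 : kap b (x * y) = kap b x * kap b y := by rw [kap_mul, hy_kx]
    have h2 : kap b (y * x) = (x⁻¹ * kap b y * x) * kap b x := kap_mul b y x
    have h3 : kap b x * kap b y = kap b y * kap b x := hcommK x hx y hyX
    have h4 : kap b y * kap b x = (x⁻¹ * kap b y * x) * kap b x := by
      rw [← h3, ← h1, hsymm, h2]
    have h5 : kap b y = x⁻¹ * kap b y * x := mul_right_cancel h4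
    calc kap b y * x = x * (x⁻¹ * kap b y * x) := by group
      _ = x * kap b y := by rw [← h5]
  -- step 5: `b` centralises `X`
  obtain ⟨w, hw, hne⟩ := hnc
  apply hne
  set k := kap b w with hk
  have hkX : k ∈ X := hkm hw
  have hkk1 : k * k = 1 := hk1 w hw
  have hwk : b⁻¹ * w * b = w * k := by rw [hk]; unfold kap; group
  -- δ := κ k
  have hδ : ∃ δ : S, (δ = 1 ∨ δ = z) ∧ b⁻¹ * k * b = k * δ := by
    refine ⟨kap b k, hkk w hw, ?_⟩
    unfold kap; group
  obtain ⟨δ, hδ1, hkb⟩ := hδ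
  have hδδ : δ * δ = 1 := by
    rcases hδ1 with h | h
    · rw [h, one_mul]
    · rw [h, hX.z_sq]
  have hbδ : b⁻¹ * δ * b = δ := by
    rcases hδ1 with h | h
    · rw [h]; group
    · rw [h]
      calc b⁻¹ * z * b = b⁻¹ * (z * b) := by group
        _ = b⁻¹ * (b * z) := by rw [hbz]
        _ = z := by group
  have h2 : b⁻¹ * b⁻¹ * w * b * b = w * δ := by
    calc b⁻¹ * b⁻¹ * w * b * b = b⁻¹ * (b⁻¹ * w * b) * b := by group
      _ = b⁻¹ * (w * k) * b := by rw [hwk]
      _ = (b⁻¹ * w * b) * (b⁻¹ * k * b) := by group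
      _ = (w * k) * (k * δ) := by rw [hwk, hkb]
      _ = w * (k * k) * δ := by group
      _ = w * δ := by rw [hkk1, mul_one]
  have h4 : b⁻¹ * b⁻¹ * (b⁻¹ * b⁻¹ * w * b * b) * b * b = w := by
    rw [h2]
    calc b⁻¹ * b⁻¹ * (w * δ) * b * b
        = (b⁻¹ * b⁻¹ * w * b * b) * (b⁻¹ * (b⁻¹ * δ * b) * b) := by group
      _ = (w * δ) * δ := by rw [h2, hbδ, hbδ]
      _ = w := by rw [mul_assoc, hδδ, mul_one]
  -- `b⁻⁴ w b⁴ = b⁻¹ w b`
  have hb : b⁻¹ = b * b := binv_eq b hb3
  have h5 : b⁻¹ * b⁻¹ * (b⁻¹ * b⁻¹ * w * b * b) * b * b = b⁻¹ * w * b := by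
    have e1 : b⁻¹ * b⁻¹ * b⁻¹ = 1 := by
      have : (b * b * b)⁻¹ = 1 := by rw [hb3, inv_one]
      calc b⁻¹ * b⁻¹ * b⁻¹ = (b * b * b)⁻¹ := by group
        _ = 1 := this
    calc b⁻¹ * b⁻¹ * (b⁻¹ * b⁻¹ * w * b * b) * b * b
        = (b⁻¹ * b⁻¹ * b⁻¹) * b⁻¹ * w * b * (b * b * b) := by group
      _ = b⁻¹ * w * b := by rw [e1, hb3, one_mul, mul_one]
  rw [h5] at h4
  -- h4 : b⁻¹ * w * b = w
  calc b * w = b * (b⁻¹ * w * b) := by rw [h4]
    _ = w * b := by group

/-- **(B3n)**: if `b` centralises an `R<b>`-normal subgroup `X`, then so does `R = [R, b]`. -/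
theorem centralizes_of_b (R X : Subgroup S) (b : S)
    (hRcomm : ⁅R, Subgroup.zpowers b⁆ = R)
    (hXn : NormBy (RB R b) X) (hbX : ∀ g ∈ X, b * g = g * b) :
    ∀ r ∈ R, ∀ g ∈ X, r * g = g * r := by
  -- the centraliser of `X` contains all `R<b>`-conjugates of powers of `b`
  have hRB : ∀ r ∈ R, r ∈ RB R b := fun r hr => (le_sup_left : R ≤ R ⊔ Subgroup.zpowers b) hr
  have hcen : ∀ c ∈ Subgroup.zpowers b, ∀ g ∈ X, c * g = g * c := by
    intro c hc g hg
    obtain ⟨n, rfl⟩ := Subgroup.mem_zpowers_iff.mp hc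
    exact ((Commute.zpow_left (show Commute b g from hbX g hg) n)).eq
  have hle : ⁅R, Subgroup.zpowers b⁆ ≤ Subgroup.centralizer (X : Set S) := by
    rw [Subgroup.commutator_le]
    intro r hr c hc
    rw [Subgroup.mem_centralizer_iff]
    intro g hg
    -- ⁅r, c⁆ = r * c * r⁻¹ * c⁻¹ ; r c r⁻¹ centralises X since X is normalised by r
    have hg' : r⁻¹ * g * r ∈ X := by
      have := hXn r⁻¹ ((RB R b).inv_mem (hRB r hr)) g hg
      simpa using this
    have h1 : (r * c * r⁻¹) * g = g * (r * c * r⁻¹) := by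
      have h2 := hcen c hc _ hg'
      calc (r * c * r⁻¹) * g = r * (c * (r⁻¹ * g * r)) * r⁻¹ := by group
        _ = r * ((r⁻¹ * g * r) * c) * r⁻¹ := by rw [h2]
        _ = g * (r * c * r⁻¹) := by group
    have h3 : c⁻¹ * g = g * c⁻¹ := hcen c⁻¹ ((Subgroup.zpowers b).inv_mem hc) g hg
    rw [commutatorElement_def]
    calc g * (r * c * r⁻¹ * c⁻¹) = (g * (r * c * r⁻¹)) * c⁻¹ := by group
      _ = ((r * c * r⁻¹) * g) * c⁻¹ := by rw [h1]
      _ = (r * c * r⁻¹) * (g * c⁻¹) := by group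
      _ = (r * c * r⁻¹) * (c⁻¹ * g) := by rw [h3]
      _ = r * c * r⁻¹ * c⁻¹ * g := by group
  intro r hr g hg
  have hr0 : r ∈ ⁅R, Subgroup.zpowers b⁆ := by rw [hRcomm]; exact hr
  have hr' : r ∈ Subgroup.centralizer (X : Set S) := hle hr0
  rw [Subgroup.mem_centralizer_iff] at hr'
  exact (hr' g hg).symm

/-- `b` does not centralise an `XS`-subgroup `X ≤ R` that is `R<b>`-normal (when `R = [R,b]`). -/
theorem exists_not_comm (R X : Subgroup S) (b z : S)
    (hRcomm : ⁅R, Subgroup.zpowers b⁆ = R) (hXR : X ≤ R)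
    (hXn : NormBy (RB R b) X) (hX : XS z X) : ∃ g ∈ X, b * g ≠ g * b := by
  by_contra hcon
  push Not at hcon
  have hc := centralizes_of_b R X b hRcomm hXn hcon
  obtain ⟨g, hg, hg1, hgz⟩ := hX.big
  rcases hX.center g hg (fun h hh => hc g (hXR hg) h hh) with h | h
  · exact hg1 h
  · exact hgz h

/-- **(B3) group half in the `LinCtx` frame**: some `g ∈ X` has `(g⁻¹ b⁻¹ g b)² = z`. -/
theorem exists_comm_sq_of_linCtx {E : Type*} [AddCommGroup E] [Module (ZMod 3) E]
    (ρ : Representation (ZMod 3) S E) (R : Subgroup S) (b : S) (W : Submodule (ZMod 3) E)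
    (z : S) (X : Subgroup S) (hL : LinCtx ρ R b W) (hXR : X ≤ R)
    (hXn : NormBy (RB R b) X) (hX : XS z X) (hbz : b * z = z * b) :
    ∃ g ∈ X, (g⁻¹ * b⁻¹ * g * b) * (g⁻¹ * b⁻¹ * g * b) = z := by
  have hb3 : b * b * b = 1 := by
    have h := pow_orderOf_eq_one b
    rw [hL.b_ord] at h
    rw [← h, pow_succ, pow_two]
  have hbRB : b ∈ RB R b :=
    (le_sup_right : Subgroup.zpowers b ≤ R ⊔ Subgroup.zpowers b) (Subgroup.mem_zpowers b)
  exact exists_comm_sq z b X hX hb3 (fun g hg => hXn b hbRB g hg) hbz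
    (exists_not_comm R X b z hL.R_comm hXR hXn hX)

end Cfsg.Agent.Lib.H20.S4415B3G
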