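import Cfsg.Agent.Lib.H10.S4415BadAsm
import Cfsg.Agent.Lib.H25.S4415B3
import Cfsg.Agent.Lib.H20.S4415B3G

/-!
# S4415, step (B3): `theorem b3 : B3Stmt`

Assembly of the group half (`H20.S4415B3G.exists_comm_sq_of_linCtx`), helper25's linear-algebra core
(`H25.S4415B3.finrank_eq_four`) and the extraction of the `Dim4` data from `dim W = 4`.
-/

set_option autoImplicit false

namespace Cfsg.Agent.Lib.H20.S4415B3W

open Cfsg.Agent.Lib.H10.S4415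

universe u v

variable {S : Type u} {E : Type v} [Group S] [AddCommGroup E] [Module (ZMod 3) E]
variable {ρ : Representation (ZMod 3) S E} {R : Subgroup S} {b : S}
  {W : Submodule (ZMod 3) E} {x₁ x₂ x₃ : S} {e₁ e₂ e₃ : E}

theorem zmod3_four_smul (v : E) : v + v + v + v = v := by
  have h : (3 : ZMod 3) = 0 := by decide
  have h3 : v + v + v = (3 : ZMod 3) • v := by
    have : (3 : ZMod 3) = 1 + 1 + 1 := by norm_num
    rw [this, add_smul, add_smul, one_smul]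
  rw [h3, h, zero_smul, zero_add]

/-- independence of `e₀, e₁, e₂, e₃` for a nonzero `Q`-fixed `e₀`. -/
theorem indep4 (hQ : QData ρ R b W x₁ x₂ x₃ e₁ e₂ e₃) (e₀ : E) (he₀ : e₀ ≠ 0)
    (h1 : ρ x₁ e₀ = e₀) (h2 : ρ x₂ e₀ = e₀) (h3 : ρ x₃ e₀ = e₀)
    (c₀ c₁ c₂ c₃ : ZMod 3) (h : c₀ • e₀ + c₁ • e₁ + c₂ • e₂ + c₃ • e₃ = 0) :
    c₀ = 0 ∧ c₁ = 0 ∧ c₂ = 0 ∧ c₃ = 0 := by
  have k1 : c₀ • e₀ + c₁ • e₁ - c₂ • e₂ - c₃ • e₃ = 0 := by
    have := congrArg (ρ x₁) h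
    rw [map_add, map_add, map_add, map_smul, map_smul, map_smul, map_smul, h1, hQ.x₁e₁, hQ.x₁e₂,
      hQ.x₁e₃, map_zero] at this
    rw [← this]; simp only [smul_neg]; abel
  have k2 : c₀ • e₀ - c₁ • e₁ + c₂ • e₂ - c₃ • e₃ = 0 := by
    have := congrArg (ρ x₂) h
    rw [map_add, map_add, map_add, map_smul, map_smul, map_smul, map_smul, h2, hQ.x₂e₁, hQ.x₂e₂,
      hQ.x₂e₃, map_zero] at this
    rw [← this]; simp only [smul_neg]; abel
  have k3 : c₀ • e₀ - c₁ • e₁ - c₂ • e₂ + c₃ • e₃ = 0 := by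
    have := congrArg (ρ x₃) h
    rw [map_add, map_add, map_add, map_smul, map_smul, map_smul, map_smul, h3, hQ.x₃e₁, hQ.x₃e₂,
      hQ.x₃e₃, map_zero] at this
    rw [← this]; simp only [smul_neg]; abel
  have k0 : c₀ • e₀ = 0 := by
    have e : c₀ • e₀ + c₀ • e₀ + c₀ • e₀ + c₀ • e₀ =
        (c₀ • e₀ + c₁ • e₁ + c₂ • e₂ + c₃ • e₃) + (c₀ • e₀ + c₁ • e₁ - c₂ • e₂ - c₃ • e₃) +
        (c₀ • e₀ - c₁ • e₁ + c₂ • e₂ - c₃ • e₃) + (c₀ • e₀ - c₁ • e₁ - c₂ • e₂ + c₃ • e₃) := by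
      abel
    rw [h, k1, k2, k3, add_zero, add_zero, add_zero, zmod3_four_smul] at e
    exact e
  have hc₀ : c₀ = 0 := by
    rcases smul_eq_zero.1 k0 with h' | h'
    · exact h'
    · exact absurd h' he₀
  subst hc₀
  rw [zero_smul, zero_add] at h
  obtain ⟨a, b', c⟩ := Cfsg.Agent.Lib.H25.S4415B3.lin_indep_e hQ c₁ c₂ c₃ h
  exact ⟨rfl, a, b', c⟩

/-- Extraction of the `Dim4` data from `dim W = 4`. -/
theorem dim4_of_finrank [Finite E] (hQ : QData ρ R b W x₁ x₂ x₃ e₁ e₂ e₃)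
    (h4 : Module.finrank (ZMod 3) W = 4) : ∃ e₀ : E, Dim4 ρ b W x₁ x₂ x₃ e₀ e₁ e₂ e₃ := by
  classical
  -- a vector of `W` outside `T = span {e₁,e₂,e₃}`
  set T : Submodule (ZMod 3) E :=
    Submodule.span (ZMod 3) (({e₁, e₂, e₃} : Finset E) : Set E) with hT
  have hTle : Module.finrank (ZMod 3) T ≤ 3 :=
    le_trans (finrank_span_finset_le_card _) Finset.card_le_three
  have hnot : ¬ W ≤ T := by
    intro hle
    have := Submodule.finrank_mono hle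
    omega
  obtain ⟨w, hwW, hwT⟩ := SetLike.not_le_iff_exists.mp hnot
  obtain ⟨w₀, hw₀W, c₁, c₂, c₃, hw, f1, f2, f3, fb⟩ := hQ.decomp w hwW
  have he₁T : e₁ ∈ T := Submodule.subset_span (by simp)
  have he₂T : e₂ ∈ T := Submodule.subset_span (by simp)
  have he₃T : e₃ ∈ T := Submodule.subset_span (by simp)
  have hw₀ne : w₀ ≠ 0 := by
    intro h0
    apply hwT
    rw [hw, h0, zero_add]
    exact T.add_mem (T.add_mem (T.smul_mem _ he₁T) (T.smul_mem _ he₂T)) (T.smul_mem _ he₃T)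
  refine ⟨w₀, ⟨hw₀W, hw₀ne, fb, f1, f2, f3, ?_, ?_⟩⟩
  · -- span
    have hli : LinearIndependent (ZMod 3)
        (![⟨w₀, hw₀W⟩, ⟨e₁, hQ.e₁W⟩, ⟨e₂, hQ.e₂W⟩, ⟨e₃, hQ.e₃W⟩] : Fin 4 → W) := by
      rw [Fintype.linearIndependent_iff]
      intro c hc
      rw [Fin.sum_univ_four] at hc
      have hc' : c 0 • w₀ + c 1 • e₁ + c 2 • e₂ + c 3 • e₃ = 0 := by
        have := congrArg (Subtype.val : W → E) hc
        simpa using this
      obtain ⟨h0, h1, h2, h3⟩ := indep4 hQ w₀ hw₀ne f1 f2 f3 _ _ _ _ hc'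
      intro i
      fin_cases i
      · exact h0
      · exact h1
      · exact h2
      · exact h3
    have hspan := hli.span_eq_top_of_card_eq_finrank' (by rw [Fintype.card_fin, h4])
    intro w' hw'
    have hmem : (⟨w', hw'⟩ : W) ∈ Submodule.span (ZMod 3)
        (Set.range (![⟨w₀, hw₀W⟩, ⟨e₁, hQ.e₁W⟩, ⟨e₂, hQ.e₂W⟩, ⟨e₃, hQ.e₃W⟩] : Fin 4 → W)) := by
      rw [hspan]; exact Submodule.mem_top
    rw [Submodule.mem_span_range_iff_exists_fun] at hmem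
    obtain ⟨c, hc⟩ := hmem
    rw [Fin.sum_univ_four] at hc
    refine ⟨c 0, c 1, c 2, c 3, ?_⟩
    have := congrArg (Subtype.val : W → E) hc
    simpa using this.symm
  · -- independence
    intro c₀ c₁' c₂' c₃' h
    exact indep4 hQ w₀ hw₀ne f1 f2 f3 c₀ c₁' c₂' c₃' h

/-- **(B3)** in the exact shape of the sub-cut. -/
theorem b3 : B3Stmt.{u, v} := by
  intro S _ _ E _ _ _ ρ R b W x₁ x₂ x₃ e₁ e₂ e₃ z X hL hQ hz hXR hXn hX
  have hzR : z ∈ R := hXR hX.zX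
  have hbz : b * z = z * b := neg_comm hL hzR hz b_mem_RB
  obtain ⟨g, hgX, hg⟩ :=
    Cfsg.Agent.Lib.H20.S4415B3G.exists_comm_sq_of_linCtx ρ R b W z X hL hXR hXn hX hbz
  have hsq : ∀ w ∈ W, ρ (g⁻¹ * b⁻¹ * g * b) (ρ (g⁻¹ * b⁻¹ * g * b) w) = -w := by
    intro w hw
    rw [← rho_mul_apply, hg]
    exact hz w hw
  have h4 := Cfsg.Agent.Lib.H25.S4415B3.finrank_eq_four hL hQ g (hXR hgX) hsq
  exact dim4_of_finrank hQ h4

end Cfsg.Agent.Lib.H20.S4415B3W
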