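import Cfsg.Agent.Lib.H10.S4415BadAsm
import Cfsg.Agent.Lib.H24.S4415GDefs
import Cfsg.Agent.Lib.H20.S4415B3W
import Cfsg.Agent.Lib.H14.S4415B9
import Cfsg.Agent.Lib.H21.S4415B4S
import Cfsg.Agent.Lib.H1.S4415B5W

/-!
# S4415, GOOD block, `n = 4`: the endgame `XS z R ⇒ FourStmt conclusion` WITHOUT counting `R`

If `R` itself is an `XS`-group with centre `{1,z}`, `z = -1` on `W`, and `dim W = 4`, then the pieces
of the BAD endgame apply verbatim to `X = R`:  `|R| ≤ 32` (B5), `|R| ≡ 2 (mod 3)` (B4, B4'),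
`R` is a `2`-group (squares in `{1,z}`), `R ≥ E₈` (B10) and `R` is not abelian, so `|R| = 32`, and
(B9) gives the extraspecial conclusion.  So part (d) (`|R| = 32` by counting the monomial group) of
the `n = 4` case is not needed: only `XS z R` (part (e)) has to be produced.
-/

set_option autoImplicit false

namespace Cfsg.Agent.Lib.H20.S4415G5D

open Cfsg.Agent.Lib.H10.S4415

universe u v

variable {S : Type u} {E : Type v} [Group S] [AddCommGroup E] [Module (ZMod 3) E]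
variable {ρ : Representation (ZMod 3) S E} {R : Subgroup S} {b : S}
  {W : Submodule (ZMod 3) E} {x₁ x₂ x₃ : S} {e₁ e₂ e₃ : E}

/-- An `XS`-group is a `2`-group. -/
theorem isPGroup_of_XS {z : S} {X : Subgroup S} (hX : XS z X) : IsPGroup 2 ↥X := by
  intro g
  refine ⟨2, ?_⟩
  have h4 : (g : S) ^ (2 ^ 2) = 1 := by
    have e : (g : S) ^ (2 ^ 2) = ((g : S) * g) * ((g : S) * g) := by
      norm_num [pow_succ]; group
    rw [e]
    rcases hX.sq g g.2 with h | h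
    · rw [h, one_mul]
    · rw [h, hX.z_sq]
  exact Subtype.ext (by simpa using h4)

/-- `dim W = 4` in a monomial frame with four lines. -/
theorem finrank_of_frame4 [Finite E] {f : Fin 4 → E} {φ : ↥(RB R b) → Equiv.Perm (Fin 4)}
    (hM : Cfsg.Agent.Lib.H24.S4415G.MonoFrame ρ R b W f φ) :
    Module.finrank (ZMod 3) W = 4 := by
  have hW : W = Submodule.span (ZMod 3) (Set.range f) := by
    apply le_antisymm
    · intro w hw; exact hM.span w hw
    · rw [Submodule.span_le]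
      rintro _ ⟨i, rfl⟩
      exact hM.fW i
  rw [hW, finrank_span_eq_card hM.indep, Fintype.card_fin]

/-- The endgame with the BAD pieces as hypotheses. -/
theorem four_of_xs_of (h4 : B4Stmt.{u, v}) (h4' : B4'Stmt.{u}) (h5 : B5Stmt.{u, v})
    (h9 : B9Stmt.{u}) (h10 : B10Stmt.{u, v}) [Finite S] [Finite E]
    (hL : LinCtx ρ R b W) (hQ : QData ρ R b W x₁ x₂ x₃ e₁ e₂ e₃)
    (hfr : Module.finrank (ZMod 3) W = 4) (z : S) (hzneg : IsNeg ρ W z) (hXS : XS z R) :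
    Cfsg.IsExtraspecial 2 ↥R ∧ Nat.card ↥R = 32 ∧
      ∃ A : Subgroup S, A ≤ R ∧ Cfsg.IsElementaryAbelian 2 A ∧ Nat.card ↥A = 8 := by
  have hzR : z ∈ R := hXS.zX
  obtain ⟨e₀, hD⟩ := Cfsg.Agent.Lib.H20.S4415B3W.dim4_of_finrank hQ hfr
  have hcard32 := h5 ρ R b W x₁ x₂ x₃ e₀ e₁ e₂ e₃ z R hL hD hzneg le_rfl hXS
  have hRn : NormBy (RB R b) R := normBy_R hL.b_norm
  have hb4 := h4 ρ R b W x₁ x₂ x₃ e₀ e₁ e₂ e₃ z R hL hQ hD hzneg le_rfl hXS
  have hb3 : b * b * b = 1 := by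
    have := pow_orderOf_eq_one b
    rw [hL.b_ord] at this
    rw [← this, pow_succ, pow_two]
  have hbz : b * z = z * b := neg_comm hL hzR hzneg b_mem_RB
  have hmod : Nat.card ↥R % 3 = 2 :=
    h4' b z R hb3 (fun g hg => hRn b b_mem_RB g hg) hXS.zX hXS.z_ne hbz hb4
  obtain ⟨A, hAR, hAel, hA8⟩ := h10 ρ R b W x₁ x₂ x₃ e₁ e₂ e₃ z hL hQ hzR hzneg
  have hR2 : IsPGroup 2 ↥R := isPGroup_of_XS hXS
  obtain ⟨k, hk⟩ := (IsPGroup.iff_card).mp hR2
  have hcardle : Nat.card ↥A ≤ Nat.card ↥R := Subgroup.card_le_of_le hAR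
  have hk5 : k ≤ 5 := by
    by_contra hlt
    have : 2 ^ 6 ≤ 2 ^ k := Nat.pow_le_pow_right (by norm_num) (by omega)
    omega
  have hR32 : Nat.card ↥R = 32 := by
    interval_cases k
    · omega
    · omega
    · omega
    · exfalso
      have hEq : A = R := Subgroup.eq_of_le_of_card_ge hAR (by omega)
      obtain ⟨g, hgX, hg1, hgz⟩ := hXS.big
      have hcomm : ∀ h ∈ R, g * h = h * g := by
        intro h hh
        have hgA : g ∈ A := hEq ▸ hgX
        have hhA : h ∈ A := hEq ▸ hh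
        have := hAel.1.is_comm.comm (⟨g, hgA⟩ : A) ⟨h, hhA⟩
        exact congrArg Subtype.val this
      rcases hXS.center g hgX hcomm with h | h
      · exact hg1 h
      · exact hgz h
    · omega
    · omega
  have hC : Concl R := h9 z R hXS hR32 ⟨A, hAR, hAel, hA8⟩
  rcases hC with ⟨_, h4c⟩ | hC
  · omega
  · exact hC

/-- The endgame with the landed BAD pieces plugged in. -/
theorem four_of_xs [Finite S] [Finite E]
    (hL : LinCtx ρ R b W) (hQ : QData ρ R b W x₁ x₂ x₃ e₁ e₂ e₃)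
    (hfr : Module.finrank (ZMod 3) W = 4) (z : S) (hzneg : IsNeg ρ W z) (hXS : XS z R) :
    Cfsg.IsExtraspecial 2 ↥R ∧ Nat.card ↥R = 32 ∧
      ∃ A : Subgroup S, A ≤ R ∧ Cfsg.IsElementaryAbelian 2 A ∧ Nat.card ↥A = 8 :=
  four_of_xs_of Cfsg.Agent.Lib.H21.S4415B4.b4_stmt Cfsg.Agent.Lib.H14.S4415.b4'
    Cfsg.Agent.Lib.H1.S4415B5W.b5 Cfsg.Agent.Lib.H14.S4415.b9 Cfsg.Agent.Lib.H14.S4415.b10
    hL hQ hfr z hzneg hXS

/-- Frame form: in a monomial frame with four lines, `XS z R` with `z = -1` gives the conclusion of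
`FourStmt`. -/
theorem four_of_frame_xs [Finite S] [Finite E]
    (hL : LinCtx ρ R b W) (hQ : QData ρ R b W x₁ x₂ x₃ e₁ e₂ e₃)
    {f : Fin 4 → E} {φ : ↥(RB R b) → Equiv.Perm (Fin 4)}
    (hM : Cfsg.Agent.Lib.H24.S4415G.MonoFrame ρ R b W f φ)
    (z : S) (hzneg : IsNeg ρ W z) (hXS : XS z R) :
    Cfsg.IsExtraspecial 2 ↥R ∧ Nat.card ↥R = 32 ∧
      ∃ A : Subgroup S, A ≤ R ∧ Cfsg.IsElementaryAbelian 2 A ∧ Nat.card ↥A = 8 :=
  four_of_xs hL hQ (finrank_of_frame4 hM) z hzneg hXS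

end Cfsg.Agent.Lib.H20.S4415G5D
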