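/-
S5401 (architect helper17), piece **S5401-RES** (helper20): restriction of a permutation action on `Fin M` to an invariant
initial segment `Fin K`.
-/
import Mathlib

set_option autoImplicit false

namespace Cfsg.Agent.Lib.H20.FT

theorem exists_restrictHom {E : Type*} [Group E] {K M : ℕ} (hKM : K ≤ M) (inc : E →* Equiv.Perm (Fin M))
    (hinv : ∀ (e : E) (j : Fin M), j.val < K → (inc e j).val < K) :
    ∃ r : E →* Equiv.Perm (Fin K), ∀ (e : E) (j : Fin K), ((r e j : Fin K) : ℕ) = ((inc e (Fin.castLE hKM j) : Fin M) : ℕ) := by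
  have hc : ∀ (j : Fin K), (Fin.castLE hKM j).val < K := fun j => j.2
  let fwd : E → Fin K → Fin K := fun e j => ⟨(inc e (Fin.castLE hKM j)).val, hinv e _ (hc j)⟩
  have hcast : ∀ (e : E) (j : Fin K), Fin.castLE hKM (fwd e j) = inc e (Fin.castLE hKM j) := by
    intro e j
    apply Fin.ext
    rfl
  have hmul : ∀ (e e' : E) (j : Fin K), fwd (e * e') j = fwd e (fwd e' j) := by
    intro e e' j
    apply Fin.ext
    show (inc (e * e') (Fin.castLE hKM j)).val = (inc e (Fin.castLE hKM (fwd e' j))).val
    rw [hcast, map_mul]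
    rfl
  have hone : ∀ j : Fin K, fwd 1 j = j := by
    intro j
    apply Fin.ext
    show (inc 1 (Fin.castLE hKM j)).val = j.val
    rw [map_one]
    rfl
  let r : E → Equiv.Perm (Fin K) := fun e =>
    { toFun := fwd e
      invFun := fwd e⁻¹
      left_inv := fun j => by rw [← hmul, inv_mul_cancel, hone]
      right_inv := fun j => by rw [← hmul, mul_inv_cancel, hone] }
  refine ⟨{ toFun := r, map_one' := ?_, map_mul' := ?_ }, fun e j => rfl⟩
  · apply Equiv.ext
    intro j
    exact hone j
  · intro e e'
    apply Equiv.ext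
    intro j
    exact hmul e e' j

end Cfsg.Agent.Lib.H20.FT
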