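import Mathlib

/-!
# Basics for automorphism groups of a finite abelian group (helper20, for S4305)

`V` is a commutative group (written multiplicatively), and we work with subgroups of `MulAut V`.
`fix1 g` / `fixG K` are the fixed points, `trK K` is the trace (norm) map of a finite subgroup,
`nrm g n` the norm of a single automorphism.
-/

set_option autoImplicit false
set_option linter.unusedSectionVars false
set_option linter.unusedVariables false
set_option linter.style.haveILetI false

namespace Cfsg.Agent.Lib.H20.S3F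

open Subgroup

variable {V : Type*} [CommGroup V]

/-- fixed points of one automorphism -/
def fix1 (g : MulAut V) : Subgroup V where
  carrier := {v | g v = v}
  mul_mem' := by
    intro a b ha hb
    show g (a * b) = a * b
    rw [map_mul, ha, hb]
  one_mem' := map_one g
  inv_mem' := by
    intro a ha
    show g a⁻¹ = a⁻¹
    rw [map_inv, ha]

theorem mem_fix1 {g : MulAut V} {v : V} : v ∈ fix1 g ↔ g v = v := Iff.rfl

/-- fixed points of a subgroup of automorphisms -/
def fixG (K : Subgroup (MulAut V)) : Subgroup V where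
  carrier := {v | ∀ k ∈ K, k v = v}
  mul_mem' := by
    intro a b ha hb k hk
    rw [map_mul, ha k hk, hb k hk]
  one_mem' := fun k _ => map_one k
  inv_mem' := by
    intro a ha k hk
    rw [map_inv, ha k hk]

theorem mem_fixG {K : Subgroup (MulAut V)} {v : V} : v ∈ fixG K ↔ ∀ k ∈ K, k v = v := Iff.rfl

theorem fixG_anti {K L : Subgroup (MulAut V)} (h : K ≤ L) : fixG L ≤ fixG K :=
  fun _ hv k hk => hv k (h hk)

theorem fixG_le_fix1 {K : Subgroup (MulAut V)} {g : MulAut V} (hg : g ∈ K) : fixG K ≤ fix1 g :=
  fun _ hv => hv g hg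

theorem fixG_bot : fixG (⊥ : Subgroup (MulAut V)) = ⊤ := by
  ext v
  simp only [mem_fixG, Subgroup.mem_bot, Subgroup.mem_top, iff_true]
  rintro k rfl
  rfl

/-- fixed points of a join -/
theorem fixG_sup (K L : Subgroup (MulAut V)) : fixG (K ⊔ L) = fixG K ⊓ fixG L := by
  apply le_antisymm
  · exact le_inf (fixG_anti le_sup_left) (fixG_anti le_sup_right)
  · intro v hv
    have hK := (Subgroup.mem_inf.mp hv).1
    have hL := (Subgroup.mem_inf.mp hv).2
    -- the stabilizer of `v`
    let S : Subgroup (MulAut V) :=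
      { carrier := {g | g v = v}
        mul_mem' := by
          intro a b ha hb
          show (a * b) v = v
          rw [MulAut.mul_apply, hb, ha]
        one_mem' := rfl
        inv_mem' := by
          intro a ha
          show a⁻¹ v = v
          have : a⁻¹ (a v) = v := MulAut.inv_apply_self V a v
          rwa [ha] at this }
    have h1 : K ⊔ L ≤ S := sup_le (fun k hk => hK k hk) (fun k hk => hL k hk)
    exact fun k hk => h1 hk

theorem fixG_zpowers (g : MulAut V) : fixG (Subgroup.zpowers g) = fix1 g := by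
  apply le_antisymm
  · exact fixG_le_fix1 (Subgroup.mem_zpowers g)
  · intro v hv
    let S : Subgroup (MulAut V) :=
      { carrier := {g | g v = v}
        mul_mem' := by
          intro a b ha hb
          show (a * b) v = v
          rw [MulAut.mul_apply, hb, ha]
        one_mem' := rfl
        inv_mem' := by
          intro a ha
          show a⁻¹ v = v
          have : a⁻¹ (a v) = v := MulAut.inv_apply_self V a v
          rwa [ha] at this }
    have h1 : Subgroup.zpowers g ≤ S := by
      rw [Subgroup.zpowers_le]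
      exact hv
    exact fun k hk => h1 hk

/-- `g` maps `fixG K` to `fixG (g K g⁻¹)` (elementwise form) -/
theorem apply_mem_fixG {K L : Subgroup (MulAut V)} {g : MulAut V}
    (h : ∀ l ∈ L, g⁻¹ * l * g ∈ K) {v : V} (hv : v ∈ fixG K) : g v ∈ fixG L := by
  intro l hl
  have h1 := hv _ (h l hl)
  rw [MulAut.mul_apply, MulAut.mul_apply] at h1
  have h2 : g (g⁻¹ (l (g v))) = g v := by rw [h1]
  rwa [MulAut.apply_inv_self] at h2

theorem apply_mem_fix1 {g h : MulAut V} (hgh : g * h = h * g) {v : V} (hv : v ∈ fix1 h) :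
    g v ∈ fix1 h := by
  show h (g v) = g v
  rw [← MulAut.mul_apply, ← hgh, MulAut.mul_apply, hv]

section Pow

variable [Finite V]

theorem eq_one_of_pow_eq_one {n : ℕ} (hn : (Nat.card V).Coprime n) {v : V} (hv : v ^ n = 1) :
    v = 1 := by
  have h1 : orderOf v ∣ n := orderOf_dvd_of_pow_eq_one hv
  have h2 : orderOf v ∣ Nat.card V := orderOf_dvd_natCard v
  have h3 : orderOf v ∣ 1 := by
    have := Nat.dvd_gcd h2 h1
    rwa [hn] at this
  exact orderOf_eq_one_iff.mp (Nat.dvd_one.mp h3)

end Pow

/-! ### norm of a single automorphism -/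

/-- the norm `v * g v * ... * g^(n-1) v` -/
def nrm (g : MulAut V) (n : ℕ) (v : V) : V := ∏ i ∈ Finset.range n, (g ^ i) v

theorem apply_nrm {g : MulAut V} {n : ℕ} (hg : g ^ n = 1) (v : V) : g (nrm g n v) = nrm g n v := by
  unfold nrm
  rw [map_prod]
  have h1 : ∀ i ∈ Finset.range n, g ((g ^ i) v) = (g ^ (i + 1)) v := by
    intro i _
    rw [pow_succ', MulAut.mul_apply]
  rw [Finset.prod_congr rfl h1]
  rcases Nat.eq_zero_or_pos n with rfl | hpos
  · simp
  · obtain ⟨m, rfl⟩ : ∃ m, n = m + 1 := ⟨n - 1, by omega⟩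
    rw [Finset.prod_range_succ, Finset.prod_range_succ', hg, pow_zero]

theorem nrm_eq_one {g : MulAut V} {n : ℕ} (hg : g ^ n = 1) (hfix : fix1 g = ⊥) (v : V) :
    nrm g n v = 1 := by
  have : nrm g n v ∈ fix1 g := apply_nrm hg v
  rw [hfix] at this
  exact Subgroup.mem_bot.mp this

theorem nrm_three (g : MulAut V) (v : V) : nrm g 3 v = v * g v * g (g v) := by
  unfold nrm
  rw [Finset.prod_range_succ, Finset.prod_range_succ, Finset.prod_range_one, pow_zero, pow_one,
    pow_two, MulAut.mul_apply]
  rfl

theorem nrm_two (g : MulAut V) (v : V) : nrm g 2 v = v * g v := by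
  unfold nrm
  rw [Finset.prod_range_succ, Finset.prod_range_one, pow_zero, pow_one]
  rfl

/-- relative version: the norm is trivial on an invariant subgroup meeting the fixed points
trivially -/
theorem nrm_eq_one_of_mem {g : MulAut V} {n : ℕ} (hg : g ^ n = 1) {U : Subgroup V}
    (hU : ∀ u ∈ U, g u ∈ U) (hfix : U ⊓ fix1 g = ⊥) {v : V} (hv : v ∈ U) : nrm g n v = 1 := by
  have h1 : nrm g n v ∈ fix1 g := apply_nrm hg v
  have h0 : ∀ i : ℕ, (g ^ i) v ∈ U := by
    intro i
    induction i with
    | zero => simpa using hv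
    | succ i ih =>
      rw [pow_succ', MulAut.mul_apply]
      exact hU _ ih
  have h2 : nrm g n v ∈ U := by
    unfold nrm
    apply Subgroup.prod_mem
    intro i _
    exact h0 i
  have : nrm g n v ∈ U ⊓ fix1 g := Subgroup.mem_inf.mpr ⟨h2, h1⟩
  rw [hfix] at this
  exact Subgroup.mem_bot.mp this

/-! ### trace of a finite subgroup -/

section Trace

variable [Finite V]

/-- the trace (norm) map of a subgroup `K` of automorphisms -/
noncomputable def trK (K : Subgroup (MulAut V)) : V →* V :=
  letI := Fintype.ofFinite K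
  ∏ k : K, ((k : MulAut V) : V ≃* V).toMonoidHom

theorem trK_apply (K : Subgroup (MulAut V)) (v : V) :
    trK K v = letI := Fintype.ofFinite K; ∏ k : K, (k : MulAut V) v := by
  unfold trK
  rw [MonoidHom.finsetProd_apply]
  rfl

theorem apply_trK (K : Subgroup (MulAut V)) {k : MulAut V} (hk : k ∈ K) (v : V) :
    k (trK K v) = trK K v := by
  letI := Fintype.ofFinite K
  rw [trK_apply, map_prod]
  have h1 : ∀ x : K, k ((x : MulAut V) v) = (((⟨k, hk⟩ : K) * x : K) : MulAut V) v := by
    intro x
    rfl
  simp only [h1]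
  exact Fintype.prod_equiv (Equiv.mulLeft (⟨k, hk⟩ : K)) _ _ (fun a => rfl)

theorem trK_mem_fixG (K : Subgroup (MulAut V)) (v : V) : trK K v ∈ fixG K :=
  fun k hk => apply_trK K hk v

theorem trK_of_mem (K : Subgroup (MulAut V)) {v : V} (hv : v ∈ fixG K) :
    trK K v = v ^ Nat.card K := by
  letI := Fintype.ofFinite K
  rw [trK_apply]
  have : ∀ k : K, (k : MulAut V) v = v := fun k => hv k k.2
  simp only [this, Finset.prod_const, Finset.card_univ, Nat.card_eq_fintype_card]

/-- an automorphism commuting elementwise with `K` commutes with the trace -/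
theorem apply_trK_comm (K : Subgroup (MulAut V)) {c : MulAut V} (hc : ∀ k ∈ K, c * k = k * c)
    (v : V) : c (trK K v) = trK K (c v) := by
  letI := Fintype.ofFinite K
  rw [trK_apply, trK_apply, map_prod]
  apply Finset.prod_congr rfl
  intro k _
  rw [← MulAut.mul_apply, hc k k.2, MulAut.mul_apply]

/-- an automorphism normalizing `K` commutes with the trace -/
theorem apply_trK_of_normalizes (K : Subgroup (MulAut V)) {g : MulAut V}
    (hg : ∀ k ∈ K, g * k * g⁻¹ ∈ K) (hg' : ∀ k ∈ K, g⁻¹ * k * g ∈ K)
    (v : V) : g (trK K v) = trK K (g v) := by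
  letI := Fintype.ofFinite K
  rw [trK_apply, trK_apply, map_prod]
  let e : K ≃ K :=
    { toFun := fun k => ⟨g * k * g⁻¹, hg k k.2⟩
      invFun := fun k => ⟨g⁻¹ * k * g, hg' k k.2⟩
      left_inv := by
        intro k
        apply Subtype.ext
        show g⁻¹ * (g * k * g⁻¹) * g = k
        group
      right_inv := by
        intro k
        apply Subtype.ext
        show g * (g⁻¹ * k * g) * g⁻¹ = k
        group }
  refine Fintype.prod_equiv e _ _ ?_
  intro k
  show g ((k : MulAut V) v) = (g * k * g⁻¹) (g v)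
  rw [MulAut.mul_apply, MulAut.mul_apply, MulAut.inv_apply_self]

/-- the trace of `K` sends `fixG L` into `fixG (K ⊔ L)` when `K` and `L` commute elementwise -/
theorem trK_mem_fixG_sup (K L : Subgroup (MulAut V)) (hKL : ∀ k ∈ K, ∀ l ∈ L, l * k = k * l)
    {v : V} (hv : v ∈ fixG L) : trK K v ∈ fixG (K ⊔ L) := by
  rw [fixG_sup]
  refine Subgroup.mem_inf.mpr ⟨trK_mem_fixG K v, ?_⟩
  intro l hl
  rw [apply_trK_comm K (fun k hk => hKL k hk l hl), hv l hl]

end Trace

end Cfsg.Agent.Lib.H20.S3F
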