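import Mathlib
import Cfsg.Agent.Lib.H20.S3F1

/-!
# Two lemmas on fixed-point-free actions (helper20, for S4305)

* `rank_two_fpf_false`: an elementary abelian group of rank two cannot act on a nontrivial abelian
  group of coprime order with all nonidentity elements fixed-point-free.
* `descent`: an automorphism `s` of order three acting fixed-point-freely on `U` and normalizing a
  commutative group `M` each of whose elements is trivial or fixed-point-free on `U` commutes with
  `M` on `U`.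
-/

set_option autoImplicit false
set_option linter.unusedSectionVars false
set_option linter.unusedVariables false
set_option linter.style.haveILetI false

namespace Cfsg.Agent.Lib.H20.S3F

open Subgroup

variable {V : Type*} [CommGroup V]

section ZModPow

variable {q : ℕ} [Fact q.Prime]

theorem pow_val_mul' {M : Type*} [Monoid M] {c : M} (hc : c ^ q = 1) (x y : ZMod q) :
    c ^ (x * y).val = c ^ (x.val * y.val) := by
  rw [ZMod.val_mul]
  conv_rhs => rw [← Nat.mod_add_div (x.val * y.val) q]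
  rw [pow_add, pow_mul, hc, one_pow, mul_one]

theorem prod_zmod_pow_eq_nrm (g : MulAut V) (v : V) :
    ∏ j : ZMod q, (g ^ j.val) v = nrm g q v := by
  obtain ⟨n, rfl⟩ : ∃ n, q = n + 1 := ⟨q - 1, by have := (Fact.out : q.Prime).pos; omega⟩
  unfold nrm
  exact Fin.prod_univ_eq_prod_range (fun i => (g ^ i) v) (n + 1)

end ZModPow

/-- A rank two elementary abelian group cannot act with all nonidentity elements
fixed-point-free. -/
theorem rank_two_fpf_false [Finite V] {q : ℕ} [Fact q.Prime] (a b : MulAut V)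
    (hab : a * b = b * a) (ha : a ^ q = 1) (hb : b ^ q = 1) (hV : (Nat.card V).Coprime q)
    {U : Subgroup V} (hUa : ∀ u ∈ U, a u ∈ U) (hUb : ∀ u ∈ U, b u ∈ U)
    (hfix : ∀ i j : ZMod q, (i ≠ 0 ∨ j ≠ 0) → U ⊓ fix1 (a ^ i.val * b ^ j.val) = ⊥) : U = ⊥ := by
  classical
  rw [eq_bot_iff]
  intro v hv
  rw [Subgroup.mem_bot]
  have hcomm : Commute a b := hab
  -- the elements `c k = a * b ^ k`
  have hc_pow : ∀ k : ZMod q, (a * b ^ k.val) ^ q = 1 := by
    intro k
    rw [(hcomm.pow_right k.val).mul_pow, ha, ← pow_mul, mul_comm, pow_mul, hb, one_pow, mul_one]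
  have hc_inv : ∀ k : ZMod q, ∀ u ∈ U, (a * b ^ k.val) u ∈ U := by
    intro k u hu
    rw [MulAut.mul_apply]
    apply hUa
    have : ∀ n : ℕ, (b ^ n) u ∈ U := by
      intro n
      induction n with
      | zero => simpa using hu
      | succ n ih =>
        rw [pow_succ', MulAut.mul_apply]
        exact hUb _ ih
    exact this _
  have hc_fix : ∀ k : ZMod q, U ⊓ fix1 (a * b ^ k.val) = ⊥ := by
    intro k
    have := hfix 1 k (Or.inl one_ne_zero)
    rwa [ZMod.val_one, pow_one] at this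
  have hb_fix : U ⊓ fix1 b = ⊥ := by
    have := hfix 0 1 (Or.inr one_ne_zero)
    rwa [ZMod.val_zero, pow_zero, one_mul, ZMod.val_one, pow_one] at this
  -- the double product
  set T : V := ∏ i : ZMod q, ∏ j : ZMod q, (a ^ i.val * b ^ j.val) v with hT
  -- first evaluation
  have hT1 : T = 1 := by
    rw [hT]
    apply Finset.prod_eq_one
    intro i _
    have h1 : ∀ j : ZMod q, (a ^ i.val * b ^ j.val) v = (a ^ i.val) ((b ^ j.val) v) :=
      fun j => rfl
    simp only [h1]
    rw [← map_prod, prod_zmod_pow_eq_nrm, nrm_eq_one_of_mem hb hUb hb_fix hv, map_one]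
  -- second evaluation
  have hT2 : T = (v⁻¹) ^ q := by
    rw [hT, ← Finset.mul_prod_erase Finset.univ _ (Finset.mem_univ (0 : ZMod q))]
    have h0 : ∏ j : ZMod q, (a ^ (0 : ZMod q).val * b ^ j.val) v = 1 := by
      simp only [ZMod.val_zero, pow_zero, one_mul]
      rw [prod_zmod_pow_eq_nrm, nrm_eq_one_of_mem hb hUb hb_fix hv]
    rw [h0, one_mul]
    -- reindex the inner products
    have h1 : ∀ i ∈ (Finset.univ : Finset (ZMod q)).erase 0,
        ∏ j : ZMod q, (a ^ i.val * b ^ j.val) v = ∏ k : ZMod q, ((a * b ^ k.val) ^ i.val) v := by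
      intro i hi
      have hi0 : i ≠ 0 := Finset.ne_of_mem_erase hi
      refine (Fintype.prod_equiv (Equiv.mulLeft₀ i hi0) _ _ ?_).symm
      intro k
      show ((a * b ^ k.val) ^ i.val) v = (a ^ i.val * b ^ (i * k).val) v
      rw [(hcomm.pow_right k.val).mul_pow, ← pow_mul, pow_val_mul' hb, mul_comm k.val i.val]
    rw [Finset.prod_congr rfl h1, Finset.prod_comm]
    have h2 : ∀ k : ZMod q, ∏ i ∈ (Finset.univ : Finset (ZMod q)).erase 0,
        ((a * b ^ k.val) ^ i.val) v = v⁻¹ := by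
      intro k
      have h3 := Finset.mul_prod_erase (Finset.univ : Finset (ZMod q))
        (fun i : ZMod q => ((a * b ^ k.val) ^ i.val) v) (Finset.mem_univ (0 : ZMod q))
      simp only [ZMod.val_zero, pow_zero] at h3
      rw [prod_zmod_pow_eq_nrm, nrm_eq_one_of_mem (hc_pow k) (hc_inv k) (hc_fix k) hv] at h3
      have h4 : (1 : MulAut V) v = v := rfl
      rw [h4] at h3
      exact eq_inv_of_mul_eq_one_right h3
    rw [Finset.prod_congr rfl (fun k _ => h2 k), Finset.prod_const, Finset.card_univ, ZMod.card]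
  rw [hT1] at hT2
  have h5 : v ^ q = 1 := by
    rw [inv_pow] at hT2
    exact inv_eq_one.mp hT2.symm
  exact eq_one_of_pow_eq_one hV h5

/-- **Descent lemma.**  `s` of order three, fixed-point-free on the invariant subgroup `U`,
normalizing the commutative group `M` all of whose elements act on `U` trivially or
fixed-point-freely, commutes with `M` on `U`. -/
theorem descent [Finite V] (M : Subgroup (MulAut V)) (hMc : ∀ x ∈ M, ∀ y ∈ M, x * y = y * x)
    (s : MulAut V) (hs3 : s ^ 3 = 1) (hsM : ∀ x ∈ M, s * x * s⁻¹ ∈ M)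
    (U : Subgroup V) (hUM : ∀ x ∈ M, ∀ u ∈ U, x u ∈ U) (hUs : ∀ u ∈ U, s u ∈ U)
    (hsfix : U ⊓ fix1 s = ⊥)
    (hP : ∀ z ∈ M, (∀ u ∈ U, z u = u) ∨ U ⊓ fix1 z = ⊥)
    {m : MulAut V} (hm : m ∈ M) {w : V} (hw : w ∈ U) : (s * m * s⁻¹) w = m w := by
  -- `s⁻¹` preserves `U`
  have hsinv : s⁻¹ = s ^ 2 := by
    have : s ^ 2 * s = 1 := by rw [← pow_succ]; exact hs3
    exact inv_eq_of_mul_eq_one_left this
  have hUs' : ∀ u ∈ U, s⁻¹ u ∈ U := by
    intro u hu
    rw [hsinv, pow_two, MulAut.mul_apply]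
    exact hUs _ (hUs _ hu)
  -- the norm relation
  have hN : ∀ v ∈ U, v * s v * s (s v) = 1 := by
    intro v hv
    rw [← nrm_three]
    exact nrm_eq_one_of_mem hs3 hUs hsfix hv
  obtain ⟨y, hy⟩ : ∃ y : MulAut V, y = m⁻¹ * (s * m * s⁻¹) := ⟨_, rfl⟩
  obtain ⟨y₁, hy₁⟩ : ∃ y₁ : MulAut V, y₁ = s * y * s⁻¹ := ⟨_, rfl⟩
  have hyM : y ∈ M := by rw [hy]; exact M.mul_mem (M.inv_mem hm) (hsM m hm)
  have hy₁M : y₁ ∈ M := by rw [hy₁]; exact hsM y hyM
  have hsm : s * m = m * y * s := by rw [hy]; group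
  have hsy : s * y = y₁ * s := by rw [hy₁]; group
  have hsm' : ∀ x : V, s (m x) = m (y (s x)) := by
    intro x
    have := DFunLike.congr_fun hsm x
    simpa only [MulAut.mul_apply] using this
  have hsy' : ∀ x : V, s (y x) = y₁ (s x) := by
    intro x
    have := DFunLike.congr_fun hsy x
    simpa only [MulAut.mul_apply] using this
  -- key relation (★)
  have hstar0 : ∀ x ∈ U, (y x * x⁻¹) * (y (y₁ (s x)) * (s x)⁻¹) = 1 := by
    intro x hx
    -- apply the norm relation to `m (s⁻¹ x)`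
    obtain ⟨v, hv⟩ : ∃ v : V, v = s⁻¹ x := ⟨_, rfl⟩
    have hvU : v ∈ U := by rw [hv]; exact hUs' x hx
    have hsv : s v = x := by rw [hv]; exact MulAut.apply_inv_self V s x
    have h1 := hN (m v) (hUM m hm v hvU)
    have h2 : s (m v) = m (y (s v)) := hsm' v
    have h3 : s (s (m v)) = m (y (y₁ (s (s v)))) := by
      rw [h2, hsm', hsy']
    rw [h3, h2, ← map_mul, ← map_mul] at h1
    have h4 : v * y (s v) * y (y₁ (s (s v))) = 1 := by
      have := congrArg (m⁻¹ : MulAut V) h1
      rwa [MulAut.inv_apply_self, map_one] at this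
    have h5 := hN v hvU
    rw [hsv] at h4 h5
    -- divide
    have h6 : y x * x⁻¹ * (y (y₁ (s x)) * (s x)⁻¹) = (v * y x * y (y₁ (s x))) * (v * x * s x)⁻¹ := by
      rw [mul_inv, mul_inv]
      have : ∀ a b c d e : V, a * b⁻¹ * (c * d⁻¹) = e * a * c * (e⁻¹ * b⁻¹ * d⁻¹) := by
        intro a b c d e
        calc a * b⁻¹ * (c * d⁻¹) = a * c * (b⁻¹ * d⁻¹) := by
              rw [mul_mul_mul_comm]
          _ = e * a * c * (e⁻¹ * b⁻¹ * d⁻¹) := by
              rw [mul_assoc e⁻¹, mul_comm e a, mul_assoc a e c, mul_comm e c, ← mul_assoc a c e,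
                mul_assoc (a * c) e, mul_inv_cancel_left]
      exact this _ _ _ _ _
    rw [h6, h4, h5, inv_one, mul_one]
  have hstar : ∀ x ∈ U, (y x * x⁻¹) * ((y * y₁) (s x) * (s x)⁻¹) = 1 := hstar0
  -- it suffices that `y` is trivial on `U`
  suffices hy_triv : ∀ u ∈ U, y u = u by
    have h1 := hy_triv w hw
    rw [hy, MulAut.mul_apply] at h1
    have h2 := congrArg m h1
    rwa [MulAut.apply_inv_self] at h2
  rcases hP (y * y₁) (M.mul_mem hyM hy₁M) with htriv | hfpf
  · -- `y y₁` trivial on `U`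
    intro u hu
    have h1 := hstar u hu
    rw [htriv (s u) (hUs u hu), mul_inv_cancel, mul_one] at h1
    exact mul_inv_eq_one.mp h1
  · -- `y y₁` fixed-point-free on `U`: `s` commutes with `M` on `U`
    have hinj : ∀ x ∈ U, (y * y₁) x * x⁻¹ = 1 → x = 1 := by
      intro x hx h
      have : x ∈ U ⊓ fix1 (y * y₁) := Subgroup.mem_inf.mpr ⟨hx, mul_inv_eq_one.mp h⟩
      rw [hfpf] at this
      exact Subgroup.mem_bot.mp this
    have hcomm : ∀ n ∈ M, ∀ x ∈ U, s (n x) = n (s x) := by
      intro n hn x hx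
      -- T₂ (s (n x)) = T₁ (n x) = n (T₁ x) = n (T₂ (s x)) = T₂ (n (s x))
      have h1 := hstar (n x) (hUM n hn x hx)
      have h2 := hstar x hx
      have hny : n * y = y * n := hMc n hn y hyM
      have hnyy : n * (y * y₁) = (y * y₁) * n := hMc n hn _ (M.mul_mem hyM hy₁M)
      have h3 : y (n x) = n (y x) := by rw [← MulAut.mul_apply, ← hny, MulAut.mul_apply]
      have h4 : (y * y₁) (n (s x)) = n ((y * y₁) (s x)) := by
        rw [← MulAut.mul_apply, ← hnyy, MulAut.mul_apply]
      -- apply `n` to `h2`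
      have h5 : n (y x) * (n x)⁻¹ * (n ((y * y₁) (s x)) * (n (s x))⁻¹) = 1 := by
        have := congrArg n h2
        rwa [map_mul, map_mul, map_mul, map_inv, map_inv, map_one] at this
      rw [h3] at h1
      -- compare
      have h6 : (y * y₁) (s (n x)) * (s (n x))⁻¹ = (y * y₁) (n (s x)) * (n (s x))⁻¹ := by
        rw [h4]
        have e1 := eq_inv_of_mul_eq_one_right h1
        have e2 := eq_inv_of_mul_eq_one_right h5
        rw [e1, e2]
      -- injectivity of `T₂` on `U`
      have hd : s (n x) * (n (s x))⁻¹ ∈ U :=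
        U.mul_mem (hUs _ (hUM n hn x hx)) (U.inv_mem (hUM n hn _ (hUs x hx)))
      have h7 : (y * y₁) (s (n x) * (n (s x))⁻¹) * (s (n x) * (n (s x))⁻¹)⁻¹ = 1 := by
        rw [map_mul, map_inv, mul_inv, inv_inv]
        have : ∀ a b c d : V, a * b⁻¹ = c * d⁻¹ → a * c⁻¹ * (b⁻¹ * d) = 1 := by
          intro a b c d h
          calc a * c⁻¹ * (b⁻¹ * d) = (a * b⁻¹) * (c⁻¹ * d) := by rw [mul_mul_mul_comm]
            _ = (c * d⁻¹) * (c⁻¹ * d) := by rw [h]
            _ = 1 := by rw [mul_mul_mul_comm, mul_inv_cancel, inv_mul_cancel, one_mul]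
        exact this _ _ _ _ h6
      have h8 := hinj _ hd h7
      exact mul_inv_eq_one.mp h8
    intro u hu
    -- `y = m⁻¹ s m s⁻¹` and `s m = m s` on `U`
    rw [hy, MulAut.mul_apply, MulAut.mul_apply, MulAut.mul_apply]
    rw [hcomm m hm _ (hUs' u hu), MulAut.apply_inv_self, MulAut.inv_apply_self]

end Cfsg.Agent.Lib.H20.S3F
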