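import Mathlib
import Cfsg.Agent.Lib.H20.S3F2

/-!
# Hyperplane decomposition (helper20, for S4305)

`M` an elementary abelian `q`-group of automorphisms of the finite abelian group `V` of order prime
to `q`, with `fixG M = ⊥`.  The fixed point subgroups `fixG K` of the maximal subgroups `K` of `M`
("hyperplanes") are independent and generate `V`.
-/

set_option autoImplicit false
set_option linter.unusedSectionVars false
set_option linter.unusedVariables false
set_option linter.style.haveILetI false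

namespace Cfsg.Agent.Lib.H20.S3F

open Subgroup

/-- `K` is a maximal proper subgroup of `M` -/
def IsHyp {G : Type*} [Group G] (M K : Subgroup G) : Prop :=
  K ≤ M ∧ K ≠ M ∧ ∀ L : Subgroup G, K ≤ L → L ≤ M → L = K ∨ L = M

section HypBasic

variable {G : Type*} [Group G] {M K K' : Subgroup G}

theorem IsHyp.sup_zpowers (hK : IsHyp M K) {z : G} (hzM : z ∈ M) (hzK : z ∉ K) :
    K ⊔ Subgroup.zpowers z = M := by
  rcases hK.2.2 (K ⊔ Subgroup.zpowers z) le_sup_left
    (sup_le hK.1 (by rw [Subgroup.zpowers_le]; exact hzM)) with h | h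
  · exfalso
    apply hzK
    rw [← h]
    exact (le_sup_right : Subgroup.zpowers z ≤ K ⊔ Subgroup.zpowers z) (Subgroup.mem_zpowers z)
  · exact h

theorem IsHyp.sup_eq (hK : IsHyp M K) (hK' : IsHyp M K') (hne : K ≠ K') : K ⊔ K' = M := by
  rcases hK.2.2 (K ⊔ K') le_sup_left (sup_le hK.1 hK'.1) with h | h
  · exfalso
    have h1 : K' ≤ K := by rw [← h]; exact le_sup_right
    rcases hK'.2.2 K h1 hK.1 with h2 | h2
    · exact hne h2
    · exact hK.2.1 h2
  · exact h

/-- conjugating a hyperplane by an element normalizing `M` -/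
theorem IsHyp.map_conj (hK : IsHyp M K) (g : G) (hg : M.map (MulAut.conj g).toMonoidHom = M) :
    IsHyp M (K.map (MulAut.conj g).toMonoidHom) := by
  have hinj : Function.Injective (MulAut.conj g).toMonoidHom := (MulAut.conj g).injective
  refine ⟨?_, ?_, ?_⟩
  · rw [← hg]
    exact Subgroup.map_mono hK.1
  · intro h
    rw [← hg] at h
    exact hK.2.1 (Subgroup.map_injective hinj h)
  · intro L hKL hLM
    have h1 : K ≤ L.comap (MulAut.conj g).toMonoidHom := Subgroup.map_le_iff_le_comap.mp hKL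
    have h2 : L.comap (MulAut.conj g).toMonoidHom ≤ M := by
      intro x hx
      have : (MulAut.conj g).toMonoidHom x ∈ M := hLM hx
      rw [← hg] at this
      obtain ⟨y, hy, hyx⟩ := this
      rw [← hinj hyx]
      exact hy
    have hsurj : Function.Surjective (MulAut.conj g).toMonoidHom := (MulAut.conj g).surjective
    rcases hK.2.2 _ h1 h2 with h | h
    · left
      rw [← h, Subgroup.map_comap_eq_self_of_surjective hsurj]
    · right
      rw [← hg, ← h, Subgroup.map_comap_eq_self_of_surjective hsurj]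

end HypBasic

variable {V : Type*} [CommGroup V] [Finite V]

/-- a uniform inverse exponent -/
theorem exists_pow_pow_eq {n : ℕ} (hn : (Nat.card V).Coprime n) : ∃ m : ℕ, ∀ v : V, (v ^ n) ^ m = v := by
  by_cases h1 : Nat.card V = 1
  · refine ⟨0, ?_⟩
    intro v
    have : Subsingleton V := (Nat.card_eq_one_iff_unique.mp h1).1
    exact Subsingleton.elim _ _
  · have hk : 1 < Nat.card V := by
      have := Nat.card_pos (α := V)
      omega
    obtain ⟨m, -, hm⟩ := Nat.exists_mul_mod_eq_one_of_coprime hn.symm hk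
    refine ⟨m, ?_⟩
    intro v
    rw [← pow_mul, ← Nat.mod_add_div (n * m) (Nat.card V), hm, pow_add, pow_one, pow_mul,
      pow_card_eq_one', one_pow, mul_one]

/-- standing hypotheses of the hyperplane decomposition -/
structure HD (q : ℕ) (M : Subgroup (MulAut V)) : Prop where
  hq : q.Prime
  comm : ∀ x ∈ M, ∀ y ∈ M, x * y = y * x
  exp : ∀ x ∈ M, x ^ q = 1
  cop : (Nat.card V).Coprime q
  fixM : fixG M = ⊥

namespace HD

variable {q : ℕ} {M : Subgroup (MulAut V)}

theorem card_coprime (h : HD q M) {K : Subgroup (MulAut V)} (hK : K ≤ M) :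
    (Nat.card V).Coprime (Nat.card K) := by
  haveI : Fact q.Prime := ⟨h.hq⟩
  have hp : IsPGroup q K := by
    intro k
    refine ⟨1, ?_⟩
    apply Subtype.ext
    rw [pow_one]
    simpa using h.exp k (hK k.2)
  obtain ⟨n, hn⟩ := IsPGroup.iff_card.mp hp
  rw [hn]
  exact Nat.Coprime.pow_right n h.cop

/-- the trace of a hyperplane kills the fixed points of another hyperplane -/
theorem trK_eq_one (h : HD q M) {K K' : Subgroup (MulAut V)} (hK : IsHyp M K) (hK' : IsHyp M K')
    (hne : K ≠ K') {v : V} (hv : v ∈ fixG K') : trK K v = 1 := by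
  have h1 : trK K v ∈ fixG (K ⊔ K') :=
    trK_mem_fixG_sup K K' (fun k hk l hl => h.comm l (hK'.1 hl) k (hK.1 hk)) hv
  rw [hK.sup_eq hK' hne, h.fixM] at h1
  exact Subgroup.mem_bot.mp h1

/-- **Independence.** -/
theorem indep (h : HD q M) {K : Subgroup (MulAut V)} (hK : IsHyp M K)
    (S : Set (Subgroup (MulAut V))) (hS : ∀ K' ∈ S, IsHyp M K') (hKS : K ∉ S) :
    fixG K ⊓ ⨆ K' ∈ S, fixG K' = ⊥ := by
  rw [eq_bot_iff]
  intro u hu
  rw [Subgroup.mem_bot]
  have hle : (⨆ K' ∈ S, fixG K') ≤ (trK K).ker := by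
    refine iSup₂_le ?_
    intro K' hK' w hw
    rw [MonoidHom.mem_ker]
    exact h.trK_eq_one hK (hS K' hK') (fun e => hKS (e ▸ hK')) hw
  have h1 : trK K u = 1 := MonoidHom.mem_ker.mp (hle (Subgroup.mem_inf.mp hu).2)
  rw [trK_of_mem K (Subgroup.mem_inf.mp hu).1] at h1
  exact eq_one_of_pow_eq_one (h.card_coprime hK.1) h1

/-- an element of `M` outside the hyperplane `K` is fixed-point-free on `fixG K` -/
theorem fix_inf_eq_bot (h : HD q M) {K : Subgroup (MulAut V)} (hK : IsHyp M K) {z : MulAut V}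
    (hzM : z ∈ M) (hzK : z ∉ K) : fixG K ⊓ fix1 z = ⊥ := by
  rw [← fixG_zpowers, ← fixG_sup, hK.sup_zpowers hzM hzK, h.fixM]

/-- `M` preserves the fixed points of its subgroups -/
theorem apply_mem_fixG_of_mem (h : HD q M) {K : Subgroup (MulAut V)} (hK : K ≤ M) {m : MulAut V}
    (hm : m ∈ M) {v : V} (hv : v ∈ fixG K) : m v ∈ fixG K := by
  intro k hk
  rw [← MulAut.mul_apply, h.comm k (hK hk) m hm, MulAut.mul_apply, hv k hk]

/-- the kernel of the traces of all hyperplanes is trivial -/
theorem eq_one_of_forall_trK (h : HD q M) {v : V}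
    (hv : ∀ K : Subgroup (MulAut V), IsHyp M K → trK K v = 1) : v = 1 := by
  classical
  haveI : Fact q.Prime := ⟨h.hq⟩
  -- the subgroup `D` of all such elements
  let D : Subgroup V :=
    { carrier := {v | ∀ K : Subgroup (MulAut V), IsHyp M K → trK K v = 1}
      mul_mem' := by
        intro a b ha hb K hK
        rw [map_mul, ha K hK, hb K hK, one_mul]
      one_mem' := fun K _ => map_one _
      inv_mem' := by
        intro a ha K hK
        rw [map_inv, ha K hK, inv_one] }
  have hDM : ∀ m ∈ M, ∀ d ∈ D, m d ∈ D := by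
    intro m hm d hd K hK
    rw [← apply_trK_comm K (fun k hk => h.comm m hm k (hK.1 hk)), hd K hK, map_one]
  by_contra hv1
  -- the set of nontrivial `M`-invariant subgroups of `D` is nonempty
  let P : Subgroup V → Prop := fun E => E ≤ D ∧ E ≠ ⊥ ∧ ∀ m ∈ M, ∀ e ∈ E, m e ∈ E
  have hPD : P D := by
    refine ⟨le_rfl, ?_, hDM⟩
    intro hD
    apply hv1
    have : v ∈ D := hv
    rw [hD] at this
    exact Subgroup.mem_bot.mp this
  -- a minimal one
  obtain ⟨E, hE, hmin⟩ : ∃ E : Subgroup V, P E ∧ ∀ E' : Subgroup V, P E' → E' ≤ E → E' = E := by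
    have hwf : WellFounded ((· < ·) : Subgroup V → Subgroup V → Prop) := wellFounded_lt
    obtain ⟨E, hE, hmin⟩ := hwf.has_min {E | P E} ⟨D, hPD⟩
    refine ⟨E, hE, ?_⟩
    intro E' hE' hle
    by_contra hne
    exact hmin E' hE' (lt_of_le_of_ne hle hne)
  obtain ⟨hED, hEne, hEM⟩ := hE
  -- every element of `M` is trivial or fixed-point-free on `E`
  have hdich : ∀ m ∈ M, (∀ e ∈ E, m e = e) ∨ E ⊓ fix1 m = ⊥ := by
    intro m hm
    by_cases hb : E ⊓ fix1 m = ⊥
    · exact Or.inr hb
    · left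
      have hP' : P (E ⊓ fix1 m) := by
        refine ⟨inf_le_left.trans hED, hb, ?_⟩
        intro m' hm' e he
        refine Subgroup.mem_inf.mpr ⟨hEM m' hm' e (Subgroup.mem_inf.mp he).1, ?_⟩
        exact apply_mem_fix1 (h.comm m' hm' m hm) (Subgroup.mem_inf.mp he).2
      have := hmin _ hP' inf_le_left
      intro e he
      have he' : e ∈ E ⊓ fix1 m := by rw [this]; exact he
      exact (Subgroup.mem_inf.mp he').2
  -- the kernel
  let K₀ : Subgroup (MulAut V) :=
    { carrier := {g | g ∈ M ∧ ∀ e ∈ E, g e = e}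
      mul_mem' := by
        intro a b ha hb
        refine ⟨M.mul_mem ha.1 hb.1, ?_⟩
        intro e he
        rw [MulAut.mul_apply, hb.2 e he, ha.2 e he]
      one_mem' := ⟨M.one_mem, fun e _ => rfl⟩
      inv_mem' := by
        intro a ha
        refine ⟨M.inv_mem ha.1, ?_⟩
        intro e he
        have : a⁻¹ (a e) = e := MulAut.inv_apply_self V a e
        rwa [ha.2 e he] at this }
  have hK₀M : K₀ ≤ M := fun g hg => hg.1
  have hEK₀ : E ≤ fixG K₀ := fun e he k hk => hk.2 e he
  have hnotK₀ : ∀ m ∈ M, m ∉ K₀ → E ⊓ fix1 m = ⊥ := by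
    intro m hm hmK
    rcases hdich m hm with h1 | h1
    · exact absurd ⟨hm, h1⟩ hmK
    · exact h1
  -- `K₀ = M` or `K₀` is a hyperplane
  have hcases : K₀ = M ∨ IsHyp M K₀ := by
    by_cases hKM : K₀ = M
    · exact Or.inl hKM
    · right
      refine ⟨hK₀M, hKM, ?_⟩
      intro L hKL hLM
      by_contra hcon
      push Not at hcon
      obtain ⟨hLK, hLM'⟩ := hcon
      -- `a ∈ L \ K₀`, `b ∈ M \ L`
      obtain ⟨a, haL, haK⟩ : ∃ a ∈ L, a ∉ K₀ := by
        by_contra hno
        push Not at hno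
        exact hLK (le_antisymm hno hKL)
      obtain ⟨b, hbM, hbL⟩ : ∃ b ∈ M, b ∉ L := by
        by_contra hno
        push Not at hno
        exact hLM' (le_antisymm hLM hno)
      have haM : a ∈ M := hLM haL
      have hEbot : E = ⊥ := by
        refine rank_two_fpf_false (q := q) a b (h.comm a haM b hbM) (h.exp a haM) (h.exp b hbM)
          h.cop (hEM a haM) (hEM b hbM) ?_
        intro i j hij
        apply hnotK₀ _ (M.mul_mem (M.pow_mem haM _) (M.pow_mem hbM _))
        intro hmem
        -- `a ^ i * b ^ j ∈ K₀ ≤ L`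
        by_cases hj : j = 0
        · -- then `a ^ i ∈ K₀` with `i ≠ 0`
          have hi : i ≠ 0 := by
            rcases hij with hi | hj'
            · exact hi
            · exact absurd hj hj'
          rw [hj, ZMod.val_zero, pow_zero, mul_one] at hmem
          -- `a = (a ^ i) ^ i⁻¹`
          have h2 : a = (a ^ i.val) ^ (i⁻¹).val := by
            rw [← pow_mul, ← pow_val_mul' (h.exp a haM), mul_inv_cancel₀ hi, ZMod.val_one, pow_one]
          apply haK
          rw [h2]
          exact K₀.pow_mem hmem _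
        · -- then `b ^ j ∈ L`
          have h1 : b ^ j.val ∈ L := by
            have h2 : a ^ i.val * b ^ j.val ∈ L := hKL hmem
            have h3 : (a ^ i.val)⁻¹ * (a ^ i.val * b ^ j.val) ∈ L :=
              L.mul_mem (L.inv_mem (L.pow_mem haL _)) h2
            rwa [inv_mul_cancel_left] at h3
          have h2 : b = (b ^ j.val) ^ (j⁻¹).val := by
            rw [← pow_mul, ← pow_val_mul' (h.exp b hbM), mul_inv_cancel₀ hj, ZMod.val_one, pow_one]
          apply hbL
          rw [h2]
          exact L.pow_mem h1 _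
      exact hEne hEbot
  rcases hcases with hKM | hKhyp
  · -- `E ≤ fixG M = ⊥`
    apply hEne
    rw [eq_bot_iff]
    calc E ≤ fixG K₀ := hEK₀
      _ = fixG M := by rw [hKM]
      _ = ⊥ := h.fixM
  · -- `E ≤ fixG K₀ ∩ ker (trK K₀)`
    apply hEne
    rw [eq_bot_iff]
    intro e he
    rw [Subgroup.mem_bot]
    have h1 : trK K₀ e = 1 := hED he K₀ hKhyp
    rw [trK_of_mem K₀ (hEK₀ he)] at h1
    exact eq_one_of_pow_eq_one (h.card_coprime hK₀M) h1

/-- **Generation.** -/
theorem gen (h : HD q M) : (⨆ K : {K : Subgroup (MulAut V) // IsHyp M K}, fixG (K : Subgroup (MulAut V))) = ⊤ := by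
  classical
  rw [eq_top_iff]
  intro v _
  -- the finite set of hyperplanes
  have hfin : Set.Finite {K : Subgroup (MulAut V) | IsHyp M K} := Set.toFinite _
  set F : Finset (Subgroup (MulAut V)) := hfin.toFinset with hF
  have hmemF : ∀ K, K ∈ F ↔ IsHyp M K := by
    intro K
    rw [hF, Set.Finite.mem_toFinset]
    rfl
  -- inverse exponents
  have hexp : ∀ K : Subgroup (MulAut V), ∃ m : ℕ, IsHyp M K → ∀ w : V, (w ^ Nat.card K) ^ m = w := by
    intro K
    by_cases hK : IsHyp M K
    · obtain ⟨m, hm⟩ := exists_pow_pow_eq (V := V) (h.card_coprime hK.1)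
      exact ⟨m, fun _ => hm⟩
    · exact ⟨0, fun hK' => absurd hK' hK⟩
  choose a ha using hexp
  set u : V := ∏ K ∈ F, (trK K v) ^ (a K) with hu
  have hterm : ∀ K ∈ F, (trK K v) ^ (a K) ∈ fixG K := fun K _ => (fixG K).pow_mem (trK_mem_fixG K v) _
  have huS : u ∈ ⨆ K : {K : Subgroup (MulAut V) // IsHyp M K}, fixG (K : Subgroup (MulAut V)) := by
    rw [hu]
    apply Subgroup.prod_mem
    intro K hK
    exact Subgroup.mem_iSup_of_mem (⟨K, (hmemF K).mp hK⟩ : {K : Subgroup (MulAut V) // IsHyp M K})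
      (hterm K hK)
  -- `v * u⁻¹` is killed by all traces
  have hkey : v * u⁻¹ = 1 := by
    apply h.eq_one_of_forall_trK
    intro K' hK'
    rw [map_mul, map_inv, hu, map_prod]
    have h1 : ∏ K ∈ F, trK K' ((trK K v) ^ (a K)) = trK K' ((trK K' v) ^ (a K')) := by
      apply Finset.prod_eq_single_of_mem K' ((hmemF K').mpr hK')
      intro K hKF hne
      exact h.trK_eq_one hK' ((hmemF K).mp hKF) (Ne.symm hne) (hterm K hKF)
    rw [h1, map_pow, trK_of_mem K' (trK_mem_fixG K' v), ha K' hK', mul_inv_cancel]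
  have : v = u := mul_inv_eq_one.mp hkey
  rw [this]
  exact huS

/-- an element of `M` lying in every hyperplane with nontrivial fixed points is trivial -/
theorem eq_one_of_forall_mem (h : HD q M) {g : MulAut V}
    (hg : ∀ K : Subgroup (MulAut V), IsHyp M K → fixG K ≠ ⊥ → g ∈ K) : g = 1 := by
  have h1 : (⊤ : Subgroup V) ≤ fix1 g := by
    rw [← h.gen]
    apply iSup_le
    rintro ⟨K, hK⟩
    by_cases hb : fixG K = ⊥
    · show fixG K ≤ fix1 g
      rw [hb]; exact bot_le
    · exact fixG_le_fix1 (hg K hK hb)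
  ext v
  exact h1 (Subgroup.mem_top v)

/-- if `V` is nontrivial some hyperplane has nontrivial fixed points -/
theorem exists_fix_ne_bot (h : HD q M) (hV : (⊤ : Subgroup V) ≠ ⊥) :
    ∃ K : Subgroup (MulAut V), IsHyp M K ∧ fixG K ≠ ⊥ := by
  by_contra hno
  push Not at hno
  apply hV
  rw [← h.gen]
  rw [eq_bot_iff]
  apply iSup_le
  rintro ⟨K, hK⟩
  show fixG K ≤ ⊥
  rw [hno K hK]

/-- independence, finite product form -/
theorem eq_one_of_prod_eq_one (h : HD q M) (S : Finset (Subgroup (MulAut V)))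
    (hS : ∀ K ∈ S, IsHyp M K) (f : Subgroup (MulAut V) → V) (hf : ∀ K ∈ S, f K ∈ fixG K)
    (hprod : ∏ K ∈ S, f K = 1) : ∀ K ∈ S, f K = 1 := by
  classical
  intro K hK
  have h1 := Finset.mul_prod_erase S f hK
  rw [hprod] at h1
  have h2 : f K = (∏ K' ∈ S.erase K, f K')⁻¹ := eq_inv_of_mul_eq_one_left h1
  have h3 : f K ∈ ⨆ K' ∈ ((S.erase K : Finset _) : Set (Subgroup (MulAut V))), fixG K' := by
    rw [h2]
    apply Subgroup.inv_mem
    apply Subgroup.prod_mem
    intro K' hK'
    exact Subgroup.mem_iSup_of_mem K' (Subgroup.mem_iSup_of_mem (Finset.mem_coe.mpr hK')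
      (hf K' (Finset.mem_of_mem_erase hK')))
  have h4 := h.indep (hS K hK) ((S.erase K : Finset _) : Set (Subgroup (MulAut V)))
    (fun K' hK' => hS K' (Finset.mem_of_mem_erase (Finset.mem_coe.mp hK')))
    (by rw [Finset.mem_coe]; exact Finset.notMem_erase K S)
  have h5 : f K ∈ fixG K ⊓ ⨆ K' ∈ ((S.erase K : Finset _) : Set (Subgroup (MulAut V))), fixG K' :=
    Subgroup.mem_inf.mpr ⟨hf K hK, h3⟩
  rw [h4] at h5
  exact Subgroup.mem_bot.mp h5

end HD

end Cfsg.Agent.Lib.H20.S3F
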