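import Mathlib
import Cfsg.Agent.Lib.H20.S3F3

/-!
# Restriction to invariant subgroups, the fixed point / trace-kernel decomposition, and the core
computation of the Hall–Higman type lemma for an automorphism of order three (helper20, S4305)
-/

set_option autoImplicit false
set_option linter.unusedSectionVars false
set_option linter.unusedVariables false
set_option linter.style.haveILetI false

namespace Cfsg.Agent.Lib.H20.S3F

open Subgroup

variable {V : Type*} [CommGroup V]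

/-! ### restriction -/

/-- stabilizer of a subgroup -/
def stabU (U : Subgroup V) : Subgroup (MulAut V) where
  carrier := {g | ∀ v, g v ∈ U ↔ v ∈ U}
  mul_mem' := by
    intro a b ha hb v
    rw [MulAut.mul_apply, ha, hb]
  one_mem' := fun v => Iff.rfl
  inv_mem' := by
    intro a ha v
    rw [← ha (a⁻¹ v), MulAut.apply_inv_self]

theorem mem_stabU {U : Subgroup V} {g : MulAut V} : g ∈ stabU U ↔ ∀ v, g v ∈ U ↔ v ∈ U := Iff.rfl

theorem mem_stabU_of_forall [Finite V] {U : Subgroup V} {g : MulAut V} (h : ∀ u ∈ U, g u ∈ U) :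
    g ∈ stabU U := by
  intro v
  constructor
  · intro hv
    let f : U → U := fun u => ⟨g u, h u u.2⟩
    have hinj : Function.Injective f := fun a b hab =>
      Subtype.ext (g.injective (Subtype.ext_iff.mp hab))
    have hsurj := Finite.surjective_of_injective hinj
    obtain ⟨u, hu⟩ := hsurj ⟨g v, hv⟩
    have h1 : g u = g v := Subtype.ext_iff.mp hu
    rw [← g.injective h1]
    exact u.2
  · exact h v

/-- restriction of automorphisms stabilizing `U` -/
def resU (U : Subgroup V) : ↥(stabU U) →* MulAut ↥U where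
  toFun g :=
    { toFun := fun u => ⟨(g : MulAut V) u, (g.2 u).mpr u.2⟩
      invFun := fun u => ⟨(g : MulAut V)⁻¹ u, ((stabU U).inv_mem g.2 u).mpr u.2⟩
      left_inv := fun u => Subtype.ext (MulAut.inv_apply_self V _ _)
      right_inv := fun u => Subtype.ext (MulAut.apply_inv_self V _ _)
      map_mul' := fun a b => Subtype.ext (map_mul (g : MulAut V) _ _) }
  map_one' := by ext u; rfl
  map_mul' := by intro a b; ext u; rfl

theorem resU_apply (U : Subgroup V) (g : ↥(stabU U)) (u : ↥U) :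
    ((resU U g u : ↥U) : V) = (g : MulAut V) u := rfl

/-- the restriction of a subgroup of automorphisms -/
def resQ (U : Subgroup V) (Q : Subgroup (MulAut V)) : Subgroup (MulAut ↥U) :=
  (Q.subgroupOf (stabU U)).map (resU U)

theorem resU_mem_resQ {U : Subgroup V} {Q : Subgroup (MulAut V)} {g : MulAut V} (hg : g ∈ Q)
    (hgU : g ∈ stabU U) : resU U ⟨g, hgU⟩ ∈ resQ U Q :=
  Subgroup.mem_map.mpr ⟨⟨g, hgU⟩, Subgroup.mem_subgroupOf.mpr hg, rfl⟩

theorem mem_resQ {U : Subgroup V} {Q : Subgroup (MulAut V)} {g' : MulAut ↥U} (h : g' ∈ resQ U Q) :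
    ∃ g, ∃ hgU : g ∈ stabU U, g ∈ Q ∧ resU U ⟨g, hgU⟩ = g' := by
  obtain ⟨⟨g, hgU⟩, hg, rfl⟩ := Subgroup.mem_map.mp h
  exact ⟨g, hgU, Subgroup.mem_subgroupOf.mp hg, rfl⟩

theorem card_resQ_le [Finite V] (U : Subgroup V) (Q : Subgroup (MulAut V)) :
    Nat.card (resQ U Q) ≤ Nat.card Q := by
  have h1 : Nat.card (resQ U Q) ∣ Nat.card (Q.subgroupOf (stabU U)) :=
    Subgroup.card_map_dvd _ _
  have h2 : Nat.card (Q.subgroupOf (stabU U)) ≤ Nat.card Q := by
    apply Nat.card_le_card_of_injective (fun x : Q.subgroupOf (stabU U) =>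
      (⟨((x : stabU U) : MulAut V), Subgroup.mem_subgroupOf.mp x.2⟩ : Q))
    intro a b hab
    apply Subtype.ext
    apply Subtype.ext
    have := congrArg Subtype.val hab
    exact this
  exact (Nat.le_of_dvd Nat.card_pos h1).trans h2

theorem isPGroup_resQ {q : ℕ} {U : Subgroup V} {Q : Subgroup (MulAut V)} (hQ : IsPGroup q Q) :
    IsPGroup q (resQ U Q) :=
  IsPGroup.map (IsPGroup.comap_subtype hQ) _

theorem fix1_resU_eq_bot {U : Subgroup V} {s : MulAut V} (hsU : s ∈ stabU U)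
    (h : U ⊓ fix1 s = ⊥) : fix1 (resU U ⟨s, hsU⟩) = ⊥ := by
  rw [eq_bot_iff]
  intro u hu
  rw [Subgroup.mem_bot]
  have h1 : s (u : V) = u := congrArg Subtype.val (mem_fix1.mp hu)
  have h2 : (u : V) ∈ U ⊓ fix1 s := Subgroup.mem_inf.mpr ⟨u.2, h1⟩
  rw [h] at h2
  exact Subtype.ext (Subgroup.mem_bot.mp h2)

/-- transfer of the conclusion "`s` centralizes `Q`" from the restriction -/
theorem res_conj_eq {U : Subgroup V} {Q : Subgroup (MulAut V)} {s : MulAut V}
    (hQU : Q ≤ stabU U) (hsU : s ∈ stabU U)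
    (h : ∀ g' ∈ resQ U Q, resU U ⟨s, hsU⟩ * g' * (resU U ⟨s, hsU⟩)⁻¹ = g') :
    ∀ g ∈ Q, ∀ u ∈ U, (s * g * s⁻¹) u = g u := by
  intro g hg u hu
  have h1 := h _ (resU_mem_resQ hg (hQU hg))
  rw [← map_inv, ← map_mul, ← map_mul] at h1
  have h2 := congrArg (fun e : MulAut ↥U => ((e ⟨u, hu⟩ : ↥U) : V)) h1
  exact h2

/-- transfer of the hypothesis "`s` normalizes `Q`" to the restriction -/
theorem res_normalizes {U : Subgroup V} {Q : Subgroup (MulAut V)} {s : MulAut V}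
    (hsU : s ∈ stabU U) (hsQ : ∀ g ∈ Q, s * g * s⁻¹ ∈ Q) :
    ∀ g' ∈ resQ U Q, resU U ⟨s, hsU⟩ * g' * (resU U ⟨s, hsU⟩)⁻¹ ∈ resQ U Q := by
  intro g' hg'
  obtain ⟨g, hgU, hg, rfl⟩ := mem_resQ hg'
  rw [← map_inv, ← map_mul, ← map_mul]
  exact resU_mem_resQ (hsQ g hg) _

theorem card_lt_of_ne_top [Finite V] {U : Subgroup V} (hU : U ≠ ⊤) : Nat.card U < Nat.card V := by
  by_contra hcon
  push Not at hcon
  apply hU
  exact Subgroup.eq_top_of_le_card U hcon

theorem card_lt_of_le_of_ne {Γ : Type*} [Group Γ] [Finite Γ] {A B : Subgroup Γ} (hAB : A ≤ B)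
    (hne : A ≠ B) : Nat.card A < Nat.card B := by
  by_contra hcon
  push Not at hcon
  apply hne
  apply le_antisymm hAB
  have h1 : (A.subgroupOf B) = ⊤ := by
    apply Subgroup.eq_top_of_le_card
    rw [Nat.card_congr (Subgroup.subgroupOfEquivOfLe hAB).toEquiv]
    exact hcon
  exact Subgroup.subgroupOf_eq_top.mp h1

/-! ### the decomposition `V = fixG N × ker (trK N)` -/

theorem exists_mul_of_coprime [Finite V] (N : Subgroup (MulAut V))
    (hN : (Nat.card V).Coprime (Nat.card N)) (v : V) :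
    ∃ v₁ ∈ fixG N, ∃ v₂ ∈ (trK N).ker, v = v₁ * v₂ := by
  obtain ⟨m, hm⟩ := exists_pow_pow_eq (V := V) hN
  refine ⟨(trK N v) ^ m, (fixG N).pow_mem (trK_mem_fixG N v) m, v * ((trK N v) ^ m)⁻¹, ?_, ?_⟩
  · rw [MonoidHom.mem_ker, map_mul, map_inv, map_pow, trK_of_mem N (trK_mem_fixG N v), hm,
      mul_inv_cancel]
  · rw [mul_comm v, mul_inv_cancel_left]

theorem fixG_inf_ker_trK [Finite V] (N : Subgroup (MulAut V))
    (hN : (Nat.card V).Coprime (Nat.card N)) : fixG N ⊓ (trK N).ker = ⊥ := by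
  rw [eq_bot_iff]
  intro v hv
  rw [Subgroup.mem_bot]
  have h1 : trK N v = 1 := MonoidHom.mem_ker.mp (Subgroup.mem_inf.mp hv).2
  rw [trK_of_mem N (Subgroup.mem_inf.mp hv).1] at h1
  exact eq_one_of_pow_eq_one hN h1

/-- an automorphism acting trivially everywhere is `1` -/
theorem eq_one_of_forall_apply {g : MulAut V} (h : ∀ v, g v = v) : g = 1 := by
  ext v
  exact h v

theorem fixG_ne_top {N : Subgroup (MulAut V)} (hN : N ≠ ⊥) : fixG N ≠ ⊤ := by
  intro h
  apply hN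
  rw [eq_bot_iff]
  intro n hn
  rw [Subgroup.mem_bot]
  apply eq_one_of_forall_apply
  intro v
  have : v ∈ fixG N := by rw [h]; exact Subgroup.mem_top v
  exact this n hn

/-! ### small group-theoretic facts -/

theorem pow_three_eq_one_of_commute {Γ : Type*} [Group Γ] {s g : Γ} (hs3 : s ^ 3 = 1)
    (h : s * (g⁻¹ * (s * g * s⁻¹)) = (g⁻¹ * (s * g * s⁻¹)) * s) :
    (g⁻¹ * (s * g * s⁻¹)) ^ 3 = 1 := by
  obtain ⟨y, hy⟩ : ∃ y : Γ, y = g⁻¹ * (s * g * s⁻¹) := ⟨_, rfl⟩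
  rw [← hy] at h ⊢
  have hsg : s * g * s⁻¹ = g * y := by rw [hy]; group
  have hsy : ∀ n : ℕ, s * y ^ n * s⁻¹ = y ^ n := by
    intro n
    have : Commute s (y ^ n) := Commute.pow_right h n
    rw [this.eq, mul_inv_cancel_right]
  have key : ∀ n : ℕ, s ^ n * g * (s ^ n)⁻¹ = g * y ^ n := by
    intro n
    induction n with
    | zero => simp
    | succ n ih =>
      calc s ^ (n + 1) * g * (s ^ (n + 1))⁻¹ = s * (s ^ n * g * (s ^ n)⁻¹) * s⁻¹ := by
            rw [pow_succ']; group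
        _ = s * (g * y ^ n) * s⁻¹ := by rw [ih]
        _ = (s * g * s⁻¹) * (s * y ^ n * s⁻¹) := by group
        _ = g * y ^ (n + 1) := by rw [hsg, hsy, pow_succ', mul_assoc]
  have h3 := key 3
  rw [hs3, inv_one, one_mul, mul_one] at h3
  exact (mul_eq_left.mp h3.symm)

theorem eq_one_of_pow_three {Γ : Type*} [Group Γ] {q : ℕ} (hq : q.Prime) (hq3 : q ≠ 3)
    {Q : Subgroup Γ} (hQ : IsPGroup q Q) {y : Γ} (hy : y ∈ Q) (h3 : y ^ 3 = 1) : y = 1 := by
  obtain ⟨k, hk⟩ := hQ ⟨y, hy⟩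
  have hk' : y ^ (q ^ k) = 1 := by
    have := congrArg Subtype.val hk
    simpa using this
  have h1 : orderOf y ∣ 3 := orderOf_dvd_of_pow_eq_one h3
  have h2 : orderOf y ∣ q ^ k := orderOf_dvd_of_pow_eq_one hk'
  have hcop : Nat.Coprime 3 (q ^ k) :=
    Nat.Coprime.pow_right k ((Nat.coprime_primes Nat.prime_three hq).mpr (Ne.symm hq3))
  have h3 : orderOf y ∣ 1 := by
    have := Nat.dvd_gcd h1 h2
    rwa [hcop] at this
  exact orderOf_eq_one_iff.mp (Nat.dvd_one.mp h3)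

/-- the `y³ = 1` trick: if `s` centralizes `g⁻¹ (s g s⁻¹)` then it centralizes `g` -/
theorem conj_eq_of_commute {Γ : Type*} [Group Γ] {q : ℕ} (hq : q.Prime) (hq3 : q ≠ 3)
    {Q : Subgroup Γ} (hQ : IsPGroup q Q) {s g : Γ} (hs3 : s ^ 3 = 1) (hg : g ∈ Q)
    (hsg : s * g * s⁻¹ ∈ Q)
    (h : s * (g⁻¹ * (s * g * s⁻¹)) = (g⁻¹ * (s * g * s⁻¹)) * s) : s * g * s⁻¹ = g := by
  have h1 := eq_one_of_pow_three hq hq3 hQ (Q.mul_mem (Q.inv_mem hg) hsg)
    (pow_three_eq_one_of_commute hs3 h)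
  exact (inv_mul_eq_one.mp h1).symm

/-! ### more on `fix1` and `nrm` -/

theorem fix1_le_fix1_pow (g : MulAut V) (n : ℕ) : fix1 g ≤ fix1 (g ^ n) := by
  intro v hv
  induction n with
  | zero => exact rfl
  | succ n ih =>
    show (g ^ (n + 1)) v = v
    rw [pow_succ, MulAut.mul_apply, hv]
    exact ih

theorem fix1_conj_eq_bot {g x : MulAut V} (h : fix1 x = ⊥) : fix1 (g * x * g⁻¹) = ⊥ := by
  rw [eq_bot_iff]
  intro v hv
  rw [Subgroup.mem_bot]
  have h1 : (g * x * g⁻¹) v = v := hv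
  rw [MulAut.mul_apply, MulAut.mul_apply] at h1
  have h2 : x (g⁻¹ v) = g⁻¹ v := by
    have := congrArg (g⁻¹ : MulAut V) h1
    rwa [MulAut.inv_apply_self] at this
  have h3 : g⁻¹ v ∈ fix1 x := h2
  rw [h] at h3
  have h4 : g⁻¹ v = 1 := Subgroup.mem_bot.mp h3
  have := congrArg g h4
  rwa [MulAut.apply_inv_self, map_one] at this

theorem nrm_mul (g : MulAut V) (n : ℕ) (a b : V) : nrm g n (a * b) = nrm g n a * nrm g n b := by
  unfold nrm
  rw [← Finset.prod_mul_distrib]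
  apply Finset.prod_congr rfl
  intro i _
  rw [map_mul]

theorem nrm_apply_self {g : MulAut V} {n : ℕ} (hg : g ^ n = 1) (v : V) :
    nrm g n (g v) = nrm g n v := by
  have h1 : nrm g n (g v) = g (nrm g n v) := by
    unfold nrm
    rw [map_prod]
    apply Finset.prod_congr rfl
    intro i _
    rw [← MulAut.mul_apply, ← MulAut.mul_apply, ← pow_succ, ← pow_succ']
  rw [h1, apply_nrm hg]

theorem nrm_of_mem_fix1 {g : MulAut V} (n : ℕ) {v : V} (hv : v ∈ fix1 g) : nrm g n v = v ^ n := by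
  unfold nrm
  have : ∀ i ∈ Finset.range n, (g ^ i) v = v := fun i _ => fix1_le_fix1_pow g i hv
  rw [Finset.prod_congr rfl this, Finset.prod_const, Finset.card_range]

/-! ### the core computation -/

theorem hh3_core [Finite V] {q : ℕ} (hcop : (Nat.card V).Coprime q) {s x c : MulAut V}
    (hs3 : s ^ 3 = 1) (hfix : fix1 s = ⊥)
    (h1 : x * (s * x * s⁻¹) * (s * (s * x * s⁻¹) * s⁻¹) = 1)
    (h2 : x * (s * x * s⁻¹) = c * ((s * x * s⁻¹) * x))
    (hcx : c * x = x * c) (hcq : c ^ q = 1) (hcfix : fix1 c = ⊥) (hxq : x ^ q = 1) :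
    fix1 x = ⊥ := by
  rw [eq_bot_iff]
  intro v hv
  rw [Subgroup.mem_bot]
  have hxv : x v = v := hv
  obtain ⟨x₁, hx₁⟩ : ∃ x₁ : MulAut V, x₁ = s * x * s⁻¹ := ⟨_, rfl⟩
  obtain ⟨x₂, hx₂⟩ : ∃ x₂ : MulAut V, x₂ = s * x₁ * s⁻¹ := ⟨_, rfl⟩
  rw [← hx₁] at h1 h2
  rw [← hx₂] at h1
  obtain ⟨u, hu⟩ : ∃ u : V, u = s v := ⟨_, rfl⟩
  obtain ⟨w, hw⟩ : ∃ w : V, w = s u := ⟨_, rfl⟩
  have hN : v * u * w = 1 := by
    have := nrm_eq_one hs3 hfix v
    rwa [nrm_three, ← hu, ← hw] at this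
  have hx₁u : x₁ u = u := by
    rw [hx₁, hu, MulAut.mul_apply, MulAut.mul_apply, MulAut.inv_apply_self, hxv]
  have hx₂w : x₂ w = w := by
    rw [hx₂, hw, MulAut.mul_apply, MulAut.mul_apply, MulAut.inv_apply_self, hx₁u]
  -- `x x₁` fixes `w`
  have h3 : (x * x₁) w = w := by
    have := DFunLike.congr_fun h1 w
    rw [MulAut.mul_apply, hx₂w] at this
    exact this
  have hw' : w = (v * u)⁻¹ := eq_inv_of_mul_eq_one_right hN
  have h4 : (x * x₁) (v * u) = v * u := by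
    have : (x * x₁) ((v * u)⁻¹) = (v * u)⁻¹ := by rw [← hw']; exact h3
    rw [map_inv] at this
    exact inv_injective this
  -- the key equation
  have hE : v * u = c (x₁ v) * x u := by
    conv_lhs => rw [← h4]
    rw [map_mul]
    congr 1
    · rw [h2, MulAut.mul_apply, MulAut.mul_apply, hxv]
    · rw [MulAut.mul_apply, hx₁u]
  -- apply the norm of `x`
  have h5 : nrm x q v * nrm x q u = nrm x q (c (x₁ v)) * nrm x q u := by
    rw [← nrm_mul, hE, nrm_mul, nrm_apply_self hxq]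
  have h6 : nrm x q v = nrm x q (c (x₁ v)) := mul_right_cancel h5
  rw [nrm_of_mem_fix1 q hv] at h6
  -- the norm of `c (x₁ v)` is trivial
  have hxk : ∀ k : ℕ, x ^ k * x₁ = c ^ k * x₁ * x ^ k := by
    intro k
    induction k with
    | zero => simp
    | succ k ih =>
      have hck : c ^ k * x = x * c ^ k := (Commute.pow_left (show Commute c x from hcx) k).eq
      calc x ^ (k + 1) * x₁ = x * (x ^ k * x₁) := by rw [pow_succ', mul_assoc]
        _ = x * (c ^ k * x₁ * x ^ k) := by rw [ih]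
        _ = (x * c ^ k) * x₁ * x ^ k := by simp only [mul_assoc]
        _ = c ^ k * (x * x₁) * x ^ k := by rw [← hck]; simp only [mul_assoc]
        _ = c ^ k * (c * (x₁ * x)) * x ^ k := by rw [h2]
        _ = c ^ (k + 1) * x₁ * x ^ (k + 1) := by rw [pow_succ, pow_succ']; simp only [mul_assoc]
  have hxkv : ∀ k : ℕ, (x ^ k) v = v := fun k => fix1_le_fix1_pow x k hv
  have hcxk : ∀ k : ℕ, x ^ k * c = c * x ^ k := fun k =>
    ((Commute.pow_right (show Commute c x from hcx) k).eq).symm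
  have h7 : nrm x q (c (x₁ v)) = c (nrm c q (x₁ v)) := by
    unfold nrm
    rw [map_prod]
    apply Finset.prod_congr rfl
    intro k _
    have e1 : (x ^ k) (c (x₁ v)) = (x ^ k * c * x₁) v := by
      rw [MulAut.mul_apply, MulAut.mul_apply]
    have e2 : c ((c ^ k) (x₁ v)) = (c * (c ^ k * x₁ * x ^ k)) v := by
      rw [MulAut.mul_apply, MulAut.mul_apply, MulAut.mul_apply, hxkv]
    rw [e1, e2, ← hxk k, hcxk k, mul_assoc]
  rw [h7, nrm_eq_one hcq hcfix, map_one] at h6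
  exact eq_one_of_pow_eq_one hcop h6

end Cfsg.Agent.Lib.H20.S3F
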