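import Cfsg.Agent.Lib.H20.StemDihedral

set_option autoImplicit false

namespace Cfsg.Agent.Lib.H20

open DihedralGroup in
theorem dihedral_closure_eq_top (n : ℕ) :
    Subgroup.closure ({r 1, sr 0} : Set (DihedralGroup n)) = ⊤ := by
  rw [eq_top_iff]
  intro g _
  have hr : ∀ i : ZMod n, r i ∈ Subgroup.closure ({r 1, sr 0} : Set (DihedralGroup n)) := by
    intro i
    obtain ⟨k, rfl⟩ := ZMod.intCast_surjective i
    rw [← r_one_zpow]
    exact Subgroup.zpow_mem _ (Subgroup.subset_closure (by simp)) k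
  cases g with
  | r i => exact hr i
  | sr i =>
    have : (sr i : DihedralGroup n) = sr 0 * r i := by rw [sr_mul_r, zero_add]
    rw [this]
    exact Subgroup.mul_mem _ (Subgroup.subset_closure (by simp)) (hr i)

open DihedralGroup in
/-- Structure of the kernel of a stem extension of a dihedral group. -/
theorem dihedral_stem (n : ℕ) {Γ : Type*} [Group Γ] [Finite Γ] (σ : Γ →* DihedralGroup n)
    (hσ : Cfsg.IsStemExtension σ) :
    ∃ w : Γ, σ.ker ≤ Subgroup.zpowers w ∧ w ^ n = 1 ∧ σ w = r (-2) := by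
  obtain ⟨a, ha⟩ := hσ.1 (r 1)
  obtain ⟨x, hx⟩ := hσ.1 (sr 0)
  have hgen : Subgroup.closure ({σ a, σ x} : Set (DihedralGroup n)) = ⊤ := by
    rw [ha, hx]; exact dihedral_closure_eq_top n
  have hrel : σ x * σ a * (σ x)⁻¹ = (σ a)⁻¹ := by
    rw [ha, hx, inv_sr, inv_r, sr_mul_r, sr_mul_sr]
    congr 1
    ring
  obtain ⟨z, hz, hxa, hker⟩ := stem_ker_le_zpowers σ hσ a x hgen hrel
  refine ⟨a⁻¹ * a⁻¹ * z, hker, ?_, ?_⟩
  · have hzc : ∀ g : Γ, g * z = z * g := fun g => (Subgroup.mem_center_iff.mp (hσ.2.1 hz)) g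
    apply stem_w_pow_eq_one a x z n hzc hxa
    -- a ^ n is in the kernel hence central
    have han : a ^ n ∈ σ.ker := by
      rw [MonoidHom.mem_ker, map_pow, ha, r_one_pow_n]
    have hc := Subgroup.mem_center_iff.mp (hσ.2.1 han)
    rw [hc x]; group
  · rw [map_mul, map_mul, map_inv, ha, MonoidHom.mem_ker.mp hz, mul_one, inv_r, r_mul_r]
    congr 1
    ring

open QuaternionGroup in
theorem quaternion_closure_eq_top (n : ℕ) :
    Subgroup.closure ({a 1, xa 0} : Set (QuaternionGroup n)) = ⊤ := by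
  rw [eq_top_iff]
  intro g _
  have hr : ∀ i : ZMod (2 * n), a i ∈ Subgroup.closure ({a 1, xa 0} : Set (QuaternionGroup n)) := by
    intro i
    obtain ⟨k, rfl⟩ := ZMod.intCast_surjective i
    have : (a (k : ZMod (2 * n)) : QuaternionGroup n) = (a 1) ^ k := by
      induction k using Int.induction_on with
      | zero => simp [a_zero]
      | succ k ih =>
        rw [zpow_add, zpow_one, ← ih, a_mul_a]
        push_cast; rfl
      | pred k ih =>
        rw [zpow_sub, zpow_one, ← ih]
        have : (a 1 : QuaternionGroup n)⁻¹ = a (-1) := rfl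
        rw [this, a_mul_a]
        push_cast; ring_nf
    rw [this]
    exact Subgroup.zpow_mem _ (Subgroup.subset_closure (by simp)) k
  cases g with
  | a i => exact hr i
  | xa i =>
    have : (xa i : QuaternionGroup n) = xa 0 * a i := by rw [xa_mul_a, zero_add]
    rw [this]
    exact Subgroup.mul_mem _ (Subgroup.subset_closure (by simp)) (hr i)

end Cfsg.Agent.Lib.H20
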