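import Cfsg.Agent.Lib.H20.Schur

set_option autoImplicit false

namespace Cfsg.Agent.Lib.H20

open QuaternionGroup DihedralGroup
open scoped commutatorElement

/-- reduction `ZMod (2n) → ZMod n` -/
def zred (n : ℕ) : ZMod (2 * n) →+* ZMod n := ZMod.castHom (Dvd.intro_left 2 rfl) (ZMod n)

theorem zred_n (n : ℕ) : zred n (n : ZMod (2 * n)) = 0 := by
  rw [zred, map_natCast]
  exact ZMod.natCast_self n

/-- The natural map from the dicyclic group of order `4n` onto the dihedral group of order `2n`. -/
def quatToDihedral (n : ℕ) : QuaternionGroup n →* DihedralGroup n where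
  toFun g := match g with
    | a i => r (zred n i)
    | xa i => sr (zred n i)
  map_one' := by
    rw [QuaternionGroup.one_def, DihedralGroup.one_def]
    simp
  map_mul' := by
    intro g h
    cases g <;> cases h
    · simp only [a_mul_a, r_mul_r, map_add]
    · simp only [a_mul_xa, r_mul_sr, map_sub]
    · simp only [xa_mul_a, sr_mul_r, map_add]
    · simp only [xa_mul_xa, sr_mul_sr, map_add, map_sub, zred_n, zero_add]

theorem quatToDihedral_a (n : ℕ) (i : ZMod (2 * n)) : quatToDihedral n (a i) = r (zred n i) := rfl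

theorem quatToDihedral_xa (n : ℕ) (i : ZMod (2 * n)) : quatToDihedral n (xa i) = sr (zred n i) := rfl

theorem quatToDihedral_surjective (n : ℕ) : Function.Surjective (quatToDihedral n) := by
  have hs : Function.Surjective (zred n) := ZMod.castHom_surjective _
  intro g
  cases g with
  | r i => obtain ⟨j, rfl⟩ := hs i; exact ⟨a j, rfl⟩
  | sr i => obtain ⟨j, rfl⟩ := hs i; exact ⟨xa j, rfl⟩

theorem card_ker_quatToDihedral (n : ℕ) [NeZero n] : Nat.card (quatToDihedral n).ker = 2 := by
  have h1 := Subgroup.card_eq_card_quotient_mul_card_subgroup (quatToDihedral n).ker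
  have h2 : Nat.card (QuaternionGroup n ⧸ (quatToDihedral n).ker) = Nat.card (DihedralGroup n) :=
    Nat.card_congr (QuotientGroup.quotientKerEquivOfSurjective _ (quatToDihedral_surjective n)).toEquiv
  rw [h2, DihedralGroup.nat_card, Nat.card_eq_fintype_card, QuaternionGroup.card] at h1
  have hn : 0 < n := Nat.pos_of_ne_zero (NeZero.ne n)
  have : 2 * n * 2 = 2 * n * Nat.card (quatToDihedral n).ker := by rw [← h1]; ring
  exact (Nat.eq_of_mul_eq_mul_left (by omega) this).symm

theorem a_n_mem_ker (n : ℕ) : (a (n : ZMod (2 * n)) : QuaternionGroup n) ∈ (quatToDihedral n).ker := by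
  rw [MonoidHom.mem_ker, quatToDihedral_a, zred_n, DihedralGroup.r_zero]

theorem a_n_ne_one (n : ℕ) [NeZero n] : (a (n : ZMod (2 * n)) : QuaternionGroup n) ≠ 1 := by
  rw [QuaternionGroup.one_def]
  intro h
  injection h with h
  rw [ZMod.natCast_eq_zero_iff] at h
  have hn : 0 < n := Nat.pos_of_ne_zero (NeZero.ne n)
  have := Nat.le_of_dvd hn h
  omega

theorem mem_ker_quatToDihedral (n : ℕ) [NeZero n] (g : QuaternionGroup n)
    (hg : g ∈ (quatToDihedral n).ker) : g = 1 ∨ g = a (n : ZMod (2 * n)) := by
  by_contra hcon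
  rw [not_or] at hcon
  have hcard := card_ker_quatToDihedral n
  rw [Nat.card_eq_two_iff' (1 : (quatToDihedral n).ker)] at hcard
  obtain ⟨y, _, hy⟩ := hcard
  have h1 := hy ⟨g, hg⟩ (by intro h; exact hcon.1 (congrArg Subtype.val h))
  have h2 := hy ⟨a (n : ZMod (2 * n)), a_n_mem_ker n⟩
    (by intro h; exact a_n_ne_one n (congrArg Subtype.val h))
  apply hcon.2
  have := h1.trans h2.symm
  exact congrArg Subtype.val this

theorem quatToDihedral_isStem (n : ℕ) [NeZero n] (hn : Even n) :
    Cfsg.IsStemExtension (quatToDihedral n) := by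
  have h2n : ((n : ZMod (2 * n)) + (n : ZMod (2 * n))) = 0 := by
    have : ((2 * n : ℕ) : ZMod (2 * n)) = 0 := ZMod.natCast_self (2 * n)
    rw [← this]; push_cast; ring
  refine ⟨quatToDihedral_surjective n, ?_, ?_⟩
  · intro g hg
    rcases mem_ker_quatToDihedral n g hg with rfl | rfl
    · exact Subgroup.one_mem _
    · rw [Subgroup.mem_center_iff]
      intro h
      cases h with
      | a j => rw [a_mul_a, a_mul_a, add_comm]
      | xa j =>
        rw [xa_mul_a, a_mul_xa]
        congr 1
        linear_combination h2n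
  · intro g hg
    rcases mem_ker_quatToDihedral n g hg with rfl | rfl
    · exact Subgroup.one_mem _
    · obtain ⟨k, hk⟩ := hn
      -- a n = ⁅xa 0, a k⁆
      have hcomm : (a (n : ZMod (2 * n)) : QuaternionGroup n) = ⁅(xa 0 : QuaternionGroup n), (a (k : ZMod (2 * n)) : QuaternionGroup n)⁆ := by
        rw [commutatorElement_def]
        have hinvxa : ((xa 0 : QuaternionGroup n))⁻¹ = xa ((n : ZMod (2 * n)) + 0) := rfl
        have hinva : ((a (k : ZMod (2 * n)) : QuaternionGroup n))⁻¹ = a (-(k : ZMod (2 * n))) := rfl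
        rw [hinvxa, hinva, xa_mul_a, xa_mul_xa, a_mul_a]
        congr 1
        have hnk : (n : ZMod (2 * n)) = (k : ZMod (2 * n)) + (k : ZMod (2 * n)) := by
          rw [hk]; push_cast; ring
        linear_combination (-1 : ZMod (2 * n)) * hnk
      rw [hcomm, commutator_def]
      exact Subgroup.commutator_mem_commutator (Subgroup.mem_top _) (Subgroup.mem_top _)

end Cfsg.Agent.Lib.H20
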