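import Mathlib
import Cfsg.Agent.Lib.H8.SUN3
import Cfsg.Agent.Lib.H8.SUN4

set_option autoImplicit false

/-!
# Middle frame and the Weyl-type element `wt` for S2282 (helper20, REQUEST-4 L1 + L5 of helper8)

`midP ω n r k` (with `k = 2r+1 < n`) is the `n × k` matrix with columns
`e_0, …, e_(r-1), ω e_r + e_(n-1-r), e_(n-r), …, e_(n-1)`; its Gram matrix for the antidiagonal
hermitian form is `Jn k` when `ω + σ ω = 1`.
`wt σ n hn = -1 + th (e_0 + e_(n-1)) (e_0 + e_(n-1))` swaps `e_0` and `e_(n-1)`.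
-/

namespace Cfsg.Agent.Lib.H20.SunMid

open Matrix Cfsg.Agent.Lib.H8.SUN

variable {F : Type*} [Field F]

theorem hJn_single (σ : F →+* F) {n : ℕ} (a b : Fin n) :
    hJn σ (Pi.single a (1 : F)) (Pi.single b 1) = if (a : ℕ) + b + 1 = n then 1 else 0 := by
  unfold hJn
  rw [Finset.sum_eq_single a]
  · rw [Pi.single_eq_same, one_mul]
    by_cases h : (a : ℕ) + b + 1 = n
    · have h1 : Fin.rev a = b := by
        apply Fin.ext
        rw [Fin.val_rev]
        omega
      rw [if_pos h, h1, Pi.single_eq_same, map_one]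
    · have h1 : Fin.rev a ≠ b := by
        intro h'
        apply h
        rw [← h', Fin.val_rev]
        omega
      rw [if_neg h, Pi.single_eq_of_ne h1, map_zero]
  · intro j _ hj
    rw [Pi.single_eq_of_ne hj, zero_mul]
  · simp

theorem eq_rev_iff {k : ℕ} (i j : Fin k) : i = Fin.rev j ↔ (i : ℕ) + j + 1 = k := by
  rw [Fin.ext_iff, Fin.val_rev]
  omega

/-- the middle frame matrix: columns `e_0..e_(r-1), ω e_r + e_(n-1-r), e_(n-r)..e_(n-1)` -/
def midP (ω : F) (n r k : ℕ) : Matrix (Fin n) (Fin k) F :=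
  Matrix.of fun l j =>
    if (j : ℕ) < r then (if (l : ℕ) = j then 1 else 0)
    else if (j : ℕ) = r then (if (l : ℕ) = r then ω else if (l : ℕ) + r + 1 = n then 1 else 0)
    else (if (l : ℕ) + k = n + j then 1 else 0)

theorem midP_apply (ω : F) (n r k : ℕ) (l : Fin n) (j : Fin k) :
    midP ω n r k l j =
      if (j : ℕ) < r then (if (l : ℕ) = j then 1 else 0)
      else if (j : ℕ) = r then (if (l : ℕ) = r then ω else if (l : ℕ) + r + 1 = n then 1 else 0)
      else (if (l : ℕ) + k = n + j then 1 else 0) := rfl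

theorem midP_col_lt (ω : F) {n r k : ℕ} (j : Fin k) (hj : (j : ℕ) < r) (l0 : Fin n)
    (hl0 : (l0 : ℕ) = j) : (midP ω n r k).col j = Pi.single l0 1 := by
  funext l
  show midP ω n r k l j = _
  rw [midP_apply, if_pos hj]
  by_cases h : l = l0
  · subst h
    rw [if_pos hl0, Pi.single_eq_same]
  · rw [Pi.single_eq_of_ne h, if_neg]
    intro h'
    exact h (Fin.ext (by omega))

theorem midP_col_gt (ω : F) {n r k : ℕ} (j : Fin k) (hj : r < (j : ℕ)) (l0 : Fin n)
    (hl0 : (l0 : ℕ) + k = n + j) : (midP ω n r k).col j = Pi.single l0 1 := by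
  funext l
  show midP ω n r k l j = _
  rw [midP_apply, if_neg (by omega), if_neg (by omega)]
  by_cases h : l = l0
  · subst h
    rw [if_pos hl0, Pi.single_eq_same]
  · rw [Pi.single_eq_of_ne h, if_neg]
    intro h'
    exact h (Fin.ext (by omega))

theorem midP_col_eq (ω : F) {n r k : ℕ} (j : Fin k) (hj : (j : ℕ) = r) (l1 l2 : Fin n)
    (h1 : (l1 : ℕ) = r) (h2 : (l2 : ℕ) + r + 1 = n) (hne : 2 * r + 1 ≠ n) :
    (midP ω n r k).col j = ω • Pi.single l1 1 + Pi.single l2 1 := by
  funext l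
  show midP ω n r k l j = _
  rw [midP_apply, if_neg (by omega), if_pos hj, Pi.add_apply, Pi.smul_apply, smul_eq_mul]
  have h12 : l1 ≠ l2 := by
    intro h
    apply hne
    rw [← h] at h2
    omega
  by_cases ha : l = l1
  · subst ha
    rw [if_pos h1, Pi.single_eq_same, Pi.single_eq_of_ne h12, mul_one, add_zero]
  · have ha' : ¬ (l : ℕ) = r := fun h' => ha (Fin.ext (by omega))
    rw [if_neg ha', Pi.single_eq_of_ne ha, mul_zero, zero_add]
    by_cases hb : l = l2
    · subst hb
      rw [if_pos h2, Pi.single_eq_same]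
    · rw [Pi.single_eq_of_ne hb, if_neg]
      intro h'
      exact hb (Fin.ext (by omega))

theorem gram_apply (σ : F →+* F) {n k : ℕ} (P : Matrix (Fin n) (Fin k) F) (i j : Fin k) :
    (cstn σ P * Jn n F * P) i j = hJn σ (P.col j) (P.col i) := by
  rw [Matrix.mul_apply]
  unfold hJn
  apply Finset.sum_congr rfl
  intro l _
  rw [mul_Jn_apply, cstn_apply]
  show σ (P (Fin.rev l) i) * P l j = P l j * σ (P (Fin.rev l) i)
  ring

section mid

variable {σ : F →+* F} {ω : F} {n r k : ℕ}

theorem hJn_midP_col (hω : ω + σ ω = 1) (hk : k = 2 * r + 1) (hnk : k < n) (i j : Fin k) :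
    hJn σ ((midP ω n r k).col j) ((midP ω n r k).col i) = if i = Fin.rev j then 1 else 0 := by
  have hi := i.2
  have hj := j.2
  have hne : 2 * r + 1 ≠ n := by omega
  have hrev : (if i = Fin.rev j then (1 : F) else 0) = if (i : ℕ) + j + 1 = k then 1 else 0 := by
    simp only [eq_rev_iff]
  rw [hrev]
  rcases lt_trichotomy (j : ℕ) r with hjr | hjr | hjr
  · rw [midP_col_lt (n := n) ω j hjr ⟨j, by omega⟩ rfl]
    rcases lt_trichotomy (i : ℕ) r with hir | hir | hir
    · rw [midP_col_lt (n := n) ω i hir ⟨i, by omega⟩ rfl, hJn_single, if_neg (by simp only; omega),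
        if_neg (by omega)]
    · rw [midP_col_eq ω i hir ⟨r, by omega⟩ ⟨n - 1 - r, by omega⟩ rfl (by simp only; omega) hne,
        hJn_add_right, hJn_smul_right, hJn_single, hJn_single, if_neg (by simp only; omega),
        if_neg (by simp only; omega), if_neg (by omega), mul_zero, add_zero]
    · rw [midP_col_gt ω i hir ⟨n - k + i, by omega⟩ (by simp only; omega), hJn_single]
      by_cases h : (i : ℕ) + j + 1 = k
      · rw [if_pos h, if_pos (by simp only; omega)]
      · rw [if_neg h, if_neg (by simp only; omega)]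
  · rw [midP_col_eq ω j hjr ⟨r, by omega⟩ ⟨n - 1 - r, by omega⟩ rfl (by simp only; omega) hne]
    rcases lt_trichotomy (i : ℕ) r with hir | hir | hir
    · rw [midP_col_lt (n := n) ω i hir ⟨i, by omega⟩ rfl, hJn_add_left, hJn_smul_left, hJn_single,
        hJn_single, if_neg (by simp only; omega), if_neg (by simp only; omega),
        if_neg (by omega), mul_zero, add_zero]
    · rw [midP_col_eq ω i hir ⟨r, by omega⟩ ⟨n - 1 - r, by omega⟩ rfl (by simp only; omega) hne,
        hJn_add_left, hJn_add_right, hJn_add_right, hJn_smul_left, hJn_smul_left,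
        hJn_smul_right, hJn_smul_right, hJn_single, hJn_single, hJn_single, hJn_single,
        if_neg (by simp only; omega), if_pos (by simp only; omega),
        if_pos (by simp only; omega), if_neg (by simp only; omega), if_pos (by omega)]
      linear_combination hω
    · rw [midP_col_gt ω i hir ⟨n - k + i, by omega⟩ (by simp only; omega), hJn_add_left,
        hJn_smul_left, hJn_single, hJn_single, if_neg (by simp only; omega),
        if_neg (by simp only; omega), if_neg (by omega), mul_zero, add_zero]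
  · rw [midP_col_gt ω j hjr ⟨n - k + j, by omega⟩ (by simp only; omega)]
    rcases lt_trichotomy (i : ℕ) r with hir | hir | hir
    · rw [midP_col_lt (n := n) ω i hir ⟨i, by omega⟩ rfl, hJn_single]
      by_cases h : (i : ℕ) + j + 1 = k
      · rw [if_pos h, if_pos (by simp only; omega)]
      · rw [if_neg h, if_neg (by simp only; omega)]
    · rw [midP_col_eq ω i hir ⟨r, by omega⟩ ⟨n - 1 - r, by omega⟩ rfl (by simp only; omega) hne,
        hJn_add_right, hJn_smul_right, hJn_single, hJn_single, if_neg (by simp only; omega),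
        if_neg (by simp only; omega), if_neg (by omega), mul_zero, add_zero]
    · rw [midP_col_gt ω i hir ⟨n - k + i, by omega⟩ (by simp only; omega), hJn_single,
        if_neg (by simp only; omega), if_neg (by omega)]

/-- **L1**: the Gram matrix of the middle frame -/
theorem midP_gram (hω : ω + σ ω = 1) (hk : k = 2 * r + 1) (hnk : k < n) :
    cstn σ (midP ω n r k) * Jn n F * midP ω n r k = Jn k F := by
  ext i j
  rw [gram_apply, hJn_midP_col hω hk hnk, Jn_apply]

/-- the middle sub-frame -/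
def midFrame (hω : ω + σ ω = 1) (hk : k = 2 * r + 1) (hnk : k < n) : SubFrame σ n k :=
  ⟨midP ω n r k, midP_gram hω hk hnk⟩

@[simp] theorem midFrame_P (hω : ω + σ ω = 1) (hk : k = 2 * r + 1) (hnk : k < n) :
    (midFrame (σ := σ) hω hk hnk).P = midP ω n r k := rfl

/-- first column of `midP` -/
theorem midP_mulVec_first (hr : 1 ≤ r) (j0 : Fin k) (hj0 : (j0 : ℕ) = 0) (l0 : Fin n)
    (hl0 : (l0 : ℕ) = 0) : midP ω n r k *ᵥ Pi.single j0 1 = Pi.single l0 1 := by
  rw [Matrix.mulVec_single_one]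
  exact midP_col_lt ω j0 (by omega) l0 (by omega)

/-- last column of `midP` -/
theorem midP_mulVec_last (hk : k = 2 * r + 1) (hr : 1 ≤ r) (j0 : Fin k)
    (hj0 : (j0 : ℕ) + 1 = k) (l0 : Fin n) (hl0 : (l0 : ℕ) + 1 = n) :
    midP ω n r k *ᵥ Pi.single j0 1 = Pi.single l0 1 := by
  rw [Matrix.mulVec_single_one]
  exact midP_col_gt ω j0 (by omega) l0 (by omega)

end mid

/-! ### L5: the element `wt` -/

/-- `e_0` -/
def e0 (F : Type*) [Field F] (n : ℕ) (hn : 0 < n) : Fin n → F := Pi.single ⟨0, hn⟩ 1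

/-- `e_(n-1)` -/
def el (F : Type*) [Field F] (n : ℕ) (hn : 0 < n) : Fin n → F :=
  Pi.single ⟨n - 1, Nat.sub_lt hn Nat.one_pos⟩ 1

/-- the reflection-like element swapping `e_0` and `e_(n-1)`, `-1` on their orthogonal complement -/
def wt (σ : F →+* F) (n : ℕ) (hn : 0 < n) : Matrix (Fin n) (Fin n) F :=
  -1 + th σ (e0 F n hn + el F n hn) (e0 F n hn + el F n hn)

section wt

variable {σ : F →+* F} {n : ℕ}

theorem hJn_e0_e0 (hn : 2 ≤ n) : hJn σ (e0 F n (by omega)) (e0 F n (by omega)) = 0 := by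
  unfold e0
  rw [hJn_single, if_neg (by simp only; omega)]

theorem hJn_el_el (hn : 2 ≤ n) : hJn σ (el F n (by omega)) (el F n (by omega)) = 0 := by
  unfold el
  rw [hJn_single, if_neg (by simp only; omega)]

theorem hJn_e0_el (hn : 0 < n) : hJn σ (e0 F n hn) (el F n hn) = 1 := by
  unfold e0 el
  rw [hJn_single, if_pos (by simp only; omega)]

theorem hJn_el_e0 (hn : 0 < n) : hJn σ (el F n hn) (e0 F n hn) = 1 := by
  unfold e0 el
  rw [hJn_single, if_pos (by simp only; omega)]

theorem hJn_p_p (hn : 2 ≤ n) :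
    hJn σ (e0 F n (by omega) + el F n (by omega)) (e0 F n (by omega) + el F n (by omega)) = 2 := by
  rw [hJn_add_left, hJn_add_right, hJn_add_right, hJn_e0_e0 hn, hJn_el_el hn, hJn_e0_el,
    hJn_el_e0]
  norm_num

theorem wt_mulVec (hn : 0 < n) (x : Fin n → F) :
    wt σ n hn *ᵥ x = -x + hJn σ x (e0 F n hn + el F n hn) • (e0 F n hn + el F n hn) := by
  unfold wt
  rw [Matrix.add_mulVec, Matrix.neg_mulVec, Matrix.one_mulVec, th_mulVec]

theorem dagn_wt (hσ : ∀ x, σ (σ x) = x) (hn : 0 < n) : dagn σ (wt σ n hn) = wt σ n hn := by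
  unfold wt
  rw [dagn_add, dagn_neg, dagn_one, dagn_th σ hσ]

theorem wt_mul_wt (hn : 2 ≤ n) : wt σ n (by omega) * wt σ n (by omega) = 1 := by
  unfold wt
  rw [Matrix.add_mul, Matrix.mul_add, Matrix.mul_add, th_mul_th, hJn_p_p hn]
  simp only [Matrix.neg_mul, Matrix.mul_neg, Matrix.one_mul, Matrix.mul_one, neg_neg]
  rw [two_smul]
  abel

/-- **L5 (a)** -/
theorem wt_unitary (hσ : ∀ x, σ (σ x) = x) (hn : 2 ≤ n) :
    dagn σ (wt σ n (by omega)) * wt σ n (by omega) = 1 := by
  rw [dagn_wt hσ, wt_mul_wt hn]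

/-- **L5 (b)** -/
theorem det_wt (hn : 2 ≤ n) (hodd : Odd n) : (wt σ n (by omega)).det = 1 := by
  have h1 : wt σ n (by omega) =
      -(1 + (-1 : F) • th σ (e0 F n (by omega) + el F n (by omega))
        (e0 F n (by omega) + el F n (by omega))) := by
    unfold wt
    rw [neg_one_smul, neg_add, neg_neg]
  rw [h1, Matrix.det_neg, det_one_add_th, hJn_p_p hn, Fintype.card_fin, hodd.neg_one_pow]
  ring

/-- `wt` swaps `e_0` and `e_(n-1)` -/
theorem wt_mulVec_e0 (hn : 2 ≤ n) : wt σ n (by omega) *ᵥ e0 F n (by omega) = el F n (by omega) := by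
  rw [wt_mulVec, hJn_add_right, hJn_e0_e0 hn, hJn_e0_el, zero_add, one_smul]
  abel

theorem wt_mulVec_el (hn : 2 ≤ n) : wt σ n (by omega) *ᵥ el F n (by omega) = e0 F n (by omega) := by
  rw [wt_mulVec, hJn_add_right, hJn_el_el hn, hJn_el_e0, add_zero, one_smul]
  abel

/-- `wt` is `-1` on vectors orthogonal to `e_0` and `e_(n-1)` -/
theorem wt_mulVec_of_perp (hn : 0 < n) {x : Fin n → F} (h0 : hJn σ x (e0 F n hn) = 0)
    (hl : hJn σ x (el F n hn) = 0) : wt σ n hn *ᵥ x = -x := by
  rw [wt_mulVec, hJn_add_right, h0, hl, add_zero, zero_smul, add_zero]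

/-- **L5 (c)**: `wt` acts on the middle 3-frame as `wM` -/
theorem wt_mul_midP {ω : F} (hn : 3 < n) :
    wt σ n (by omega) * midP ω n 1 3 = midP ω n 1 3 * Cfsg.Agent.Lib.H8.SU3Gen.wM F := by
  have c0 : (midP ω n 1 3).col 0 = e0 F n (by omega) :=
    midP_col_lt ω (0 : Fin 3) (by simp) ⟨0, by omega⟩ rfl
  have c2 : (midP ω n 1 3).col 2 = el F n (by omega) :=
    midP_col_gt ω (2 : Fin 3) (by simp) ⟨n - 1, by omega⟩ (by simp only; simp; omega)
  have c1 : (midP ω n 1 3).col 1 =
      ω • Pi.single (⟨1, by omega⟩ : Fin n) 1 + Pi.single (⟨n - 2, by omega⟩ : Fin n) 1 :=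
    midP_col_eq ω (1 : Fin 3) (by simp) ⟨1, by omega⟩ ⟨n - 2, by omega⟩ rfl
      (by simp only; omega) (by omega)
  have h1 : wt σ n (by omega) *ᵥ (midP ω n 1 3).col 1 = -(midP ω n 1 3).col 1 := by
    apply wt_mulVec_of_perp
    · rw [c1]
      unfold e0
      rw [hJn_add_left, hJn_smul_left, hJn_single, hJn_single, if_neg (by simp only; omega),
        if_neg (by simp only; omega), mul_zero, add_zero]
    · rw [c1]
      unfold el
      rw [hJn_add_left, hJn_smul_left, hJn_single, hJn_single, if_neg (by simp only; omega),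
        if_neg (by simp only; omega), mul_zero, add_zero]
  have h0 : wt σ n (by omega) *ᵥ (midP ω n 1 3).col 0 = (midP ω n 1 3).col 2 := by
    rw [c0, c2, wt_mulVec_e0 (by omega)]
  have h2 : wt σ n (by omega) *ᵥ (midP ω n 1 3).col 2 = (midP ω n 1 3).col 0 := by
    rw [c0, c2, wt_mulVec_el (by omega)]
  ext l j
  have hL : (wt σ n (by omega) * midP ω n 1 3) l j =
      (wt σ n (by omega) *ᵥ (midP ω n 1 3).col j) l := by
    rw [Matrix.mul_apply]; rfl
  rw [hL]
  fin_cases j
  · show (wt σ n (by omega) *ᵥ (midP ω n 1 3).col 0) l = _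
    rw [h0, Matrix.mul_apply, Fin.sum_univ_three]
    simp [Cfsg.Agent.Lib.H8.SU3Gen.wM, Matrix.col]
  · show (wt σ n (by omega) *ᵥ (midP ω n 1 3).col 1) l = _
    rw [h1, Matrix.mul_apply, Fin.sum_univ_three]
    simp [Cfsg.Agent.Lib.H8.SU3Gen.wM, Matrix.col]
  · show (wt σ n (by omega) *ᵥ (midP ω n 1 3).col 2) l = _
    rw [h2, Matrix.mul_apply, Fin.sum_univ_three]
    simp [Cfsg.Agent.Lib.H8.SU3Gen.wM, Matrix.col]

/-- a matrix whose row and column at an index are trivial fixes the basis vector -/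
theorem mulVec_single_of_trivial_col (C : Matrix (Fin n) (Fin n) F) (i : Fin n)
    (hd : C i i = 1) (hc : ∀ j, i ≠ j → C j i = 0) :
    C *ᵥ Pi.single i 1 = Pi.single i 1 := by
  rw [Matrix.mulVec_single_one]
  funext l
  show C l i = _
  by_cases h : l = i
  · subst h; rw [hd, Pi.single_eq_same]
  · rw [hc l (Ne.symm h), Pi.single_eq_of_ne h]

/-- **L5 (d)**: `wt` commutes with a unitary `C` that is trivial on the outer indices -/
theorem wt_mul_comm (hσ : ∀ x, σ (σ x) = x) {r : ℕ} (hr : 1 ≤ r) (hn : 0 < n)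
    (C : Matrix (Fin n) (Fin n) F) (hC2 : ∀ i, C i i = 1)
    (hC3 : ∀ i j : Fin n, ((i : ℕ) < r ∨ n ≤ (i : ℕ) + r) → i ≠ j → C i j = 0 ∧ C j i = 0)
    (hCu : dagn σ C * C = 1) : wt σ n hn * C = C * wt σ n hn := by
  have h0 : C *ᵥ e0 F n hn = e0 F n hn := by
    unfold e0
    exact mulVec_single_of_trivial_col C _ (hC2 _)
      (fun j hj => (hC3 _ j (Or.inl (by simp only; omega)) hj).2)
  have hl : C *ᵥ el F n hn = el F n hn := by
    unfold el
    exact mulVec_single_of_trivial_col C _ (hC2 _)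
      (fun j hj => (hC3 _ j (Or.inr (by simp only; omega)) hj).2)
  have hp : C *ᵥ (e0 F n hn + el F n hn) = e0 F n hn + el F n hn := by
    rw [Matrix.mulVec_add, h0, hl]
  have hp' : dagn σ C *ᵥ (e0 F n hn + el F n hn) = e0 F n hn + el F n hn := by
    conv_lhs => rw [← hp]
    rw [Matrix.mulVec_mulVec, hCu, Matrix.one_mulVec]
  unfold wt
  rw [Matrix.add_mul, Matrix.mul_add, th_mul σ hσ, mul_th, hp, hp']
  simp

end wt

end Cfsg.Agent.Lib.H20.SunMid
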