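import Mathlib

set_option autoImplicit false

namespace Cfsg.Agent.Lib.H20

/-- The conjugation map `(K ⧸ A) × A → K` using coset representatives. -/
noncomputable def conjRep {K : Type*} [Group K] (A : Subgroup K) (z : (K ⧸ A) × A) : K :=
  z.1.out * (z.2 : K) * z.1.out⁻¹

theorem conjRep_injOn {K : Type*} [Group K] (A : Subgroup K)
    (mA : ∀ k x : K, x ∈ A → x ≠ 1 → k * x * k⁻¹ ∈ A → k ∈ A)
    (z w : (K ⧸ A) × A) (hz : (z.2 : K) ≠ 1) (h : conjRep A z = conjRep A w) : z = w := by
  obtain ⟨q, x⟩ := z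
  obtain ⟨q', x'⟩ := w
  simp only [conjRep] at h hz
  have h1 : (q'.out⁻¹ * q.out) * (x : K) * (q'.out⁻¹ * q.out)⁻¹ = (x' : K) := by
    have : (x' : K) = q'.out⁻¹ * (q'.out * (x' : K) * q'.out⁻¹) * q'.out := by group
    rw [this, ← h]; group
  have hk : q'.out⁻¹ * q.out ∈ A := mA _ _ x.2 hz (h1 ▸ x'.2)
  have hq : q = q' := by
    rw [← QuotientGroup.out_eq' q, ← QuotientGroup.out_eq' q']
    exact (QuotientGroup.eq.mpr hk).symm
  subst hq
  have hx : (x : K) = (x' : K) := by
    have h2 : q.out * (x : K) * q.out⁻¹ = q.out * (x' : K) * q.out⁻¹ := h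
    exact mul_left_cancel (mul_right_cancel h2)
  rw [Prod.mk.injEq]
  exact ⟨rfl, Subtype.ext hx⟩

/-- Two nontrivial malnormal subgroups whose conjugates meet trivially cannot coexist in a
finite group. -/
theorem false_of_two_malnormal {K : Type*} [Group K] [Finite K] (A B : Subgroup K)
    (mA : ∀ k x : K, x ∈ A → x ≠ 1 → k * x * k⁻¹ ∈ A → k ∈ A)
    (mB : ∀ k x : K, x ∈ B → x ≠ 1 → k * x * k⁻¹ ∈ B → k ∈ B)
    (dAB : ∀ k x : K, x ∈ A → k * x * k⁻¹ ∈ B → x = 1)
    (hA : A ≠ ⊥) (hB : B ≠ ⊥) : False := by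
  classical
  haveI : Fintype K := Fintype.ofFinite K
  haveI : Fintype (K ⧸ A) := Fintype.ofFinite _
  haveI : Fintype (K ⧸ B) := Fintype.ofFinite _
  haveI : Fintype A := Fintype.ofFinite _
  haveI : Fintype B := Fintype.ofFinite _
  obtain ⟨a₀, ha₀, ha₀1⟩ : ∃ a : K, a ∈ A ∧ a ≠ 1 := by
    obtain ⟨a, ha⟩ := Subgroup.ne_bot_iff_exists_ne_one.mp hA
    exact ⟨a, a.2, fun h1 => ha (Subtype.ext h1)⟩
  obtain ⟨b₀, hb₀, hb₀1⟩ : ∃ b : K, b ∈ B ∧ b ≠ 1 := by
    obtain ⟨b, hb⟩ := Subgroup.ne_bot_iff_exists_ne_one.mp hB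
    exact ⟨b, b.2, fun h1 => hb (Subtype.ext h1)⟩
  -- A, B proper
  have hAtop : A ≠ ⊤ := by
    intro h
    exact hb₀1 (by
      have := dAB 1 b₀ (h ▸ Subgroup.mem_top b₀) (by simpa using hb₀)
      exact this)
  have hBtop : B ≠ ⊤ := by
    intro h
    exact ha₀1 (dAB 1 a₀ ha₀ (by rw [h]; exact Subgroup.mem_top _))
  -- the three disjoint sets
  let SA : Finset K := (Finset.univ.filter (fun z : (K ⧸ A) × A => (z.2 : K) ≠ 1)).image (conjRep A)
  let SB : Finset K := (Finset.univ.filter (fun z : (K ⧸ B) × B => (z.2 : K) ≠ 1)).image (conjRep B)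
  have hSAcard : SA.card = A.index * (Nat.card A - 1) := by
    rw [Finset.card_image_of_injOn]
    · have : (Finset.univ.filter (fun z : (K ⧸ A) × A => (z.2 : K) ≠ 1)) =
          (Finset.univ : Finset (K ⧸ A)) ×ˢ (Finset.univ.filter (fun x : A => (x : K) ≠ 1)) := by
        ext z
        simp only [Finset.mem_filter, Finset.mem_univ, true_and, Finset.mem_product]
      rw [this, Finset.card_product, Finset.card_univ, ← Nat.card_eq_fintype_card,
        ← Subgroup.index_eq_card]
      congr 1
      have : (Finset.univ.filter (fun x : A => (x : K) ≠ 1)) = Finset.univ.erase (1 : A) := by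
        ext x
        simp only [Finset.mem_filter, Finset.mem_univ, true_and, Finset.mem_erase, and_true, ne_eq]
        constructor
        · intro h h1
          exact h (by rw [h1]; rfl)
        · intro h h1
          exact h (Subtype.ext h1)
      rw [this, Finset.card_erase_of_mem (Finset.mem_univ _), Finset.card_univ,
        Nat.card_eq_fintype_card]
    · intro z hz w _ h
      simp only [Finset.coe_filter, Finset.mem_univ, true_and, Set.mem_setOf_eq] at hz
      exact conjRep_injOn A mA z w hz h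
  have hSBcard : SB.card = B.index * (Nat.card B - 1) := by
    rw [Finset.card_image_of_injOn]
    · have : (Finset.univ.filter (fun z : (K ⧸ B) × B => (z.2 : K) ≠ 1)) =
          (Finset.univ : Finset (K ⧸ B)) ×ˢ (Finset.univ.filter (fun x : B => (x : K) ≠ 1)) := by
        ext z
        simp only [Finset.mem_filter, Finset.mem_univ, true_and, Finset.mem_product]
      rw [this, Finset.card_product, Finset.card_univ, ← Nat.card_eq_fintype_card,
        ← Subgroup.index_eq_card]
      congr 1
      have : (Finset.univ.filter (fun x : B => (x : K) ≠ 1)) = Finset.univ.erase (1 : B) := by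
        ext x
        simp only [Finset.mem_filter, Finset.mem_univ, true_and, Finset.mem_erase, and_true, ne_eq]
        constructor
        · intro h h1
          exact h (by rw [h1]; rfl)
        · intro h h1
          exact h (Subtype.ext h1)
      rw [this, Finset.card_erase_of_mem (Finset.mem_univ _), Finset.card_univ,
        Nat.card_eq_fintype_card]
    · intro z hz w _ h
      simp only [Finset.coe_filter, Finset.mem_univ, true_and, Set.mem_setOf_eq] at hz
      exact conjRep_injOn B mB z w hz h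
  have hdisj : Disjoint SA SB := by
    rw [Finset.disjoint_left]
    intro g hgA hgB
    simp only [SA, SB, Finset.mem_image, Finset.mem_filter, Finset.mem_univ, true_and] at hgA hgB
    obtain ⟨⟨q, x⟩, hx1, rfl⟩ := hgA
    obtain ⟨⟨q', y⟩, hy1, hxy⟩ := hgB
    simp only [conjRep] at hxy hx1 hy1
    apply hx1
    apply dAB (q'.out⁻¹ * q.out) x x.2
    have : (q'.out⁻¹ * q.out) * (x : K) * (q'.out⁻¹ * q.out)⁻¹ = (y : K) := by
      have e : (y : K) = q'.out⁻¹ * (q'.out * (y : K) * q'.out⁻¹) * q'.out := by group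
      rw [e, hxy]; group
    rw [this]; exact y.2
  have h1A : (1 : K) ∉ SA := by
    simp only [SA, Finset.mem_image, Finset.mem_filter, Finset.mem_univ, true_and, not_exists,
      not_and]
    rintro ⟨q, x⟩ hx1 h
    apply hx1
    simp only [conjRep] at h
    have : (x : K) = q.out⁻¹ * (q.out * (x : K) * q.out⁻¹) * q.out := by group
    rw [this, h]; group
  have h1B : (1 : K) ∉ SB := by
    simp only [SB, Finset.mem_image, Finset.mem_filter, Finset.mem_univ, true_and, not_exists,
      not_and]
    rintro ⟨q, x⟩ hx1 h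
    apply hx1
    simp only [conjRep] at h
    have : (x : K) = q.out⁻¹ * (q.out * (x : K) * q.out⁻¹) * q.out := by group
    rw [this, h]; group
  have hcount : SA.card + SB.card + 1 ≤ Nat.card K := by
    have h1 : (insert (1 : K) (SA ∪ SB)).card = SA.card + SB.card + 1 := by
      rw [Finset.card_insert_of_notMem, Finset.card_union_of_disjoint hdisj]
      simp only [Finset.mem_union, not_or]
      exact ⟨h1A, h1B⟩
    rw [← h1, Nat.card_eq_fintype_card]
    exact Finset.card_le_univ _
  -- arithmetic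
  have hAmul := Subgroup.card_mul_index A
  have hBmul := Subgroup.card_mul_index B
  have hAidx : 2 ≤ A.index := by
    have h0 : A.index ≠ 0 := Subgroup.index_ne_zero_of_finite
    have h1 : A.index ≠ 1 := fun h => hAtop (Subgroup.index_eq_one.mp h)
    omega
  have hBidx : 2 ≤ B.index := by
    have h0 : B.index ≠ 0 := Subgroup.index_ne_zero_of_finite
    have h1 : B.index ≠ 1 := fun h => hBtop (Subgroup.index_eq_one.mp h)
    omega
  have hAcard : 2 ≤ Nat.card A := by
    have h0 : Nat.card A ≠ 0 := Nat.card_pos.ne'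
    have h1 : Nat.card A ≠ 1 := fun h => hA (Subgroup.card_eq_one.mp h)
    omega
  have hBcard : 2 ≤ Nat.card B := by
    have h0 : Nat.card B ≠ 0 := Nat.card_pos.ne'
    have h1 : Nat.card B ≠ 1 := fun h => hB (Subgroup.card_eq_one.mp h)
    omega
  rw [hSAcard, hSBcard] at hcount
  set n := Nat.card K
  set a := Nat.card A
  set b := Nat.card B
  set i := A.index
  set j := B.index
  -- i*(a-1) = n - i, j*(b-1) = n - j
  have e1 : i * (a - 1) = n - i := by
    rw [Nat.mul_sub, mul_one, mul_comm, hAmul]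
  have e2 : j * (b - 1) = n - j := by
    rw [Nat.mul_sub, mul_one, mul_comm, hBmul]
  rw [e1, e2] at hcount
  have hi : 2 * i ≤ n := by
    rw [← hAmul]; exact Nat.mul_le_mul_right i hAcard
  have hj : 2 * j ≤ n := by
    rw [← hBmul]; exact Nat.mul_le_mul_right j hBcard
  omega

end Cfsg.Agent.Lib.H20
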