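/-
S2347, piece **WEIL-W7** (helper20): the determinant trick.  A projective representation `Y` (`Y g * Y h = c • Y (g h)`) on `V` that preserves
two subspaces `P`, `M` with `dim P = dim M + 1` becomes multiplicative on `M` after rescaling by `det (Y g | M) / det (Y g | P)`.
-/
import Mathlib

set_option autoImplicit false

namespace Cfsg.Agent.Lib.H20.Weil

theorem det_restrict_ne_zero {V : Type*} [AddCommGroup V] [Module ℂ V] [FiniteDimensional ℂ V]
    (M : Submodule ℂ V) (T : Module.End ℂ V) (hT : Function.Injective T) (hM : ∀ f ∈ M, T f ∈ M) :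
    LinearMap.det (T.restrict hM) ≠ 0 := by
  intro h0
  have h1 := LinearMap.bot_lt_ker_of_det_eq_zero h0
  have h2 : LinearMap.ker (T.restrict hM) = ⊥ := by
    rw [LinearMap.ker_eq_bot]
    intro x y hxy
    have h3 : ((T.restrict hM x : M) : V) = ((T.restrict hM y : M) : V) := congrArg Subtype.val hxy
    rw [LinearMap.restrict_coe_apply, LinearMap.restrict_coe_apply] at h3
    exact Subtype.ext (hT h3)
  rw [h2] at h1
  exact lt_irrefl _ h1

theorem exists_linearization {G : Type*} [Group G] {V : Type*} [AddCommGroup V] [Module ℂ V]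
    [FiniteDimensional ℂ V] (P M : Submodule ℂ V) (hd : Module.finrank ℂ P = Module.finrank ℂ M + 1)
    (Y : G → Module.End ℂ V) (hYu : ∀ g, IsUnit (Y g))
    (hP : ∀ g, ∀ f ∈ P, Y g f ∈ P) (hM : ∀ g, ∀ f ∈ M, Y g f ∈ M)
    (hmul : ∀ g h, ∃ c : ℂ, c ≠ 0 ∧ Y g * Y h = c • Y (g * h)) :
    ∃ W : G →* Module.End ℂ M, ∀ g, ∃ κ : ℂ, κ ≠ 0 ∧ ∀ f : M, ((W g f : M) : V) = κ • Y g (f : V) := by
  classical
  choose c hc0 hc using hmul
  have hinj : ∀ g, Function.Injective (Y g) := fun g =>
    ((Module.End.isUnit_iff _).1 (hYu g)).injective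
  -- the restrictions
  let A : G → Module.End ℂ M := fun g => (Y g).restrict (hM g)
  let B : G → Module.End ℂ P := fun g => (Y g).restrict (hP g)
  have hAcoe : ∀ g (f : M), ((A g f : M) : V) = Y g (f : V) := fun g f => rfl
  have hBcoe : ∀ g (f : P), ((B g f : P) : V) = Y g (f : V) := fun g f => rfl
  have hAmul : ∀ g h, A g * A h = c g h • A (g * h) := by
    intro g h
    apply LinearMap.ext
    intro f
    apply Subtype.ext
    have h1 := congrArg (fun T : Module.End ℂ V => T (f : V)) (hc g h)
    simp only [Module.End.mul_apply, LinearMap.smul_apply] at h1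
    rw [Module.End.mul_apply, LinearMap.smul_apply, Submodule.coe_smul, hAcoe, hAcoe, hAcoe]
    exact h1
  have hBmul : ∀ g h, B g * B h = c g h • B (g * h) := by
    intro g h
    apply LinearMap.ext
    intro f
    apply Subtype.ext
    have h1 := congrArg (fun T : Module.End ℂ V => T (f : V)) (hc g h)
    simp only [Module.End.mul_apply, LinearMap.smul_apply] at h1
    rw [Module.End.mul_apply, LinearMap.smul_apply, Submodule.coe_smul, hBcoe, hBcoe, hBcoe]
    exact h1
  have hAdet : ∀ g, LinearMap.det (A g) ≠ 0 := fun g => det_restrict_ne_zero M (Y g) (hinj g) (hM g)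
  have hBdet : ∀ g, LinearMap.det (B g) ≠ 0 := fun g => det_restrict_ne_zero P (Y g) (hinj g) (hP g)
  have hAd : ∀ g h, LinearMap.det (A g) * LinearMap.det (A h) =
      c g h ^ Module.finrank ℂ M * LinearMap.det (A (g * h)) := by
    intro g h
    rw [← map_mul, hAmul, LinearMap.det_smul]
  have hBd : ∀ g h, LinearMap.det (B g) * LinearMap.det (B h) =
      c g h ^ (Module.finrank ℂ M + 1) * LinearMap.det (B (g * h)) := by
    intro g h
    rw [← map_mul, hBmul, LinearMap.det_smul, hd]
  let κ : G → ℂ := fun g => LinearMap.det (A g) / LinearMap.det (B g)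
  have hκ0 : ∀ g, κ g ≠ 0 := fun g => div_ne_zero (hAdet g) (hBdet g)
  have hκ : ∀ g h, κ g * κ h * c g h = κ (g * h) := by
    intro g h
    show LinearMap.det (A g) / LinearMap.det (B g) * (LinearMap.det (A h) / LinearMap.det (B h)) * c g h
      = LinearMap.det (A (g * h)) / LinearMap.det (B (g * h))
    have h1 := hAd g h
    have h2 := hBd g h
    have hb1 := hBdet g
    have hb2 := hBdet h
    have hb3 := hBdet (g * h)
    have hc1 := hc0 g h
    have hcp : c g h ^ Module.finrank ℂ M ≠ 0 := pow_ne_zero _ hc1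
    rw [div_mul_div_comm, h1, h2, pow_succ]
    field_simp
  let W : G → Module.End ℂ M := fun g => κ g • A g
  have hWmul : ∀ g h, W (g * h) = W g * W h := by
    intro g h
    show κ (g * h) • A (g * h) = (κ g • A g) * (κ h • A h)
    rw [smul_mul_smul_comm, hAmul, smul_smul, hκ]
  have hWinj : ∀ g, Function.Injective (W g) := by
    intro g x y hxy
    have h1 : κ g • A g x = κ g • A g y := hxy
    have h2 : A g x = A g y := smul_right_injective _ (hκ0 g) h1
    have h3 : ((A g x : M) : V) = ((A g y : M) : V) := congrArg Subtype.val h2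
    rw [hAcoe, hAcoe] at h3
    exact Subtype.ext (hinj g h3)
  have hW1 : W 1 = 1 := by
    apply LinearMap.ext
    intro f
    have h1 := hWmul 1 1
    rw [mul_one] at h1
    have h2 : W 1 (W 1 f) = W 1 f := by
      have := congrArg (fun T : Module.End ℂ M => T f) h1
      exact this.symm
    exact hWinj 1 h2
  refine ⟨{ toFun := W, map_one' := hW1, map_mul' := hWmul }, fun g => ⟨κ g, hκ0 g, fun f => ?_⟩⟩
  show ((κ g • A g f : M) : V) = κ g • Y g (f : V)
  rw [Submodule.coe_smul, hAcoe]

end Cfsg.Agent.Lib.H20.Weil
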