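/-
S2347 (architect helper20): ASSEMBLY.  `min_degree` (one-step Landazuri-Seitz bound for `Sp_2n(q)`, `q` odd),
`exists_weil` (the Weil representation on the odd functions, via the intertwiners `Yop` and the determinant trick),
`main` (= the statement of S2347).  Pieces: W1, W8 helper5 | W2, W3 helper1 | W5 helper2 | W6, W9 helper29 | W7 helper20 |
L1 helper23 | L2 helper16;  LS-R helper4, exists_siegel helper5, Sp.perfect / normal_dichotomy / center_eq helper2.
-/
import Cfsg.Agent.Lib.H20.WeilDefs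
import Cfsg.Agent.Lib.H20.WeilW7
import Cfsg.Agent.Lib.H2.WeilW5
import Cfsg.Agent.Lib.H29.WeilW6
import Cfsg.Agent.Lib.H29.WeilW9
import Cfsg.Agent.Lib.H5.WeilW8
import Cfsg.Agent.Lib.H23.WeilL1
import Cfsg.Agent.Lib.H16.WeilL2
import Cfsg.Agent.Lib.H4.LSR
import Cfsg.Agent.Lib.H5.LS2S2
import Cfsg.Agent.Lib.H2.SpSimple

set_option autoImplicit false

namespace Cfsg.Agent.Lib.H20.Weil

open Matrix Cfsg.Agent.Lib.H12.LS2 Cfsg.Agent.Lib.H20.Weil

variable {F : Type*} [Field F] {n : ℕ} [Fintype F]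

/-! ## ASSEMBLY (helper20; becomes Lib/H20/WeilMain.lean + S2347.lean) -/

/-- `E_00` as a symmetric matrix -/
def X00 (n : ℕ) (hn : 2 ≤ n) : Symm n F :=
  ⟨Matrix.single (⟨0, by omega⟩ : Fin n) (⟨0, by omega⟩ : Fin n) 1, by
    show (Matrix.single (⟨0, by omega⟩ : Fin n) (⟨0, by omega⟩ : Fin n) (1 : F))ᵀ = _
    rw [Matrix.transpose_single]⟩

theorem three_le_card (h2 : (2 : F) ≠ 0) : 3 ≤ Fintype.card F := by
  have h1 : 1 < Fintype.card F := Fintype.one_lt_card
  by_contra h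
  have h3 : Fintype.card F = 2 := by omega
  have h4 := Nat.cast_card_eq_zero F
  rw [h3] at h4
  exact h2 (by exact_mod_cast h4)

/-- the lower bound, for arbitrary non-trivial representations -/
theorem min_degree (h2 : (2 : F) ≠ 0) (n : ℕ) (hn : 2 ≤ n)
    {V : Type*} [AddCommGroup V] [Module ℂ V] [FiniteDimensional ℂ V]
    (ρ : Matrix.symplecticGroup (Fin n) F →* Module.End ℂ V) (hρ : ∃ g, ρ g ≠ 1) :
    Fintype.card F ^ n - 1 ≤ 2 * Module.finrank ℂ V := by
  classical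
  obtain ⟨t, l, ht, htinj, hconj⟩ := Cfsg.Agent.Lib.H5.LS2.exists_siegel (F := F) n
  let _ : Fintype (Symm n F) := Fintype.ofFinite _
  have ht0 : t 0 = 1 := by
    have h := ht 0 0
    rw [add_zero] at h
    exact mul_eq_left.1 h.symm
  have hq3 := three_le_card h2
  have hperf : commutator (Matrix.symplecticGroup (Fin n) F) = ⊤ := by
    apply Cfsg.Agent.Lib.H2.Sp.perfect
    by_cases h3 : 3 ≤ n
    · exact Or.inl h3
    · exact Or.inr (Or.inl ⟨by omega, hq3⟩)
  have hX0 : ρ (t (X00 n hn)) ≠ 1 := by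
    intro h
    rcases Cfsg.Agent.Lib.H2.Sp.normal_dichotomy hn hperf ρ.ker with hk | hk
    · have h3 : t (X00 n hn) ∈ ρ.ker := h
      have h4 := hk h3
      have hcen := Cfsg.Agent.Lib.H2.Sp.center_eq (F := F) n (by omega)
      rw [← SetLike.mem_coe, hcen] at h4
      have h5 : t (X00 n hn + X00 n hn) = 1 := by
        rw [ht]
        rcases h4 with h4 | h4
        · rw [h4, one_mul]
        · rw [Set.mem_singleton_iff] at h4
          rw [h4]
          apply Subtype.ext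
          simp [Cfsg.Agent.Lib.H2.Sp.negOne]
      rw [← ht0] at h5
      have h6 := htinj h5
      have h7 : ((X00 n hn + X00 n hn : Symm n F) : Matrix (Fin n) (Fin n) F) ⟨0, by omega⟩ ⟨0, by omega⟩ = 0 := by
        rw [h6]; rfl
      rw [AddSubgroup.coe_add, Matrix.add_apply] at h7
      have h8 : ((X00 n hn : Symm n F) : Matrix (Fin n) (Fin n) F) ⟨0, by omega⟩ ⟨0, by omega⟩ = 1 := by
        show Matrix.single (⟨0, by omega⟩ : Fin n) (⟨0, by omega⟩ : Fin n) (1 : F) _ _ = 1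
        rw [Matrix.single_apply_same]
      rw [h8] at h7
      exact h2 (by rw [← h7]; norm_num)
    · obtain ⟨g0, hg0⟩ := hρ
      apply hg0
      have : g0 ∈ ρ.ker := by rw [hk]; trivial
      exact this
  obtain ⟨ψ, hψ, hd, hle⟩ := Cfsg.Agent.Lib.H4.LS.exists_char_orbit_le ρ t ht l sact sact_one sact_mul
    sact_add (fun g X => hconj g X (sact g X) (sact_val g X)) (X00 n hn) hX0
  obtain ⟨χ, Φ, hΦ⟩ := Cfsg.Agent.Lib.H23.Weil.exists_symm_duality (F := F) h2 n
  obtain ⟨Y, hYψ⟩ : ∃ Y, Φ Y = ψ := ⟨Φ.symm ψ, Φ.apply_symm_apply ψ⟩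
  have hY0 : Y ≠ 0 := by
    rintro rfl
    apply hψ
    rw [← hYψ]
    apply DFunLike.ext
    intro X
    rw [hΦ]
    simp
  have hK := Cfsg.Agent.Lib.H16.Weil.symm_orbit_card_ge h2 n Y hY0
  have hcard : Nat.card {Z : Symm n F // ∃ g : GL (Fin n) F,
      (Z : Matrix (Fin n) (Fin n) F) = g.1ᵀ * (Y : Matrix (Fin n) (Fin n) F) * g.1} ≤
      Nat.card {ψ' : AddChar (Symm n F) ℂ // ∃ g : GL (Fin n) F, ∀ X, ψ' X = ψ (sact g X)} := by
    refine Nat.card_le_card_of_injective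
      (fun Z => (⟨Φ Z.1, ?_⟩ : {ψ' : AddChar (Symm n F) ℂ // ∃ g : GL (Fin n) F, ∀ X, ψ' X = ψ (sact g X)})) ?_
    · obtain ⟨g, hg⟩ := Z.2
      refine ⟨g, fun X => ?_⟩
      rw [← hYψ, hΦ, hΦ, hg, sact_val]
      congr 1
      calc Matrix.trace ((X : Matrix (Fin n) (Fin n) F) * (g.1ᵀ * (Y : Matrix (Fin n) (Fin n) F) * g.1))
          = Matrix.trace (((X : Matrix (Fin n) (Fin n) F) * g.1ᵀ * (Y : Matrix (Fin n) (Fin n) F)) * g.1) := by
            simp only [Matrix.mul_assoc]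
        _ = Matrix.trace (g.1 * ((X : Matrix (Fin n) (Fin n) F) * g.1ᵀ * (Y : Matrix (Fin n) (Fin n) F))) :=
            Matrix.trace_mul_comm _ _
        _ = _ := by simp only [Matrix.mul_assoc]
    · intro Z Z' h
      have h1 : Φ Z.1 = Φ Z'.1 := congrArg Subtype.val h
      exact Subtype.ext (Φ.injective h1)
  have h1 : Nat.card {ψ' : AddChar (Symm n F) ℂ // ∃ g : GL (Fin n) F, ∀ X, ψ' X = ψ (sact g X)} ≤
      Module.finrank ℂ V :=
    le_trans (Nat.le_mul_of_pos_right _ (Nat.pos_of_ne_zero hd)) hle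
  calc Fintype.card F ^ n - 1 ≤ 2 * Nat.card {Z : Symm n F // ∃ g : GL (Fin n) F,
        (Z : Matrix (Fin n) (Fin n) F) = g.1ᵀ * (Y : Matrix (Fin n) (Fin n) F) * g.1} := hK
    _ ≤ 2 * Module.finrank ℂ V := Nat.mul_le_mul_left _ (le_trans hcard h1)

/-- the Weil representation on the odd functions: a non-trivial representation of dimension `(q^n - 1)/2` -/
theorem exists_weil (h2 : (2 : F) ≠ 0) (hn : 2 ≤ n) :
    ∃ W : Matrix.symplecticGroup (Fin n) F →* Module.End ℂ (Sminus n F), ∃ g, W g ≠ 1 := by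
  classical
  obtain ⟨ψ, hψ⟩ : ∃ ψ : AddChar F ℂ, ψ ≠ 1 := by
    obtain ⟨ψ, hψ⟩ := (AddChar.exists_apply_ne_zero (α := F) (a := 1)).2 one_ne_zero
    exact ⟨ψ, fun h => hψ (by rw [h]; rfl)⟩
  have hmaps := fun g : Matrix.symplecticGroup (Fin n) F =>
    Cfsg.Agent.Lib.H29.Weil.maps_of_commute_par (Yop ψ g.1) (Cfsg.Agent.Lib.H2.Weil.par_mul_Yop ψ g.1)
  obtain ⟨W, hW⟩ := exists_linearization (Splus n F) (Sminus n F) (Cfsg.Agent.Lib.H29.Weil.finrank_Splus h2)
    (fun g : Matrix.symplecticGroup (Fin n) F => Yop ψ g.1) (Cfsg.Agent.Lib.H2.Weil.isUnit_Yop h2 ψ hψ)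
    (fun g => (hmaps g).1) (fun g => (hmaps g).2) (Cfsg.Agent.Lib.H2.Weil.Yop_mul h2 ψ hψ)
  refine ⟨W, ?_⟩
  obtain ⟨g, hg⟩ := Cfsg.Agent.Lib.H5.Weil.exists_not_scalar h2 hn ψ hψ
  refine ⟨g, fun h1 => hg ?_⟩
  obtain ⟨κ, hκ0, hκ⟩ := hW g
  refine ⟨κ⁻¹, fun f hf => ?_⟩
  have h3 := hκ ⟨f, hf⟩
  rw [h1] at h3
  have h4 : f = κ • Yop ψ g.1 f := h3
  rw [h4, smul_smul, inv_mul_cancel₀ hκ0, one_smul, ← h4]

/-- the final statement -/
theorem main [DecidableEq F] (n : ℕ) (hn : 2 ≤ n) (hodd : Odd (Fintype.card F)) :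
    (∀ (k : ℕ) (ρ : Representation ℂ (Matrix.symplecticGroup (Fin n) F) (Fin k → ℂ)), ρ.IsIrreducible → 2 ≤ k →
      (Fintype.card F ^ n - 1) / 2 ≤ k) ∧
    (∃ ρ : Representation ℂ (Matrix.symplecticGroup (Fin n) F) (Fin ((Fintype.card F ^ n - 1) / 2) → ℂ),
      ρ.IsIrreducible) := by
  have h2 : (2 : F) ≠ 0 := by
    intro h
    have h3 : ringChar F = 2 := CharP.ringChar_of_prime_eq_zero Nat.prime_two (by exact_mod_cast h)
    have h4 := FiniteField.even_card_of_char_two h3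
    have h5 := Nat.odd_iff.1 hodd
    omega
  constructor
  · intro k ρ hirr hk
    have hne : ∃ g, ρ g ≠ 1 := by
      by_contra hcon
      push Not at hcon
      have hk0 : 0 < k := by omega
      let v : Fin k → ℂ := Pi.single ⟨0, hk0⟩ 1
      let W : Subrepresentation ρ :=
        ⟨Submodule.span ℂ {v}, fun g x hx => by rw [hcon g]; exact hx⟩
      have hv0 : v ≠ 0 := by
        intro h9
        have h10 := congrFun h9 ⟨0, hk0⟩
        simp [v] at h10
      rcases hirr.eq_bot_or_eq_top W with h7 | h7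
      · have h8 : v ∈ W.toSubmodule := Submodule.subset_span rfl
        rw [h7] at h8
        exact hv0 h8
      · have h8 : W.toSubmodule = ⊤ := congrArg Subrepresentation.toSubmodule h7
        have h9 : Module.finrank ℂ (Submodule.span ℂ {v}) = 1 := finrank_span_singleton hv0
        have h10 : Module.finrank ℂ (Submodule.span ℂ {v}) = k := by
          have h11 : Submodule.span ℂ {v} = ⊤ := h8
          rw [h11, finrank_top, Module.finrank_fin_fun]
        omega
    have h := min_degree h2 n hn ρ hne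
    rw [Module.finrank_fin_fun] at h
    omega
  · obtain ⟨W, hW⟩ := exists_weil (F := F) h2 hn
    have hfr := Cfsg.Agent.Lib.H29.Weil.finrank_Sminus (F := F) (n := n) h2
    have hd : Module.finrank ℂ (Sminus n F) = (Fintype.card F ^ n - 1) / 2 := by omega
    have e : Sminus n F ≃ₗ[ℂ] (Fin ((Fintype.card F ^ n - 1) / 2) → ℂ) :=
      LinearEquiv.ofFinrankEq _ _ (by rw [hd, Module.finrank_fin_fun])
    let ρ : Representation ℂ (Matrix.symplecticGroup (Fin n) F) (Fin ((Fintype.card F ^ n - 1) / 2) → ℂ) :=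
      (e.conjRingEquiv.toMulEquiv.toMonoidHom).comp W
    refine ⟨ρ, Cfsg.Agent.Lib.H29.Weil.isIrreducible_of_min ρ ?_ ?_ ?_⟩
    · obtain ⟨g, hg⟩ := hW
      refine ⟨g, fun h1 => hg ?_⟩
      have h3 : e.conjRingEquiv (W g) = 1 := h1
      rw [← map_one e.conjRingEquiv] at h3
      exact e.conjRingEquiv.injective h3
    · intro U σ hσ
      have h := min_degree h2 n hn σ hσ
      rw [Module.finrank_fin_fun]
      omega
    · intro U σ hσ
      have h := min_degree h2 n hn σ hσ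
      rw [Module.finrank_fin_fun]
      omega

end Cfsg.Agent.Lib.H20.Weil
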