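/-
S2524 (architect helper19, route U), concrete layer **(C1)** (helper20): calculus of the `Q`-eigenprojections `PY Φ ρ Y` of a
representation `ρ` of `Sp_2(m+1)(F)` relative to the long root group `U1 = {tEl (c E_**)}`, `* = Fin.last m`:
* `pU Φ ρ a := ∑_{Y_** = a} PY Φ ρ Y` equals the `U1`-eigenprojection `RepChar.proj ρ tU (lam χ a)` (`pU_eq_proj`), hence it is an
  idempotent commuting with every element that centralises `U1` (e.g. `Ss`, `Hs`), and `pU Φ ρ 0 x = x ↔ x` is `U1`-fixed;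
* `E = ker (PY 0)` is `Ps`-invariant, complementary to `W^Q = range (PY 0)`, contains `ker (pU 0)`, and is spanned by the
  `Q`-eigenvectors with `Y ≠ 0`.
-/
import Cfsg.Agent.Lib.H8.TZDim
import Cfsg.Agent.Lib.H11.S2524G1

set_option autoImplicit false
set_option linter.unusedSectionVars false

namespace Cfsg.Agent.Lib.H20.UConc

open Matrix Module Cfsg.Agent.Lib.H12.LS2 Cfsg.Agent.Lib.H5.LS2 Cfsg.Agent.Lib.H20.Weil Cfsg.Agent.Lib.H4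

variable {F : Type*} [Field F] [Fintype F] {m : ℕ} [Fintype (Symm (m + 1) F)]
  {V : Type*} [AddCommGroup V] [Module ℂ V] [FiniteDimensional ℂ V]
  (χ : AddChar F ℂ) (Φ : Symm (m + 1) F ≃ AddChar (Symm (m + 1) F) ℂ)
  (hΦ : ∀ Y X : Symm (m + 1) F, Φ Y X =
    χ (Matrix.trace ((X : Matrix (Fin (m + 1)) (Fin (m + 1)) F) * (Y : Matrix (Fin (m + 1)) (Fin (m + 1)) F))))
  (ρ : Matrix.symplecticGroup (Fin (m + 1)) F →* Module.End ℂ V)

/-- the `(*,*)` entry of a symmetric matrix -/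
def Yss (Y : Symm (m + 1) F) : F := (Y : Matrix (Fin (m + 1)) (Fin (m + 1)) F) (Fin.last m) (Fin.last m)

/-- the parametrisation of the long root group `U1` -/
noncomputable def tU (m : ℕ) (F : Type*) [Field F] (c : F) : Matrix.symplecticGroup (Fin (m + 1)) F :=
  tEl (Cfsg.Agent.Lib.H11.SpU.symE (Fin.last m) c)

theorem tU_add (c d : F) : tU m F (c + d) = tU m F c * tU m F d := by
  unfold tU
  rw [Cfsg.Agent.Lib.H11.SpU.symE_add, Cfsg.Agent.Lib.H8.TZ.tEl_add]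

theorem tU_mem_U1 (c : F) : tU m F c ∈ Cfsg.Agent.Lib.H11.SpU.U1 m F :=
  Cfsg.Agent.Lib.H11.SpU.mem_U1.2 ⟨c, rfl⟩

/-- the character `c ↦ χ (c * a)` of `F` -/
noncomputable def lam (a : F) : AddChar F ℂ := AddChar.mulShift χ a

theorem lam_apply (a c : F) : lam χ a c = χ (a * c) := AddChar.mulShift_apply

/-! ### basic calculus of the `PY` -/

theorem PY_mul_PY (Y : Symm (m + 1) F) : Cfsg.Agent.Lib.H8.TZ.PY Φ ρ Y * Cfsg.Agent.Lib.H8.TZ.PY Φ ρ Y = Cfsg.Agent.Lib.H8.TZ.PY Φ ρ Y :=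
  RepChar.proj_mul_proj ρ tEl Cfsg.Agent.Lib.H8.TZ.tEl_add (Φ Y)

theorem PY_mul_PY_of_ne {Y Y' : Symm (m + 1) F} (h : Y ≠ Y') : Cfsg.Agent.Lib.H8.TZ.PY Φ ρ Y * Cfsg.Agent.Lib.H8.TZ.PY Φ ρ Y' = 0 :=
  RepChar.proj_mul_proj_of_ne ρ tEl Cfsg.Agent.Lib.H8.TZ.tEl_add (fun h0 => h (Φ.injective h0))

theorem sum_PY : ∑ Y : Symm (m + 1) F, Cfsg.Agent.Lib.H8.TZ.PY Φ ρ Y = 1 := by
  classical
  rw [← RepChar.sum_proj ρ tEl Cfsg.Agent.Lib.H8.TZ.tEl_add]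
  exact Equiv.sum_comp Φ (fun ψ => RepChar.proj ρ tEl ψ)

theorem tEl_mul_PY (X Y : Symm (m + 1) F) : ρ (tEl X) * Cfsg.Agent.Lib.H8.TZ.PY Φ ρ Y = Φ Y X • Cfsg.Agent.Lib.H8.TZ.PY Φ ρ Y :=
  RepChar.map_mul_proj ρ tEl Cfsg.Agent.Lib.H8.TZ.tEl_add (Φ Y) X

theorem tEl_comm (X X' : Symm (m + 1) F) :
    (tEl X : Matrix.symplecticGroup (Fin (m + 1)) F) * tEl X' = tEl X' * tEl X := by
  rw [← Cfsg.Agent.Lib.H8.TZ.tEl_add, ← Cfsg.Agent.Lib.H8.TZ.tEl_add, add_comm X X']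

theorem tEl_comm_PY (X Y : Symm (m + 1) F) : ρ (tEl X) * Cfsg.Agent.Lib.H8.TZ.PY Φ ρ Y = Cfsg.Agent.Lib.H8.TZ.PY Φ ρ Y * ρ (tEl X) :=
  RepChar.commute_proj ρ tEl (Φ Y) (fun X' => tEl_comm X X')

include hΦ in
theorem Phi_symE (Y : Symm (m + 1) F) (c : F) :
    Φ Y (Cfsg.Agent.Lib.H11.SpU.symE (Fin.last m) c) = χ (c * Yss Y) := by
  rw [hΦ, Cfsg.Agent.Lib.H11.SpU.symE_val, Matrix.trace_single_mul, smul_eq_mul]
  rfl

include hΦ in
theorem chi_ne_one : χ ≠ 1 := by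
  intro h
  have h1 : Φ (Cfsg.Agent.Lib.H11.SpU.symE (Fin.last m) (1 : F)) = Φ 0 := by
    apply DFunLike.ext
    intro X
    rw [hΦ, hΦ, h, AddChar.one_apply, AddChar.one_apply]
  have h2 := Φ.injective h1
  have h3 : ((Cfsg.Agent.Lib.H11.SpU.symE (Fin.last m) (1 : F) : Symm (m + 1) F) :
      Matrix (Fin (m + 1)) (Fin (m + 1)) F) (Fin.last m) (Fin.last m) = 0 := by
    rw [h2]; rfl
  rw [Cfsg.Agent.Lib.H11.SpU.symE_val, Matrix.single_apply_same] at h3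
  exact one_ne_zero h3

/-! ### the `U1`-eigenprojections -/

/-- the sum of the `PY` with `Y_** = a` -/
noncomputable def pU (a : F) : Module.End ℂ V := by
  classical
  exact ∑ Y ∈ Finset.univ.filter (fun Y : Symm (m + 1) F => Yss Y = a), Cfsg.Agent.Lib.H8.TZ.PY Φ ρ Y

include hΦ in
/-- **(T3)**: `pU a` is the `U1`-eigenprojection for the character `c ↦ χ (a c)` -/
theorem pU_eq_proj (a : F) : pU Φ ρ a = RepChar.proj ρ (tU m F) (lam χ a) := by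
  classical
  have hχ := chi_ne_one χ Φ hΦ
  have hprim : AddChar.IsPrimitive χ := AddChar.IsPrimitive.of_ne_one hχ
  have h1 : RepChar.proj ρ (tU m F) (lam χ a) =
      ∑ Y : Symm (m + 1) F, RepChar.proj ρ (tU m F) (lam χ a) * Cfsg.Agent.Lib.H8.TZ.PY Φ ρ Y := by
    rw [← Finset.mul_sum, sum_PY, mul_one]
  have h2 : ∀ Y : Symm (m + 1) F, RepChar.proj ρ (tU m F) (lam χ a) * Cfsg.Agent.Lib.H8.TZ.PY Φ ρ Y =
      if Yss Y = a then Cfsg.Agent.Lib.H8.TZ.PY Φ ρ Y else 0 := by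
    intro Y
    have hunf : RepChar.proj ρ (tU m F) (lam χ a) =
        (Fintype.card F : ℂ)⁻¹ • ∑ c : F, (lam χ a) (-c) • ρ (tU m F c) := rfl
    rw [hunf, smul_mul_assoc, Finset.sum_mul]
    have h3 : ∀ c : F, (lam χ a) (-c) • ρ (tU m F c) * Cfsg.Agent.Lib.H8.TZ.PY Φ ρ Y =
        χ (c * (Yss Y - a)) • Cfsg.Agent.Lib.H8.TZ.PY Φ ρ Y := by
      intro c
      have h4 := tEl_mul_PY Φ ρ (Cfsg.Agent.Lib.H11.SpU.symE (Fin.last m) c) Y
      rw [Phi_symE χ Φ hΦ] at h4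
      have h5 : ρ (tU m F c) * Cfsg.Agent.Lib.H8.TZ.PY Φ ρ Y = χ (c * Yss Y) • Cfsg.Agent.Lib.H8.TZ.PY Φ ρ Y := h4
      rw [smul_mul_assoc, h5, smul_smul, lam_apply, ← AddChar.map_add_eq_mul]
      congr 2
      ring
    rw [Finset.sum_congr rfl (fun c _ => h3 c), ← Finset.sum_smul, AddChar.sum_mulShift _ hprim, smul_smul]
    split_ifs with h6 h7 h7
    · rw [inv_mul_cancel₀ (Nat.cast_ne_zero.2 Fintype.card_ne_zero), one_smul]
    · exact absurd (sub_eq_zero.1 h6) h7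
    · exact absurd (sub_eq_zero.2 h7) h6
    · rw [Nat.cast_zero, mul_zero, zero_smul]
  rw [h1, Finset.sum_congr rfl (fun Y _ => h2 Y), ← Finset.sum_filter]
  rfl

include hΦ in
theorem pU_mul_pU (a : F) : pU Φ ρ a * pU Φ ρ a = pU Φ ρ a := by
  rw [pU_eq_proj χ Φ hΦ]
  exact RepChar.proj_mul_proj ρ (tU m F) tU_add (lam χ a)

include hΦ in
/-- `pU a` commutes with every element centralising `U1` -/
theorem pU_commute (a : F) (g : Matrix.symplecticGroup (Fin (m + 1)) F)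
    (hg : ∀ u ∈ Cfsg.Agent.Lib.H11.SpU.U1 m F, g * u = u * g) :
    pU Φ ρ a * ρ g = ρ g * pU Φ ρ a := by
  rw [pU_eq_proj χ Φ hΦ]
  exact (RepChar.commute_proj ρ (tU m F) (lam χ a) (fun c => hg _ (tU_mem_U1 c))).symm

include hΦ in
/-- `pU a` commutes with `Ss` -/
theorem pU_commute_Ss (a : F) (s : Matrix.symplecticGroup (Fin (m + 1)) F)
    (hs : s ∈ Cfsg.Agent.Lib.H11.SpU.Ss m F) : pU Φ ρ a * ρ s = ρ s * pU Φ ρ a :=
  pU_commute χ Φ hΦ ρ a s (fun _ hu =>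
    Cfsg.Agent.Lib.H11.SpU.Ss_comm_K1 hs (Cfsg.Agent.Lib.H11.SpU.U1_le_K1 hu))

include hΦ in
/-- the fixed vectors of `U1` -/
theorem pU_zero_apply_eq_iff (x : V) :
    pU Φ ρ 0 x = x ↔ ∀ u ∈ Cfsg.Agent.Lib.H11.SpU.U1 m F, ρ u x = x := by
  rw [pU_eq_proj χ Φ hΦ]
  have hlam : lam χ (0 : F) = 1 := by
    apply DFunLike.ext
    intro c
    rw [lam_apply, zero_mul, AddChar.map_zero_eq_one, AddChar.one_apply]
  rw [hlam]
  constructor
  · intro h u hu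
    obtain ⟨c, rfl⟩ := Cfsg.Agent.Lib.H11.SpU.mem_U1.1 hu
    have h1 := RepChar.map_mul_proj ρ (tU m F) tU_add (1 : AddChar F ℂ) c
    have h2 := congrArg (fun T : Module.End ℂ V => T x) h1
    simp only [Module.End.mul_apply, LinearMap.smul_apply, AddChar.one_apply, one_smul] at h2
    rw [h] at h2
    exact h2
  · intro h
    unfold RepChar.proj
    rw [LinearMap.smul_apply, LinearMap.sum_apply]
    have h1 : ∀ c : F, (((1 : AddChar F ℂ) (-c)) • ρ (tU m F c)) x = x := by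
      intro c
      rw [LinearMap.smul_apply, AddChar.one_apply, one_smul]
      exact h _ (tU_mem_U1 c)
    rw [Finset.sum_congr rfl (fun c _ => h1 c), Finset.sum_const, Finset.card_univ, ← Nat.cast_smul_eq_nsmul ℂ,
      smul_smul, inv_mul_cancel₀ (Nat.cast_ne_zero.2 Fintype.card_ne_zero), one_smul]

open Classical in
theorem pU_mul_PY (a : F) (Y : Symm (m + 1) F) :
    pU Φ ρ a * Cfsg.Agent.Lib.H8.TZ.PY Φ ρ Y = if Yss Y = a then Cfsg.Agent.Lib.H8.TZ.PY Φ ρ Y else 0 := by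
  classical
  unfold pU
  rw [Finset.sum_mul]
  split_ifs with h
  · rw [Finset.sum_eq_single Y]
    · exact PY_mul_PY Φ ρ Y
    · intro Y' _ hne
      exact PY_mul_PY_of_ne Φ ρ hne
    · intro hY
      exact absurd (Finset.mem_filter.2 ⟨Finset.mem_univ Y, h⟩) hY
  · apply Finset.sum_eq_zero
    intro Y' hY'
    apply PY_mul_PY_of_ne
    rintro rfl
    exact h (Finset.mem_filter.1 hY').2

open Classical in
theorem PY_mul_pU (a : F) (Y : Symm (m + 1) F) :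
    Cfsg.Agent.Lib.H8.TZ.PY Φ ρ Y * pU Φ ρ a = if Yss Y = a then Cfsg.Agent.Lib.H8.TZ.PY Φ ρ Y else 0 := by
  classical
  unfold pU
  rw [Finset.mul_sum]
  split_ifs with h
  · rw [Finset.sum_eq_single Y]
    · exact PY_mul_PY Φ ρ Y
    · intro Y' _ hne
      exact PY_mul_PY_of_ne Φ ρ (fun h0 => hne h0.symm)
    · intro hY
      exact absurd (Finset.mem_filter.2 ⟨Finset.mem_univ Y, h⟩) hY
  · apply Finset.sum_eq_zero
    intro Y' hY'
    apply PY_mul_PY_of_ne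
    rintro rfl
    exact h (Finset.mem_filter.1 hY').2

theorem Yss_zero : Yss (0 : Symm (m + 1) F) = 0 := rfl

/-! ### `E = ker (PY 0)` and `Kq = range (PY 0)` -/

/-- `ker (pU 0) ≤ ker (PY 0)` -/
theorem PY_zero_eq_zero_of_pU (x : V) (hx : pU Φ ρ 0 x = 0) : Cfsg.Agent.Lib.H8.TZ.PY Φ ρ 0 x = 0 := by
  have h1 := PY_mul_pU Φ ρ 0 (0 : Symm (m + 1) F)
  rw [if_pos Yss_zero] at h1
  have h2 := congrArg (fun T : Module.End ℂ V => T x) h1
  simp only [Module.End.mul_apply] at h2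
  rw [← h2, hx, map_zero]

/-- `W^Q ≤ W^{U1}` -/
theorem pU_apply_of_mem_range (k : V) (hk : k ∈ LinearMap.range (Cfsg.Agent.Lib.H8.TZ.PY Φ ρ 0)) : pU Φ ρ 0 k = k := by
  obtain ⟨k', rfl⟩ := hk
  have h1 := pU_mul_PY Φ ρ 0 (0 : Symm (m + 1) F)
  rw [if_pos Yss_zero] at h1
  exact congrArg (fun T : Module.End ℂ V => T k') h1

theorem isCompl_ker_range_PY_zero :
    IsCompl (LinearMap.ker (Cfsg.Agent.Lib.H8.TZ.PY Φ ρ 0)) (LinearMap.range (Cfsg.Agent.Lib.H8.TZ.PY Φ ρ 0)) :=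
  (LinearMap.IsIdempotentElem.isCompl (PY_mul_PY Φ ρ 0)).symm

include hΦ in
/-- `PY 0` commutes with the Siegel parabolic -/
theorem PY_zero_commute (x : Matrix.symplecticGroup (Fin (m + 1)) F) (hx : x ∈ Cfsg.Agent.Lib.H11.SpU.Ps (m + 1) F) :
    ρ x * Cfsg.Agent.Lib.H8.TZ.PY Φ ρ 0 = Cfsg.Agent.Lib.H8.TZ.PY Φ ρ 0 * ρ x := by
  let Cz : Subgroup (Matrix.symplecticGroup (Fin (m + 1)) F) :=
    { carrier := {g | ρ g * Cfsg.Agent.Lib.H8.TZ.PY Φ ρ 0 = Cfsg.Agent.Lib.H8.TZ.PY Φ ρ 0 * ρ g}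
      one_mem' := by
        show ρ 1 * Cfsg.Agent.Lib.H8.TZ.PY Φ ρ 0 = Cfsg.Agent.Lib.H8.TZ.PY Φ ρ 0 * ρ 1
        rw [map_one, one_mul, mul_one]
      mul_mem' := by
        intro a b ha hb
        show ρ (a * b) * Cfsg.Agent.Lib.H8.TZ.PY Φ ρ 0 = Cfsg.Agent.Lib.H8.TZ.PY Φ ρ 0 * ρ (a * b)
        have ha' : ρ a * Cfsg.Agent.Lib.H8.TZ.PY Φ ρ 0 = Cfsg.Agent.Lib.H8.TZ.PY Φ ρ 0 * ρ a := ha
        have hb' : ρ b * Cfsg.Agent.Lib.H8.TZ.PY Φ ρ 0 = Cfsg.Agent.Lib.H8.TZ.PY Φ ρ 0 * ρ b := hb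
        rw [map_mul, mul_assoc, hb', ← mul_assoc, ha', mul_assoc]
      inv_mem' := by
        intro a ha
        show ρ a⁻¹ * Cfsg.Agent.Lib.H8.TZ.PY Φ ρ 0 = Cfsg.Agent.Lib.H8.TZ.PY Φ ρ 0 * ρ a⁻¹
        have ha' : ρ a * Cfsg.Agent.Lib.H8.TZ.PY Φ ρ 0 = Cfsg.Agent.Lib.H8.TZ.PY Φ ρ 0 * ρ a := ha
        have h1 : ρ a⁻¹ * ρ a = 1 := by rw [← map_mul, inv_mul_cancel, map_one]
        have h2 : ρ a * ρ a⁻¹ = 1 := by rw [← map_mul, mul_inv_cancel, map_one]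
        calc ρ a⁻¹ * Cfsg.Agent.Lib.H8.TZ.PY Φ ρ 0 = ρ a⁻¹ * Cfsg.Agent.Lib.H8.TZ.PY Φ ρ 0 * (ρ a * ρ a⁻¹) := by rw [h2, mul_one]
          _ = ρ a⁻¹ * (Cfsg.Agent.Lib.H8.TZ.PY Φ ρ 0 * ρ a) * ρ a⁻¹ := by simp only [mul_assoc]
          _ = ρ a⁻¹ * (ρ a * Cfsg.Agent.Lib.H8.TZ.PY Φ ρ 0) * ρ a⁻¹ := by rw [ha']
          _ = (ρ a⁻¹ * ρ a) * Cfsg.Agent.Lib.H8.TZ.PY Φ ρ 0 * ρ a⁻¹ := by simp only [mul_assoc]
          _ = Cfsg.Agent.Lib.H8.TZ.PY Φ ρ 0 * ρ a⁻¹ := by rw [h1, one_mul] }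
  have hle : Cfsg.Agent.Lib.H11.SpU.Ps (m + 1) F ≤ Cz := by
    unfold Cfsg.Agent.Lib.H11.SpU.Ps
    refine sup_le ?_ ?_
    · intro g hg
      obtain ⟨X, rfl⟩ := Cfsg.Agent.Lib.H11.SpU.mem_Qs.1 hg
      exact tEl_comm_PY Φ ρ X 0
    · intro g hg
      obtain ⟨h, rfl⟩ := Cfsg.Agent.Lib.H11.SpU.mem_Ls.1 hg
      show ρ (lEl h) * Cfsg.Agent.Lib.H8.TZ.PY Φ ρ 0 = Cfsg.Agent.Lib.H8.TZ.PY Φ ρ 0 * ρ (lEl h)
      have h1 := Cfsg.Agent.Lib.H8.TZ.PY_cact χ Φ hΦ ρ h 0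
      rw [Cfsg.Agent.Lib.H8.TZ.cact_zero] at h1
      have h2 : ρ (lEl h) * ρ (lEl h⁻¹) = 1 := by
        rw [← map_mul, ← Cfsg.Agent.Lib.H8.TZ.lEl_mul, mul_inv_cancel, Cfsg.Agent.Lib.H8.TZ.lEl_one, map_one]
      calc ρ (lEl h) * Cfsg.Agent.Lib.H8.TZ.PY Φ ρ 0 = ρ (lEl h) * (ρ (lEl h⁻¹) * Cfsg.Agent.Lib.H8.TZ.PY Φ ρ 0 * ρ (lEl h)) := by rw [← h1]
        _ = (ρ (lEl h) * ρ (lEl h⁻¹)) * Cfsg.Agent.Lib.H8.TZ.PY Φ ρ 0 * ρ (lEl h) := by simp only [mul_assoc]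
        _ = Cfsg.Agent.Lib.H8.TZ.PY Φ ρ 0 * ρ (lEl h) := by rw [h2, one_mul]
  exact hle hx

include hΦ in
/-- `E = ker (PY 0)` is invariant under the Siegel parabolic -/
theorem ker_PY_zero_invariant (x : Matrix.symplecticGroup (Fin (m + 1)) F)
    (hx : x ∈ Cfsg.Agent.Lib.H11.SpU.Ps (m + 1) F) (e : V) (he : e ∈ LinearMap.ker (Cfsg.Agent.Lib.H8.TZ.PY Φ ρ 0)) :
    ρ x e ∈ LinearMap.ker (Cfsg.Agent.Lib.H8.TZ.PY Φ ρ 0) := by
  rw [LinearMap.mem_ker] at he ⊢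
  have h1 := congrArg (fun T : Module.End ℂ V => T e) (PY_zero_commute χ Φ hΦ ρ x hx)
  simp only [Module.End.mul_apply] at h1
  rw [← h1, he, map_zero]

/-- decomposition of a vector along the `PY` -/
theorem eq_sum_PY (x : V) : x = ∑ Y : Symm (m + 1) F, Cfsg.Agent.Lib.H8.TZ.PY Φ ρ Y x := by
  have h := congrArg (fun T : Module.End ℂ V => T x) (sum_PY Φ ρ)
  simp only [LinearMap.sum_apply, Module.End.one_apply] at h
  exact h.symm

/-- a vector of `ker (PY 0)` is the sum of its components with `Y ≠ 0` -/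
theorem mem_ker_PY_zero_iff (x : V) :
    x ∈ LinearMap.ker (Cfsg.Agent.Lib.H8.TZ.PY Φ ρ 0) ↔
      x ∈ Submodule.span ℂ {v : V | ∃ Y : Symm (m + 1) F, Y ≠ 0 ∧ v ∈ LinearMap.range (Cfsg.Agent.Lib.H8.TZ.PY Φ ρ Y)} := by
  classical
  constructor
  · intro hx
    rw [LinearMap.mem_ker] at hx
    rw [eq_sum_PY Φ ρ x]
    apply Submodule.sum_mem
    intro Y _
    by_cases hY : Y = 0
    · rw [hY, hx]
      exact Submodule.zero_mem _
    · exact Submodule.subset_span ⟨Y, hY, ⟨x, rfl⟩⟩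
  · intro hx
    induction hx using Submodule.span_induction with
    | mem v hv =>
      obtain ⟨Y, hY, ⟨v', rfl⟩⟩ := hv
      rw [LinearMap.mem_ker, ← Module.End.mul_apply, PY_mul_PY_of_ne Φ ρ (fun h => hY h.symm)]
      rfl
    | zero => exact Submodule.zero_mem _
    | add a b _ _ ha hb => exact Submodule.add_mem _ ha hb
    | smul c a _ ha => exact Submodule.smul_mem _ c ha

/-- a vector of `ker (pU 0)` is the sum of its components with `Y_** ≠ 0` -/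
theorem mem_ker_pU_zero_iff (x : V) :
    pU Φ ρ 0 x = 0 ↔
      x ∈ Submodule.span ℂ {v : V | ∃ Y : Symm (m + 1) F, Yss Y ≠ 0 ∧ v ∈ LinearMap.range (Cfsg.Agent.Lib.H8.TZ.PY Φ ρ Y)} := by
  classical
  constructor
  · intro hx
    rw [eq_sum_PY Φ ρ x]
    apply Submodule.sum_mem
    intro Y _
    by_cases hY : Yss Y = 0
    · have h1 := PY_mul_pU Φ ρ 0 Y
      rw [if_pos hY] at h1
      have h2 := congrArg (fun T : Module.End ℂ V => T x) h1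
      simp only [Module.End.mul_apply] at h2
      rw [← h2, hx, map_zero]
      exact Submodule.zero_mem _
    · exact Submodule.subset_span ⟨Y, hY, ⟨x, rfl⟩⟩
  · intro hx
    induction hx using Submodule.span_induction with
    | mem v hv =>
      obtain ⟨Y, hY, ⟨v', rfl⟩⟩ := hv
      rw [← Module.End.mul_apply, pU_mul_PY, if_neg hY]
      rfl
    | zero => exact map_zero _
    | add a b _ _ ha hb => rw [map_add, ha, hb, add_zero]
    | smul c a _ ha => rw [map_smul, ha, smul_zero]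

end Cfsg.Agent.Lib.H20.UConc
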