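/-
S2524 (architect helper19, blueprint tools/blueprints/S2524_U.md), **Steps 4 + 5 of Theorem U as one abstract lemma** (helper20).

`W`, `V` finite-dimensional complex representations of a group `G`; subgroups `P, S, K1, H, U1, U1m` of `G`, `w ∈ P` with
`w⁻¹ K1 w ≤ S`; `p0` the projector of `W` onto `C = W^{U1}` (kernel `D`); `E` a `P`-invariant subspace containing `D` with a
complement `Kq ≤ C` of dimension `≤ 1`; `T : E → V` linear for `P`, linear for `S` on `D`, linear for `K1` on `C0 = C ∩ E`;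
every `u ∈ U1m` acts on `C0` modulo `D` by a scalar; in `V`, `U1`-fixed vectors are `H`-fixed, and a `U1`-fixed vector which is an
eigenvector of every `u ∈ U1m` is `0`.  Then `T` extends to a `G`-homomorphism `W → V`.
-/
import Mathlib

set_option autoImplicit false

namespace Cfsg.Agent.Lib.H20.UGlue

variable {G : Type*} [Group G] {W V : Type*} [AddCommGroup W] [Module ℂ W]
  [AddCommGroup V] [Module ℂ V]

/-- the subspace `C0 = C ∩ E` -/
def C0 (p0 : Module.End ℂ W) (E : Submodule ℂ W) : Submodule ℂ W where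
  carrier := {c | c ∈ E ∧ p0 c = c}
  add_mem' := by
    intro a b ha hb
    exact ⟨E.add_mem ha.1 hb.1, by rw [map_add, ha.2, hb.2]⟩
  zero_mem' := ⟨E.zero_mem, map_zero _⟩
  smul_mem' := by
    intro a x hx
    exact ⟨E.smul_mem a hx.1, by rw [map_smul, hx.2]⟩

theorem mem_C0 (p0 : Module.End ℂ W) (E : Submodule ℂ W) (c : W) : c ∈ C0 p0 E ↔ c ∈ E ∧ p0 c = c := Iff.rfl

/-- the map `(s, c) ↦ s c` on formal combinations -/
noncomputable def piW (rW : G →* Module.End ℂ W) (S : Subgroup G) (p0 : Module.End ℂ W) (E : Submodule ℂ W) :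
    (S × C0 p0 E →₀ ℂ) →ₗ[ℂ] W :=
  Finsupp.linearCombination ℂ (fun i : S × C0 p0 E => rW (i.1 : G) (i.2 : W))

/-- the map `(s, c) ↦ s T(c)` on formal combinations -/
noncomputable def piV (rV : G →* Module.End ℂ V) (S : Subgroup G) (p0 : Module.End ℂ W) (E : Submodule ℂ W)
    (T : W →ₗ[ℂ] V) : (S × C0 p0 E →₀ ℂ) →ₗ[ℂ] V :=
  Finsupp.linearCombination ℂ (fun i : S × C0 p0 E => rV (i.1 : G) (T (i.2 : W)))

theorem piW_single (rW : G →* Module.End ℂ W) (S : Subgroup G) (p0 : Module.End ℂ W) (E : Submodule ℂ W)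
    (i : S × C0 p0 E) (a : ℂ) : piW rW S p0 E (Finsupp.single i a) = a • rW (i.1 : G) (i.2 : W) := by
  unfold piW
  rw [Finsupp.linearCombination_single]

theorem piV_single (rV : G →* Module.End ℂ V) (S : Subgroup G) (p0 : Module.End ℂ W) (E : Submodule ℂ W)
    (T : W →ₗ[ℂ] V) (i : S × C0 p0 E) (a : ℂ) :
    piV rV S p0 E T (Finsupp.single i a) = a • rV (i.1 : G) (T (i.2 : W)) := by
  unfold piV
  rw [Finsupp.linearCombination_single]

theorem rep_mul_apply {X : Type*} [AddCommGroup X] [Module ℂ X] (r : G →* Module.End ℂ X) (g h : G) (x : X) :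
    r (g * h) x = r g (r h x) := by
  rw [map_mul, Module.End.mul_apply]

theorem rep_inv_apply {X : Type*} [AddCommGroup X] [Module ℂ X] (r : G →* Module.End ℂ X) (g : G) (x : X) :
    r g⁻¹ (r g x) = x := by
  rw [← rep_mul_apply, inv_mul_cancel, map_one, Module.End.one_apply]

theorem rep_apply_inv {X : Type*} [AddCommGroup X] [Module ℂ X] (r : G →* Module.End ℂ X) (g : G) (x : X) :
    r g (r g⁻¹ x) = x := by
  rw [← rep_mul_apply, mul_inv_cancel, map_one, Module.End.one_apply]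

/-- the subgroup of elements commuting with a linear map between two representations -/
def intertwineSubgroup (rW : G →* Module.End ℂ W) (rV : G →* Module.End ℂ V) (Θ : W →ₗ[ℂ] V) : Subgroup G where
  carrier := {g | ∀ x, Θ (rW g x) = rV g (Θ x)}
  one_mem' := by
    intro x
    rw [map_one, map_one, Module.End.one_apply, Module.End.one_apply]
  mul_mem' := by
    intro a b ha hb x
    rw [rep_mul_apply, rep_mul_apply, ha, hb]
  inv_mem' := by
    intro a ha x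
    have h1 : rV a (Θ (rW a⁻¹ x)) = rV a (rV a⁻¹ (Θ x)) := by
      rw [← ha, rep_apply_inv, rep_apply_inv]
    have h2 := congrArg (fun y => rV a⁻¹ y) h1
    simp only [rep_inv_apply] at h2
    exact h2

theorem mem_intertwineSubgroup (rW : G →* Module.End ℂ W) (rV : G →* Module.End ℂ V) (Θ : W →ₗ[ℂ] V) (g : G) :
    g ∈ intertwineSubgroup rW rV Θ ↔ ∀ x, Θ (rW g x) = rV g (Θ x) := Iff.rfl

/-- the stabiliser of a subspace -/
def stabSubgroup (rW : G →* Module.End ℂ W) (E : Submodule ℂ W) : Subgroup G where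
  carrier := {g | ∀ e, rW g e ∈ E ↔ e ∈ E}
  one_mem' := by
    intro e
    rw [map_one, Module.End.one_apply]
  mul_mem' := by
    intro a b ha hb e
    rw [rep_mul_apply, ha, hb]
  inv_mem' := by
    intro a ha e
    rw [← ha (rW a⁻¹ e), rep_apply_inv]

theorem le_stabSubgroup (rW : G →* Module.End ℂ W) (E : Submodule ℂ W) (A : Subgroup G)
    (hA : ∀ a ∈ A, ∀ e ∈ E, rW a e ∈ E) : A ≤ stabSubgroup rW E := by
  intro a ha e
  refine ⟨fun h => ?_, fun h => hA a ha e h⟩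
  have h1 := hA a⁻¹ (A.inv_mem ha) _ h
  rw [rep_inv_apply] at h1
  exact h1

section main

variable (rW : G →* Module.End ℂ W) (rV : G →* Module.End ℂ V)
  (P S K1 H U1 U1m : Subgroup G)
  (p0 : Module.End ℂ W) (E : Submodule ℂ W) (T : W →ₗ[ℂ] V)

/-- `p0 (s c) = s c` -/
theorem p0_piW (hp0S : ∀ s ∈ S, p0 * rW s = rW s * p0) (f : S × C0 p0 E →₀ ℂ) :
    p0 (piW rW S p0 E f) = piW rW S p0 E f := by
  have h : p0 ∘ₗ piW rW S p0 E = piW rW S p0 E := by
    apply Finsupp.lhom_ext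
    intro i a
    rw [LinearMap.comp_apply, piW_single, map_smul]
    congr 1
    have h1 := congrArg (fun X : Module.End ℂ W => X (i.2 : W)) (hp0S i.1 i.1.2)
    simp only [Module.End.mul_apply] at h1
    rw [h1, i.2.2.2]
  exact congrArg (fun X : (S × C0 p0 E →₀ ℂ) →ₗ[ℂ] W => X f) h

/-- `piV f` is fixed by `U1` -/
theorem piV_fixed (hU1H : U1 ≤ H) (hHP : H ≤ P) (hU1K : U1 ≤ K1)
    (hSK : ∀ s ∈ S, ∀ k ∈ K1, s * k = k * s)
    (hCH : ∀ x : W, p0 x = x → ∀ h ∈ H, rW h x = x)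
    (hTa : ∀ x ∈ P, ∀ e ∈ E, T (rW x e) = rV x (T e))
    (u1 : G) (hu1 : u1 ∈ U1) (f : S × C0 p0 E →₀ ℂ) :
    rV u1 (piV rV S p0 E T f) = piV rV S p0 E T f := by
  have h : rV u1 ∘ₗ piV rV S p0 E T = piV rV S p0 E T := by
    apply Finsupp.lhom_ext
    intro i a
    rw [LinearMap.comp_apply, piV_single, map_smul]
    congr 1
    rw [← rep_mul_apply, ← hSK i.1 i.1.2 u1 (hU1K hu1), rep_mul_apply,
      ← hTa u1 (hHP (hU1H hu1)) i.2 i.2.2.1, hCH _ i.2.2.2 u1 (hU1H hu1)]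
  exact congrArg (fun X : (S × C0 p0 E →₀ ℂ) →ₗ[ℂ] V => X f) h

/-- `u ∈ U1m` acts on `piW f` modulo `D` by the scalar `α` -/
theorem p0_u_piW (hUmK : U1m ≤ K1) (hSK : ∀ s ∈ S, ∀ k ∈ K1, s * k = k * s)
    (hp0S : ∀ s ∈ S, p0 * rW s = rW s * p0)
    (u : G) (hu : u ∈ U1m) (α : ℂ) (hα : ∀ c ∈ E, p0 c = c → p0 (rW u c) = α • c)
    (f : S × C0 p0 E →₀ ℂ) :
    p0 (rW u (piW rW S p0 E f)) = α • piW rW S p0 E f := by
  have h : p0 ∘ₗ rW u ∘ₗ piW rW S p0 E = α • piW rW S p0 E := by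
    apply Finsupp.lhom_ext
    intro i a
    rw [LinearMap.comp_apply, LinearMap.comp_apply, LinearMap.smul_apply, piW_single, map_smul, map_smul,
      smul_comm]
    congr 1
    rw [← rep_mul_apply, ← hSK i.1 i.1.2 u (hUmK hu), rep_mul_apply]
    have h1 := congrArg (fun X : Module.End ℂ W => X (rW u (i.2 : W))) (hp0S i.1 i.1.2)
    simp only [Module.End.mul_apply] at h1
    rw [h1, hα i.2 i.2.2.1 i.2.2.2, map_smul]
  exact congrArg (fun X : (S × C0 p0 E →₀ ℂ) →ₗ[ℂ] W => X f) h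

/-- the action of `u ∈ U1m` on `piV f` -/
theorem u_piV (hUmK : U1m ≤ K1) (hSK : ∀ s ∈ S, ∀ k ∈ K1, s * k = k * s)
    (hTb : ∀ s ∈ S, ∀ d : W, p0 d = 0 → T (rW s d) = rV s (T d))
    (hT3 : ∀ k ∈ K1, ∀ c ∈ E, p0 c = c → T (rW k c) = rV k (T c))
    (u : G) (hu : u ∈ U1m) (α : ℂ) (hα : ∀ c ∈ E, p0 c = c → p0 (rW u c) = α • c)
    (f : S × C0 p0 E →₀ ℂ) :
    rV u (piV rV S p0 E T f) =
      α • piV rV S p0 E T f + T (rW u (piW rW S p0 E f) - α • piW rW S p0 E f) := by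
  have h : rV u ∘ₗ piV rV S p0 E T =
      α • piV rV S p0 E T + T ∘ₗ (rW u - α • (1 : Module.End ℂ W)) ∘ₗ piW rW S p0 E := by
    apply Finsupp.lhom_ext
    intro i a
    rw [LinearMap.comp_apply, LinearMap.add_apply, LinearMap.smul_apply, LinearMap.comp_apply,
      LinearMap.comp_apply, piV_single, piW_single, map_smul, map_smul, map_smul, smul_comm α a, ← smul_add]
    congr 1
    rw [LinearMap.sub_apply, LinearMap.smul_apply, Module.End.one_apply]
    -- the vector `b = u c - α c` lies in `D`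
    have hb : p0 (rW u (i.2 : W) - α • (i.2 : W)) = 0 := by
      rw [map_sub, hα i.2 i.2.2.1 i.2.2.2, map_smul, i.2.2.2, sub_self]
    have h1 : rW u (rW (i.1 : G) (i.2 : W)) - α • rW (i.1 : G) (i.2 : W) =
        rW (i.1 : G) (rW u (i.2 : W) - α • (i.2 : W)) := by
      rw [map_sub, map_smul, ← rep_mul_apply, ← rep_mul_apply, hSK i.1 i.1.2 u (hUmK hu)]
    rw [h1, hTb i.1 i.1.2 _ hb, ← rep_mul_apply, ← hSK i.1 i.1.2 u (hUmK hu), rep_mul_apply,
      ← hT3 u (hUmK hu) i.2 i.2.2.1 i.2.2.2, ← map_smul, ← map_add, ← map_smul, ← map_add]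
    congr 2
    abel
  have h2 := congrArg (fun X : (S × C0 p0 E →₀ ℂ) →ₗ[ℂ] V => X f) h
  simp only [LinearMap.comp_apply, LinearMap.add_apply, LinearMap.smul_apply, LinearMap.sub_apply,
    Module.End.one_apply] at h2
  exact h2

/-- **the CLAIM**: if `piW f ∈ E` then `piV f = T (piW f)` -/
theorem claim (hU1H : U1 ≤ H) (hHP : H ≤ P) (hU1K : U1 ≤ K1) (hUmK : U1m ≤ K1)
    (hSK : ∀ s ∈ S, ∀ k ∈ K1, s * k = k * s)
    (hp0S : ∀ s ∈ S, p0 * rW s = rW s * p0)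
    (hCH : ∀ x : W, p0 x = x → ∀ h ∈ H, rW h x = x)
    (hscal : ∀ u ∈ U1m, ∃ α : ℂ, ∀ c ∈ E, p0 c = c → p0 (rW u c) = α • c)
    (hTa : ∀ x ∈ P, ∀ e ∈ E, T (rW x e) = rV x (T e))
    (hTb : ∀ s ∈ S, ∀ d : W, p0 d = 0 → T (rW s d) = rV s (T d))
    (hT3 : ∀ k ∈ K1, ∀ c ∈ E, p0 c = c → T (rW k c) = rV k (T c))
    (hKV : ∀ x : V, (∀ u ∈ U1, rV u x = x) → (∀ u ∈ U1m, ∃ α : ℂ, rV u x = α • x) → x = 0)
    (f : S × C0 p0 E →₀ ℂ) (hf : piW rW S p0 E f ∈ E) :
    piV rV S p0 E T f = T (piW rW S p0 E f) := by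
  have hc := p0_piW rW S p0 E hp0S f
  rw [← sub_eq_zero]
  apply hKV
  · intro u1 hu1
    rw [map_sub, piV_fixed rW rV P S K1 H U1 p0 E T hU1H hHP hU1K hSK hCH hTa u1 hu1 f,
      ← hTa u1 (hHP (hU1H hu1)) _ hf, hCH _ hc u1 (hU1H hu1)]
  · intro u hu
    obtain ⟨α, hα⟩ := hscal u hu
    refine ⟨α, ?_⟩
    rw [map_sub, u_piV rW rV S K1 U1m p0 E T hUmK hSK hTb hT3 u hu α hα f,
      ← hT3 u (hUmK hu) _ hf hc, map_sub, map_smul, smul_sub]
    abel

/-- `C0 ≤ range piW` -/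
theorem C0_le_range (c : W) (hc : c ∈ C0 p0 E) : c ∈ LinearMap.range (piW rW S p0 E) := by
  refine ⟨Finsupp.single ((1 : S), (⟨c, hc⟩ : C0 p0 E)) 1, ?_⟩
  rw [piW_single, one_smul]
  show rW ((1 : S) : G) c = c
  rw [Subgroup.coe_one, map_one, Module.End.one_apply]

/-- **Steps 4 + 5 of Theorem U (abstract form)**: `T` extends to a `G`-homomorphism. -/
theorem glue [FiniteDimensional ℂ W] (w : G)
    (hU1H : U1 ≤ H) (hHP : H ≤ P) (hU1K : U1 ≤ K1) (hUmK : U1m ≤ K1)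
    (hSK : ∀ s ∈ S, ∀ k ∈ K1, s * k = k * s)
    (hwP : w ∈ P) (hwK : ∀ k ∈ K1, w⁻¹ * k * w ∈ S)
    (hgen : H ⊔ S ⊔ K1 = ⊤) (hgenP : P ⊔ S = ⊤)
    (hirr : ∀ U : Submodule ℂ W, (∀ g, ∀ x ∈ U, rW g x ∈ U) → U = ⊥ ∨ U = ⊤)
    (hp0 : p0 * p0 = p0)
    (hp0S : ∀ s ∈ S, p0 * rW s = rW s * p0)
    (hCH : ∀ x : W, p0 x = x → ∀ h ∈ H, rW h x = x)
    (Kq : Submodule ℂ W) (hEP : ∀ x ∈ P, ∀ e ∈ E, rW x e ∈ E)
    (hDE : ∀ x : W, p0 x = 0 → x ∈ E) (hE0 : E ≠ ⊥) (hEK : IsCompl E Kq)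
    (hKqC : ∀ k ∈ Kq, p0 k = k) (hKq1 : Module.finrank ℂ Kq ≤ 1)
    (hscal : ∀ u ∈ U1m, ∃ α : ℂ, ∀ c ∈ E, p0 c = c → p0 (rW u c) = α • c)
    (hTa : ∀ x ∈ P, ∀ e ∈ E, T (rW x e) = rV x (T e))
    (hTb : ∀ s ∈ S, ∀ d : W, p0 d = 0 → T (rW s d) = rV s (T d))
    (hT3 : ∀ k ∈ K1, ∀ c ∈ E, p0 c = c → T (rW k c) = rV k (T c))
    (hVr1 : ∀ x : V, (∀ u ∈ U1, rV u x = x) → ∀ h ∈ H, rV h x = x)
    (hKV : ∀ x : V, (∀ u ∈ U1, rV u x = x) → (∀ u ∈ U1m, ∃ α : ℂ, rV u x = α • x) → x = 0) :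
    ∃ Θ : W →ₗ[ℂ] V, (∀ g, Θ ∘ₗ rW g = rV g ∘ₗ Θ) ∧ ∀ e ∈ E, Θ e = T e := by
  classical
  -- abbreviations
  set πW := piW rW S p0 E with hπW
  set πV := piV rV S p0 E T with hπV
  have hclaim : ∀ f : S × C0 p0 E →₀ ℂ, πW f ∈ E → πV f = T (πW f) := fun f hf =>
    claim rW rV P S K1 H U1 U1m p0 E T hU1H hHP hU1K hUmK hSK hp0S hCH hscal hTa hTb hT3 hKV f hf
  have hp0p : ∀ x, p0 (p0 x) = p0 x := by
    intro x
    have h1 := congrArg (fun X : Module.End ℂ W => X x) hp0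
    exact h1
  have hp0d : ∀ x, p0 (x - p0 x) = 0 := by
    intro x
    rw [map_sub, hp0p, sub_self]
  have hpE : ∀ e ∈ E, p0 e ∈ E := by
    intro e he
    have h1 : p0 e = e - (e - p0 e) := by abel
    rw [h1]
    exact E.sub_mem he (hDE _ (hp0d e))
  have hp0s : ∀ s ∈ S, ∀ x, p0 (rW s x) = rW s (p0 x) := by
    intro s hs x
    have h1 := congrArg (fun X : Module.End ℂ W => X x) (hp0S s hs)
    exact h1
  have hπWC : ∀ f, p0 (πW f) = πW f := fun f => p0_piW rW S p0 E hp0S f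
  -- decomposition of a `p0`-fixed vector
  have hsplit : ∀ x, p0 x = x → ∃ e ∈ C0 p0 E, ∃ k ∈ Kq, x = e + k := by
    intro x hx
    have h1 : x ∈ E ⊔ Kq := by rw [hEK.sup_eq_top]; trivial
    obtain ⟨e, he, k, hk, hsum⟩ := Submodule.mem_sup.1 h1
    refine ⟨e, ⟨he, ?_⟩, k, hk, hsum.symm⟩
    have h3 : p0 e + p0 k = e + k := by rw [← map_add, hsum, hx]
    rw [hKqC k hk] at h3
    exact add_right_cancel h3
  -- `C ≤ range πW`
  have hKle : Kq ≤ LinearMap.range πW := by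
    by_contra hK
    have hlt : Kq ⊓ LinearMap.range πW < Kq :=
      lt_of_le_of_ne inf_le_left (fun h => hK (by rw [← h]; exact inf_le_right))
    have h1 : Kq ⊓ LinearMap.range πW = ⊥ := by
      have h3 := Submodule.finrank_lt_finrank_of_lt hlt
      have h4 : Module.finrank ℂ ↥(Kq ⊓ LinearMap.range πW) = 0 := by omega
      exact Submodule.finrank_eq_zero.1 h4
    have h2 : ∀ x ∈ LinearMap.range πW, x ∈ E := by
      intro x hx
      obtain ⟨f, rfl⟩ := hx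
      obtain ⟨e, he, k, hk, hsum⟩ := hsplit _ (hπWC f)
      have h5 : k ∈ Kq ⊓ LinearMap.range πW := by
        refine ⟨hk, ?_⟩
        have h6 : k = πW f - e := by rw [hsum]; abel
        rw [h6]
        exact Submodule.sub_mem _ ⟨f, rfl⟩ (C0_le_range rW S p0 E e he)
      rw [h1] at h5
      have h7 : k = 0 := h5
      rw [hsum, h7, add_zero]
      exact he.1
    have h3 : ∀ s ∈ S, ∀ e ∈ E, rW s e ∈ E := by
      intro s hs e he
      have h4 : e = (e - p0 e) + p0 e := by abel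
      rw [h4, map_add]
      apply E.add_mem
      · apply hDE
        rw [hp0s s hs, hp0d, map_zero]
      · apply h2
        refine ⟨Finsupp.single ((⟨s, hs⟩ : S), (⟨p0 e, ⟨hpE e he, hp0p e⟩⟩ : C0 p0 E)) 1, ?_⟩
        rw [hπW, piW_single, one_smul]
    have h4 : ∀ g, ∀ e ∈ E, rW g e ∈ E := by
      intro g e he
      have h5 : g ∈ stabSubgroup rW E := by
        have h6 : P ⊔ S ≤ stabSubgroup rW E :=
          sup_le (le_stabSubgroup rW E P hEP) (le_stabSubgroup rW E S h3)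
        rw [hgenP] at h6
        exact h6 trivial
      exact (h5 e).2 he
    rcases hirr E h4 with h5 | h5
    · exact hE0 h5
    · have h6 := hEK.inf_eq_bot
      rw [h5, top_inf_eq] at h6
      apply hK
      rw [h6]
      exact bot_le
  have hCle : ∀ x, p0 x = x → x ∈ LinearMap.range πW := by
    intro x hx
    obtain ⟨e, he, k, hk, hsum⟩ := hsplit x hx
    rw [hsum]
    exact Submodule.add_mem _ (C0_le_range rW S p0 E e he) (hKle hk)
  -- a linear section of `πW`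
  obtain ⟨σ, hσ⟩ := LinearMap.exists_rightInverse_of_surjective πW.rangeRestrict (LinearMap.range_rangeRestrict πW)
  have hσ' : ∀ y : LinearMap.range πW, πW (σ y) = (y : W) := by
    intro y
    have h1 := congrArg (fun X : ↥(LinearMap.range πW) →ₗ[ℂ] ↥(LinearMap.range πW) => ((X y : ↥(LinearMap.range πW)) : W)) hσ
    exact h1
  let pC : W →ₗ[ℂ] ↥(LinearMap.range πW) :=
    LinearMap.codRestrict (LinearMap.range πW) p0 (fun x => hCle (p0 x) (hp0p x))
  have hpC : ∀ x, ((pC x : ↥(LinearMap.range πW)) : W) = p0 x := fun x => rfl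
  let Tt : W →ₗ[ℂ] V := T ∘ₗ ((1 : Module.End ℂ W) - p0) + πV ∘ₗ σ ∘ₗ pC
  have hTt : ∀ x, Tt x = T (x - p0 x) + πV (σ (pC x)) := fun x => rfl
  have hπσ : ∀ x, πW (σ (pC x)) = p0 x := fun x => by rw [hσ', hpC]
  have hTtC : ∀ f, Tt (πW f) = πV f := by
    intro f
    rw [hTt, hπWC, sub_self, map_zero, zero_add]
    have h1 : πW (σ (pC (πW f)) - f) = 0 := by
      rw [map_sub, hπσ, hπWC, sub_self]
    have h2 := hclaim (σ (pC (πW f)) - f) (by rw [h1]; exact E.zero_mem)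
    rw [h1, map_zero, map_sub, sub_eq_zero] at h2
    exact h2
  have hTtD : ∀ d, p0 d = 0 → Tt d = T d := by
    intro d hd
    have h1 : pC d = 0 := Subtype.ext (by rw [hpC, hd]; rfl)
    rw [hTt, hd, sub_zero, h1, map_zero, map_zero, add_zero]
  have hdec : ∀ x, ∃ f, x = (x - p0 x) + πW f := by
    intro x
    refine ⟨σ (pC x), ?_⟩
    rw [hπσ]
    abel
  have hTtE : ∀ e ∈ E, Tt e = T e := by
    intro e he
    have h1 : e = (e - p0 e) + p0 e := by abel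
    have h2 : Tt (p0 e) = T (p0 e) := by
      have h3 : p0 e = πW (σ (pC e)) := (hπσ e).symm
      have h4 := hclaim (σ (pC e)) (by rw [hπσ]; exact hpE e he)
      rw [h3, hTtC, h4]
    calc Tt e = Tt (e - p0 e) + Tt (p0 e) := by rw [← map_add]; congr 1
      _ = T (e - p0 e) + T (p0 e) := by rw [hTtD _ (hp0d e), h2]
      _ = T e := by rw [← map_add]; congr 1; abel
  -- `S`-linearity
  have hS : ∀ s ∈ S, ∀ x, Tt (rW s x) = rV s (Tt x) := by
    intro s hs x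
    have hCs : ∀ f, Tt (rW s (πW f)) = rV s (πV f) := by
      intro f
      have h : Tt ∘ₗ rW s ∘ₗ πW = rV s ∘ₗ πV := by
        apply Finsupp.lhom_ext
        intro i a
        rw [LinearMap.comp_apply, LinearMap.comp_apply, LinearMap.comp_apply, hπW, hπV, piW_single, piV_single,
          map_smul, map_smul, map_smul]
        congr 1
        have h1 : rW s (rW (i.1 : G) (i.2 : W)) =
            piW rW S p0 E (Finsupp.single ((⟨s, hs⟩ : S) * i.1, i.2) 1) := by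
          rw [piW_single, one_smul, Subgroup.coe_mul, rep_mul_apply]
        rw [h1, ← hπW, hTtC, hπV, piV_single, one_smul, Subgroup.coe_mul, rep_mul_apply]
      exact congrArg (fun X : (S × C0 p0 E →₀ ℂ) →ₗ[ℂ] V => X f) h
    obtain ⟨f, hf⟩ := hdec x
    have hd : p0 (rW s (x - p0 x)) = 0 := by rw [hp0s s hs, hp0d, map_zero]
    calc Tt (rW s x) = Tt (rW s (x - p0 x)) + Tt (rW s (πW f)) := by
          rw [← map_add, ← map_add, ← hf]
      _ = rV s (T (x - p0 x)) + rV s (πV f) := by rw [hTtD _ hd, hTb s hs _ (hp0d x), hCs]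
      _ = rV s (Tt (x - p0 x) + Tt (πW f)) := by rw [hTtD _ (hp0d x), hTtC, map_add]
      _ = rV s (Tt x) := by rw [← map_add, ← hf]
  -- `H`-linearity
  have hH : ∀ h ∈ H, ∀ x, Tt (rW h x) = rV h (Tt x) := by
    intro h hh x
    obtain ⟨f, hf⟩ := hdec x
    have hd : x - p0 x ∈ E := hDE _ (hp0d x)
    have h1 : Tt (rW h (x - p0 x)) = rV h (Tt (x - p0 x)) := by
      rw [hTtE _ (hEP h (hHP hh) _ hd), hTa h (hHP hh) _ hd, hTtE _ hd]
    have h2 : Tt (rW h (πW f)) = rV h (Tt (πW f)) := by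
      rw [hCH _ (hπWC f) h hh, hTtC]
      exact (hVr1 _ (fun u1 hu1 =>
        piV_fixed rW rV P S K1 H U1 p0 E T hU1H hHP hU1K hSK hCH hTa u1 hu1 f) h hh).symm
    calc Tt (rW h x) = Tt (rW h (x - p0 x)) + Tt (rW h (πW f)) := by
          rw [← map_add, ← map_add, ← hf]
      _ = rV h (Tt (x - p0 x) + Tt (πW f)) := by rw [h1, h2, map_add]
      _ = rV h (Tt x) := by rw [← map_add, ← hf]
  -- `U1m`-linearity on `C`
  have hUmD : ∀ u ∈ U1m, ∀ α : ℂ, (∀ c ∈ E, p0 c = c → p0 (rW u c) = α • c) →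
      ∀ f, p0 (rW u (πW f) - α • πW f) = 0 := by
    intro u hu α hα f
    rw [map_sub, p0_u_piW rW S K1 U1m p0 E hUmK hSK hp0S u hu α hα f, map_smul, hπWC, sub_self]
  have hUm : ∀ u ∈ U1m, ∀ f, Tt (rW u (πW f)) = rV u (Tt (πW f)) := by
    intro u hu f
    obtain ⟨α, hα⟩ := hscal u hu
    have h1 : rW u (πW f) = α • πW f + (rW u (πW f) - α • πW f) := by abel
    rw [hTtC, u_piV rW rV S K1 U1m p0 E T hUmK hSK hTb hT3 u hu α hα f, h1, map_add, map_smul, hTtC,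
      hTtD _ (hUmD u hu α hα f)]
    congr 2
    abel
  -- the conjugate map
  let Tt2 : W →ₗ[ℂ] V := rV w ∘ₗ Tt ∘ₗ rW w⁻¹
  have hTt2 : ∀ x, Tt2 x = rV w (Tt (rW w⁻¹ x)) := fun x => rfl
  have hTt2E : ∀ e ∈ E, Tt2 e = T e := by
    intro e he
    rw [hTt2, hTtE _ (hEP _ (P.inv_mem hwP) e he), hTa _ (P.inv_mem hwP) e he, rep_apply_inv]
  have hK : ∀ k ∈ K1, ∀ x, Tt2 (rW k x) = rV k (Tt2 x) := by
    intro k hk x
    have h1 : rW w⁻¹ (rW k x) = rW (w⁻¹ * k * w) (rW w⁻¹ x) := by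
      rw [← rep_mul_apply, ← rep_mul_apply]
      congr 2
      group
    rw [hTt2, h1, hS _ (hwK k hk), hTt2, ← rep_mul_apply, ← rep_mul_apply]
    congr 2
    group
  -- `Tt = Tt2`
  have heq : ∀ x, Tt x = Tt2 x := by
    have hq : ∀ k0 ∈ Kq, Tt k0 = Tt2 k0 := by
      intro k0 hk0
      obtain ⟨f0, hf0⟩ := hCle k0 (hKqC k0 hk0)
      rw [← sub_eq_zero]
      apply hKV
      · intro u1 hu1
        rw [map_sub, ← hH u1 (hU1H hu1), ← hK u1 (hU1K hu1), hCH _ (hKqC k0 hk0) u1 (hU1H hu1)]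
      · intro u hu
        obtain ⟨α, hα⟩ := hscal u hu
        refine ⟨α, ?_⟩
        have hb := hUmD u hu α hα f0
        have hbE : rW u (πW f0) - α • πW f0 ∈ E := hDE _ hb
        have h1 : rW u k0 = α • k0 + (rW u (πW f0) - α • πW f0) := by rw [hf0]; abel
        have h2 : rV u (Tt k0) = Tt (rW u k0) := by rw [← hf0, hUm u hu f0]
        rw [map_sub, h2, ← hK u (hUmK hu), h1, map_add, map_add, map_smul, map_smul, hTtE _ hbE, hTt2E _ hbE,
          smul_sub]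
        abel
    intro x
    have h1 : x ∈ E ⊔ Kq := by rw [hEK.sup_eq_top]; trivial
    obtain ⟨e, he, k, hk, hsum⟩ := Submodule.mem_sup.1 h1
    rw [← hsum, map_add, map_add, hTtE e he, hTt2E e he, hq k hk]
  -- conclusion
  refine ⟨Tt, fun g => ?_, hTtE⟩
  have hg : g ∈ intertwineSubgroup rW rV Tt := by
    have h1 : H ⊔ S ⊔ K1 ≤ intertwineSubgroup rW rV Tt := by
      refine sup_le (sup_le ?_ ?_) ?_
      · intro h hh
        exact hH h hh
      · intro s hs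
        exact hS s hs
      · intro k hk x
        rw [heq, hK k hk, ← heq]
    rw [hgen] at h1
    exact h1 trivial
  apply LinearMap.ext
  intro x
  exact hg x

end main

end Cfsg.Agent.Lib.H20.UGlue
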