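/-
S2524 (architect helper19, blueprint tools/blueprints/S2524_U.md): three more abstract lemmas for Theorem U (helper20).
* `kv`    : hypothesis `hKV` of `UGlue.glue` from the group facts (g2), (g4), normal subgroups containing `H`, (r1) and `V^G = 0`.
* `step3` : hypothesis `hT3` of `UGlue.glue` (Step 3): `T` is `K1`-linear on the span of the `w_j D`.
* `scalar_of_transitive` : the transitivity lemma behind `hscal` (Step 4, first lines).
-/
import Cfsg.Agent.Lib.H20.UGlue

set_option autoImplicit false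

namespace Cfsg.Agent.Lib.H20.UGlue

variable {G : Type*} [Group G] {W V : Type*} [AddCommGroup W] [Module ℂ W]
  [AddCommGroup V] [Module ℂ V]

/-- the stabiliser of a vector -/
def fixSubgroup (rV : G →* Module.End ℂ V) (x : V) : Subgroup G where
  carrier := {g | rV g x = x}
  one_mem' := by
    show rV 1 x = x
    rw [map_one, Module.End.one_apply]
  mul_mem' := by
    intro a b ha hb
    show rV (a * b) x = x
    rw [rep_mul_apply, hb, ha]
  inv_mem' := by
    intro a ha
    show rV a⁻¹ x = x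
    have h1 : rV a⁻¹ (rV a x) = x := rep_inv_apply rV a x
    rw [ha] at h1
    exact h1

/-- the stabiliser of the line through a non-zero vector -/
def lineSubgroup (rV : G →* Module.End ℂ V) (x : V) (hx : x ≠ 0) : Subgroup G where
  carrier := {g | ∃ β : ℂ, rV g x = β • x}
  one_mem' := ⟨1, by rw [map_one, Module.End.one_apply, one_smul]⟩
  mul_mem' := by
    rintro a b ⟨β, hβ⟩ ⟨γ, hγ⟩
    exact ⟨γ * β, by rw [rep_mul_apply, hγ, map_smul, hβ, smul_smul]⟩
  inv_mem' := by
    rintro a ⟨β, hβ⟩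
    have hβ0 : β ≠ 0 := by
      intro h0
      rw [h0, zero_smul] at hβ
      have h1 := rep_inv_apply rV a x
      rw [hβ, map_zero] at h1
      exact hx h1.symm
    refine ⟨β⁻¹, ?_⟩
    have h1 := rep_inv_apply rV a x
    rw [hβ, map_smul] at h1
    calc rV a⁻¹ x = β⁻¹ • (β • rV a⁻¹ x) := by rw [smul_smul, inv_mul_cancel₀ hβ0, one_smul]
      _ = β⁻¹ • x := by rw [h1]

/-- **(U-KV)**: a `U1`-fixed vector which is an eigenvector of every element of `U1m` vanishes. -/
theorem kv (rV : G →* Module.End ℂ V) (S K1 H U1 U1m : Subgroup G)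
    (hK1 : K1 = U1 ⊔ U1m)
    (hconj : K1 = Subgroup.closure {g | ∃ k ∈ K1, ∃ u ∈ U1, g = k * u * k⁻¹})
    (hSK : ∀ s ∈ S, ∀ k ∈ K1, s * k = k * s)
    (hgen : H ⊔ S ⊔ K1 = ⊤)
    (hnormal : ∀ N : Subgroup G, N.Normal → H ≤ N → N = ⊤)
    (hVr1 : ∀ x : V, (∀ u ∈ U1, rV u x = x) → ∀ h ∈ H, rV h x = x)
    (hv1 : ∀ x : V, (∀ g, rV g x = x) → x = 0) :
    ∀ x : V, (∀ u ∈ U1, rV u x = x) → (∀ u ∈ U1m, ∃ α : ℂ, rV u x = α • x) → x = 0 := by
  intro x hx1 hxm
  by_contra hx0
  have hU1K : U1 ≤ K1 := by rw [hK1]; exact le_sup_left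
  -- `K1` stabilises the line
  have hline : K1 ≤ lineSubgroup rV x hx0 := by
    rw [hK1]
    refine sup_le ?_ ?_
    · intro u hu
      exact ⟨1, by rw [hx1 u hu, one_smul]⟩
    · intro u hu
      exact hxm u hu
  -- `K1` fixes `x`
  have hfix : K1 ≤ fixSubgroup rV x := by
    rw [hconj, Subgroup.closure_le]
    rintro g ⟨k, hk, u, hu, rfl⟩
    obtain ⟨β, hβ⟩ := hline (K1.inv_mem hk)
    show rV (k * u * k⁻¹) x = x
    rw [rep_mul_apply, rep_mul_apply, hβ, map_smul, hx1 u hu, ← hβ, rep_apply_inv]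
  -- the space of `K1`-fixed vectors
  let N : Submodule ℂ V :=
    { carrier := {v | ∀ k ∈ K1, rV k v = v}
      add_mem' := by
        intro a b ha hb k hk
        rw [map_add, ha k hk, hb k hk]
      zero_mem' := fun k _ => map_zero _
      smul_mem' := by
        intro c a ha k hk
        rw [map_smul, ha k hk] }
  have hxN : x ∈ N := fun k hk => hfix hk
  have hHN : ∀ h ∈ H, ∀ v ∈ N, rV h v = v := by
    intro h hh v hv
    exact hVr1 v (fun u hu => hv u (hU1K hu)) h hh
  have hSN : ∀ s ∈ S, ∀ v ∈ N, rV s v ∈ N := by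
    intro s hs v hv k hk
    rw [← rep_mul_apply, ← hSK s hs k hk, rep_mul_apply, hv k hk]
  have hGN : ∀ g, ∀ v ∈ N, rV g v ∈ N := by
    intro g v hv
    have h5 : g ∈ stabSubgroup rV N := by
      have h6 : H ⊔ S ⊔ K1 ≤ stabSubgroup rV N := by
        refine sup_le (sup_le ?_ ?_) ?_
        · apply le_stabSubgroup
          intro h hh v hv
          rw [hHN h hh v hv]
          exact hv
        · exact le_stabSubgroup rV N S hSN
        · apply le_stabSubgroup
          intro k hk v hv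
          rw [hv k hk]
          exact hv
      rw [hgen] at h6
      exact h6 trivial
    exact (h5 v).2 hv
  -- the kernel of `G` on `N`
  let Ker : Subgroup G :=
    { carrier := {g | ∀ v ∈ N, rV g v = v}
      one_mem' := by
        intro v _
        rw [map_one, Module.End.one_apply]
      mul_mem' := by
        intro a b ha hb v hv
        rw [rep_mul_apply, hb v hv, ha v hv]
      inv_mem' := by
        intro a ha v hv
        have h1 := rep_inv_apply rV a v
        rw [ha v hv] at h1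
        exact h1 }
  have hKerN : Ker.Normal := by
    refine ⟨fun n hn g v hv => ?_⟩
    rw [rep_mul_apply, rep_mul_apply, hn _ (hGN g⁻¹ v hv), rep_apply_inv]
  have hKer : Ker = ⊤ := hnormal Ker hKerN (fun h hh => hHN h hh)
  apply hx0
  apply hv1
  intro g
  have hg : g ∈ Ker := by rw [hKer]; trivial
  exact hg x hxN

/-- **(U-STEP3)**: `T` is `K1`-linear on the span of the translates `w_j D`. -/
theorem step3 {J : Type*} (rW : G →* Module.End ℂ W) (rV : G →* Module.End ℂ V) (P S K1 : Subgroup G)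
    (p0 : Module.End ℂ W) (E : Submodule ℂ W) (T : W →ₗ[ℂ] V) (wj : J → G)
    (hwP : ∀ j, wj j ∈ P) (hwK : ∀ j, ∀ k ∈ K1, (wj j)⁻¹ * k * wj j ∈ S)
    (hp0S : ∀ s ∈ S, p0 * rW s = rW s * p0)
    (hDE : ∀ x : W, p0 x = 0 → x ∈ E)
    (hTa : ∀ x ∈ P, ∀ e ∈ E, T (rW x e) = rV x (T e))
    (hTb : ∀ s ∈ S, ∀ d : W, p0 d = 0 → T (rW s d) = rV s (T d))
    (k : G) (hk : k ∈ K1) (x : W)
    (hx : x ∈ Submodule.span ℂ {y : W | ∃ (j : J) (d : W), p0 d = 0 ∧ y = rW (wj j) d}) :
    T (rW k x) = rV k (T x) := by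
  induction hx using Submodule.span_induction with
  | mem y hy =>
    obtain ⟨j, d, hd, rfl⟩ := hy
    have hs := hwK j k hk
    have hd' : p0 (rW ((wj j)⁻¹ * k * wj j) d) = 0 := by
      have h1 := congrArg (fun X : Module.End ℂ W => X d) (hp0S _ hs)
      simp only [Module.End.mul_apply] at h1
      rw [h1, hd, map_zero]
    have h1 : rW k (rW (wj j) d) = rW (wj j) (rW ((wj j)⁻¹ * k * wj j) d) := by
      rw [← rep_mul_apply, ← rep_mul_apply]
      congr 2
      group
    rw [h1, hTa _ (hwP j) _ (hDE _ hd'), hTb _ hs d hd, hTa _ (hwP j) _ (hDE _ hd), ← rep_mul_apply,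
      ← rep_mul_apply]
    congr 2
    group
  | zero => simp
  | add a b _ _ ha hb => rw [map_add, map_add, ha, hb, map_add, map_add]
  | smul c a _ ha => rw [map_smul, map_smul, ha, map_smul, map_smul]

/-- **(U-SCAL)**: a linear map preserving each member of a spanning family of subspaces of dimension `≤ 1` and commuting with
operators that permute the family transitively acts as a scalar. -/
theorem scalar_of_transitive {Γ : Type*} {I : Type*} (M : Submodule ℂ W) (A : W →ₗ[ℂ] W)
    (Mi : I → Submodule ℂ W) (hspan : M ≤ ⨆ i, Mi i) (hdim : ∀ i, Module.finrank ℂ (Mi i) ≤ 1)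
    [∀ i, Module.Finite ℂ (Mi i)]
    (hA : ∀ i, ∀ m ∈ Mi i, A m ∈ Mi i)
    (act : Γ → W →ₗ[ℂ] W) (hcomm : ∀ γ i, ∀ m ∈ Mi i, A (act γ m) = act γ (A m))
    (htrans : ∀ i j, ∃ γ, ∀ m ∈ Mi j, ∃ m' ∈ Mi i, m = act γ m') :
    ∃ α : ℂ, ∀ m ∈ M, A m = α • m := by
  classical
  by_cases hI : Nonempty I
  · obtain ⟨i0⟩ := hI
    -- the scalar on `Mi i0`
    have h0 : ∃ α : ℂ, ∀ m ∈ Mi i0, A m = α • m := by
      obtain ⟨v, hv⟩ := finrank_le_one_iff.1 (hdim i0)
      obtain ⟨c, hc⟩ := hv ⟨A v, hA i0 v v.2⟩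
      refine ⟨c, fun m hm => ?_⟩
      obtain ⟨b, hb⟩ := hv ⟨m, hm⟩
      have hb' : m = b • (v : W) := by
        have := congrArg Subtype.val hb
        exact this.symm
      have hc' : A (v : W) = c • (v : W) := by
        have := congrArg Subtype.val hc
        exact this.symm
      rw [hb', map_smul, hc', smul_comm]
    obtain ⟨α, hα⟩ := h0
    have key : ∀ y ∈ ⨆ i, Mi i, A y = α • y := by
      intro y hy
      induction hy using Submodule.iSup_induction' with
      | mem j y hy =>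
        obtain ⟨γ, hγ⟩ := htrans i0 j
        obtain ⟨m', hm', rfl⟩ := hγ y hy
        rw [hcomm γ i0 m' hm', hα m' hm', map_smul]
      | zero => rw [map_zero, smul_zero]
      | add a b _ _ ha hb => rw [map_add, ha, hb, smul_add]
    exact ⟨α, fun m hm => key m (hspan hm)⟩
  · refine ⟨0, fun m hm => ?_⟩
    have h1 : (⨆ i, Mi i) = ⊥ := by
      rw [iSup_eq_bot]
      intro i
      exact absurd ⟨i⟩ hI
    have h2 := hspan hm
    rw [h1] at h2
    have h3 : m = 0 := h2
    rw [h3, map_zero, smul_zero]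

end Cfsg.Agent.Lib.H20.UGlue
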