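/-
S2524 (architect helper19, blueprint tools/blueprints/S2524_U.md), **final assembly of Theorem U** (helper20).

`thmU_core`: the abstract `UGlue.glue` instantiated at `G = Sp_2(m+1)(F)`, `P = Ps`, `S = Ss`, `K1`, `H = Hs`, `U1`, `U1m`,
`p0 = pU Φ ρW 0` (projector on `W^{U1}`), `E = ker (PY Φ ρW 0)`, `Kq = range (PY Φ ρW 0) = W^Q`; every hypothesis of `glue` which is a
group fact or a fact of the `PY`-calculus is discharged here; what remains are the `P`-map `T` (Steps 1 + 2), the span statement (r4)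
for Step 3 and the scalar statement of Step 4.
-/
import Cfsg.Agent.Lib.H20.UGlue2
import Cfsg.Agent.Lib.H20.UConc1
import Cfsg.Agent.Lib.H2.SpUG3
import Cfsg.Agent.Lib.H11.S2524G1b
import Cfsg.Agent.Lib.H25.S2524R
import Cfsg.Agent.Lib.H19.TZScal

set_option autoImplicit false
set_option linter.unusedSectionVars false
set_option linter.unusedVariables false

namespace Cfsg.Agent.Lib.H20.ThmU

open Matrix Module Cfsg.Agent.Lib.H12.LS2 Cfsg.Agent.Lib.H5.LS2 Cfsg.Agent.Lib.H20.Weil Cfsg.Agent.Lib.H4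
open Cfsg.Agent.Lib.H11.SpU Cfsg.Agent.Lib.H20.UConc

variable {F : Type*} [Field F] [Fintype F]

/-- **Theorem U, core form**: the gluing with all group facts and all facts of the `PY`-calculus discharged. -/
theorem thmU_core {m : ℕ} (hm : 1 ≤ m) [Fintype (Symm (m + 1) F)]
    (χ : AddChar F ℂ) (Φ : Symm (m + 1) F ≃ AddChar (Symm (m + 1) F) ℂ)
    (hΦ : ∀ Y X : Symm (m + 1) F, Φ Y X =
      χ (Matrix.trace ((X : Matrix (Fin (m + 1)) (Fin (m + 1)) F) * (Y : Matrix (Fin (m + 1)) (Fin (m + 1)) F))))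
    {W V : Type*} [AddCommGroup W] [Module ℂ W] [FiniteDimensional ℂ W]
    [AddCommGroup V] [Module ℂ V] [FiniteDimensional ℂ V]
    (ρW : Matrix.symplecticGroup (Fin (m + 1)) F →* Module.End ℂ W)
    (ρV : Matrix.symplecticGroup (Fin (m + 1)) F →* Module.End ℂ V)
    (hW1 : Cfsg.Agent.Lib.H8.TZ.R1 Φ ρW) (hV1 : Cfsg.Agent.Lib.H8.TZ.R1 Φ ρV)
    (hWirr : ∀ U : Submodule ℂ W, (∀ g, ∀ w ∈ U, ρW g w ∈ U) → U = ⊥ ∨ U = ⊤)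
    (hw2 : finrank ℂ (LinearMap.range (Cfsg.Agent.Lib.H8.TZ.PY Φ ρW 0)) ≤ 1)
    (hv1 : ∀ v : V, (∀ g, ρV g v = v) → v = 0)
    (hE0 : LinearMap.ker (Cfsg.Agent.Lib.H8.TZ.PY Φ ρW 0) ≠ ⊥)
    (T : W →ₗ[ℂ] V)
    (hTa : ∀ x ∈ Ps (m + 1) F, ∀ e ∈ LinearMap.ker (Cfsg.Agent.Lib.H8.TZ.PY Φ ρW 0), T (ρW x e) = ρV x (T e))
    (hTb : ∀ s ∈ Ss m F, ∀ d : W, pU Φ ρW 0 d = 0 → T (ρW s d) = ρV s (T d))
    (hC0 : ∀ c ∈ LinearMap.ker (Cfsg.Agent.Lib.H8.TZ.PY Φ ρW 0), pU Φ ρW 0 c = c →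
      c ∈ Submodule.span ℂ {x : W | ∃ (j : Fin m) (d : W), pU Φ ρW 0 d = 0 ∧ x = ρW (wj (Fin.castSucc j)) d})
    (hscal : ∀ u ∈ U1m m F, ∃ α : ℂ, ∀ c ∈ LinearMap.ker (Cfsg.Agent.Lib.H8.TZ.PY Φ ρW 0),
      pU Φ ρW 0 c = c → pU Φ ρW 0 (ρW u c) = α • c) :
    ∃ Θ : W →ₗ[ℂ] V, (∀ g, Θ ∘ₗ ρW g = ρV g ∘ₗ Θ) ∧
      ∀ e ∈ LinearMap.ker (Cfsg.Agent.Lib.H8.TZ.PY Φ ρW 0), Θ e = T e := by
  obtain ⟨j0⟩ : Nonempty (Fin m) := ⟨⟨0, hm⟩⟩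
  have hLP : Ls (m + 1) F ≤ Ps (m + 1) F := le_sup_right
  have hwP : ∀ j : Fin m, (wj (Fin.castSucc j) : Sp (m + 1) F) ∈ Ps (m + 1) F := fun j => hLP (wj_mem_Ls _)
  have hwK : ∀ j : Fin m, ∀ k ∈ K1 m F,
      (wj (Fin.castSucc j) : Sp (m + 1) F)⁻¹ * k * wj (Fin.castSucc j) ∈ Ss m F :=
    fun j k hk => Cfsg.Agent.Lib.H2.SpU.wj_conj_mem_Ss' j hk
  have hSK : ∀ s ∈ Ss m F, ∀ k ∈ K1 m F, s * k = k * s := fun s hs k hk => Ss_comm_K1 hs hk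
  have hp0S : ∀ s ∈ Ss m F, pU Φ ρW 0 * ρW s = ρW s * pU Φ ρW 0 := fun s hs => pU_commute_Ss χ Φ hΦ ρW 0 s hs
  have hDE : ∀ x : W, pU Φ ρW 0 x = 0 → x ∈ LinearMap.ker (Cfsg.Agent.Lib.H8.TZ.PY Φ ρW 0) := fun x hx =>
    LinearMap.mem_ker.2 (PY_zero_eq_zero_of_pU Φ ρW x hx)
  have hCH : ∀ x : W, pU Φ ρW 0 x = x → ∀ h ∈ Hs m F, ρW h x = x := fun x hx =>
    Cfsg.Agent.Lib.H25.SpR.fixed_Hs_of_fixed_U1 χ Φ hΦ ρW hW1 Hs_le_closure_conj_As x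
      ((pU_zero_apply_eq_iff χ Φ hΦ ρW x).1 hx)
  have hVr1 : ∀ x : V, (∀ u ∈ U1 m F, ρV u x = x) → ∀ h ∈ Hs m F, ρV h x = x := fun x hx =>
    Cfsg.Agent.Lib.H25.SpR.fixed_Hs_of_fixed_U1 χ Φ hΦ ρV hV1 Hs_le_closure_conj_As x hx
  have hKV := Cfsg.Agent.Lib.H20.UGlue.kv ρV (Ss m F) (K1 m F) (Hs m F) (U1 m F) (U1m m F)
    Cfsg.Agent.Lib.H2.SpU.K1_eq_sup Cfsg.Agent.Lib.H2.SpU.K1_eq_closure_conj_U1 hSK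
    Cfsg.Agent.Lib.H2.SpU.Hs_sup_Ss_sup_K1_eq_top
    (fun N hN h => Cfsg.Agent.Lib.H2.SpU.eq_top_of_normal_of_Hs_le N hN h) hVr1 hv1
  have hT3 : ∀ k ∈ K1 m F, ∀ c ∈ LinearMap.ker (Cfsg.Agent.Lib.H8.TZ.PY Φ ρW 0), pU Φ ρW 0 c = c →
      T (ρW k c) = ρV k (T c) := fun k hk c hc hpc =>
    Cfsg.Agent.Lib.H20.UGlue.step3 ρW ρV (Ps (m + 1) F) (Ss m F) (K1 m F) (pU Φ ρW 0)
      (LinearMap.ker (Cfsg.Agent.Lib.H8.TZ.PY Φ ρW 0)) T (fun j : Fin m => (wj (Fin.castSucc j) : Sp (m + 1) F))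
      hwP hwK hp0S hDE hTa hTb k hk c (hC0 c hc hpc)
  exact Cfsg.Agent.Lib.H20.UGlue.glue ρW ρV (Ps (m + 1) F) (Ss m F) (K1 m F) (Hs m F) (U1 m F) (U1m m F)
    (pU Φ ρW 0) (LinearMap.ker (Cfsg.Agent.Lib.H8.TZ.PY Φ ρW 0)) T (wj (Fin.castSucc j0))
    (U1_le_As.trans As_le_Hs) Cfsg.Agent.Lib.H2.SpU.Hs_le_Ps U1_le_K1 U1m_le_K1 hSK (hwP j0) (hwK j0)
    Cfsg.Agent.Lib.H2.SpU.Hs_sup_Ss_sup_K1_eq_top (Cfsg.Agent.Lib.H2.SpU.Ps_sup_Ss_eq_top hm) hWirr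
    (pU_mul_pU χ Φ hΦ ρW 0) hp0S hCH (LinearMap.range (Cfsg.Agent.Lib.H8.TZ.PY Φ ρW 0))
    (fun x hx e he => ker_PY_zero_invariant χ Φ hΦ ρW x hx e he) hDE hE0
    (isCompl_ker_range_PY_zero Φ ρW) (fun k hk => pU_apply_of_mem_range Φ ρW k hk) hw2 hscal hTa hTb hT3 hVr1 hKV

/-- **Theorem U, given the `P`-map `T`** (Steps 3, 4, 5): (r4) and (HSCAL) discharged as well. -/
theorem thmU_of_T {m : ℕ} (hm : 1 ≤ m) [Fintype (Symm (m + 1) F)]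
    (χ : AddChar F ℂ) (Φ : Symm (m + 1) F ≃ AddChar (Symm (m + 1) F) ℂ)
    (hΦ : ∀ Y X : Symm (m + 1) F, Φ Y X =
      χ (Matrix.trace ((X : Matrix (Fin (m + 1)) (Fin (m + 1)) F) * (Y : Matrix (Fin (m + 1)) (Fin (m + 1)) F))))
    {W V : Type*} [AddCommGroup W] [Module ℂ W] [FiniteDimensional ℂ W]
    [AddCommGroup V] [Module ℂ V] [FiniteDimensional ℂ V]
    (ρW : Matrix.symplecticGroup (Fin (m + 1)) F →* Module.End ℂ W)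
    (ρV : Matrix.symplecticGroup (Fin (m + 1)) F →* Module.End ℂ V)
    (hW1 : Cfsg.Agent.Lib.H8.TZ.R1 Φ ρW) (hV1 : Cfsg.Agent.Lib.H8.TZ.R1 Φ ρV)
    (hWirr : ∀ U : Submodule ℂ W, (∀ g, ∀ w ∈ U, ρW g w ∈ U) → U = ⊥ ∨ U = ⊤)
    (hw2 : ∀ Y : Symm (m + 1) F, finrank ℂ (LinearMap.range (Cfsg.Agent.Lib.H8.TZ.PY Φ ρW Y)) ≤ 1)
    (hw3 : ∀ Y Y' : Symm (m + 1) F, Y ≠ 0 → Y' ≠ 0 → Cfsg.Agent.Lib.H8.TZ.PY Φ ρW Y ≠ 0 →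
      Cfsg.Agent.Lib.H8.TZ.PY Φ ρW Y' ≠ 0 → Y' ∈ Cfsg.Agent.Lib.H8.TZ.orbS Y)
    (hv1 : ∀ v : V, (∀ g, ρV g v = v) → v = 0)
    (hE0 : LinearMap.ker (Cfsg.Agent.Lib.H8.TZ.PY Φ ρW 0) ≠ ⊥)
    (T : W →ₗ[ℂ] V)
    (hTa : ∀ x ∈ Ps (m + 1) F, ∀ e ∈ LinearMap.ker (Cfsg.Agent.Lib.H8.TZ.PY Φ ρW 0), T (ρW x e) = ρV x (T e))
    (hTb : ∀ s ∈ Ss m F, ∀ d : W, pU Φ ρW 0 d = 0 → T (ρW s d) = ρV s (T d)) :
    ∃ Θ : W →ₗ[ℂ] V, (∀ g, Θ ∘ₗ ρW g = ρV g ∘ₗ Θ) ∧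
      ∀ e ∈ LinearMap.ker (Cfsg.Agent.Lib.H8.TZ.PY Φ ρW 0), Θ e = T e := by
  classical
  have hfix := pU_zero_apply_eq_iff χ Φ hΦ ρW
  have hD : ∀ Y' : Symm (m + 1) F, (Y' : Matrix (Fin (m + 1)) (Fin (m + 1)) F) (Fin.last m) (Fin.last m) ≠ 0 →
      LinearMap.range (Cfsg.Agent.Lib.H8.TZ.PY Φ ρW Y') ≤ LinearMap.ker (pU Φ ρW 0) := by
    rintro Y' hY' _ ⟨v, rfl⟩
    have hY'' : ¬ Yss Y' = 0 := hY'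
    rw [LinearMap.mem_ker, ← Module.End.mul_apply, pU_mul_PY, if_neg hY'']
    rfl
  have hC0 : ∀ c ∈ LinearMap.ker (Cfsg.Agent.Lib.H8.TZ.PY Φ ρW 0), pU Φ ρW 0 c = c →
      c ∈ Submodule.span ℂ {x : W | ∃ (j : Fin m) (d : W), pU Φ ρW 0 d = 0 ∧
        x = ρW (wj (Fin.castSucc j)) d} := fun c hc hpc =>
    Cfsg.Agent.Lib.H25.SpR.r4_span χ Φ hΦ ρW hW1 (LinearMap.ker (pU Φ ρW 0)) hD c (LinearMap.mem_ker.1 hc)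
      ((hfix c).1 hpc)
  have hscal := Cfsg.Agent.Lib.H19.TZ.hscal χ Φ hΦ ρW hW1 hw2 hw3 (pU Φ ρW 0) (pU_mul_pU χ Φ hΦ ρW 0)
    (fun x hx => (hfix x).1 hx) (fun x hx => (hfix x).2 hx)
    (fun s hs => pU_commute_Ss χ Φ hΦ ρW 0 s hs)
    (fun x hx => Cfsg.Agent.Lib.H25.SpR.fixed_As_of_fixed_U1 χ Φ hΦ ρW hW1 x ((hfix x).1 hx))
    (LinearMap.ker (Cfsg.Agent.Lib.H8.TZ.PY Φ ρW 0)) (fun c hc => LinearMap.mem_ker.1 hc)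
  exact thmU_core hm χ Φ hΦ ρW ρV hW1 hV1 hWirr (hw2 0) hv1 hE0 T hTa hTb hC0 hscal

end Cfsg.Agent.Lib.H20.ThmU
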