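/-
S2524 (architect helper19, blueprint tools/blueprints/S2524_U.md), piece **(TAU)** (helper20): the diagonal automorphism
`spTau a` (`a : Fˣ`) of `Matrix.symplecticGroup (Fin n) F`, conjugation by `diag (1_n, a 1_n)`:
`[[A, B], [C, D]] ↦ [[A, a⁻¹ B], [a C, D]]`.  It fixes the Levi elements `lEl g` and maps the Siegel elements `tEl X` to `tEl (a⁻¹ X)`.
-/
import Cfsg.Agent.Lib.H5.LS2S2

set_option autoImplicit false

namespace Cfsg.Agent.Lib.H20.Weil

open Matrix Cfsg.Agent.Lib.H12.LS2 Cfsg.Agent.Lib.H5.LS2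

variable {F : Type*} [Field F] {n : ℕ}

/-- `diag (1_n, a 1_n)` -/
def dMat (n : ℕ) (a : F) : Matrix (Fin n ⊕ Fin n) (Fin n ⊕ Fin n) F :=
  fromBlocks 1 0 0 (a • (1 : Matrix (Fin n) (Fin n) F))

theorem dMat_mul (a b : F) : dMat n a * dMat n b = dMat n (a * b) := by
  unfold dMat
  rw [Matrix.fromBlocks_multiply]
  simp [smul_smul, mul_comm]

theorem dMat_one : dMat n (1 : F) = 1 := by
  unfold dMat
  rw [one_smul, Matrix.fromBlocks_one]

theorem dMat_transpose (a : F) : (dMat n a)ᵀ = dMat n a := by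
  unfold dMat
  rw [Matrix.fromBlocks_transpose]
  simp

theorem dMat_J (a : F) : dMat n a * Matrix.J (Fin n) F * dMat n a = a • Matrix.J (Fin n) F := by
  unfold dMat Matrix.J
  rw [Matrix.fromBlocks_multiply, Matrix.fromBlocks_multiply, Matrix.fromBlocks_smul]
  simp

theorem dMat_conj_mem (a b : F) (hab : a * b = 1) {A : Matrix (Fin n ⊕ Fin n) (Fin n ⊕ Fin n) F}
    (hA : A ∈ Matrix.symplecticGroup (Fin n) F) :
    dMat n a * A * dMat n b ∈ Matrix.symplecticGroup (Fin n) F := by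
  rw [SymplecticGroup.mem_iff] at hA ⊢
  rw [Matrix.transpose_mul, Matrix.transpose_mul, dMat_transpose, dMat_transpose]
  calc dMat n a * A * dMat n b * Matrix.J (Fin n) F * (dMat n b * (Aᵀ * dMat n a))
      = dMat n a * (A * (dMat n b * Matrix.J (Fin n) F * dMat n b) * Aᵀ) * dMat n a := by
        simp only [Matrix.mul_assoc]
    _ = dMat n a * (b • Matrix.J (Fin n) F) * dMat n a := by
        rw [dMat_J, Matrix.mul_smul, Matrix.smul_mul, hA]
    _ = Matrix.J (Fin n) F := by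
        rw [Matrix.mul_smul, Matrix.smul_mul, dMat_J, smul_smul, mul_comm, hab, one_smul]

/-- **(TAU)** the diagonal automorphism: conjugation by `diag (1_n, a 1_n)` -/
def spTau (n : ℕ) (a : Fˣ) : Matrix.symplecticGroup (Fin n) F ≃* Matrix.symplecticGroup (Fin n) F where
  toFun A := ⟨dMat n (a : F) * A.1 * dMat n ((a⁻¹ : Fˣ) : F), dMat_conj_mem _ _ (by simp) A.2⟩
  invFun A := ⟨dMat n ((a⁻¹ : Fˣ) : F) * A.1 * dMat n (a : F), dMat_conj_mem _ _ (by simp) A.2⟩
  left_inv A := by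
    apply Subtype.ext
    show dMat n ((a⁻¹ : Fˣ) : F) * (dMat n (a : F) * A.1 * dMat n ((a⁻¹ : Fˣ) : F)) * dMat n (a : F) = A.1
    have h1 : dMat n ((a⁻¹ : Fˣ) : F) * dMat n (a : F) = 1 := by
      rw [dMat_mul]; simp [dMat_one]
    calc dMat n ((a⁻¹ : Fˣ) : F) * (dMat n (a : F) * A.1 * dMat n ((a⁻¹ : Fˣ) : F)) * dMat n (a : F)
        = (dMat n ((a⁻¹ : Fˣ) : F) * dMat n (a : F)) * A.1 * (dMat n ((a⁻¹ : Fˣ) : F) * dMat n (a : F)) := by
          simp only [Matrix.mul_assoc]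
      _ = A.1 := by rw [h1, Matrix.one_mul, Matrix.mul_one]
  right_inv A := by
    apply Subtype.ext
    show dMat n (a : F) * (dMat n ((a⁻¹ : Fˣ) : F) * A.1 * dMat n (a : F)) * dMat n ((a⁻¹ : Fˣ) : F) = A.1
    have h1 : dMat n (a : F) * dMat n ((a⁻¹ : Fˣ) : F) = 1 := by
      rw [dMat_mul]; simp [dMat_one]
    calc dMat n (a : F) * (dMat n ((a⁻¹ : Fˣ) : F) * A.1 * dMat n (a : F)) * dMat n ((a⁻¹ : Fˣ) : F)
        = (dMat n (a : F) * dMat n ((a⁻¹ : Fˣ) : F)) * A.1 * (dMat n (a : F) * dMat n ((a⁻¹ : Fˣ) : F)) := by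
          simp only [Matrix.mul_assoc]
      _ = A.1 := by rw [h1, Matrix.one_mul, Matrix.mul_one]
  map_mul' A B := by
    apply Subtype.ext
    show dMat n (a : F) * (A * B).1 * dMat n ((a⁻¹ : Fˣ) : F) =
      (dMat n (a : F) * A.1 * dMat n ((a⁻¹ : Fˣ) : F)) * (dMat n (a : F) * B.1 * dMat n ((a⁻¹ : Fˣ) : F))
    have h1 : dMat n ((a⁻¹ : Fˣ) : F) * dMat n (a : F) = 1 := by
      rw [dMat_mul]; simp [dMat_one]
    calc dMat n (a : F) * (A * B).1 * dMat n ((a⁻¹ : Fˣ) : F)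
        = dMat n (a : F) * (A.1 * 1 * B.1) * dMat n ((a⁻¹ : Fˣ) : F) := by
          rw [Matrix.mul_one, Submonoid.coe_mul]
      _ = _ := by
          rw [← h1]
          simp only [Matrix.mul_assoc]

theorem spTau_val (a : Fˣ) (A : Matrix.symplecticGroup (Fin n) F) :
    ((spTau n a A : Matrix.symplecticGroup (Fin n) F) : Matrix (Fin n ⊕ Fin n) (Fin n ⊕ Fin n) F) =
      dMat n (a : F) * A.1 * dMat n ((a⁻¹ : Fˣ) : F) := rfl

/-- the effect on block matrices -/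
theorem dMat_conj_fromBlocks (a b : F) (A B C D : Matrix (Fin n) (Fin n) F) :
    dMat n a * fromBlocks A B C D * dMat n b = fromBlocks A (b • B) (a • C) ((a * b) • D) := by
  unfold dMat
  rw [Matrix.fromBlocks_multiply, Matrix.fromBlocks_multiply]
  simp [smul_smul, mul_comm]

/-- `spTau a` fixes the Levi elements -/
theorem spTau_lEl (a : Fˣ) (g : GL (Fin n) F) : spTau n a (lEl g) = lEl g := by
  apply Subtype.ext
  rw [spTau_val, lEl_val, dMat_conj_fromBlocks]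
  simp

/-- `a • X` for a symmetric matrix `X` -/
def smulSymm (a : F) (X : Symm n F) : Symm n F :=
  ⟨a • (X : Matrix (Fin n) (Fin n) F), by
    show (a • (X : Matrix (Fin n) (Fin n) F))ᵀ = _
    rw [Matrix.transpose_smul, (mem_Symm n _).1 X.2]⟩

theorem smulSymm_val (a : F) (X : Symm n F) :
    ((smulSymm a X : Symm n F) : Matrix (Fin n) (Fin n) F) = a • (X : Matrix (Fin n) (Fin n) F) := rfl

/-- `spTau a (t X) = t (a⁻¹ X)` -/
theorem spTau_tEl (a : Fˣ) (X : Symm n F) :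
    spTau n a (tEl X) = tEl (smulSymm ((a⁻¹ : Fˣ) : F) X) := by
  apply Subtype.ext
  rw [spTau_val, tEl_val, tEl_val, dMat_conj_fromBlocks, smulSymm_val]
  simp

/-- `spTau a⁻¹` is the inverse of `spTau a` -/
theorem spTau_symm (a : Fˣ) : (spTau (F := F) n a).symm = spTau n a⁻¹ := by
  apply MulEquiv.ext
  intro A
  apply Subtype.ext
  show dMat n ((a⁻¹ : Fˣ) : F) * A.1 * dMat n (a : F) = dMat n ((a⁻¹ : Fˣ) : F) * A.1 * dMat n (((a⁻¹)⁻¹ : Fˣ) : F)
  rw [inv_inv]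

end Cfsg.Agent.Lib.H20.Weil
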