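import Mathlib
import Cfsg.Agent.Lib.H19.SGTDefs
import Cfsg.Agent.Lib.H19.SGT3
import Cfsg.Agent.Lib.H27.SGTMIN

/-!
# S3795 piece PM (`pm_main`): the `±`-decomposition of `Q / N` under `τ` (helper20, for helper19)
-/

set_option autoImplicit false
set_option linter.unusedSectionVars false
set_option linter.unusedVariables false
set_option linter.style.haveILetI false
set_option maxHeartbeats 1000000

namespace Cfsg.Agent.Lib.H20.SGT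

open Module Cfsg Cfsg.Agent.Lib.H19.SG Cfsg.Agent.Lib.H19.SGT Cfsg.Agent.Lib.H19.ModRep
  Cfsg.Agent.Lib.H1 Cfsg.Agent.Lib.H1.QuadMul

universe u uΓ

/-- abstract `±` lemma: `c` a bimultiplicative, `θ`-invariant pairing on `E` whose radical
contains `N`, `θ` an involution, `E` of odd exponent. -/
theorem pm_alg {E : Type*} [Group E] {K : Type*} [Field K] (N : Subgroup E) (c : E → E → K)
    (θ : MulAut E) (hθ2 : ∀ x, θ (θ x) = x)
    (c1 : ∀ x y a, c (x * y) a = c x a * c y a) (c2 : ∀ x a b, c x (a * b) = c x a * c x b)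
    (c3 : ∀ x, ∀ z ∈ N, c x z = 1) (c3' : ∀ x, ∀ z ∈ N, c z x = 1)
    (c4 : ∀ x a, c (θ x) (θ a) = c x a) (c5 : ∀ a, c 1 a = 1) (c5' : ∀ x, c x 1 = 1)
    {M : ℕ} (hM : Odd M) (hpow : ∀ x : E, x ^ M = 1) :
    (∀ e a, θ e * e ∈ N → c e (θ a * a) = 1) ∧
    (∀ e, θ e * e ∈ N → (∀ v, θ v * v ∈ N → c v e = 1) → ∀ b, c b e = 1) := by
  have hinvl : ∀ x a, c x⁻¹ a * c x a = 1 := by
    intro x a
    rw [← c1, inv_mul_cancel, c5]
  have hinvr : ∀ x a, c x a⁻¹ * c x a = 1 := by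
    intro x a
    rw [← c2, inv_mul_cancel, c5']
  constructor
  · intro e a he
    have h1 : c e (θ a) = c (θ e) a := by
      have := c4 (θ e) a
      rw [hθ2] at this
      exact this
    have h2 : c (θ e) a = c e⁻¹ a := by
      have e1 : θ e = (θ e * e) * e⁻¹ := by group
      calc c (θ e) a = c ((θ e * e) * e⁻¹) a := by rw [← e1]
        _ = c e⁻¹ a := by rw [c1, c3' _ _ he, one_mul]
    rw [c2, h1, h2, hinvl]
  · intro e he hv b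
    have hvN : θ (b * θ b⁻¹) * (b * θ b⁻¹) = 1 := by
      rw [map_mul, hθ2, map_inv]
      group
    have h1 : c (b * θ b⁻¹) e = 1 := hv _ (by rw [hvN]; exact N.one_mem)
    have h2 : c (θ b⁻¹) e = c b⁻¹ (θ e) := by
      have := c4 b⁻¹ (θ e)
      rw [hθ2] at this
      exact this
    have h3 : c b⁻¹ (θ e) = c b⁻¹ e⁻¹ := by
      have e1 : θ e = (θ e * e) * e⁻¹ := by group
      calc c b⁻¹ (θ e) = c b⁻¹ ((θ e * e) * e⁻¹) := by rw [← e1]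
        _ = c b⁻¹ e⁻¹ := by rw [c2, c3 _ _ he, one_mul]
    have h4 : c b⁻¹ e⁻¹ = c b e := by
      calc c b⁻¹ e⁻¹ = c b⁻¹ e⁻¹ * (c b⁻¹ e * c b e) := by rw [hinvl, mul_one]
        _ = (c b⁻¹ e⁻¹ * c b⁻¹ e) * c b e := by rw [mul_assoc]
        _ = c b e := by rw [hinvr, one_mul]
    have hsq : c b e * c b e = 1 := by
      rw [c1, h2, h3, h4] at h1
      exact h1
    have hpw : ∀ m : ℕ, c (b ^ m) e = (c b e) ^ m := by
      intro m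
      induction m with
      | zero => rw [pow_zero, pow_zero, c5]
      | succ m ih => rw [pow_succ, pow_succ, c1, ih]
    obtain ⟨m, hm⟩ := hM
    have h5 : (c b e) ^ M = 1 := by rw [← hpw, hpow, c5]
    rw [hm, pow_succ, pow_mul, sq, hsq, one_pow, one_mul] at h5
    exact h5

section ambient

variable {k : Type*} [Field k] {Γ : Type uΓ} [Group Γ] {W : Type*} [AddCommGroup W] [Module k W]
variable {ρ : Representation k Γ W} {s : Γ} {n : ℕ} {Q R : Subgroup Γ} {t u : ℕ}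

/-- **PM**: the `±`-decomposition of `Q / N` under `τ` and the application of `extra_two`. -/
theorem pm_main [IsAlgClosed k] [FiniteDimensional k W] [Finite Γ] [Fact t.Prime]
    [Fact u.Prime] (htu : t ≠ u) (ht2 : t ≠ 2) (htk : (t : k) ≠ 0) (h2k : (2 : k) ≠ 0)
    (hn : 0 < n) (h : Cfg ρ s n Q R t u) (hm : IsMin s Q R)
    {N : Subgroup Γ} {j : ℕ} {W' : Submodule k W} {μ : Γ → k} (hd : WData ρ s n Q R N j W' μ) :
    2 ≤ n - j ∧ (∃ b : ℕ, t ^ b = (2 ^ (n - j) - 1) ^ 2) ∧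
      ∀ a ∈ Q, s ^ 2 ^ j * (tau s n * a * (tau s n)⁻¹ * a) * (s ^ 2 ^ j)⁻¹ *
        (tau s n * a * (tau s n)⁻¹ * a)⁻¹ ∈ N := by
  classical
  have htp : t.Prime := Fact.out
  have hgW0 := hd.hgW
  have hgN0 := hd.hgN
  have hfpf0 := hd.hfpf'
  obtain ⟨τ, hτdef⟩ : ∃ τ : Γ, τ = tau s n := ⟨_, rfl⟩
  obtain ⟨g, hgdef⟩ : ∃ g : Γ, g = s ^ 2 ^ j := ⟨_, rfl⟩
  rw [← hτdef, ← hgdef]
  rw [← hgdef] at hgW0 hgN0 hfpf0
  have hjn := hd.hj
  obtain ⟨P, hPdef⟩ : ∃ P : ℕ, P = 2 ^ (n - j) := ⟨_, rfl⟩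
  have hPpos : 0 < P := by rw [hPdef]; positivity
  have hτg : τ = g ^ 2 ^ (n - j - 1) := by
    rw [hτdef, hgdef, tau, ← pow_mul, ← pow_add]
    congr 2
    omega
  have hτ2 : τ * τ = 1 := by
    rw [hτdef, tau, ← pow_add, ← two_mul, ← pow_succ']
    have e : n - 1 + 1 = n := by omega
    rw [e, h.hs]
  have hτinv : τ⁻¹ = τ := inv_eq_of_mul_eq_one_right hτ2
  have hgP : g ^ P = 1 := by
    rw [hPdef, hgdef, ← pow_mul, ← pow_add]
    have e : j + (n - j) = n := by omega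
    rw [e, h.hs]
  have hginv : g⁻¹ = g ^ (P - 1) := by
    apply inv_eq_of_mul_eq_one_right
    rw [← pow_succ', Nat.sub_add_cancel hPpos, hgP]
  have hτgcomm : τ * g = g * τ := by
    rw [hτg, ← pow_succ, ← pow_succ']
  -- normalizing
  have hsQpow : ∀ (m : ℕ), ∀ q ∈ Q, s ^ m * q * (s ^ m)⁻¹ ∈ Q := by
    intro m
    induction m with
    | zero => intro q hq; simpa using hq
    | succ m ih =>
      intro q hq
      have e : s ^ (m + 1) * q * (s ^ (m + 1))⁻¹ = s * (s ^ m * q * (s ^ m)⁻¹) * s⁻¹ := by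
        rw [pow_succ']
        group
      rw [e]
      exact h.hsQ _ (ih q hq)
  have hgQpow : ∀ (m : ℕ), ∀ q ∈ Q, g ^ m * q * (g ^ m)⁻¹ ∈ Q := by
    intro m q hq
    rw [hgdef, ← pow_mul]
    exact hsQpow _ q hq
  have hgQ : ∀ q ∈ Q, g * q * g⁻¹ ∈ Q := by
    intro q hq
    have := hgQpow 1 q hq
    rwa [pow_one] at this
  have hτQ : ∀ q ∈ Q, τ * q * τ⁻¹ ∈ Q := by
    intro q hq
    rw [hτg]
    exact hgQpow _ q hq
  have hgNpow : ∀ (m : ℕ), ∀ z ∈ N, g ^ m * z * (g ^ m)⁻¹ ∈ N := by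
    intro m
    induction m with
    | zero => intro z hz; simpa using hz
    | succ m ih =>
      intro z hz
      have e : g ^ (m + 1) * z * (g ^ (m + 1))⁻¹ = g * (g ^ m * z * (g ^ m)⁻¹) * g⁻¹ := by
        rw [pow_succ']
        group
      rw [e]
      exact hgN0 _ (ih z hz)
  have hτN : ∀ z ∈ N, τ * z * τ⁻¹ ∈ N := by
    intro z hz
    rw [hτg]
    exact hgNpow _ z hz
  have hgWpow : ∀ (m : ℕ), ∀ w ∈ W', ρ (g ^ m) w ∈ W' := by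
    intro m
    induction m with
    | zero => intro w hw; simpa using hw
    | succ m ih =>
      intro w hw
      rw [pow_succ, map_mul, Module.End.mul_apply]
      exact ih _ (hgW0 w hw)
  have hτW : ∀ w ∈ W', ρ τ w ∈ W' := by
    intro w hw
    rw [hτg]
    exact hgWpow _ w hw
  have hginvW : ∀ w ∈ W', ρ g⁻¹ w ∈ W' := by
    intro w hw
    rw [hginv]
    exact hgWpow _ w hw
  -- commutators
  have hcc := Cfsg.Agent.Lib.H27.SGT.min_comm_central htu h hm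
  have hcommN : ∀ a ∈ Q, ∀ b ∈ Q, a * b * a⁻¹ * b⁻¹ ∈ N := by
    intro a ha b hb
    apply hd.hZN _ (Q.mul_mem (Q.mul_mem (Q.mul_mem ha hb) (Q.inv_mem ha)) (Q.inv_mem hb))
    intro q hq
    exact hcc a ha b hb q hq
  have hQN : ∀ q ∈ Q, ∀ z ∈ N, q * z * q⁻¹ ∈ N := by
    intro q hq z hz
    have e : q * z * q⁻¹ = (q * z * q⁻¹ * z⁻¹) * z := by group
    rw [e]
    exact N.mul_mem (hcommN q hq z (hd.hNQ hz)) hz
  -- the scalar function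
  obtain ⟨w₀, hw₀, hw₀0⟩ := Submodule.exists_mem_ne_zero_of_ne_bot hd.hW'
  have hμmul : ∀ z ∈ N, ∀ z' ∈ N, μ (z * z') = μ z * μ z' := by
    intro z hz z' hz'
    have h1 := hd.hμ (z * z') (N.mul_mem hz hz') w₀ hw₀
    rw [map_mul, Module.End.mul_apply, hd.hμ z' hz' w₀ hw₀, map_smul, hd.hμ z hz w₀ hw₀,
      smul_smul, mul_comm] at h1
    exact (smul_left_injective k hw₀0 h1).symm
  have hμone : μ 1 = 1 := by
    have h1 := hd.hμ 1 N.one_mem w₀ hw₀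
    rw [map_one, Module.End.one_apply] at h1
    have h2 : (1 : k) • w₀ = μ 1 • w₀ := by rw [one_smul]; exact h1
    exact (smul_left_injective k hw₀0 h2).symm
  have hμconj : ∀ x : Γ, (∀ w ∈ W', ρ x⁻¹ w ∈ W') → ∀ z ∈ N, x * z * x⁻¹ ∈ N →
      μ (x * z * x⁻¹) = μ z := by
    intro x hx z hz hxz
    have h1 := hd.hμ _ hxz w₀ hw₀
    have h2 : ρ (x * z * x⁻¹) w₀ = μ z • w₀ := by
      rw [map_mul, map_mul, Module.End.mul_apply, Module.End.mul_apply,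
        hd.hμ z hz _ (hx w₀ hw₀), map_smul, ← Module.End.mul_apply, ← map_mul, mul_inv_cancel,
        map_one, Module.End.one_apply]
    rw [h2] at h1
    exact (smul_left_injective k hw₀0 h1).symm
  have hμinv : ∀ z ∈ N, μ z * μ z⁻¹ = 1 := by
    intro z hz
    rw [← hμmul z hz _ (N.inv_mem hz), mul_inv_cancel, hμone]
  have hQinvW : ∀ x ∈ Q, ∀ w ∈ W', ρ x⁻¹ w ∈ W' := fun x hx => hd.hQW _ (Q.inv_mem hx)
  have hC1 : ∀ x ∈ Q, ∀ y ∈ Q, ∀ a ∈ Q, μ ((x * y) * a * (x * y)⁻¹ * a⁻¹) =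
      μ (x * a * x⁻¹ * a⁻¹) * μ (y * a * y⁻¹ * a⁻¹) := by
    intro x hx y hy a ha
    have e : (x * y) * a * (x * y)⁻¹ * a⁻¹ =
        (x * (y * a * y⁻¹ * a⁻¹)) * x⁻¹ * (x * a * x⁻¹ * a⁻¹) := by group
    have e2 : (x * (y * a * y⁻¹ * a⁻¹)) * x⁻¹ = y * a * y⁻¹ * a⁻¹ := by
      rw [← hcc y hy a ha x hx]
      group
    rw [e, e2, hμmul _ (hcommN y hy a ha) _ (hcommN x hx a ha), mul_comm]
  have hC2 : ∀ x ∈ Q, ∀ a ∈ Q, ∀ b ∈ Q, μ (x * (a * b) * x⁻¹ * (a * b)⁻¹) =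
      μ (x * a * x⁻¹ * a⁻¹) * μ (x * b * x⁻¹ * b⁻¹) := by
    intro x hx a ha b hb
    have e : x * (a * b) * x⁻¹ * (a * b)⁻¹ =
        (x * a * x⁻¹ * a⁻¹) * ((a * (x * b * x⁻¹ * b⁻¹)) * a⁻¹) := by group
    have e2 : (a * (x * b * x⁻¹ * b⁻¹)) * a⁻¹ = x * b * x⁻¹ * b⁻¹ := by
      rw [← hcc x hx b hb a ha]
      group
    rw [e, e2, hμmul _ (hcommN x hx a ha) _ (hcommN x hx b hb)]
  have hC3 : ∀ x ∈ Q, ∀ z ∈ N, μ (x * z * x⁻¹ * z⁻¹) = 1 := by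
    intro x hx z hz
    rw [hμmul _ (hQN x hx z hz) _ (N.inv_mem hz), hμconj x (hQinvW x hx) z hz (hQN x hx z hz),
      hμinv z hz]
  have hC3' : ∀ x ∈ Q, ∀ z ∈ N, μ (z * x * z⁻¹ * x⁻¹) = 1 := by
    intro x hx z hz
    have e : z * x * z⁻¹ * x⁻¹ = z * (x * z⁻¹ * x⁻¹) := by group
    rw [e, hμmul _ hz _ (hQN x hx _ (N.inv_mem hz)),
      hμconj x (hQinvW x hx) _ (N.inv_mem hz) (hQN x hx _ (N.inv_mem hz)), hμinv z hz]
  have hτinvW : ∀ w ∈ W', ρ τ⁻¹ w ∈ W' := by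
    rw [hτinv]
    exact hτW
  have hC4 : ∀ x ∈ Q, ∀ a ∈ Q, μ ((τ * x * τ⁻¹) * (τ * a * τ⁻¹) * (τ * x * τ⁻¹)⁻¹ *
      (τ * a * τ⁻¹)⁻¹) = μ (x * a * x⁻¹ * a⁻¹) := by
    intro x hx a ha
    have e : (τ * x * τ⁻¹) * (τ * a * τ⁻¹) * (τ * x * τ⁻¹)⁻¹ * (τ * a * τ⁻¹)⁻¹ =
        τ * (x * a * x⁻¹ * a⁻¹) * τ⁻¹ := by group
    rw [e]
    exact hμconj τ hτinvW _ (hcommN x hx a ha) (hτN _ (hcommN x hx a ha))
  -- the group `↥Q`
  have hτnorm : τ ∈ Subgroup.normalizer (Q : Set Γ) := by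
    rw [Subgroup.mem_normalizer_iff]
    intro q
    constructor
    · exact hτQ q
    · intro hq
      have h1 := hτQ _ hq
      have e : τ * (τ * q * τ⁻¹) * τ⁻¹ = q := by
        rw [hτinv]
        calc τ * (τ * q * τ) * τ = (τ * τ) * q * (τ * τ) := by group
          _ = q := by rw [hτ2, one_mul, mul_one]
      rwa [e] at h1
  have hgnorm : g ∈ Subgroup.normalizer (Q : Set Γ) := by
    rw [Subgroup.mem_normalizer_iff]
    intro q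
    constructor
    · exact hgQ q
    · intro hq
      have h1 := hgQpow (P - 1) _ hq
      rw [← hginv] at h1
      have e : g⁻¹ * (g * q * g⁻¹) * g⁻¹⁻¹ = q := by group
      rwa [e] at h1
  obtain ⟨θ, hθdef⟩ : ∃ θ : MulAut ↥Q, θ = conjAut τ Q hτnorm := ⟨_, rfl⟩
  obtain ⟨φ₀, hφ₀def⟩ : ∃ φ₀ : MulAut ↥Q, φ₀ = conjAut g Q hgnorm := ⟨_, rfl⟩
  have hθc : ∀ x : ↥Q, ((θ x : ↥Q) : Γ) = τ * x * τ⁻¹ := by
    intro x
    rw [hθdef]
    rfl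
  have hφ₀c : ∀ x : ↥Q, ((φ₀ x : ↥Q) : Γ) = g * x * g⁻¹ := by
    intro x
    rw [hφ₀def]
    rfl
  have hφ₀pc : ∀ (i : ℕ) (x : ↥Q), (((φ₀ ^ i) x : ↥Q) : Γ) = g ^ i * x * (g ^ i)⁻¹ := by
    intro i x
    rw [hφ₀def]
    exact conjAut_pow_coe g Q hgnorm i x
  obtain ⟨N₀, hN₀def⟩ : ∃ N₀ : Subgroup ↥Q, N₀ = N.subgroupOf Q := ⟨_, rfl⟩
  have hN₀mem : ∀ x : ↥Q, x ∈ N₀ ↔ (x : Γ) ∈ N := by
    intro x
    rw [hN₀def]
    exact Subgroup.mem_subgroupOf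
  obtain ⟨c, hcdef⟩ : ∃ c : ↥Q → ↥Q → k,
      c = fun (x a : ↥Q) => μ ((x : Γ) * (a : Γ) * (x : Γ)⁻¹ * (a : Γ)⁻¹) := ⟨_, rfl⟩
  have hc : ∀ x a : ↥Q, c x a = μ ((x : Γ) * (a : Γ) * (x : Γ)⁻¹ * (a : Γ)⁻¹) := by
    intro x a
    rw [hcdef]
  have hθ2 : ∀ x, θ (θ x) = x := by
    intro x
    apply Subtype.ext
    rw [hθc, hθc, hτinv]
    calc τ * (τ * (x : Γ) * τ) * τ = (τ * τ) * x * (τ * τ) := by group
      _ = x := by rw [hτ2, one_mul, mul_one]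
  have c1 : ∀ x y a, c (x * y) a = c x a * c y a := by
    intro x y a
    rw [hc, hc, hc, Subgroup.coe_mul]
    exact hC1 x x.2 y y.2 a a.2
  have c2 : ∀ x a b, c x (a * b) = c x a * c x b := by
    intro x a b
    rw [hc, hc, hc, Subgroup.coe_mul]
    exact hC2 x x.2 a a.2 b b.2
  have c3 : ∀ x, ∀ z ∈ N₀, c x z = 1 := by
    intro x z hz
    rw [hc]
    exact hC3 x x.2 z ((hN₀mem z).mp hz)
  have c3' : ∀ x, ∀ z ∈ N₀, c z x = 1 := by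
    intro x z hz
    rw [hc]
    exact hC3' x x.2 z ((hN₀mem z).mp hz)
  have c4 : ∀ x a, c (θ x) (θ a) = c x a := by
    intro x a
    rw [hc, hc, hθc, hθc]
    exact hC4 x x.2 a a.2
  have c5 : ∀ a, c 1 a = 1 := by
    intro a
    rw [hc, Subgroup.coe_one]
    have e : (1 : Γ) * a * (1 : Γ)⁻¹ * (a : Γ)⁻¹ = 1 := by group
    rw [e, hμone]
  have c5' : ∀ x, c x 1 = 1 := by
    intro x
    rw [hc, Subgroup.coe_one]
    have e : (x : Γ) * 1 * (x : Γ)⁻¹ * (1 : Γ)⁻¹ = 1 := by group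
    rw [e, hμone]
  obtain ⟨M, hMdef⟩ : ∃ M : ℕ, M = Nat.card ↥Q := ⟨_, rfl⟩
  have hM : Odd M := by
    obtain ⟨b, hb⟩ := IsPGroup.iff_card.mp h.hQ
    rw [hMdef, hb]
    exact Odd.pow (htp.eq_two_or_odd'.resolve_left ht2)
  have hpow : ∀ x : ↥Q, x ^ M = 1 := by
    intro x
    rw [hMdef]
    exact pow_card_eq_one'
  obtain ⟨hA, hB⟩ := pm_alg N₀ c θ hθ2 c1 c2 c3 c3' c4 c5 c5' hM hpow
  -- the subgroup `Q₋`
  have hcommN₀ : ∀ x y : ↥Q, x * y * x⁻¹ * y⁻¹ ∈ N₀ := by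
    intro x y
    rw [hN₀mem]
    simp only [Subgroup.coe_mul, Subgroup.coe_inv]
    exact hcommN x x.2 y y.2
  have hN₀conj : ∀ q z : ↥Q, z ∈ N₀ → q * z * q⁻¹ ∈ N₀ := by
    intro q z hz
    rw [hN₀mem] at hz ⊢
    simp only [Subgroup.coe_mul, Subgroup.coe_inv]
    exact hQN q q.2 z hz
  obtain ⟨Qm, hQm⟩ : ∃ Qm : Subgroup ↥Q, ∀ e, e ∈ Qm ↔ θ e * e ∈ N₀ :=
    ⟨{ carrier := {e | θ e * e ∈ N₀}
       one_mem' := by
         show θ 1 * 1 ∈ N₀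
         rw [map_one, mul_one]
         exact N₀.one_mem
       mul_mem' := by
         intro a b ha hb
         show θ (a * b) * (a * b) ∈ N₀
         have e : θ (a * b) * (a * b) =
             (θ a * a) * (a⁻¹ * θ b * a⁻¹⁻¹ * (θ b)⁻¹) * (θ b * b) := by
           rw [map_mul]
           group
         rw [e]
         exact N₀.mul_mem (N₀.mul_mem ha (hcommN₀ _ _)) hb
       inv_mem' := by
         intro a ha
         show θ a⁻¹ * a⁻¹ ∈ N₀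
         have e : θ a⁻¹ * a⁻¹ = (a * (θ a * a) * a⁻¹)⁻¹ := by
           rw [map_inv]
           group
         rw [e]
         exact N₀.inv_mem (hN₀conj a _ ha) }, fun e => Iff.rfl⟩
  have hN₀φ : ∀ z : ↥Q, φ₀ z ∈ N₀ ↔ z ∈ N₀ := by
    intro z
    rw [hN₀mem, hN₀mem, hφ₀c]
    constructor
    · intro hz
      have h1 := hgNpow (P - 1) _ hz
      rw [← hginv] at h1
      have e : g⁻¹ * (g * (z : Γ) * g⁻¹) * g⁻¹⁻¹ = z := by group
      rwa [e] at h1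
    · exact hgN0 _
  have hθφ : ∀ e : ↥Q, θ (φ₀ e) = φ₀ (θ e) := by
    intro e
    apply Subtype.ext
    rw [hθc, hφ₀c, hφ₀c, hθc]
    calc τ * (g * (e : Γ) * g⁻¹) * τ⁻¹ = (τ * g) * e * (τ * g)⁻¹ := by group
      _ = (g * τ) * e * (g * τ)⁻¹ := by rw [hτgcomm]
      _ = g * (τ * (e : Γ) * τ⁻¹) * g⁻¹ := by group
  have hQmφ : ∀ e : ↥Q, φ₀ e ∈ Qm ↔ e ∈ Qm := by
    intro e
    rw [hQm, hQm, hθφ, ← map_mul, hN₀φ]
  obtain ⟨φm, hφmdef⟩ : ∃ φm : MulAut ↥Qm, φm = restrictAut φ₀ Qm hQmφ := ⟨_, rfl⟩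
  have hφmc : ∀ e : ↥Qm, (((φm e : ↥Qm) : ↥Q) : Γ) = g * ((e : ↥Q) : Γ) * g⁻¹ := by
    intro e
    rw [hφmdef, restrictAut_coe, hφ₀c]
  have hφmpc : ∀ (i : ℕ) (e : ↥Qm), ((((φm ^ i) e : ↥Qm) : ↥Q) : Γ) =
      g ^ i * ((e : ↥Q) : Γ) * (g ^ i)⁻¹ := by
    intro i e
    rw [hφmdef, restrictAut_pow_coe, hφ₀pc]
  -- the representations
  obtain ⟨ρQ, hρQdef⟩ : ∃ ρQ : Representation k ↥Q W, ρQ = ρ.comp Q.subtype := ⟨_, rfl⟩
  have hρQ : ∀ q : ↥Q, ρQ q = ρ (q : Γ) := by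
    intro q
    rw [hρQdef]
    rfl
  have hinvQ : Inv ρQ W' := by
    intro q w hw
    rw [hρQ]
    exact hd.hQW q q.2 w hw
  obtain ⟨ρ₀, hρ₀def⟩ : ∃ ρ₀ : Representation k ↥Q ↥W', ρ₀ = Cfsg.Agent.Lib.H19.ModRep.sub ρQ W' hinvQ := ⟨_, rfl⟩
  have hρ₀ : ∀ (q : ↥Q) (w : ↥W'), ((ρ₀ q w : ↥W') : W) = ρ (q : Γ) (w : W) := by
    intro q w
    rw [hρ₀def]
    show ρQ q (w : W) = _
    rw [hρQ]
  obtain ⟨ρm, hρmdef⟩ : ∃ ρm : Representation k ↥Qm ↥W', ρm = ρ₀.comp Qm.subtype := ⟨_, rfl⟩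
  have hρm : ∀ (e : ↥Qm) (w : ↥W'), ((ρm e w : ↥W') : W) = ρ ((e : ↥Q) : Γ) (w : W) := by
    intro e w
    rw [hρmdef]
    exact hρ₀ _ w
  obtain ⟨T', hT'def⟩ : ∃ T' : Module.End k ↥W', T' = (ρ g).restrict hgW0 := ⟨_, rfl⟩
  have hT' : ∀ w : ↥W', ((T' w : ↥W') : W) = ρ g (w : W) := by
    intro w
    rw [hT'def]
    rfl
  have hT'pow : ∀ (m : ℕ) (w : ↥W'), (((T' ^ m) w : ↥W') : W) = ((ρ g) ^ m) (w : W) := by
    intro m w
    rw [hT'def]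
    exact restrict_pow_coe hgW0 m w
  have hφmP : φm ^ P = 1 := by
    apply MulEquiv.ext
    intro e
    apply Subtype.ext
    apply Subtype.ext
    rw [hφmpc, hgP]
    simp
  have hTw : Tw ρm φm T' P :=
    { hT := by
        apply LinearMap.ext
        intro w
        apply Subtype.ext
        rw [hT'pow, ← map_pow, hgP, map_one]
        rfl
      hφ := hφmP
      htw := by
        intro e
        apply LinearMap.ext
        intro w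
        apply Subtype.ext
        rw [Module.End.mul_apply, Module.End.mul_apply, hT', hρm, hρm, hT', hφmc,
          ← Module.End.mul_apply, ← Module.End.mul_apply, ← map_mul, ← map_mul]
        congr 2
        group }
  -- the extraspecial hypotheses
  obtain ⟨Nm, hNmdef⟩ : ∃ Nm : Subgroup ↥Qm, Nm = N₀.subgroupOf Qm := ⟨_, rfl⟩
  have hNmmem : ∀ e : ↥Qm, e ∈ Nm ↔ ((e : ↥Q) : Γ) ∈ N := by
    intro e
    rw [hNmdef, Subgroup.mem_subgroupOf, hN₀mem]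
  obtain ⟨Λ, hΛdef⟩ : ∃ Λ : ↥Qm → k, Λ = fun (e : ↥Qm) => μ ((e : ↥Q) : Γ) := ⟨_, rfl⟩
  have hΛ : ∀ e : ↥Qm, Λ e = μ ((e : ↥Q) : Γ) := by
    intro e
    rw [hΛdef]
  have hX : XHyp ρm Nm Λ :=
    { hΛ := by
        intro z hz
        rw [hNmmem] at hz
        apply LinearMap.ext
        intro w
        apply Subtype.ext
        rw [hρm, hd.hμ _ hz _ w.2, hΛ]
        rfl
      hQR := by
        intro a b
        rw [hNmmem]
        simp only [Subgroup.coe_mul, Subgroup.coe_inv]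
        exact hcommN _ (a : ↥Q).2 _ (b : ↥Q).2
      hnd := by
        intro e he
        rw [hNmmem]
        apply hd.hnd _ (e : ↥Q).2
        intro b hb
        have h1 : ∀ v, θ v * v ∈ N₀ → c v (e : ↥Q) = 1 := by
          intro v hv
          have h2 := he ⟨v, (hQm v).mpr hv⟩
          rw [hΛ] at h2
          simp only [Subgroup.coe_mul, Subgroup.coe_inv] at h2
          rw [hc]
          exact h2
        have h3 := hB (e : ↥Q) ((hQm _).mp e.2) h1 ⟨b, hb⟩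
        rw [hc] at h3
        exact h3 }
  have hNmφ : ∀ e : ↥Qm, φm e ∈ Nm ↔ e ∈ Nm := by
    intro e
    rw [hNmmem, hNmmem]
    have h1 := hN₀φ (e : ↥Q)
    rw [hN₀mem, hN₀mem] at h1
    rw [hφmdef, restrictAut_coe]
    exact h1
  haveI hNmn : Nm.Normal := hX.normal
  have hoddQ : ∀ e ∈ Q, e * e ∈ N → e ∈ N := by
    intro e he hee
    obtain ⟨m, hm⟩ := hM
    have h1 : (⟨e, he⟩ : ↥Q) ^ M = 1 := hpow _
    have h2 : e ^ M = 1 := by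
      have h3 := congrArg Subtype.val h1
      simpa using h3
    have h3 : e = (e * e) ^ (m + 1) := by
      rw [← pow_two, ← pow_mul]
      have e1 : 2 * (m + 1) = M + 1 := by omega
      rw [e1, pow_succ, h2, one_mul]
    rw [h3]
    exact N.pow_mem hee _
  have hfree : ∀ i, 0 < i → i < P → ∀ e : ↥Qm, (φm ^ i) e * e⁻¹ ∈ Nm → e ∈ Nm := by
    intro i hi0 hiP e hu
    rw [hPdef] at hiP hφmP
    have hnj0 : 0 < n - j := by omega
    obtain ⟨m, hm⟩ := exists_pow_eq_psi Nat.prime_two hnj0 hφmP hi0 hiP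
    have hNi : ∀ x, (φm ^ i) x ∈ Nm ↔ x ∈ Nm := fun x => pow_mem_iff hNmφ i x
    have h1 := pow_fix_mod hNi hu m
    rw [hm] at h1
    rw [hNmmem] at h1 ⊢
    have e1 : ((((φm ^ 2 ^ (n - j - 1)) e * e⁻¹ : ↥Qm) : ↥Q) : Γ) =
        τ * ((e : ↥Q) : Γ) * τ⁻¹ * ((e : ↥Q) : Γ)⁻¹ := by
      simp only [Subgroup.coe_mul, Subgroup.coe_inv]
      rw [hφmpc, ← hτg]
    rw [e1] at h1
    have h2 : τ * ((e : ↥Q) : Γ) * τ⁻¹ * ((e : ↥Q) : Γ) ∈ N := by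
      have h3 := (hQm _).mp e.2
      rw [hN₀mem, Subgroup.coe_mul, hθc] at h3
      exact h3
    apply hoddQ _ (e : ↥Q).2
    have e2 : ((e : ↥Q) : Γ) * ((e : ↥Q) : Γ) =
        (τ * ((e : ↥Q) : Γ) * τ⁻¹ * ((e : ↥Q) : Γ)⁻¹)⁻¹ *
          (τ * ((e : ↥Q) : Γ) * τ⁻¹ * ((e : ↥Q) : Γ)) := by group
    rw [e2]
    exact N.mul_mem (N.inv_mem h1) h2
  -- `Q₋ ≠ N`
  have hne : Nm ≠ ⊤ := by
    intro htop
    have hQmN : ∀ e : ↥Q, θ e * e ∈ N₀ → (e : Γ) ∈ N := by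
      intro e he
      have h1 : (⟨e, (hQm e).mpr he⟩ : ↥Qm) ∈ Nm := by
        rw [htop]
        exact Subgroup.mem_top _
      rw [hNmmem] at h1
      exact h1
    have hτtriv : ∀ q ∈ Q, τ * q * τ⁻¹ * q⁻¹ ∈ N := by
      intro q hq
      have hv : θ (⟨q, hq⟩ * θ (⟨q, hq⟩ : ↥Q)⁻¹) * (⟨q, hq⟩ * θ (⟨q, hq⟩ : ↥Q)⁻¹) = 1 := by
        rw [map_mul, hθ2, map_inv]
        group
      have h1 := hQmN (⟨q, hq⟩ * θ (⟨q, hq⟩ : ↥Q)⁻¹) (by rw [hv]; exact N₀.one_mem)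
      rw [Subgroup.coe_mul, hθc, Subgroup.coe_inv] at h1
      have e : τ * q * τ⁻¹ * q⁻¹ = (q * (τ * q⁻¹ * τ⁻¹))⁻¹ := by group
      rw [e]
      exact N.inv_mem h1
    have hτtriv' : ∀ q ∈ Q, τ⁻¹ * q * τ⁻¹⁻¹ * q⁻¹ ∈ N := by
      rw [hτinv]
      exact hτtriv
    have hτQ' : ∀ q ∈ Q, τ⁻¹ * q * τ⁻¹⁻¹ ∈ Q := by
      rw [hτinv]
      exact hτQ
    have hPone : ∀ q ∈ Q, (1 : Γ) * q * (1 : Γ)⁻¹ * q⁻¹ ∈ N := by
      intro q hq
      have e : (1 : Γ) * q * (1 : Γ)⁻¹ * q⁻¹ = 1 := by group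
      rw [e]
      exact N.one_mem
    have hPmul : ∀ y₁ y₂ : Γ, (∀ q ∈ Q, y₁ * q * y₁⁻¹ * q⁻¹ ∈ N) →
        (∀ q ∈ Q, y₂ * q * y₂⁻¹ * q⁻¹ ∈ N) → ∀ q ∈ Q, (y₁ * y₂) * q * (y₁ * y₂)⁻¹ * q⁻¹ ∈ N := by
      intro y₁ y₂ h1 h2 q hq
      have hq' : y₂ * q * y₂⁻¹ ∈ Q := by
        have e : y₂ * q * y₂⁻¹ = (y₂ * q * y₂⁻¹ * q⁻¹) * q := by group
        rw [e]
        exact Q.mul_mem (hd.hNQ (h2 q hq)) hq
      have e : (y₁ * y₂) * q * (y₁ * y₂)⁻¹ * q⁻¹ =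
          (y₁ * (y₂ * q * y₂⁻¹) * y₁⁻¹ * (y₂ * q * y₂⁻¹)⁻¹) * (y₂ * q * y₂⁻¹ * q⁻¹) := by group
      rw [e]
      exact N.mul_mem (h1 _ hq') (h2 q hq)
    have hPpow : ∀ (y : Γ), (∀ q ∈ Q, y * q * y⁻¹ * q⁻¹ ∈ N) → ∀ (m : ℕ),
        ∀ q ∈ Q, y ^ m * q * (y ^ m)⁻¹ * q⁻¹ ∈ N := by
      intro y hy m
      induction m with
      | zero => rw [pow_zero]; exact hPone
      | succ m ih => rw [pow_succ]; exact hPmul _ _ ih hy
    have hgenN : ∀ y ∈ commSet R τ, ∀ q ∈ Q, y * q * y⁻¹ * q⁻¹ ∈ N := by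
      rintro y ⟨x, hx, rfl⟩ q hq
      have e : (x⁻¹ * τ * x * τ⁻¹) * q * (x⁻¹ * τ * x * τ⁻¹)⁻¹ * q⁻¹ =
          (x⁻¹ * (τ * (x * (τ⁻¹ * q * τ⁻¹⁻¹) * x⁻¹) * τ⁻¹ * (x * (τ⁻¹ * q * τ⁻¹⁻¹) * x⁻¹)⁻¹) *
            x⁻¹⁻¹) * ((τ⁻¹ * q * τ⁻¹⁻¹) * q⁻¹) := by group
      rw [e]
      have hq1 := hτQ' q hq
      have hq2 := h.hRQ x hx _ hq1
      exact N.mul_mem (hd.hRN x⁻¹ (R.inv_mem hx) _ (hτtriv _ hq2)) (hτtriv' q hq)
    have hgen := h.hgen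
    rw [← hτdef] at hgen
    have hRtriv' : ∀ x ∈ Subgroup.closure (commSet R τ), ∀ q ∈ Q, x * q * x⁻¹ * q⁻¹ ∈ N := by
      intro x hx'
      induction hx' using Subgroup.closure_induction with
      | mem y hy => exact hgenN y hy
      | one => exact hPone
      | mul y₁ y₂ _ _ h1 h2 => exact hPmul y₁ y₂ h1 h2
      | inv y _ h1 =>
        have hy : y⁻¹ = y ^ (orderOf y - 1) := by
          apply inv_eq_of_mul_eq_one_right
          rw [← pow_succ', Nat.sub_add_cancel (orderOf_pos y), pow_orderOf_eq_one]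
        rw [hy]
        exact hPpow y h1 _
    have hRtriv : ∀ x ∈ R, ∀ q ∈ Q, x * q * x⁻¹ * q⁻¹ ∈ N := fun x hx => hRtriv' x (hgen hx)
    have hmin1 := Cfsg.Agent.Lib.H27.SGT.min_closure_eq htu h hm
    have hle : Q ≤ N := by
      rw [← hmin1, Subgroup.closure_le]
      rintro y ⟨q, hq, x, hx, rfl⟩
      have e : q⁻¹ * (x * q * x⁻¹) = q⁻¹ * (x * q * x⁻¹ * q⁻¹) * q⁻¹⁻¹ := by group
      rw [SetLike.mem_coe, e]
      exact hQN _ (Q.inv_mem hq) _ (hRtriv x hx q hq)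
    exact hd.hNne (le_antisymm hd.hNQ hle)
  have hfpfT : ∀ w : ↥W', T' w = w → w = 0 := by
    intro w hw
    apply Subtype.ext
    apply hfpf0 _ w.2
    rw [← hT', hw]
  haveI : Nontrivial ↥W' := Submodule.nontrivial_iff_ne_bot.mpr hd.hW'
  have hQmk : (Nat.card ↥Qm : k) ≠ 0 := by
    have hQmp : IsPGroup t ↥Qm := h.hQ.to_subgroup Qm
    obtain ⟨b, hb⟩ := IsPGroup.iff_card.mp hQmp
    rw [hb, Nat.cast_pow]
    exact pow_ne_zero b htk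
  have hPk : (P : k) ≠ 0 := by
    rw [hPdef, Nat.cast_pow, Nat.cast_ofNat]
    exact pow_ne_zero _ h2k
  obtain ⟨hcard, hcomT⟩ := Cfsg.Agent.Lib.H19.SGT.extra_two hQmk hPpos hPk hTw hX hNmφ hfree
    hne hfpfT
  refine ⟨?_, ?_, ?_⟩
  · -- `2 ≤ n - j`
    by_contra hcon
    have hnj1 : n - j = 1 := by omega
    rw [hPdef, hnj1] at hcard
    apply hne
    rw [← Subgroup.index_eq_one, Subgroup.index, hcard]
    norm_num
  · -- a power of `t`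
    have hQmp : IsPGroup t ↥Qm := h.hQ.to_subgroup Qm
    have hqp : IsPGroup t (↥Qm ⧸ Nm) := hQmp.to_quotient Nm
    obtain ⟨b, hb⟩ := IsPGroup.iff_card.mp hqp
    refine ⟨b, ?_⟩
    rw [← hb, hcard, hPdef]
  · -- the relation
    intro a ha
    obtain ⟨y, hydef⟩ : ∃ y : ↥Q, y = θ ⟨a, ha⟩ * ⟨a, ha⟩ := ⟨_, rfl⟩
    have hyc : (y : Γ) = τ * a * τ⁻¹ * a := by
      rw [hydef, Subgroup.coe_mul, hθc]
    rw [← hyc]
    -- `ρ₀ y` commutes with `ρm`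
    have hycom : ρ₀ y ∈ comQ ρm := by
      rw [mem_comQ]
      intro e
      apply LinearMap.ext
      intro w
      apply Subtype.ext
      rw [Module.End.mul_apply, Module.End.mul_apply, hρm, hρ₀, hρ₀, hρm]
      have h1 : c (e : ↥Q) y = 1 := by
        rw [hydef]
        exact hA (e : ↥Q) ⟨a, ha⟩ ((hQm _).mp e.2)
      rw [hc] at h1
      have hz : ((e : ↥Q) : Γ) * (y : Γ) * ((e : ↥Q) : Γ)⁻¹ * (y : Γ)⁻¹ ∈ N :=
        hcommN _ (e : ↥Q).2 _ y.2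
      have hv : ρ ((y : Γ) * ((e : ↥Q) : Γ)) (w : W) ∈ W' := by
        rw [map_mul, Module.End.mul_apply]
        exact hd.hQW _ y.2 _ (hd.hQW _ (e : ↥Q).2 _ w.2)
      have h2 := hd.hμ _ hz _ hv
      rw [h1, one_smul, ← Module.End.mul_apply, ← map_mul] at h2
      have e1 : ((e : ↥Q) : Γ) * (y : Γ) * ((e : ↥Q) : Γ)⁻¹ * (y : Γ)⁻¹ *
          ((y : Γ) * ((e : ↥Q) : Γ)) = ((e : ↥Q) : Γ) * (y : Γ) := by group
      rw [e1] at h2
      rw [← Module.End.mul_apply, ← Module.End.mul_apply, ← map_mul, ← map_mul]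
      exact h2
    have hTy := hcomT _ hycom
    -- `d = g y g⁻¹ y⁻¹` acts trivially on `W'`
    have hyW : ∀ w ∈ W', ρ (y : Γ) w ∈ W' := hd.hQW _ y.2
    have hyinvW : ∀ w ∈ W', ρ (y : Γ)⁻¹ w ∈ W' := hd.hQW _ (Q.inv_mem y.2)
    have hgy : ∀ w ∈ W', ρ g (ρ (y : Γ) w) = ρ (y : Γ) (ρ g w) := by
      intro w hw
      have h1 := congrArg (fun f : Module.End k ↥W' => ((f ⟨w, hw⟩ : ↥W') : W)) hTy
      simp only [Module.End.mul_apply] at h1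
      rw [hT', hρ₀, hρ₀, hT'] at h1
      exact h1
    have hdQ : g * (y : Γ) * g⁻¹ * (y : Γ)⁻¹ ∈ Q := Q.mul_mem (hgQ _ y.2) (Q.inv_mem y.2)
    have hdtriv : ∀ w ∈ W', ρ (g * (y : Γ) * g⁻¹ * (y : Γ)⁻¹) w = w := by
      intro w hw
      have hw1 : ρ (g⁻¹ * (y : Γ)⁻¹) w ∈ W' := by
        rw [map_mul, Module.End.mul_apply]
        exact hginvW _ (hyinvW w hw)
      have h1 := hgy _ hw1
      rw [← Module.End.mul_apply, ← Module.End.mul_apply, ← Module.End.mul_apply,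
        ← Module.End.mul_apply, ← map_mul, ← map_mul, ← map_mul, ← map_mul] at h1
      have e1 : (y : Γ) * g * (g⁻¹ * (y : Γ)⁻¹) = 1 := by group
      have e2 : g * (y : Γ) * (g⁻¹ * (y : Γ)⁻¹) = g * (y : Γ) * g⁻¹ * (y : Γ)⁻¹ := by group
      rw [e1, e2, map_one, Module.End.one_apply] at h1
      exact h1
    -- so `d ∈ N`
    apply hd.hnd _ hdQ
    intro b hb
    obtain ⟨d, hddef⟩ : ∃ d : Γ, d = g * (y : Γ) * g⁻¹ * (y : Γ)⁻¹ := ⟨_, rfl⟩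
    rw [← hddef] at hdQ hdtriv ⊢
    have hz : b * d * b⁻¹ * d⁻¹ ∈ N := hcommN b hb d hdQ
    have h1 := hd.hμ _ hz w₀ hw₀
    have hdinv : ρ d⁻¹ w₀ = w₀ := by
      have hw1 : ρ d⁻¹ w₀ ∈ W' := hd.hQW _ (Q.inv_mem hdQ) w₀ hw₀
      have h2 := hdtriv _ hw1
      rw [← Module.End.mul_apply, ← map_mul, mul_inv_cancel, map_one, Module.End.one_apply] at h2
      exact h2.symm
    have h3 : ρ (b * d * b⁻¹ * d⁻¹) w₀ = w₀ := by
      rw [map_mul, map_mul, map_mul, Module.End.mul_apply, Module.End.mul_apply,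
        Module.End.mul_apply, hdinv, hdtriv _ (hd.hQW _ (Q.inv_mem hb) w₀ hw₀),
        ← Module.End.mul_apply, ← map_mul, mul_inv_cancel, map_one, Module.End.one_apply]
    rw [h3] at h1
    have h4 : (1 : k) • w₀ = μ (b * d * b⁻¹ * d⁻¹) • w₀ := by rw [one_smul]; exact h1
    exact (smul_left_injective k hw₀0 h4).symm

end ambient

end Cfsg.Agent.Lib.H20.SGT
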