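/-
S2524 (architect helper19, blueprint tools/blueprints/S2524_U.md), piece **WEIL-FULL** (helper20): the FULL Weil representation
`ρ : Sp_2n(F) →* End ((Fin n → F) → ℂ)`, `ρ g = κ g • Yop ψ g` (`κ g ≠ 0`), obtained from the projective representation `Yop ψ`
by the determinant trick of `WeilW7` (the same scalar `κ g = det (Y g | S⁻) / det (Y g | S⁺)` linearises `Y` on the whole space).
Consequences: `ρ g * hop ψ v = hop ψ (g v) * ρ g`, `ρ g` commutes with the parity `par`, and `Splus`, `Sminus` are `ρ`-invariant.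
-/
import Cfsg.Agent.Lib.H20.WeilMain

set_option autoImplicit false

namespace Cfsg.Agent.Lib.H20.Weil

open Matrix Cfsg.Agent.Lib.H12.LS2

/-- the determinant trick, on the whole space -/
theorem exists_linearization_full {G : Type*} [Group G] {V : Type*} [AddCommGroup V] [Module ℂ V]
    [FiniteDimensional ℂ V] (P M : Submodule ℂ V) (hd : Module.finrank ℂ P = Module.finrank ℂ M + 1)
    (Y : G → Module.End ℂ V) (hYu : ∀ g, IsUnit (Y g))
    (hP : ∀ g, ∀ f ∈ P, Y g f ∈ P) (hM : ∀ g, ∀ f ∈ M, Y g f ∈ M)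
    (hmul : ∀ g h, ∃ c : ℂ, c ≠ 0 ∧ Y g * Y h = c • Y (g * h)) :
    ∃ W : G →* Module.End ℂ V, ∀ g, ∃ κ : ℂ, κ ≠ 0 ∧ W g = κ • Y g := by
  classical
  choose c hc0 hc using hmul
  have hinj : ∀ g, Function.Injective (Y g) := fun g =>
    ((Module.End.isUnit_iff _).1 (hYu g)).injective
  let A : G → Module.End ℂ M := fun g => (Y g).restrict (hM g)
  let B : G → Module.End ℂ P := fun g => (Y g).restrict (hP g)
  have hAcoe : ∀ g (f : M), ((A g f : M) : V) = Y g (f : V) := fun g f => rfl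
  have hBcoe : ∀ g (f : P), ((B g f : P) : V) = Y g (f : V) := fun g f => rfl
  have hAmul : ∀ g h, A g * A h = c g h • A (g * h) := by
    intro g h
    apply LinearMap.ext
    intro f
    apply Subtype.ext
    have h1 := congrArg (fun T : Module.End ℂ V => T (f : V)) (hc g h)
    simp only [Module.End.mul_apply, LinearMap.smul_apply] at h1
    rw [Module.End.mul_apply, LinearMap.smul_apply, Submodule.coe_smul, hAcoe, hAcoe, hAcoe]
    exact h1
  have hBmul : ∀ g h, B g * B h = c g h • B (g * h) := by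
    intro g h
    apply LinearMap.ext
    intro f
    apply Subtype.ext
    have h1 := congrArg (fun T : Module.End ℂ V => T (f : V)) (hc g h)
    simp only [Module.End.mul_apply, LinearMap.smul_apply] at h1
    rw [Module.End.mul_apply, LinearMap.smul_apply, Submodule.coe_smul, hBcoe, hBcoe, hBcoe]
    exact h1
  have hAdet : ∀ g, LinearMap.det (A g) ≠ 0 := fun g => det_restrict_ne_zero M (Y g) (hinj g) (hM g)
  have hBdet : ∀ g, LinearMap.det (B g) ≠ 0 := fun g => det_restrict_ne_zero P (Y g) (hinj g) (hP g)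
  have hAd : ∀ g h, LinearMap.det (A g) * LinearMap.det (A h) =
      c g h ^ Module.finrank ℂ M * LinearMap.det (A (g * h)) := by
    intro g h
    rw [← map_mul, hAmul, LinearMap.det_smul]
  have hBd : ∀ g h, LinearMap.det (B g) * LinearMap.det (B h) =
      c g h ^ (Module.finrank ℂ M + 1) * LinearMap.det (B (g * h)) := by
    intro g h
    rw [← map_mul, hBmul, LinearMap.det_smul, hd]
  let κ : G → ℂ := fun g => LinearMap.det (A g) / LinearMap.det (B g)
  have hκ0 : ∀ g, κ g ≠ 0 := fun g => div_ne_zero (hAdet g) (hBdet g)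
  have hκ : ∀ g h, κ g * κ h * c g h = κ (g * h) := by
    intro g h
    show LinearMap.det (A g) / LinearMap.det (B g) * (LinearMap.det (A h) / LinearMap.det (B h)) * c g h
      = LinearMap.det (A (g * h)) / LinearMap.det (B (g * h))
    have h1 := hAd g h
    have h2 := hBd g h
    have hb1 := hBdet g
    have hb2 := hBdet h
    have hb3 := hBdet (g * h)
    have hc1 := hc0 g h
    have hcp : c g h ^ Module.finrank ℂ M ≠ 0 := pow_ne_zero _ hc1
    rw [div_mul_div_comm, h1, h2, pow_succ]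
    field_simp
  let W : G → Module.End ℂ V := fun g => κ g • Y g
  have hWmul : ∀ g h, W (g * h) = W g * W h := by
    intro g h
    show κ (g * h) • Y (g * h) = (κ g • Y g) * (κ h • Y h)
    rw [smul_mul_smul_comm, hc, smul_smul, hκ]
  have hWinj : ∀ g, Function.Injective (W g) := by
    intro g x y hxy
    have h1 : κ g • Y g x = κ g • Y g y := hxy
    exact hinj g (smul_right_injective _ (hκ0 g) h1)
  have hW1 : W 1 = 1 := by
    apply LinearMap.ext
    intro f
    have h1 := hWmul 1 1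
    rw [mul_one] at h1
    have h2 : W 1 (W 1 f) = W 1 f := by
      have := congrArg (fun T : Module.End ℂ V => T f) h1
      exact this.symm
    exact hWinj 1 h2
  exact ⟨{ toFun := W, map_one' := hW1, map_mul' := hWmul }, fun g => ⟨κ g, hκ0 g, rfl⟩⟩

variable {F : Type*} [Field F] [Fintype F] {n : ℕ}

/-- **WEIL-FULL**: the Weil representation of `Sp_2n(F)` (`F` finite of odd characteristic) on all functions `F^n → ℂ`. -/
theorem exists_weil_full (h2 : (2 : F) ≠ 0) (ψ : AddChar F ℂ) (hψ : ψ ≠ 1) :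
    ∃ ρ : Matrix.symplecticGroup (Fin n) F →* Module.End ℂ ((Fin n → F) → ℂ),
      ∀ g, ∃ κ : ℂ, κ ≠ 0 ∧ ρ g = κ • Yop ψ g.1 := by
  classical
  have hmaps := fun g : Matrix.symplecticGroup (Fin n) F =>
    Cfsg.Agent.Lib.H29.Weil.maps_of_commute_par (Yop ψ g.1) (Cfsg.Agent.Lib.H2.Weil.par_mul_Yop ψ g.1)
  exact exists_linearization_full (Splus n F) (Sminus n F) (Cfsg.Agent.Lib.H29.Weil.finrank_Splus h2)
    (fun g : Matrix.symplecticGroup (Fin n) F => Yop ψ g.1) (Cfsg.Agent.Lib.H2.Weil.isUnit_Yop h2 ψ hψ)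
    (fun g => (hmaps g).1) (fun g => (hmaps g).2) (Cfsg.Agent.Lib.H2.Weil.Yop_mul h2 ψ hψ)

/-- `ρ g` intertwines the Heisenberg operators -/
theorem weil_mul_hop (h2 : (2 : F) ≠ 0) (ψ : AddChar F ℂ)
    (ρ : Matrix.symplecticGroup (Fin n) F →* Module.End ℂ ((Fin n → F) → ℂ))
    (hρ : ∀ g, ∃ κ : ℂ, κ ≠ 0 ∧ ρ g = κ • Yop ψ g.1)
    (g : Matrix.symplecticGroup (Fin n) F) (v : Fin n ⊕ Fin n → F) :
    ρ g * hop ψ v = hop ψ (g.1 *ᵥ v) * ρ g := by
  obtain ⟨κ, -, hκ⟩ := hρ g
  rw [hκ, smul_mul_assoc, mul_smul_comm, Cfsg.Agent.Lib.H2.Weil.hop_mul_Yop h2 ψ g v]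

/-- `ρ g` commutes with the parity -/
theorem par_mul_weil (ψ : AddChar F ℂ)
    (ρ : Matrix.symplecticGroup (Fin n) F →* Module.End ℂ ((Fin n → F) → ℂ))
    (hρ : ∀ g, ∃ κ : ℂ, κ ≠ 0 ∧ ρ g = κ • Yop ψ g.1)
    (g : Matrix.symplecticGroup (Fin n) F) : par * ρ g = ρ g * par := by
  obtain ⟨κ, -, hκ⟩ := hρ g
  rw [hκ, mul_smul_comm, smul_mul_assoc, Cfsg.Agent.Lib.H2.Weil.par_mul_Yop ψ g.1]

/-- `Splus` and `Sminus` are `ρ`-invariant -/
theorem weil_maps (ψ : AddChar F ℂ)
    (ρ : Matrix.symplecticGroup (Fin n) F →* Module.End ℂ ((Fin n → F) → ℂ))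
    (hρ : ∀ g, ∃ κ : ℂ, κ ≠ 0 ∧ ρ g = κ • Yop ψ g.1)
    (g : Matrix.symplecticGroup (Fin n) F) :
    (∀ f ∈ Splus n F, ρ g f ∈ Splus n F) ∧ (∀ f ∈ Sminus n F, ρ g f ∈ Sminus n F) :=
  Cfsg.Agent.Lib.H29.Weil.maps_of_commute_par (ρ g) (par_mul_weil ψ ρ hρ g)

end Cfsg.Agent.Lib.H20.Weil
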