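import Mathlib

/-!
# An involution acting without fixed points on a normal subgroup (helper20; S2924 pieces INV / ABEL)

`H` a finite group, `A` a normal subgroup, `z ∈ H` with `z * z = 1` and `C_A(z) = 1`.  Then `z` inverts
`A`, `A` is commutative, `A` has odd order and every commutator `h z h⁻¹ z⁻¹` centralizes `A`.
-/

set_option autoImplicit false

namespace Cfsg.Agent.Lib.H20.SF

variable {H : Type*} [Group H] [Finite H]

/-- `z` inverts `A`. -/
theorem conj_eq_inv_of_fpf (A : Subgroup H) [A.Normal] {z : H} (hz : z * z = 1)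
    (hfix : ∀ a ∈ A, z * a = a * z → a = 1) : ∀ a ∈ A, z * a * z⁻¹ = a⁻¹ := by
  intro a ha
  set φ : A →* A := (MulAut.conjNormal z : MulAut A).toMonoidHom with hφ
  have hφv : ∀ b : A, ((φ b : A) : H) = z * b * z⁻¹ := fun b => by
    simp [hφ, MulAut.conjNormal_apply]
  have hzinv : z⁻¹ = z := inv_eq_of_mul_eq_one_left hz
  have hfpf : MonoidHom.FixedPointFree φ := by
    intro b hb
    have h1 : z * (b : H) * z⁻¹ = b := by rw [← hφv, hb]
    have h2 : z * (b : H) = b * z := by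
      calc z * (b : H) = z * b * z⁻¹ * z := by group
        _ = b * z := by rw [h1]
    exact Subtype.ext (hfix b b.2 h2)
  have hinv : Function.Involutive φ := by
    intro b
    apply Subtype.ext
    rw [hφv, hφv, hzinv]
    calc z * (z * (b : H) * z) * z = (z * z) * b * (z * z) := by group
      _ = b := by rw [hz, one_mul, mul_one]
  have key := hfpf.coe_eq_inv_of_involutive hinv
  have := congrFun key ⟨a, ha⟩
  have h3 := congrArg Subtype.val this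
  rw [hφv] at h3
  simpa using h3

/-- `A` is commutative. -/
theorem comm_of_fpf (A : Subgroup H) [A.Normal] {z : H} (hz : z * z = 1)
    (hfix : ∀ a ∈ A, z * a = a * z → a = 1) : ∀ a ∈ A, ∀ b ∈ A, a * b = b * a := by
  intro a ha b hb
  have h1 := conj_eq_inv_of_fpf A hz hfix a ha
  have h2 := conj_eq_inv_of_fpf A hz hfix b hb
  have h3 := conj_eq_inv_of_fpf A hz hfix (a * b) (A.mul_mem ha hb)
  have h4 : z * (a * b) * z⁻¹ = (z * a * z⁻¹) * (z * b * z⁻¹) := by group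
  rw [h4, h1, h2, mul_inv_rev] at h3
  have h5 : (a⁻¹ * b⁻¹)⁻¹ = (b⁻¹ * a⁻¹)⁻¹ := by rw [h3]
  simpa [mul_inv_rev] using h5.symm

/-- `A` has odd order. -/
theorem odd_card_of_fpf (A : Subgroup H) [A.Normal] {z : H} (hz : z * z = 1)
    (hfix : ∀ a ∈ A, z * a = a * z → a = 1) : Odd (Nat.card A) := by
  by_contra h
  rw [Nat.not_odd_iff_even, even_iff_two_dvd] at h
  haveI : Fact (Nat.Prime 2) := ⟨Nat.prime_two⟩
  obtain ⟨g, hg⟩ := exists_prime_orderOf_dvd_card' 2 h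
  have hg2 : (g : H) * g = 1 := by
    have : g ^ 2 = 1 := by rw [← hg, pow_orderOf_eq_one]
    have h1 := congrArg Subtype.val this
    simpa [sq] using h1
  have hginv : (g : H)⁻¹ = g := inv_eq_of_mul_eq_one_left hg2
  have h1 := conj_eq_inv_of_fpf A hz hfix g g.2
  rw [hginv] at h1
  have h2 : z * (g : H) = g * z := by
    calc z * (g : H) = z * g * z⁻¹ * z := by group
      _ = g * z := by rw [h1]
  have h3 := hfix g g.2 h2
  have : g = 1 := Subtype.ext h3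
  rw [this, orderOf_one] at hg
  norm_num at hg

/-- every commutator `h z h⁻¹ z⁻¹` centralizes `A`. -/
theorem commutator_centralizes_of_fpf (A : Subgroup H) [A.Normal] {z : H} (hz : z * z = 1)
    (hfix : ∀ a ∈ A, z * a = a * z → a = 1) (h : H) :
    ∀ a ∈ A, (h * z * h⁻¹ * z⁻¹) * a = a * (h * z * h⁻¹ * z⁻¹) := by
  intro a ha
  have hN : ∀ g : H, ∀ b ∈ A, g * b * g⁻¹ ∈ A := fun g b hb =>
    (inferInstance : A.Normal).conj_mem b hb g
  -- `z⁻¹ a z = a⁻¹`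
  have hzinv : z⁻¹ = z := inv_eq_of_mul_eq_one_left hz
  have h1 : z⁻¹ * a * z = a⁻¹ := by
    have := conj_eq_inv_of_fpf A hz hfix a ha
    rw [hzinv] at this ⊢
    exact this
  -- `h z h⁻¹` inverts `a⁻¹`
  have hb : h⁻¹ * a⁻¹ * h ∈ A := by
    have := hN h⁻¹ a⁻¹ (A.inv_mem ha)
    simpa using this
  have h2 : z * (h⁻¹ * a⁻¹ * h) * z⁻¹ = (h⁻¹ * a⁻¹ * h)⁻¹ :=
    conj_eq_inv_of_fpf A hz hfix _ hb
  have h3 : (h * z * h⁻¹) * a⁻¹ * (h * z * h⁻¹)⁻¹ = a := by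
    calc (h * z * h⁻¹) * a⁻¹ * (h * z * h⁻¹)⁻¹
        = h * (z * (h⁻¹ * a⁻¹ * h) * z⁻¹) * h⁻¹ := by group
      _ = h * (h⁻¹ * a⁻¹ * h)⁻¹ * h⁻¹ := by rw [h2]
      _ = a := by group
  -- combine
  have h4 : (h * z * h⁻¹ * z⁻¹) * a * (h * z * h⁻¹ * z⁻¹)⁻¹ = a := by
    calc (h * z * h⁻¹ * z⁻¹) * a * (h * z * h⁻¹ * z⁻¹)⁻¹
        = (h * z * h⁻¹) * (z⁻¹ * a * z) * (h * z * h⁻¹)⁻¹ := by group
      _ = (h * z * h⁻¹) * a⁻¹ * (h * z * h⁻¹)⁻¹ := by rw [h1]
      _ = a := h3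
  calc (h * z * h⁻¹ * z⁻¹) * a
      = ((h * z * h⁻¹ * z⁻¹) * a * (h * z * h⁻¹ * z⁻¹)⁻¹) * (h * z * h⁻¹ * z⁻¹) := by group
    _ = a * (h * z * h⁻¹ * z⁻¹) := by rw [h4]

end Cfsg.Agent.Lib.H20.SF
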