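import Mathlib

/-! # (AC)-groups and odd normal subgroups: minimal supplements (helper20)

`AC G`: abelian subgroups of `G` of equal order are conjugate.
For an abelian subgroup `Ā` of `G ⧸ M` we study subgroups `A ≤ G` of least order mapping
onto `Ā` ("minimal supplements").  They are nilpotent, and a Sylow subgroup of `A` lying in
`M` is trivial. -/

set_option autoImplicit false
set_option linter.unusedSectionVars false
set_option linter.unusedVariables false

namespace Cfsg.Agent.Lib.H20.ACQ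

variable {G : Type*} [Group G]

/-- abelian subgroups of equal order are conjugate. -/
def AC (G : Type*) [Group G] : Prop :=
  ∀ A B : Subgroup G, IsMulCommutative ↥A → IsMulCommutative ↥B → Nat.card ↥A = Nat.card ↥B →
    ∃ g : G, B = A.map (MulAut.conj g).toMonoidHom

/-- `A` is a subgroup of least order mapping onto `Ab ≤ G ⧸ M`. -/
structure MinSupp (M : Subgroup G) [M.Normal] (Ab : Subgroup (G ⧸ M)) (A : Subgroup G) : Prop where
  map_eq : A.map (QuotientGroup.mk' M) = Ab
  min : ∀ B : Subgroup G, B.map (QuotientGroup.mk' M) = Ab → Nat.card ↥A ≤ Nat.card ↥B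

theorem exists_minSupp [Finite G] (M : Subgroup G) [M.Normal] (Ab : Subgroup (G ⧸ M)) :
    ∃ A : Subgroup G, MinSupp M Ab A := by
  have hne : ({B : Subgroup G | B.map (QuotientGroup.mk' M) = Ab}).Nonempty :=
    ⟨Ab.comap (QuotientGroup.mk' M),
      Subgroup.map_comap_eq_self_of_surjective (QuotientGroup.mk'_surjective M) Ab⟩
  obtain ⟨A, hA, hmin⟩ := WellFounded.has_min
    (measure (fun B : Subgroup G => Nat.card ↥B)).wf _ hne
  exact ⟨A, hA, fun B hB => not_lt.1 (hmin B hB)⟩

section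

variable {M : Subgroup G} [M.Normal] {Ab : Subgroup (G ⧸ M)} {A : Subgroup G}

theorem MinSupp.mk_mem (h : MinSupp M Ab A) {x : G} (hx : x ∈ A) :
    (QuotientGroup.mk' M x) ∈ Ab := by
  rw [← h.map_eq]; exact Subgroup.mem_map_of_mem _ hx

/-- commutators of elements of `A` lie in `M` when `Ab` is abelian. -/
theorem MinSupp.comm_mem (h : MinSupp M Ab A) (hAb : IsMulCommutative ↥Ab) {x y : G}
    (hx : x ∈ A) (hy : y ∈ A) : x * y * x⁻¹ * y⁻¹ ∈ M := by
  rw [← QuotientGroup.eq_one_iff]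
  have hc : (QuotientGroup.mk' M x) * (QuotientGroup.mk' M y)
      = (QuotientGroup.mk' M y) * (QuotientGroup.mk' M x) :=
    congrArg Subtype.val (hAb.is_comm.comm ⟨_, h.mk_mem hx⟩ ⟨_, h.mk_mem hy⟩)
  show QuotientGroup.mk' M (x * y * x⁻¹ * y⁻¹) = 1
  rw [map_mul, map_mul, map_mul, hc, map_inv, map_inv]
  group

/-- a subgroup `H` of `A` with `H (A ∩ M) = A` has the order of `A`. -/
theorem MinSupp.card_le_of_sup (h : MinSupp M Ab A) (H : Subgroup ↥A)
    (hH : ∀ a : ↥A, ∃ y ∈ H, ∃ z : ↥A, (z : G) ∈ M ∧ a = y * z) :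
    Nat.card ↥A ≤ Nat.card ↥H := by
  have hB : (H.map A.subtype).map (QuotientGroup.mk' M) = Ab := by
    rw [← h.map_eq]
    apply le_antisymm
    · exact Subgroup.map_mono (Subgroup.map_subtype_le H)
    · rintro _ ⟨a, ha, rfl⟩
      obtain ⟨y, hy, z, hz, hyz⟩ := hH ⟨a, ha⟩
      refine ⟨(y : G), ⟨y, hy, rfl⟩, ?_⟩
      have ha' : a = (y : G) * (z : G) := congrArg Subtype.val hyz
      rw [ha', map_mul]
      have : QuotientGroup.mk' M (z : G) = 1 := (QuotientGroup.eq_one_iff _).2 hz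
      rw [this, mul_one]
  have := h.min _ hB
  rwa [Subgroup.card_map_of_injective A.subtype_injective] at this

variable [Finite G]

/-- A minimal supplement of an abelian subgroup of `G ⧸ M` is nilpotent. -/
theorem MinSupp.isNilpotent (h : MinSupp M Ab A) (hAb : IsMulCommutative ↥Ab) :
    Group.IsNilpotent ↥A := by
  have tfae := Group.isNilpotent_of_finite_tfae (G := ↥A)
  apply (tfae.out 0 2).2
  intro H hH
  have hKH : M.subgroupOf A ≤ H := by
    by_contra hK
    have hlt : H < H ⊔ M.subgroupOf A :=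
      lt_of_le_of_ne le_sup_left (fun he => hK (he ▸ le_sup_right))
    have htop : H ⊔ M.subgroupOf A = ⊤ := hH.2 _ hlt
    have hle : Nat.card ↥A ≤ Nat.card ↥H := by
      apply h.card_le_of_sup H
      intro a
      have ha : a ∈ H ⊔ M.subgroupOf A := htop ▸ Subgroup.mem_top _
      obtain ⟨y, hy, z, hz, hyz⟩ := Subgroup.mem_sup_of_normal_right.1 ha
      exact ⟨y, hy, z, Subgroup.mem_subgroupOf.1 hz, hyz.symm⟩
    exact hH.1 (Subgroup.eq_top_of_le_card H hle)
  refine ⟨fun n hn g => ?_⟩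
  have h1 : g * n * g⁻¹ * n⁻¹ ∈ H := by
    apply hKH
    rw [Subgroup.mem_subgroupOf]
    have := h.comm_mem hAb g.2 n.2
    simpa using this
  have h2 : g * n * g⁻¹ = (g * n * g⁻¹ * n⁻¹) * n := by group
  rw [h2]
  exact H.mul_mem h1 hn

/-- A Sylow subgroup of a (nilpotent) minimal supplement that lies in `M` is trivial. -/
theorem MinSupp.card_sylow_eq_one (h : MinSupp M Ab A) [Group.IsNilpotent ↥A] {p : ℕ}
    [Fact p.Prime] (P : Sylow p ↥A) (hPM : ∀ x ∈ (P : Subgroup ↥A), (x : G) ∈ M) :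
    Nat.card ↥(P : Subgroup ↥A) = 1 := by
  have tfae := Group.isNilpotent_of_finite_tfae (G := ↥A)
  have h03 : Group.IsNilpotent ↥A → ∀ (p : ℕ) (_hp : Fact p.Prime) (P : Sylow p ↥A),
      (↑P : Subgroup ↥A).Normal := (tfae.out 0 3).1
  have hn : (P : Subgroup ↥A).Normal := h03 inferInstance p ‹_› P
  obtain ⟨Y, hY⟩ := Subgroup.exists_right_complement'_of_coprime P.card_coprime_index
  have hle : Nat.card ↥A ≤ Nat.card ↥Y := by
    apply h.card_le_of_sup Y
    intro a
    obtain ⟨⟨x, y⟩, hxy⟩ := hY.2 a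
    -- a = x * y = y * (y⁻¹ x y)
    refine ⟨y.1, y.2, (y.1)⁻¹ * x.1 * y.1, ?_, ?_⟩
    · have hmem : (y.1)⁻¹ * x.1 * y.1 ∈ (P : Subgroup ↥A) := by
        have := hn.conj_mem x.1 x.2 (y.1)⁻¹
        simpa using this
      exact hPM _ hmem
    · have : a = x.1 * y.1 := hxy.symm
      rw [this]; group
  have hmul := hY.card_mul_card
  have hpos : 0 < Nat.card ↥Y := Nat.card_pos
  have hPpos : 0 < Nat.card ↥(P : Subgroup ↥A) := Nat.card_pos
  nlinarith

end

end Cfsg.Agent.Lib.H20.ACQ
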