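import Mathlib
import Cfsg.Agent.Lib.H20.ACQ1
import Cfsg.Agent.Lib.H15.RankOne

/-! # (AC)-groups: `p`-subgroups relative to a normal subgroup of odd order (helper20) -/

set_option autoImplicit false
set_option linter.unusedSectionVars false
set_option linter.unusedVariables false
set_option linter.style.haveILetI false

namespace Cfsg.Agent.Lib.H20.ACQ

variable {G : Type*} [Group G]

theorem isMulCommutative_of_isCyclic' {α : Type*} [Group α] [IsCyclic α] : IsMulCommutative α :=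
  ⟨⟨fun a b => by
    obtain ⟨g, hg⟩ := IsCyclic.exists_generator (α := α)
    obtain ⟨m, rfl⟩ := hg a
    obtain ⟨n, rfl⟩ := hg b
    exact zpow_mul_comm g m n⟩⟩

/-- an abelian subgroup having the order of an abelian subgroup of the normal subgroup `M`
lies in `M`. -/
theorem AC.le_normal_of_card_eq (hAC : AC G) (M : Subgroup G) [hM : M.Normal] {T H : Subgroup G}
    (hTM : T ≤ M) (hT : IsMulCommutative ↥T) (hH : IsMulCommutative ↥H)
    (hcard : Nat.card ↥T = Nat.card ↥H) : H ≤ M := by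
  obtain ⟨g, rfl⟩ := hAC T H hT hH hcard
  rintro _ ⟨t, ht, rfl⟩
  exact hM.conj_mem t (hTM ht) g

variable [Finite G]

/-- elements of order `p` lie in `M` when `p` divides `|M|`. -/
theorem AC.mem_of_orderOf_eq_prime (hAC : AC G) (M : Subgroup G) [M.Normal] {p : ℕ}
    [Fact p.Prime] (hpM : p ∣ Nat.card ↥M) {x : G} (hx : orderOf x = p) : x ∈ M := by
  obtain ⟨z, hz⟩ := exists_prime_orderOf_dvd_card' p hpM
  have hz' : orderOf (z : G) = p := by rw [Subgroup.orderOf_coe]; exact hz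
  have hle : Subgroup.zpowers x ≤ M := by
    apply hAC.le_normal_of_card_eq M (T := Subgroup.zpowers (z : G))
    · rw [Subgroup.zpowers_le]; exact z.2
    · exact isMulCommutative_of_isCyclic'
    · exact isMulCommutative_of_isCyclic'
    · rw [Nat.card_zpowers, Nat.card_zpowers, hz', hx]
  exact hle (Subgroup.mem_zpowers x)

/-- if `G` has an element of order `p²` then it has `p`-rank at most one. -/
theorem AC.pRankLE_one (hAC : AC G) {p : ℕ} [hp : Fact p.Prime] {y : G}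
    (hy : orderOf y = p ^ 2) : Cfsg.PRankLE p 1 G := by
  intro E hEc hEp
  have hEP : IsPGroup p ↥E := fun e => ⟨1, by
    rw [pow_one]; exact Subtype.ext (hEp e e.2)⟩
  obtain ⟨j, hj⟩ := IsPGroup.iff_card.1 hEP
  by_contra hlt
  push Not at hlt
  have hj2 : 2 ≤ j := by
    rw [hj] at hlt
    have := (Nat.pow_lt_pow_iff_right hp.out.one_lt).1 hlt
    omega
  have hdvd : p ^ 2 ∣ Nat.card ↥E := by rw [hj]; exact pow_dvd_pow p hj2
  obtain ⟨K, hK⟩ := Sylow.exists_subgroup_card_pow_prime p hdvd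
  have hKE : K.map E.subtype ≤ E := Subgroup.map_subtype_le K
  have hKc : IsMulCommutative ↥(K.map E.subtype) :=
    ⟨⟨fun a b => Subtype.ext (by
      have h := congrArg Subtype.val (hEc.is_comm.comm ⟨a.1, hKE a.2⟩ ⟨b.1, hKE b.2⟩)
      exact h)⟩⟩
  have hcard : Nat.card ↥(Subgroup.zpowers y) = Nat.card ↥(K.map E.subtype) := by
    rw [Nat.card_zpowers, hy, Subgroup.card_map_of_injective E.subtype_injective, hK]
  obtain ⟨g, hg⟩ := hAC (Subgroup.zpowers y) (K.map E.subtype) isMulCommutative_of_isCyclic'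
    hKc hcard
  have hmem : g * y * g⁻¹ ∈ K.map E.subtype := by
    rw [hg]; exact ⟨y, Subgroup.mem_zpowers y, rfl⟩
  have h1 : (g * y * g⁻¹) ^ p = 1 := hEp _ (hKE hmem)
  rw [conj_pow] at h1
  have h2 : y ^ p = 1 := by
    have : y ^ p = g⁻¹ * (g * y ^ p * g⁻¹) * g := by group
    rw [this, h1]; group
  have h3 : p ^ 2 ∣ p := by rw [← hy]; exact orderOf_dvd_of_pow_eq_one h2
  have h4 : p ^ 2 ≤ p := Nat.le_of_dvd hp.out.pos h3
  have h5 : 2 ≤ p := hp.out.two_le
  nlinarith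

/-- if all `p`-subgroups are cyclic, a subgroup of order `p ^ j` dividing `|M|` lies in `M`. -/
theorem AC.le_of_card_pow (hAC : AC G) (M : Subgroup G) [M.Normal] {p : ℕ} [hp : Fact p.Prime]
    (hcyc : ∀ H : Subgroup G, IsPGroup p ↥H → IsCyclic ↥H) {H : Subgroup G} {j : ℕ}
    (hH : Nat.card ↥H = p ^ j) (hj : p ^ j ∣ Nat.card ↥M) : H ≤ M := by
  obtain ⟨T, hT⟩ := Sylow.exists_subgroup_card_pow_prime p hj
  have hTc : Nat.card ↥(T.map M.subtype) = p ^ j := by
    rw [Subgroup.card_map_of_injective M.subtype_injective, hT]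
  haveI h1 : IsCyclic ↥(T.map M.subtype) := hcyc _ (IsPGroup.of_card hTc)
  haveI h2 : IsCyclic ↥H := hcyc _ (IsPGroup.of_card hH)
  exact hAC.le_normal_of_card_eq M (Subgroup.map_subtype_le T) isMulCommutative_of_isCyclic'
    isMulCommutative_of_isCyclic' (hTc.trans hH.symm)

/-- if all `p`-subgroups are cyclic, a `p`-subgroup not in `M` meets `M` in a Sylow
`p`-subgroup of `M`. -/
theorem AC.card_inf_of_not_le (hAC : AC G) (M : Subgroup G) [M.Normal] {p : ℕ}
    [hp : Fact p.Prime] (hcyc : ∀ H : Subgroup G, IsPGroup p ↥H → IsCyclic ↥H)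
    {Q : Subgroup G} (hQ : IsPGroup p ↥Q) (hQM : ¬ Q ≤ M) :
    Nat.card ↥(Q ⊓ M) = p ^ (Nat.card ↥M).factorization p := by
  obtain ⟨k, hk⟩ := IsPGroup.iff_card.1 hQ
  set m := (Nat.card ↥M).factorization p with hm
  have hpm : p ^ m ∣ Nat.card ↥M := Nat.ordProj_dvd _ _
  have hkm : m < k := by
    by_contra hle
    push Not at hle
    exact hQM (hAC.le_of_card_pow M hcyc hk ((pow_dvd_pow p hle).trans hpm))
  have hd : p ^ m ∣ Nat.card ↥Q := by rw [hk]; exact pow_dvd_pow p hkm.le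
  obtain ⟨K, hK⟩ := Sylow.exists_subgroup_card_pow_prime p hd
  have hKc : Nat.card ↥(K.map Q.subtype) = p ^ m := by
    rw [Subgroup.card_map_of_injective Q.subtype_injective, hK]
  have hK' : K.map Q.subtype ≤ M := hAC.le_of_card_pow M hcyc hKc hpm
  have h1 : K.map Q.subtype ≤ Q ⊓ M := le_inf (Subgroup.map_subtype_le K) hK'
  have hQM' : IsPGroup p ↥(Q ⊓ M) := hQ.to_le inf_le_left
  obtain ⟨i, hi⟩ := IsPGroup.iff_card.1 hQM'
  have h2 : p ^ m ∣ p ^ i := by rw [← hi, ← hKc]; exact Subgroup.card_dvd_of_le h1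
  have h3 : p ^ i ∣ Nat.card ↥M := hi ▸ Subgroup.card_dvd_of_le inf_le_right
  have h4 : i ≤ m := (Nat.Prime.pow_dvd_iff_le_factorization hp.out Nat.card_pos.ne').1 h3
  have h5 : m ≤ i := (Nat.pow_dvd_pow_iff_le_right hp.out.one_lt).1 h2
  rw [hi]; congr 1; omega

/-- In an (AC)-group with a normal subgroup `M` of odd order divisible by `p`, a `p`-subgroup
not contained in `M` is cyclic and meets `M` in a Sylow `p`-subgroup of `M`. -/
theorem AC.pgroup_not_le (hAC : AC G) (M : Subgroup G) [M.Normal] (hM : Odd (Nat.card ↥M))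
    {p : ℕ} [hp : Fact p.Prime] (hpM : p ∣ Nat.card ↥M) {Q : Subgroup G} (hQ : IsPGroup p ↥Q)
    (hQM : ¬ Q ≤ M) :
    IsCyclic ↥Q ∧ Nat.card ↥(Q ⊓ M) = p ^ (Nat.card ↥M).factorization p := by
  have hp2 : p ≠ 2 := by
    rintro rfl
    exact (Nat.not_even_iff_odd.2 hM) (even_iff_two_dvd.2 hpM)
  obtain ⟨x, hxQ, hxM⟩ := SetLike.not_le_iff_exists.1 hQM
  obtain ⟨k, hk⟩ := hQ ⟨x, hxQ⟩
  have hk' : x ^ p ^ k = 1 := congrArg Subtype.val hk
  obtain ⟨j, hjk, hj⟩ := (Nat.dvd_prime_pow hp.out).1 (orderOf_dvd_of_pow_eq_one hk')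
  have hj2 : 2 ≤ j := by
    by_contra hlt
    push Not at hlt
    interval_cases j
    · rw [pow_zero, orderOf_eq_one_iff] at hj
      exact hxM (hj ▸ M.one_mem)
    · rw [pow_one] at hj
      exact hxM (hAC.mem_of_orderOf_eq_prime M hpM hj)
  have hy : orderOf (x ^ p ^ (j - 2)) = p ^ 2 := by
    rw [orderOf_pow_of_dvd (pow_ne_zero _ hp.out.ne_zero) (by rw [hj]; exact pow_dvd_pow p (by omega)),
      hj, Nat.pow_div (by omega) hp.out.pos]
    congr 1; omega
  have hrk := hAC.pRankLE_one hy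
  have hcyc : ∀ H : Subgroup G, IsPGroup p ↥H → IsCyclic ↥H := fun H hH =>
    Cfsg.Agent.Lib.H15.isCyclic_of_pRankLE_one hp2 hrk hH
  exact ⟨hcyc Q hQ, hAC.card_inf_of_not_le M hcyc hQ hQM⟩

end Cfsg.Agent.Lib.H20.ACQ
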