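import Mathlib
import Cfsg.Agent.Lib.H20.ACQ2

/-! # (AC) passes to quotients by normal subgroups of odd order (helper20) -/

set_option autoImplicit false
set_option linter.unusedSectionVars false
set_option linter.unusedVariables false
set_option linter.style.haveILetI false

namespace Cfsg.Agent.Lib.H20.ACQ

variable {G : Type*} [Group G]

/-- `|Q| = |Q ∩ M| · |QM/M|`. -/
theorem card_eq_inf_mul_map [Finite G] (M : Subgroup G) [M.Normal] (Q : Subgroup G) :
    Nat.card ↥Q = Nat.card ↥(Q ⊓ M) * Nat.card ↥(Q.map (QuotientGroup.mk' M)) := by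
  have h1 : M.relIndex Q = Nat.card ↥(Q.map (QuotientGroup.mk' M)) := by
    have := Subgroup.relIndex_ker (K := Q) (QuotientGroup.mk' M)
    rwa [QuotientGroup.ker_mk'] at this
  have h2 : Nat.card ↥(M.subgroupOf Q) = Nat.card ↥(Q ⊓ M) := by
    rw [← Subgroup.card_map_of_injective Q.subtype_injective, Subgroup.subgroupOf_map_subtype,
      inf_comm]
  have h3 := Subgroup.card_mul_index (M.subgroupOf Q)
  rw [← h3, h2, ← h1]; rfl

theorem comm_of_map_subtype {A : Subgroup G} {P : Subgroup ↥A}
    (h : ∀ x ∈ P.map A.subtype, ∀ y ∈ P.map A.subtype, x * y = y * x) : IsMulCommutative ↥P :=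
  ⟨⟨fun a b => Subtype.ext (Subtype.ext (h _ ⟨a.1, a.2, rfl⟩ _ ⟨b.1, b.2, rfl⟩))⟩⟩

/-- A finite nilpotent group all of whose Sylow subgroups are abelian is abelian. -/
theorem isMulCommutative_of_nilpotent_of_sylow' {N : Type*} [Group N] [Finite N]
    [Group.IsNilpotent N]
    (h : ∀ (p : ℕ) [Fact p.Prime] (P : Sylow p N), IsMulCommutative ↥(P : Subgroup N)) :
    IsMulCommutative N := by
  let e := Sylow.directProductOfNormal (G := N) (fun {p} _ P => inferInstance)
  refine ⟨⟨fun a b => ?_⟩⟩
  obtain ⟨f, rfl⟩ := e.surjective a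
  obtain ⟨g, rfl⟩ := e.surjective b
  rw [← map_mul, ← map_mul]
  congr 1
  funext p P
  haveI : Fact (p : ℕ).Prime := Fact.mk (Nat.prime_of_mem_primeFactors p.2)
  exact (h p P).is_comm.comm (f p P) (g p P)

/-- the exponent of `p` in the order of a minimal supplement of a subgroup of order `n`. -/
noncomputable def expo (M : Subgroup G) (p n : ℕ) : ℕ :=
  if (Nat.card ↥M).factorization p = 0 then n.factorization p
  else if n.factorization p = 0 then 0 else (Nat.card ↥M).factorization p + n.factorization p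

variable [Finite G] {M : Subgroup G} [M.Normal] {Ab : Subgroup (G ⧸ M)} {A : Subgroup G}

/-- the image of a Sylow subgroup of `A` in `Ab`. -/
theorem MinSupp.card_map_sylow (h : MinSupp M Ab A) {p : ℕ} [hp : Fact p.Prime] (P : Sylow p ↥A) :
    Nat.card ↥(((P : Subgroup ↥A).map A.subtype).map (QuotientGroup.mk' M))
      = p ^ (Nat.card ↥Ab).factorization p := by
  have hf : Function.Surjective ((QuotientGroup.mk' M).subgroupMap A) :=
    MonoidHom.subgroupMap_surjective _ _
  have h1 := (P.mapSurjective hf).card_eq_multiplicity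
  rw [Sylow.coe_mapSurjective] at h1
  have h2 : ((P : Subgroup ↥A).map ((QuotientGroup.mk' M).subgroupMap A)).map
      (A.map (QuotientGroup.mk' M)).subtype
      = ((P : Subgroup ↥A).map A.subtype).map (QuotientGroup.mk' M) := by
    rw [Subgroup.map_map, Subgroup.map_map]; rfl
  rw [← h2, Subgroup.card_map_of_injective (Subgroup.subtype_injective _), h1, h.map_eq]

theorem MinSupp.sylow_facts (hAC : AC G) (hM : Odd (Nat.card ↥M)) (h : MinSupp M Ab A)
    (hAb : IsMulCommutative ↥Ab) [Group.IsNilpotent ↥A] {p : ℕ} [hp : Fact p.Prime]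
    (P : Sylow p ↥A) :
    IsMulCommutative ↥(P : Subgroup ↥A) ∧
      (Nat.card ↥A).factorization p = expo M p (Nat.card ↥Ab) := by
  set Q : Subgroup G := (P : Subgroup ↥A).map A.subtype with hQdef
  have hQ : IsPGroup p ↥Q := P.2.map A.subtype
  have hQc : Nat.card ↥Q = p ^ (Nat.card ↥A).factorization p := by
    rw [hQdef, Subgroup.card_map_of_injective A.subtype_injective]
    exact P.card_eq_multiplicity
  have hQb : Nat.card ↥(Q.map (QuotientGroup.mk' M)) = p ^ (Nat.card ↥Ab).factorization p :=
    h.card_map_sylow P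
  have hmul := card_eq_inf_mul_map M Q
  have hQA : Q ≤ A := Subgroup.map_subtype_le _
  have hQM' : IsPGroup p ↥(Q ⊓ M) := hQ.to_le inf_le_left
  obtain ⟨i, hi⟩ := IsPGroup.iff_card.1 hQM'
  have h3 : p ^ i ∣ Nat.card ↥M := hi ▸ Subgroup.card_dvd_of_le inf_le_right
  have h4 : i ≤ (Nat.card ↥M).factorization p :=
    (Nat.Prime.pow_dvd_iff_le_factorization hp.out Nat.card_pos.ne').1 h3
  have hp1 : 1 < p := hp.out.one_lt
  unfold expo
  by_cases hm : (Nat.card ↥M).factorization p = 0
  · rw [if_pos hm]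
    have hi0 : i = 0 := by omega
    rw [hi0, pow_zero] at hi
    constructor
    · apply comm_of_map_subtype
      intro x hx y hy
      have hmem : x * y * x⁻¹ * y⁻¹ ∈ Q ⊓ M :=
        ⟨Q.mul_mem (Q.mul_mem (Q.mul_mem hx hy) (Q.inv_mem hx)) (Q.inv_mem hy),
          h.comm_mem hAb (hQA hx) (hQA hy)⟩
      have hbot : Q ⊓ M = ⊥ := Subgroup.card_eq_one.1 hi
      rw [hbot, Subgroup.mem_bot] at hmem
      have : x * y = (x * y * x⁻¹ * y⁻¹) * (y * x) := by group
      rw [this, hmem, one_mul]
    · rw [hi, one_mul, hQc, hQb] at hmul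
      exact Nat.pow_right_injective hp.out.two_le hmul
  · rw [if_neg hm]
    have hpM : p ∣ Nat.card ↥M := by
      by_contra hnd
      exact hm (Nat.factorization_eq_zero_of_not_dvd hnd)
    by_cases hle : Q ≤ M
    · have hP1 : Nat.card ↥(P : Subgroup ↥A) = 1 :=
        h.card_sylow_eq_one P (fun x hx => hle ⟨x, hx, rfl⟩)
      have hk0 : (Nat.card ↥A).factorization p = 0 := by
        have := P.card_eq_multiplicity
        rw [hP1] at this
        by_contra hne
        have : 1 < p ^ (Nat.card ↥A).factorization p := Nat.one_lt_pow hne hp1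
        omega
      have hQ1 : Nat.card ↥Q = 1 := by rw [hQc, hk0, pow_zero]
      have ha0 : (Nat.card ↥Ab).factorization p = 0 := by
        rw [hQ1] at hmul
        have h5 : Nat.card ↥(Q.map (QuotientGroup.mk' M)) = 1 :=
          Nat.eq_one_of_mul_eq_one_left hmul.symm
        rw [hQb] at h5
        by_contra hne
        have : 1 < p ^ (Nat.card ↥Ab).factorization p := Nat.one_lt_pow hne hp1
        omega
      constructor
      · haveI : Subsingleton ↥(P : Subgroup ↥A) :=
          (Nat.card_eq_one_iff_unique.1 hP1).1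
        exact ⟨⟨fun a b => Subsingleton.elim _ _⟩⟩
      · rw [if_pos ha0, hk0]
    · obtain ⟨hcyc, hinf⟩ := hAC.pgroup_not_le M hM hpM hQ hle
      have ha : (Nat.card ↥Ab).factorization p ≠ 0 := by
        intro ha0
        rw [ha0, pow_zero] at hQb
        have hbot : Q.map (QuotientGroup.mk' M) = ⊥ := Subgroup.card_eq_one.1 hQb
        apply hle
        intro x hx
        have : QuotientGroup.mk' M x ∈ Q.map (QuotientGroup.mk' M) :=
          Subgroup.mem_map_of_mem _ hx
        rw [hbot, Subgroup.mem_bot] at this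
        exact (QuotientGroup.eq_one_iff x).1 this
      constructor
      · apply comm_of_map_subtype
        intro x hx y hy
        haveI := hcyc
        have hc : IsMulCommutative ↥Q := isMulCommutative_of_isCyclic'
        exact congrArg Subtype.val (hc.is_comm.comm ⟨x, hx⟩ ⟨y, hy⟩)
      · rw [if_neg ha]
        rw [hinf, hQc, hQb, ← pow_add] at hmul
        exact Nat.pow_right_injective hp.out.two_le hmul

/-- a minimal supplement of an abelian subgroup is abelian, of order determined by `|Ab|`. -/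
theorem MinSupp.abelian_and_card (hAC : AC G) (hM : Odd (Nat.card ↥M)) (h : MinSupp M Ab A)
    (hAb : IsMulCommutative ↥Ab) :
    IsMulCommutative ↥A ∧ ∀ p : ℕ, p.Prime →
      (Nat.card ↥A).factorization p = expo M p (Nat.card ↥Ab) := by
  haveI := h.isNilpotent hAb
  constructor
  · apply isMulCommutative_of_nilpotent_of_sylow'
    intro p _ P
    exact (h.sylow_facts hAC hM hAb P).1
  · intro p hp
    haveI : Fact p.Prime := ⟨hp⟩
    obtain ⟨P⟩ := (inferInstance : Nonempty (Sylow p ↥A))
    exact (h.sylow_facts hAC hM hAb P).2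

/-- **(AC) passes to quotients by normal subgroups of odd order.** -/
theorem AC.quotient_odd (hAC : AC G) (M : Subgroup G) [M.Normal] (hM : Odd (Nat.card ↥M)) :
    AC (G ⧸ M) := by
  intro Ab Bb hAb hBb hcard
  obtain ⟨A, hA⟩ := exists_minSupp M Ab
  obtain ⟨B, hB⟩ := exists_minSupp M Bb
  obtain ⟨hAc, hAf⟩ := hA.abelian_and_card hAC hM hAb
  obtain ⟨hBc, hBf⟩ := hB.abelian_and_card hAC hM hBb
  have hAB : Nat.card ↥A = Nat.card ↥B := by
    apply Nat.eq_of_factorization_eq Nat.card_pos.ne' Nat.card_pos.ne'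
    intro p
    by_cases hp : p.Prime
    · rw [hAf p hp, hBf p hp, hcard]
    · rw [Nat.factorization_eq_zero_of_not_prime _ hp, Nat.factorization_eq_zero_of_not_prime _ hp]
  obtain ⟨g, hg⟩ := hAC A B hAc hBc hAB
  refine ⟨QuotientGroup.mk' M g, ?_⟩
  rw [← hB.map_eq, ← hA.map_eq, hg, Subgroup.map_map, Subgroup.map_map]
  congr 1

end Cfsg.Agent.Lib.H20.ACQ
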