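import Mathlib
import Cfsg.Agent.Lib.H20.ACQ2

/-! # Solvable (AC)-groups: the Sylow 2-subgroups (helper20)

A solvable group whose Sylow 2-subgroup is generated (in a strong sense) by elements of order 4
has an element of order 4 which is not the square of an element of order 8.  Consequently a
solvable (AC)-group of 2-rank one with a non-cyclic 2-subgroup has Sylow 2-subgroups of order 8
and no element of order 8. -/

set_option autoImplicit false
set_option linter.unusedSectionVars false
set_option linter.unusedVariables false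
set_option linter.style.haveILetI false

namespace Cfsg.Agent.Lib.H20.ACS

open Cfsg.Agent.Lib.H20.ACQ

universe u

section PrimeIndex

variable {G : Type*} [Group G] [Finite G]

/-- a nontrivial finite solvable group has a normal subgroup of prime index
(copy of helper24's `WrM.exists_normal_prime_index`, to keep imports light). -/
theorem exists_normal_prime_index' [Nontrivial G] (hG : Group.IsSolvable G) :
    ∃ N : Subgroup G, N.Normal ∧ N.index.Prime := by
  classical
  have hbot : (⊥ : Subgroup G).Normal ∧ (⊥ : Subgroup G) ≠ ⊤ := ⟨inferInstance, bot_ne_top⟩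
  obtain ⟨N, -, hNmax⟩ := Finite.exists_le_maximal
    (p := fun N : Subgroup G => N.Normal ∧ N ≠ ⊤) hbot
  obtain ⟨⟨hNn, hNtop⟩, hmax⟩ := hNmax
  haveI := hNn
  refine ⟨N, hNn, ?_⟩
  have hidx1 : N.index ≠ 1 := fun h => hNtop (Subgroup.index_eq_one.mp h)
  have hidx0 : N.index ≠ 0 := Subgroup.index_ne_zero_of_finite
  haveI hnt : Nontrivial (G ⧸ N) := by
    apply Finite.one_lt_card_iff_nontrivial.mp
    show 1 < N.index
    omega
  haveI hsimple : IsSimpleGroup (G ⧸ N) := by
    refine ⟨fun Hb hHb => ?_⟩
    set K := Hb.comap (QuotientGroup.mk' N) with hK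
    have hKn : K.Normal := hHb.comap _
    have hNK : N ≤ K := by
      intro x hx
      rw [hK, Subgroup.mem_comap]
      have : QuotientGroup.mk' N x = 1 := (QuotientGroup.eq_one_iff x).mpr hx
      rw [this]
      exact Hb.one_mem
    have hmap : K.map (QuotientGroup.mk' N) = Hb :=
      Subgroup.map_comap_eq_self_of_surjective (QuotientGroup.mk'_surjective N) Hb
    by_cases hKtop : K = ⊤
    · right
      rw [← hmap, hKtop, ← MonoidHom.range_eq_map,
        MonoidHom.range_eq_top.mpr (QuotientGroup.mk'_surjective N)]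
    · left
      have hKN : K ≤ N := hmax ⟨hKn, hKtop⟩ hNK
      have : K = N := le_antisymm hKN hNK
      rw [← hmap, this, QuotientGroup.map_mk'_self]
  have hsolv : Group.IsSolvable (G ⧸ N) :=
    solvable_of_surjective (QuotientGroup.mk'_surjective N)
  have hcomm : ∀ a b : G ⧸ N, a * b = b * a := IsSimpleGroup.comm_iff_isSolvable.mpr hsolv
  letI : CommGroup (G ⧸ N) := { (inferInstance : Group (G ⧸ N)) with mul_comm := hcomm }
  exact IsSimpleGroup.prime_card (α := G ⧸ N)

/-- an element whose order is prime to the index of the normal subgroup `K` lies in `K`. -/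
theorem mem_of_pow_eq_one_of_coprime (K : Subgroup G) [K.Normal] {x : G} {k : ℕ}
    (hx : x ^ k = 1) (hk : Nat.Coprime k K.index) : x ∈ K := by
  rw [← QuotientGroup.eq_one_iff]
  have h1 : ((x : G ⧸ K)) ^ k = 1 := by rw [← QuotientGroup.mk_pow, hx]; rfl
  have h2 : ((x : G ⧸ K)) ^ K.index = 1 := by
    rw [Subgroup.index_eq_card]; exact pow_card_eq_one'
  have h3 : orderOf (x : G ⧸ K) ∣ Nat.gcd k K.index :=
    Nat.dvd_gcd (orderOf_dvd_of_pow_eq_one h1) (orderOf_dvd_of_pow_eq_one h2)
  rw [hk, Nat.dvd_one, orderOf_eq_one_iff] at h3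
  exact h3

end PrimeIndex

/-- every proper subgroup of `S` misses an element of order four of `S`. -/
def Gen4 {G : Type*} [Group G] (S : Subgroup G) : Prop :=
  ∀ H : Subgroup G, H ≤ S → H ≠ S → ∃ v ∈ S, orderOf v = 4 ∧ v ∉ H

theorem exists_order_four_not_sq_aux : ∀ (n : ℕ) (G : Type u) [Group G] [Finite G],
    Nat.card G = n → Group.IsSolvable G → ∀ S : Subgroup G, IsPGroup 2 ↥S → Odd S.index →
    S ≠ ⊥ → Gen4 S → ∃ v : G, orderOf v = 4 ∧ ∀ g : G, orderOf g = 8 → g ^ 2 ≠ v := by
  intro n
  induction n using Nat.strong_induction_on with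
  | _ n ih =>
  intro G _ _ hn hsol S hS hodd hne hgen
  haveI : Nontrivial G := by
    obtain ⟨s, hs1⟩ := (Subgroup.ne_bot_iff_exists_ne_one (H := S)).1 hne
    exact ⟨⟨(s : G), 1, fun h => hs1 (Subtype.ext h)⟩⟩
  obtain ⟨K, hKn, hKp⟩ := exists_normal_prime_index' hsol
  haveI := hKn
  haveI : Fact (Nat.Prime 2) := ⟨Nat.prime_two⟩
  by_cases hr : K.index = 2
  · -- index two
    have hSK : ¬ S ≤ K := by
      intro hle
      have h1 := Subgroup.relIndex_mul_index hle
      rw [hr] at h1
      have : Even S.index := ⟨S.relIndex K, by rw [← h1]; ring⟩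
      exact (Nat.not_even_iff_odd.2 hodd) this
    have hlt : S ⊓ K ≠ S := fun h => hSK (h ▸ inf_le_right)
    obtain ⟨v, hvS, hv4, hvK⟩ := hgen (S ⊓ K) inf_le_left hlt
    refine ⟨v, hv4, fun g _ hgv => ?_⟩
    apply hvK
    refine ⟨hvS, ?_⟩
    rw [← hgv]
    exact Subgroup.sq_mem_of_index_two hr g
  · -- odd prime index
    have hodd_r : Nat.Coprime 2 K.index := by
      rw [Nat.coprime_primes Nat.prime_two hKp]
      exact fun h => hr h.symm
    have hSK : S ≤ K := by
      intro s hs
      obtain ⟨k, hk⟩ := hS ⟨s, hs⟩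
      have hk' : s ^ 2 ^ k = 1 := congrArg Subtype.val hk
      exact mem_of_pow_eq_one_of_coprime K hk' (Nat.Coprime.pow_left k hodd_r)
    have hcard : Nat.card ↥K < n := by
      rw [← hn]
      by_contra hge
      push Not at hge
      have := Subgroup.eq_top_of_le_card K hge
      rw [this, Subgroup.index_top] at hKp
      exact Nat.not_prime_one hKp
    have hS' : IsPGroup 2 ↥(S.subgroupOf K) := hS.comap_subtype
    have hodd' : Odd (S.subgroupOf K).index := by
      have h1 := Subgroup.relIndex_mul_index hSK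
      have : Odd (S.relIndex K) := by
        rw [← h1] at hodd
        exact (Nat.odd_mul.1 hodd).1
      exact this
    have hne' : S.subgroupOf K ≠ ⊥ := by
      intro hbot
      apply hne
      rw [eq_bot_iff]
      intro s hs
      have : (⟨s, hSK hs⟩ : ↥K) ∈ S.subgroupOf K := Subgroup.mem_subgroupOf.2 hs
      rw [hbot, Subgroup.mem_bot] at this
      rw [Subgroup.mem_bot]
      exact congrArg Subtype.val this
    have hgen' : Gen4 (S.subgroupOf K) := by
      intro H' hH'S hH'ne
      have h1 : H'.map K.subtype ≤ S := by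
        rintro _ ⟨x, hx, rfl⟩
        exact Subgroup.mem_subgroupOf.1 (hH'S hx)
      have h2 : H'.map K.subtype ≠ S := by
        intro he
        apply hH'ne
        apply le_antisymm hH'S
        intro x hx
        have hx' : (x : G) ∈ H'.map K.subtype := he ▸ Subgroup.mem_subgroupOf.1 hx
        obtain ⟨y, hy, hyx⟩ := hx'
        have : y = x := Subtype.ext hyx
        exact this ▸ hy
      obtain ⟨v, hvS, hv4, hvH⟩ := hgen _ h1 h2
      refine ⟨⟨v, hSK hvS⟩, Subgroup.mem_subgroupOf.2 hvS, ?_, ?_⟩
      · rw [← Subgroup.orderOf_coe]; exact hv4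
      · intro hv
        exact hvH ⟨_, hv, rfl⟩
    obtain ⟨v', hv'4, hv'⟩ := ih _ hcard ↥K rfl inferInstance (S.subgroupOf K) hS' hodd' hne' hgen'
    refine ⟨(v' : G), by rw [Subgroup.orderOf_coe]; exact hv'4, fun g hg8 hgv => ?_⟩
    have hgK : g ∈ K := by
      apply mem_of_pow_eq_one_of_coprime K (k := 2 ^ 3)
      · have := pow_orderOf_eq_one g
        rw [hg8] at this
        exact this
      · exact Nat.Coprime.pow_left 3 hodd_r
    apply hv' ⟨g, hgK⟩
    · rw [← Subgroup.orderOf_coe]; exact hg8
    · exact Subtype.ext hgv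

/-- In a finite solvable group with a nontrivial Sylow 2-subgroup `S` satisfying `Gen4`, some
element of order 4 is not the square of an element of order 8. -/
theorem exists_order_four_not_sq {G : Type u} [Group G] [Finite G] (hsol : Group.IsSolvable G)
    (S : Subgroup G) (hS : IsPGroup 2 ↥S) (hodd : Odd S.index) (hne : S ≠ ⊥) (hgen : Gen4 S) :
    ∃ v : G, orderOf v = 4 ∧ ∀ g : G, orderOf g = 8 → g ^ 2 ≠ v :=
  exists_order_four_not_sq_aux _ G rfl hsol S hS hodd hne hgen

end Cfsg.Agent.Lib.H20.ACS
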