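import Mathlib
import Cfsg.Agent.Lib.H20.ACS1

/-! # Solvable (AC)-groups: quaternion Sylow 2-subgroups have order 8 (helper20) -/

set_option autoImplicit false
set_option linter.unusedSectionVars false
set_option linter.unusedVariables false
set_option linter.style.haveILetI false

namespace Cfsg.Agent.Lib.H20.ACS

open Cfsg.Agent.Lib.H20.ACQ

universe u

/-- a proper subgroup of a generalized quaternion group misses some `xa i`. -/
theorem quaternion_exists_xa_not_mem {m : ℕ} [NeZero m] (H : Subgroup (QuaternionGroup m))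
    (hH : H ≠ ⊤) : ∃ i, QuaternionGroup.xa i ∉ H := by
  by_contra hall
  push Not at hall
  apply hH
  rw [eq_top_iff]
  intro x _
  cases x with
  | a k =>
    have : QuaternionGroup.a k = QuaternionGroup.xa 0 * QuaternionGroup.xa (k - (m : ZMod (2 * m))) := by
      rw [QuaternionGroup.xa_mul_xa]; congr 1; ring
    rw [this]; exact H.mul_mem (hall _) (hall _)
  | xa k => exact hall k

theorem gen4_of_equiv {G : Type*} [Group G] {S : Subgroup G} {m : ℕ} [NeZero m]
    (e : ↥S ≃* QuaternionGroup m) : Gen4 S := by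
  intro H hHS hne
  have hH' : (H.subgroupOf S).map e.toMonoidHom ≠ ⊤ := by
    intro htop
    apply hne
    apply le_antisymm hHS
    intro s hs
    have : e ⟨s, hs⟩ ∈ (H.subgroupOf S).map e.toMonoidHom := htop ▸ Subgroup.mem_top _
    obtain ⟨y, hy, hye⟩ := this
    have : y = ⟨s, hs⟩ := e.injective hye
    rw [this] at hy
    exact Subgroup.mem_subgroupOf.1 hy
  obtain ⟨i, hi⟩ := quaternion_exists_xa_not_mem _ hH'
  refine ⟨(e.symm (QuaternionGroup.xa i) : ↥S), (e.symm _).2, ?_, ?_⟩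
  · rw [Subgroup.orderOf_coe, MulEquiv.orderOf_eq]
    exact QuaternionGroup.orderOf_xa i
  · intro hmem
    apply hi
    refine ⟨e.symm (QuaternionGroup.xa i), Subgroup.mem_subgroupOf.2 hmem, ?_⟩
    simp

/-- A solvable (AC)-group of 2-rank one with a non-cyclic 2-subgroup has no element of order 8
and Sylow 2-subgroups of order 8. -/
theorem AC.two_structure {G : Type u} [Group G] [Finite G] (hAC : AC G)
    (hsol : Group.IsSolvable G) (hrk : Cfsg.PRankLE 2 1 G) {H0 : Subgroup G}
    (hH0 : IsPGroup 2 ↥H0) (hnc : ¬ IsCyclic ↥H0) :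
    (∀ g : G, orderOf g ≠ 8) ∧ (Nat.card G).factorization 2 = 3 := by
  haveI : Fact (Nat.Prime 2) := ⟨Nat.prime_two⟩
  obtain ⟨S, hS⟩ := hH0.exists_le_sylow
  have hSnc : ¬ IsCyclic ↥(S : Subgroup G) := by
    intro hc
    apply hnc
    haveI := hc
    have : IsCyclic ↥(H0.subgroupOf (S : Subgroup G)) := inferInstance
    exact isCyclic_of_surjective (Subgroup.subgroupOfEquivOfLe hS).toMonoidHom
      (Subgroup.subgroupOfEquivOfLe hS).surjective
  have huniq := Cfsg.Agent.Lib.H15.atMostOneOrderP_of_pRankLE_one hrk S.2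
  rcases Cfsg.Agent.Lib.H22.cyclic_or_quaternion_of_atMostOne S.2 huniq with hc | ⟨n, hn1, ⟨e⟩⟩
  · exact absurd hc hSnc
  have hgen : Gen4 (S : Subgroup G) := gen4_of_equiv e
  have hSne : (S : Subgroup G) ≠ ⊥ := by
    intro hbot
    apply hSnc
    rw [hbot]
    infer_instance
  have hodd : Odd (S : Subgroup G).index := by
    rw [← Nat.not_even_iff_odd, even_iff_two_dvd]; exact S.not_dvd_index
  obtain ⟨v, hv4, hv⟩ := exists_order_four_not_sq hsol S S.2 hodd hSne hgen
  have hno8 : ∀ g : G, orderOf g ≠ 8 := by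
    intro g hg8
    have hg2 : orderOf (g ^ 2) = 4 := by
      rw [orderOf_pow_of_dvd (by norm_num) (by rw [hg8]; norm_num), hg8]
    obtain ⟨h, hh⟩ := hAC (Subgroup.zpowers (g ^ 2)) (Subgroup.zpowers v)
      isMulCommutative_of_isCyclic' isMulCommutative_of_isCyclic'
      (by rw [Nat.card_zpowers, Nat.card_zpowers, hg2, hv4])
    have hvmem : v ∈ (Subgroup.zpowers (g ^ 2)).map (MulAut.conj h).toMonoidHom :=
      hh ▸ Subgroup.mem_zpowers v
    obtain ⟨y, hy, hyv⟩ := hvmem
    obtain ⟨k, hk⟩ := (mem_powers_iff_mem_zpowers).2 hy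
    have hk' : (g ^ 2) ^ k = y := hk
    have hw2 : (h * g ^ k * h⁻¹) ^ 2 = v := by
      rw [← hyv, ← hk', conj_pow, ← pow_mul, ← pow_mul, mul_comm k 2]
      simp [MulAut.conj_apply]
    have hw8 : (h * g ^ k * h⁻¹) ^ 2 ^ 3 = 1 := by
      rw [conj_pow, ← pow_mul, mul_comm, pow_mul]
      have : g ^ 2 ^ 3 = 1 := by
        have := pow_orderOf_eq_one g
        rwa [hg8] at this
      rw [this, one_pow]; group
    obtain ⟨j, hj3, hj⟩ := (Nat.dvd_prime_pow Nat.prime_two).1 (orderOf_dvd_of_pow_eq_one hw8)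
    have hj3' : j = 3 := by
      by_contra hne
      have hj2 : j ≤ 2 := by omega
      have h4 : (h * g ^ k * h⁻¹) ^ 4 = 1 := by
        apply orderOf_dvd_iff_pow_eq_one.1
        rw [hj]
        calc 2 ^ j ∣ 2 ^ 2 := pow_dvd_pow 2 hj2
          _ = 4 := by norm_num
      have hv2 : v ^ 2 = 1 := by
        rw [← hw2, ← pow_mul]; exact h4
      have := orderOf_dvd_of_pow_eq_one hv2
      rw [hv4] at this
      omega
    rw [hj3'] at hj
    exact hv _ (by rw [hj]; norm_num) hw2
  have hn : n = 1 := by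
    by_contra hne
    have hn2 : 2 ≤ n := by omega
    have hx : orderOf ((QuaternionGroup.a 1 : QuaternionGroup (2 ^ n)) ^ 2 ^ (n - 2)) = 8 := by
      have hdvd : 2 ^ (n - 2) ∣ 2 * 2 ^ n := by
        refine ⟨2 ^ 3, ?_⟩
        rw [← pow_succ', ← pow_add]; congr 1; omega
      rw [orderOf_pow_of_dvd (pow_ne_zero _ two_ne_zero)
        (by rw [QuaternionGroup.orderOf_a_one]; exact hdvd), QuaternionGroup.orderOf_a_one]
      have : 2 * 2 ^ n = 2 ^ (n - 2) * 8 := by
        have : (8 : ℕ) = 2 ^ 3 := by norm_num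
        rw [this, ← pow_succ', ← pow_add]; congr 1; omega
      rw [this, Nat.mul_div_cancel_left _ (pow_pos two_pos _)]
    apply hno8 ((e.symm ((QuaternionGroup.a 1 : QuaternionGroup (2 ^ n)) ^ 2 ^ (n - 2)) : ↥S) : G)
    rw [Subgroup.orderOf_coe, MulEquiv.orderOf_eq, hx]
  have hcardS : Nat.card ↥(S : Subgroup G) = 8 := by
    rw [Nat.card_congr e.toEquiv, Nat.card_eq_fintype_card, QuaternionGroup.card, hn]; norm_num
  have hmult := S.card_eq_multiplicity
  rw [hcardS] at hmult
  refine ⟨hno8, ?_⟩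
  have h8 : (8 : ℕ) = 2 ^ 3 := by norm_num
  rw [h8] at hmult
  exact (Nat.pow_right_injective (le_refl 2) hmult).symm

end Cfsg.Agent.Lib.H20.ACS
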