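import Mathlib
import Cfsg.Agent.Lib.H20.ACS2
import Cfsg.Agent.Lib.H20.ACQ3

/-! # Solvable (AC)-groups: `p`-subgroups relative to an arbitrary normal subgroup (helper20) -/

set_option autoImplicit false
set_option linter.unusedSectionVars false
set_option linter.unusedVariables false
set_option linter.style.haveILetI false

namespace Cfsg.Agent.Lib.H20.ACS

open Cfsg.Agent.Lib.H20.ACQ

universe u

variable {G : Type u} [Group G] [Finite G]

/-- variant of `AC.le_of_card_pow` needing cyclicity only for the order in question. -/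
theorem AC.le_of_card_pow' (hAC : AC G) (M : Subgroup G) [M.Normal] {p : ℕ} [hp : Fact p.Prime]
    {H : Subgroup G} {j : ℕ} (hcyc : ∀ T : Subgroup G, Nat.card ↥T = p ^ j → IsCyclic ↥T)
    (hH : Nat.card ↥H = p ^ j) (hj : p ^ j ∣ Nat.card ↥M) : H ≤ M := by
  obtain ⟨T, hT⟩ := Sylow.exists_subgroup_card_pow_prime p hj
  have hTc : Nat.card ↥(T.map M.subtype) = p ^ j := by
    rw [Subgroup.card_map_of_injective M.subtype_injective, hT]
  haveI h1 : IsCyclic ↥(T.map M.subtype) := hcyc _ hTc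
  haveI h2 : IsCyclic ↥H := hcyc _ hH
  exact hAC.le_normal_of_card_eq M (Subgroup.map_subtype_le T) isMulCommutative_of_isCyclic'
    isMulCommutative_of_isCyclic' (hTc.trans hH.symm)

/-- In a solvable (AC)-group with a normal subgroup `M` of order divisible by `p`, a `p`-subgroup
`Q` not contained in `M` meets `M` in a Sylow `p`-subgroup of `M`; moreover `Q` is abelian unless
`p = 2`, `|M|₂ = 2`, `|G|₂ = 8 = |Q|`. -/
theorem AC.pgroup_not_le' (hAC : AC G) (hsol : Group.IsSolvable G) (M : Subgroup G) [M.Normal]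
    {p : ℕ} [hp : Fact p.Prime] (hpM : p ∣ Nat.card ↥M) {Q : Subgroup G} (hQ : IsPGroup p ↥Q)
    (hQM : ¬ Q ≤ M) :
    Nat.card ↥(Q ⊓ M) = p ^ (Nat.card ↥M).factorization p ∧
      (IsMulCommutative ↥Q ∨ (p = 2 ∧ (Nat.card ↥M).factorization 2 = 1 ∧
        (Nat.card G).factorization 2 = 3 ∧ Nat.card ↥Q = 8)) := by
  obtain ⟨x, hxQ, hxM⟩ := SetLike.not_le_iff_exists.1 hQM
  obtain ⟨k, hk⟩ := hQ ⟨x, hxQ⟩
  have hk' : x ^ p ^ k = 1 := congrArg Subtype.val hk
  obtain ⟨j, hjk, hj⟩ := (Nat.dvd_prime_pow hp.out).1 (orderOf_dvd_of_pow_eq_one hk')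
  have hj2 : 2 ≤ j := by
    by_contra hlt
    push Not at hlt
    interval_cases j
    · rw [pow_zero, orderOf_eq_one_iff] at hj
      exact hxM (hj ▸ M.one_mem)
    · rw [pow_one] at hj
      exact hxM (hAC.mem_of_orderOf_eq_prime M hpM hj)
  have hy : orderOf (x ^ p ^ (j - 2)) = p ^ 2 := by
    rw [orderOf_pow_of_dvd (pow_ne_zero _ hp.out.ne_zero) (by rw [hj]; exact pow_dvd_pow p (by omega)),
      hj, Nat.pow_div (by omega) hp.out.pos]
    congr 1; omega
  have hrk := hAC.pRankLE_one hy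
  by_cases hcyc : ∀ H : Subgroup G, IsPGroup p ↥H → IsCyclic ↥H
  · refine ⟨hAC.card_inf_of_not_le M hcyc hQ hQM, Or.inl ?_⟩
    haveI := hcyc Q hQ
    exact isMulCommutative_of_isCyclic'
  push Not at hcyc
  obtain ⟨H0, hH0, hnc⟩ := hcyc
  have hp2 : p = 2 := by
    by_contra hne
    exact hnc (Cfsg.Agent.Lib.H15.isCyclic_of_pRankLE_one hne hrk hH0)
  subst hp2
  obtain ⟨hno8, hv2⟩ := AC.two_structure hAC hsol hrk hH0 hnc
  have hquat : ∀ T : Subgroup G, IsPGroup 2 ↥T →
      IsCyclic ↥T ∨ ∃ n : ℕ, 1 ≤ n ∧ Nat.card ↥T = 4 * 2 ^ n := by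
    intro T hT2
    rcases Cfsg.Agent.Lib.H22.cyclic_or_quaternion_of_atMostOne hT2
      (Cfsg.Agent.Lib.H15.atMostOneOrderP_of_pRankLE_one hrk hT2) with hc | ⟨n, hn1, ⟨e⟩⟩
    · exact Or.inl hc
    · right
      refine ⟨n, hn1, ?_⟩
      rw [Nat.card_congr e.toEquiv, Nat.card_eq_fintype_card, QuaternionGroup.card]
  have hsmall : ∀ i : ℕ, i ≤ 2 → ∀ T : Subgroup G, Nat.card ↥T = 2 ^ i → IsCyclic ↥T := by
    intro i hi T hT
    rcases hquat T (IsPGroup.of_card hT) with hc | ⟨n, hn1, hn⟩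
    · exact hc
    · exfalso
      rw [hT] at hn
      have h1 : 2 ^ i ≤ 2 ^ 2 := Nat.pow_le_pow_right (by norm_num) hi
      have h2 : 2 ^ 1 ≤ 2 ^ n := Nat.pow_le_pow_right (by norm_num) hn1
      omega
  have hordQ : ∀ x ∈ Q, ∃ i ≤ 2, orderOf x = 2 ^ i := by
    intro x hx
    obtain ⟨k, hk⟩ := hQ ⟨x, hx⟩
    have hk' : x ^ 2 ^ k = 1 := congrArg Subtype.val hk
    obtain ⟨i, hik, hi⟩ := (Nat.dvd_prime_pow Nat.prime_two).1 (orderOf_dvd_of_pow_eq_one hk')
    refine ⟨i, ?_, hi⟩
    by_contra hlt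
    push Not at hlt
    apply hno8 (x ^ 2 ^ (i - 3))
    rw [orderOf_pow_of_dvd (pow_ne_zero _ two_ne_zero)
      (by rw [hi]; exact pow_dvd_pow 2 (by omega)), hi, Nat.pow_div (by omega) two_pos]
    have : i - (i - 3) = 3 := by omega
    rw [this]; norm_num
  have hm1 : 1 ≤ (Nat.card ↥M).factorization 2 :=
    (Nat.Prime.dvd_iff_one_le_factorization Nat.prime_two Nat.card_pos.ne').1 hpM
  have hm : (Nat.card ↥M).factorization 2 = 1 := by
    by_contra hne
    have hm2 : 2 ≤ (Nat.card ↥M).factorization 2 := by omega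
    apply hQM
    intro x hx
    obtain ⟨i, hi2, hi⟩ := hordQ x hx
    have : Subgroup.zpowers x ≤ M :=
      AC.le_of_card_pow' hAC M (hsmall i hi2) (by rw [Nat.card_zpowers, hi])
        ((pow_dvd_pow 2 (hi2.trans hm2)).trans (Nat.ordProj_dvd _ _))
    exact this (Subgroup.mem_zpowers x)
  have hinf : Nat.card ↥(Q ⊓ M) = 2 ^ (Nat.card ↥M).factorization 2 := by
    rw [hm, pow_one]
    have hQM' : IsPGroup 2 ↥(Q ⊓ M) := hQ.to_le inf_le_left
    obtain ⟨i, hi⟩ := IsPGroup.iff_card.1 hQM'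
    have h3 : 2 ^ i ∣ Nat.card ↥M := hi ▸ Subgroup.card_dvd_of_le inf_le_right
    have h4 : i ≤ (Nat.card ↥M).factorization 2 :=
      (Nat.Prime.pow_dvd_iff_le_factorization Nat.prime_two Nat.card_pos.ne').1 h3
    have hQne : Q ≠ ⊥ := by
      rintro rfl
      exact hQM bot_le
    have h2Q : 2 ∣ Nat.card ↥Q := by
      obtain ⟨k, hk⟩ := IsPGroup.iff_card.1 hQ
      have : k ≠ 0 := by
        rintro rfl
        rw [pow_zero] at hk
        exact hQne (Subgroup.card_eq_one.1 hk)
      rw [hk]; exact dvd_pow_self 2 this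
    obtain ⟨t, ht⟩ := exists_prime_orderOf_dvd_card' 2 h2Q
    have htM : (t : G) ∈ M :=
      hAC.mem_of_orderOf_eq_prime M hpM (by rw [Subgroup.orderOf_coe]; exact ht)
    have hi0 : i ≠ 0 := by
      rintro rfl
      rw [pow_zero] at hi
      have hbot : Q ⊓ M = ⊥ := Subgroup.card_eq_one.1 hi
      have hmem : (t : G) ∈ Q ⊓ M := ⟨t.2, htM⟩
      rw [hbot, Subgroup.mem_bot] at hmem
      have h1 : orderOf (t : G) = 1 := by rw [hmem, orderOf_one]
      rw [Subgroup.orderOf_coe, ht] at h1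
      omega
    have hi1 : i = 1 := by omega
    rw [hi, hi1, pow_one]
  refine ⟨hinf, ?_⟩
  rcases hquat Q hQ with hc | ⟨n, hn1, hn⟩
  · left
    haveI := hc
    exact isMulCommutative_of_isCyclic'
  · right
    refine ⟨rfl, hm, hv2, ?_⟩
    have h1 : 4 * 2 ^ n = 2 ^ (n + 2) := by rw [pow_add]; ring
    have h2 : 2 ^ (n + 2) ∣ Nat.card G := by
      rw [← h1, ← hn]; exact Subgroup.card_subgroup_dvd_card Q
    have h3 : n + 2 ≤ 3 := by
      rw [← hv2]
      exact (Nat.Prime.pow_dvd_iff_le_factorization Nat.prime_two Nat.card_pos.ne').1 h2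
    have h4 : n = 1 := by omega
    rw [hn, h4]; norm_num

/-- the exceptional configuration: `|M|₂ = 2`, `|G|₂ = 8`, `n₂ = 4`. -/
def Bad (M : Subgroup G) (n : ℕ) : Prop :=
  (Nat.card ↥M).factorization 2 = 1 ∧ (Nat.card G).factorization 2 = 3 ∧ n.factorization 2 = 2

variable {M : Subgroup G} [M.Normal] {Ab : Subgroup (G ⧸ M)} {A : Subgroup G}

theorem MinSupp.sylow_facts' (hAC : AC G) (hsol : Group.IsSolvable G) (h : MinSupp M Ab A)
    (hAb : IsMulCommutative ↥Ab) [Group.IsNilpotent ↥A] {p : ℕ} [hp : Fact p.Prime]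
    (P : Sylow p ↥A) :
    (IsMulCommutative ↥(P : Subgroup ↥A) ∨ Bad M (Nat.card ↥Ab)) ∧
      (Nat.card ↥A).factorization p = expo M p (Nat.card ↥Ab) := by
  set Q : Subgroup G := (P : Subgroup ↥A).map A.subtype with hQdef
  have hQ : IsPGroup p ↥Q := P.2.map A.subtype
  have hQc : Nat.card ↥Q = p ^ (Nat.card ↥A).factorization p := by
    rw [hQdef, Subgroup.card_map_of_injective A.subtype_injective]
    exact P.card_eq_multiplicity
  have hQb : Nat.card ↥(Q.map (QuotientGroup.mk' M)) = p ^ (Nat.card ↥Ab).factorization p :=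
    h.card_map_sylow P
  have hmul := card_eq_inf_mul_map M Q
  have hQA : Q ≤ A := Subgroup.map_subtype_le _
  have hQM' : IsPGroup p ↥(Q ⊓ M) := hQ.to_le inf_le_left
  obtain ⟨i, hi⟩ := IsPGroup.iff_card.1 hQM'
  have h3 : p ^ i ∣ Nat.card ↥M := hi ▸ Subgroup.card_dvd_of_le inf_le_right
  have h4 : i ≤ (Nat.card ↥M).factorization p :=
    (Nat.Prime.pow_dvd_iff_le_factorization hp.out Nat.card_pos.ne').1 h3
  have hp1 : 1 < p := hp.out.one_lt
  unfold expo
  by_cases hm : (Nat.card ↥M).factorization p = 0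
  · rw [if_pos hm]
    have hi0 : i = 0 := by omega
    rw [hi0, pow_zero] at hi
    constructor
    · left
      apply comm_of_map_subtype
      intro x hx y hy
      have hmem : x * y * x⁻¹ * y⁻¹ ∈ Q ⊓ M :=
        ⟨Q.mul_mem (Q.mul_mem (Q.mul_mem hx hy) (Q.inv_mem hx)) (Q.inv_mem hy),
          h.comm_mem hAb (hQA hx) (hQA hy)⟩
      have hbot : Q ⊓ M = ⊥ := Subgroup.card_eq_one.1 hi
      rw [hbot, Subgroup.mem_bot] at hmem
      have : x * y = (x * y * x⁻¹ * y⁻¹) * (y * x) := by group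
      rw [this, hmem, one_mul]
    · rw [hi, one_mul, hQc, hQb] at hmul
      exact Nat.pow_right_injective hp.out.two_le hmul
  · rw [if_neg hm]
    have hpM : p ∣ Nat.card ↥M := by
      by_contra hnd
      exact hm (Nat.factorization_eq_zero_of_not_dvd hnd)
    by_cases hle : Q ≤ M
    · have hP1 : Nat.card ↥(P : Subgroup ↥A) = 1 :=
        h.card_sylow_eq_one P (fun x hx => hle ⟨x, hx, rfl⟩)
      have hk0 : (Nat.card ↥A).factorization p = 0 := by
        have := P.card_eq_multiplicity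
        rw [hP1] at this
        by_contra hne
        have : 1 < p ^ (Nat.card ↥A).factorization p := Nat.one_lt_pow hne hp1
        omega
      have hQ1 : Nat.card ↥Q = 1 := by rw [hQc, hk0, pow_zero]
      have ha0 : (Nat.card ↥Ab).factorization p = 0 := by
        rw [hQ1] at hmul
        have h5 : Nat.card ↥(Q.map (QuotientGroup.mk' M)) = 1 :=
          Nat.eq_one_of_mul_eq_one_left hmul.symm
        rw [hQb] at h5
        by_contra hne
        have : 1 < p ^ (Nat.card ↥Ab).factorization p := Nat.one_lt_pow hne hp1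
        omega
      constructor
      · left
        haveI : Subsingleton ↥(P : Subgroup ↥A) :=
          (Nat.card_eq_one_iff_unique.1 hP1).1
        exact ⟨⟨fun a b => Subsingleton.elim _ _⟩⟩
      · rw [if_pos ha0, hk0]
    · obtain ⟨hinf, hor⟩ := AC.pgroup_not_le' hAC hsol M hpM hQ hle
      have ha : (Nat.card ↥Ab).factorization p ≠ 0 := by
        intro ha0
        rw [ha0, pow_zero] at hQb
        have hbot : Q.map (QuotientGroup.mk' M) = ⊥ := Subgroup.card_eq_one.1 hQb
        apply hle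
        intro x hx
        have : QuotientGroup.mk' M x ∈ Q.map (QuotientGroup.mk' M) :=
          Subgroup.mem_map_of_mem _ hx
        rw [hbot, Subgroup.mem_bot] at this
        exact (QuotientGroup.eq_one_iff x).1 this
      have hkma : (Nat.card ↥A).factorization p
          = (Nat.card ↥M).factorization p + (Nat.card ↥Ab).factorization p := by
        rw [hinf, hQc, hQb, ← pow_add] at hmul
        exact Nat.pow_right_injective hp.out.two_le hmul
      constructor
      · rcases hor with hc | ⟨rfl, hm1, hG3, hQ8⟩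
        · left
          apply comm_of_map_subtype
          intro x hx y hy
          exact congrArg Subtype.val (hc.is_comm.comm ⟨x, hx⟩ ⟨y, hy⟩)
        · right
          refine ⟨hm1, hG3, ?_⟩
          have h8 : (8 : ℕ) = 2 ^ 3 := by norm_num
          rw [hQ8, h8] at hQc
          have hk3 : (Nat.card ↥A).factorization 2 = 3 :=
            (Nat.pow_right_injective (le_refl 2) hQc).symm
          omega
      · rw [if_neg ha]
        exact hkma

/-- a minimal supplement of an abelian subgroup is abelian (except in the bad configuration),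
of order determined by `|Ab|`. -/
theorem MinSupp.abelian_or_bad (hAC : AC G) (hsol : Group.IsSolvable G) (h : MinSupp M Ab A)
    (hAb : IsMulCommutative ↥Ab) :
    (IsMulCommutative ↥A ∨ Bad M (Nat.card ↥Ab)) ∧ ∀ p : ℕ, p.Prime →
      (Nat.card ↥A).factorization p = expo M p (Nat.card ↥Ab) := by
  haveI := h.isNilpotent hAb
  constructor
  · by_cases hbad : Bad M (Nat.card ↥Ab)
    · exact Or.inr hbad
    · left
      apply isMulCommutative_of_nilpotent_of_sylow'
      intro p _ P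
      exact ((MinSupp.sylow_facts' hAC hsol h hAb P).1).resolve_right hbad
  · intro p hp
    haveI : Fact p.Prime := ⟨hp⟩
    obtain ⟨P⟩ := (inferInstance : Nonempty (Sylow p ↥A))
    exact (MinSupp.sylow_facts' hAC hsol h hAb P).2

/-- conjugacy of abelian subgroups of `G ⧸ M` of equal order, outside the bad configuration. -/
theorem AC.conj_of_not_bad (hAC : AC G) (hsol : Group.IsSolvable G) (M : Subgroup G) [M.Normal]
    (Ab Bb : Subgroup (G ⧸ M)) (hAb : IsMulCommutative ↥Ab) (hBb : IsMulCommutative ↥Bb)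
    (hcard : Nat.card ↥Ab = Nat.card ↥Bb) (hbad : ¬ Bad M (Nat.card ↥Ab)) :
    ∃ g : G ⧸ M, Bb = Ab.map (MulAut.conj g).toMonoidHom := by
  obtain ⟨A, hA⟩ := exists_minSupp M Ab
  obtain ⟨B, hB⟩ := exists_minSupp M Bb
  obtain ⟨hAc, hAf⟩ := MinSupp.abelian_or_bad hAC hsol hA hAb
  obtain ⟨hBc, hBf⟩ := MinSupp.abelian_or_bad hAC hsol hB hBb
  have hAc' := hAc.resolve_right hbad
  have hBc' := hBc.resolve_right (hcard ▸ hbad)
  have hAB : Nat.card ↥A = Nat.card ↥B := by
    apply Nat.eq_of_factorization_eq Nat.card_pos.ne' Nat.card_pos.ne'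
    intro p
    by_cases hp : p.Prime
    · rw [hAf p hp, hBf p hp, hcard]
    · rw [Nat.factorization_eq_zero_of_not_prime _ hp, Nat.factorization_eq_zero_of_not_prime _ hp]
  obtain ⟨g, hg⟩ := hAC A B hAc' hBc' hAB
  refine ⟨QuotientGroup.mk' M g, ?_⟩
  rw [← hB.map_eq, ← hA.map_eq, hg, Subgroup.map_map, Subgroup.map_map]
  congr 1

end Cfsg.Agent.Lib.H20.ACS
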