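import Mathlib
import Cfsg.Agent.Lib.H20.ACS3
import Cfsg.Agent.Lib.H5.SylowIn

/-! # (AC) passes to quotients of solvable groups (helper20) -/

set_option autoImplicit false
set_option linter.unusedSectionVars false
set_option linter.unusedVariables false
set_option linter.style.haveILetI false

namespace Cfsg.Agent.Lib.H20.ACS

open Cfsg.Agent.Lib.H20.ACQ

universe u

/-- an abelian subgroup is the join of a Sylow 2-subgroup and a complement. -/
theorem exists_two_decomp {H : Type*} [Group H] [Finite H] (X : Subgroup H)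
    (hX : IsMulCommutative ↥X) :
    ∃ P Y : Subgroup H, P ≤ X ∧ Y ≤ X ∧ P ⊔ Y = X ∧
      Nat.card ↥P = 2 ^ (Nat.card ↥X).factorization 2 ∧
      Nat.card ↥P * Nat.card ↥Y = Nat.card ↥X := by
  haveI : Fact (Nat.Prime 2) := ⟨Nat.prime_two⟩
  obtain ⟨S⟩ := (inferInstance : Nonempty (Sylow 2 ↥X))
  haveI hn : (S : Subgroup ↥X).Normal := by
    refine ⟨fun n hn g => ?_⟩
    have : g * n * g⁻¹ = n := by
      rw [hX.is_comm.comm g n]; group
    rw [this]; exact hn
  obtain ⟨Y0, hY0⟩ := Subgroup.exists_right_complement'_of_coprime S.card_coprime_index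
  refine ⟨(S : Subgroup ↥X).map X.subtype, Y0.map X.subtype, Subgroup.map_subtype_le _,
    Subgroup.map_subtype_le _, ?_, ?_, ?_⟩
  · rw [← Subgroup.map_sup, hY0.sup_eq_top, ← MonoidHom.range_eq_map, Subgroup.range_subtype]
  · rw [Subgroup.card_map_of_injective X.subtype_injective]
    exact S.card_eq_multiplicity
  · rw [Subgroup.card_map_of_injective X.subtype_injective,
      Subgroup.card_map_of_injective X.subtype_injective]
    exact hY0.card_mul_card

theorem map_conj_mul {H : Type*} [Group H] (X : Subgroup H) (c g : H) :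
    X.map (MulAut.conj (c * g)).toMonoidHom
      = (X.map (MulAut.conj g).toMonoidHom).map (MulAut.conj c).toMonoidHom := by
  rw [Subgroup.map_map]
  congr 1
  ext x
  simp [mul_assoc]

variable {G : Type u} [Group G] [Finite G]

/-- **Quotients of solvable (AC)-groups are (AC)-groups.** -/
theorem AC.quotient_of_solvable (hAC : AC G) (hsol : Group.IsSolvable G) (M : Subgroup G)
    [M.Normal] : AC (G ⧸ M) := by
  intro Ab Bb hAb hBb hcard
  by_cases hbad : Bad M (Nat.card ↥Ab)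
  swap
  · exact AC.conj_of_not_bad hAC hsol M Ab Bb hAb hBb hcard hbad
  obtain ⟨hM1, hG3, hA2⟩ := hbad
  haveI : Fact (Nat.Prime 2) := ⟨Nat.prime_two⟩
  -- the 2-part of the quotient
  have hH2 : (Nat.card (G ⧸ M)).factorization 2 = 2 := by
    have h1 := Subgroup.card_eq_card_quotient_mul_card_subgroup M
    have h2 : (Nat.card G).factorization 2
        = (Nat.card (G ⧸ M) * Nat.card ↥M).factorization 2 := by rw [← h1]
    rw [Nat.factorization_mul Nat.card_pos.ne' Nat.card_pos.ne', Finsupp.add_apply, hG3, hM1] at h2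
    omega
  obtain ⟨PA, YA, hPA, hYA, hsupA, hPAc, hmulA⟩ := exists_two_decomp Ab hAb
  obtain ⟨PB, YB, hPB, hYB, hsupB, hPBc, hmulB⟩ := exists_two_decomp Bb hBb
  rw [hA2] at hPAc
  rw [← hcard, hA2] at hPBc
  have hYcard : Nat.card ↥YA = Nat.card ↥YB := by
    rw [hPAc] at hmulA
    rw [hPBc, ← hcard, ← hmulA] at hmulB
    exact (Nat.eq_of_mul_eq_mul_left (by norm_num) hmulB).symm
  have hYAc : IsMulCommutative ↥YA :=
    ⟨⟨fun a b => Subtype.ext (by
      have h := congrArg Subtype.val (hAb.is_comm.comm ⟨a.1, hYA a.2⟩ ⟨b.1, hYA b.2⟩)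
      exact h)⟩⟩
  have hYBc : IsMulCommutative ↥YB :=
    ⟨⟨fun a b => Subtype.ext (by
      have h := congrArg Subtype.val (hBb.is_comm.comm ⟨a.1, hYB a.2⟩ ⟨b.1, hYB b.2⟩)
      exact h)⟩⟩
  have hYA2 : (Nat.card ↥YA).factorization 2 = 0 := by
    have h2 : (Nat.card ↥PA * Nat.card ↥YA).factorization 2
        = (Nat.card ↥Ab).factorization 2 := by rw [hmulA]
    rw [Nat.factorization_mul Nat.card_pos.ne' Nat.card_pos.ne', Finsupp.add_apply, hPAc, hA2,
      Nat.Prime.factorization_pow Nat.prime_two] at h2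
    simp at h2
    exact h2
  have hnotbad : ¬ Bad M (Nat.card ↥YA) := by
    rintro ⟨-, -, h⟩
    rw [hYA2] at h
    omega
  obtain ⟨g, hg⟩ := AC.conj_of_not_bad hAC hsol M YA YB hYAc hYBc hYcard hnotbad
  -- conjugate `Ab` by `g`
  set P1 : Subgroup (G ⧸ M) := PA.map (MulAut.conj g).toMonoidHom with hP1
  have hP1c : Nat.card ↥P1 = 2 ^ 2 := by
    rw [hP1, Subgroup.card_map_of_injective (MulAut.conj g).injective, hPAc]
  have hAbg : Ab.map (MulAut.conj g).toMonoidHom = P1 ⊔ YB := by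
    rw [← hsupA, Subgroup.map_sup, ← hg]
  -- the centralizer of `YB`
  set C : Subgroup (G ⧸ M) := Subgroup.centralizer (YB : Set (G ⧸ M)) with hC
  have hP1C : P1 ≤ C := by
    rintro _ ⟨a, ha, rfl⟩
    rw [hC, Subgroup.mem_centralizer_iff]
    intro y hy
    rw [SetLike.mem_coe, hg] at hy
    obtain ⟨b, hb, rfl⟩ := hy
    have hab : a * b = b * a :=
      congrArg Subtype.val (hAb.is_comm.comm ⟨a, hPA ha⟩ ⟨b, hYA hb⟩)
    simp only [MulEquiv.coe_toMonoidHom, MulAut.conj_apply]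
    calc g * b * g⁻¹ * (g * a * g⁻¹) = g * (b * a) * g⁻¹ := by group
      _ = g * (a * b) * g⁻¹ := by rw [hab]
      _ = g * a * g⁻¹ * (g * b * g⁻¹) := by group
  have hPBC : PB ≤ C := by
    intro x hx
    rw [hC, Subgroup.mem_centralizer_iff]
    intro y hy
    exact congrArg Subtype.val (hBb.is_comm.comm ⟨y, hYB hy⟩ ⟨x, hPB hx⟩)
  have hC2 : (Nat.card ↥C).factorization 2 = 2 := by
    have h1 : 2 ^ 2 ∣ Nat.card ↥C := by
      rw [← hP1c]; exact Subgroup.card_dvd_of_le hP1C
    have h2 : 2 ≤ (Nat.card ↥C).factorization 2 :=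
      (Nat.Prime.pow_dvd_iff_le_factorization Nat.prime_two Nat.card_pos.ne').1 h1
    have h3 : (Nat.card ↥C).factorization 2 ≤ (Nat.card (G ⧸ M)).factorization 2 :=
      (Nat.factorization_le_iff_dvd Nat.card_pos.ne' Nat.card_pos.ne').2
        (Subgroup.card_subgroup_dvd_card C) 2
    omega
  have hS1 : Cfsg.Agent.Lib.H5.IsSylowIn 2 P1 C :=
    Cfsg.Agent.Lib.H5.isSylowIn_of_card hP1C (by rw [hP1c, hC2])
  have hS2 : Cfsg.Agent.Lib.H5.IsSylowIn 2 PB C :=
    Cfsg.Agent.Lib.H5.isSylowIn_of_card hPBC (by rw [hPBc, hC2])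
  obtain ⟨c, hcC, hc⟩ := hS1.exists_conj hS2
  refine ⟨c * g, ?_⟩
  rw [map_conj_mul, hAbg, Subgroup.map_sup, ← hc, ← hsupB]
  congr 1
  -- `c` centralizes `YB`
  ext x
  constructor
  · intro hx
    refine ⟨x, hx, ?_⟩
    have := (Subgroup.mem_centralizer_iff.1 hcC) x hx
    simp only [MulEquiv.coe_toMonoidHom, MulAut.conj_apply]
    rw [← this]; group
  · rintro ⟨y, hy, rfl⟩
    have := (Subgroup.mem_centralizer_iff.1 hcC) y hy
    simp only [MulEquiv.coe_toMonoidHom, MulAut.conj_apply]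
    rw [← this]
    have : y * c * c⁻¹ = y := by group
    rw [this]; exact hy

end Cfsg.Agent.Lib.H20.ACS
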