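import Mathlib
import Cfsg.Agent.Lib.H20.AutPrimeOrder
import Cfsg.Agent.Lib.H20.PowDecomp
import Cfsg.Agent.Lib.H20.SylowExtra
import Cfsg.Agent.Lib.H1.BurnsideBasis
import Cfsg.Agent.Lib.H9.FrattiniAction

set_option autoImplicit false

namespace Cfsg.Agent.Lib.H20

/-- If an abelian Sylow `p`-subgroup `P` is generated by `d` elements and no prime divisor of
`|G|` divides `p ^ i - 1` for `1 ≤ i ≤ d`, then `N_G(P) ≤ C_G(P)`. -/
theorem normalizer_le_centralizer_of_abelian_sylow {G : Type*} [Group G] [Finite G] (p : ℕ)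
    [hp : Fact p.Prime] (P : Sylow p G) (hab : ∀ a ∈ P, ∀ b ∈ P, a * b = b * a) (d : ℕ)
    (S : Finset ↥(P : Subgroup G)) (hSd : S.card ≤ d) (hS : Subgroup.closure (S : Set ↥(P : Subgroup G)) = ⊤)
    (hcop : ∀ r : ℕ, r.Prime → r ∣ Nat.card G → ∀ i, 1 ≤ i → i ≤ d → ¬ r ∣ p ^ i - 1) :
    Subgroup.normalizer ((P : Subgroup G) : Set G) ≤ Subgroup.centralizer ((P : Subgroup G) : Set G) := by
  classical
  by_contra hnot
  obtain ⟨g, hgN, hgC⟩ := Set.not_subset.mp hnot
  obtain ⟨k, l, hkl, ⟨e, he⟩, hcopl⟩ := exists_pPart_pPrimePart g (isOfFinOrder_of_finite g) p hp.out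
  have hgkP : g ^ k ∈ (P : Subgroup G) :=
    mem_sylow_of_mem_normalizer P he (Subgroup.pow_mem _ hgN k)
  have hPC : (P : Subgroup G) ≤ Subgroup.centralizer ((P : Subgroup G) : Set G) := by
    intro a ha
    rw [Subgroup.mem_centralizer_iff]
    intro b hb
    exact hab b hb a ha
  set y := g ^ l with hy
  have hyN : y ∈ Subgroup.normalizer ((P : Subgroup G) : Set G) := Subgroup.pow_mem _ hgN l
  have hyC : y ∉ Subgroup.centralizer ((P : Subgroup G) : Set G) := by
    intro h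
    apply hgC
    rw [← hkl]
    exact Subgroup.mul_mem _ (hPC hgkP) h
  -- the action on the Frattini quotient
  let Ψ : ↥(Subgroup.normalizer ((P : Subgroup G) : Set G)) →*
      MulAut (↥(P : Subgroup G) ⧸ frattini ↥(P : Subgroup G)) :=
    (quotAutHom (frattini ↥(P : Subgroup G))).comp (P : Subgroup G).normalizerMonoidHom
  let y' : ↥(Subgroup.normalizer ((P : Subgroup G) : Set G)) := ⟨y, hyN⟩
  have hΨ : ∀ (a : ↥(Subgroup.normalizer ((P : Subgroup G) : Set G))) (q : ↥(P : Subgroup G)),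
      Ψ a (q : ↥(P : Subgroup G) ⧸ frattini ↥(P : Subgroup G)) =
        (((P : Subgroup G).normalizerMonoidHom a q : ↥(P : Subgroup G)) :
          ↥(P : Subgroup G) ⧸ frattini ↥(P : Subgroup G)) := fun a q => rfl
  have hΨy : Ψ y' ≠ 1 := by
    intro h1
    apply hyC
    have hcomm := Cfsg.Agent.Lib.H9.commute_of_commutator_mem_frattini P.isPGroup' hyN hcopl ?_
    · rw [Subgroup.mem_centralizer_iff]
      intro q hq
      exact (hcomm q hq).symm
    · intro a ha q hq
      obtain ⟨j, rfl⟩ := Subgroup.mem_zpowers_iff.mp ha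
      have haN : y ^ j ∈ Subgroup.normalizer ((P : Subgroup G) : Set G) := Subgroup.zpow_mem _ hyN j
      have h2 : Ψ (⟨y ^ j, haN⟩) = 1 := by
        have : (⟨y ^ j, haN⟩ : ↥(Subgroup.normalizer ((P : Subgroup G) : Set G))) = y' ^ j := by
          apply Subtype.ext
          simp [y']
        rw [this, map_zpow, h1, one_zpow]
      have h3 := hΨ ⟨y ^ j, haN⟩ ⟨q, hq⟩
      rw [h2, MulAut.one_apply] at h3
      have h4 : ((P : Subgroup G).normalizerMonoidHom ⟨y ^ j, haN⟩ ⟨q, hq⟩) * (⟨q, hq⟩ : ↥(P : Subgroup G))⁻¹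
          ∈ frattini ↥(P : Subgroup G) := by
        rw [← QuotientGroup.eq_one_iff, QuotientGroup.mk_mul, QuotientGroup.mk_inv, ← h3]
        exact mul_inv_cancel _
      refine ⟨_, h4, ?_⟩
      rfl
  -- an element of prime order in the image
  have hord1 : orderOf (Ψ y') ≠ 1 := by
    rw [Ne, orderOf_eq_one_iff]; exact hΨy
  obtain ⟨r, hr, hrdvd⟩ := Nat.exists_prime_and_dvd hord1
  haveI : Fact r.Prime := ⟨hr⟩
  have hdvd1 : orderOf (Ψ y') ∣ orderOf y := by
    have h1 : orderOf (Ψ y') ∣ orderOf y' := orderOf_map_dvd Ψ y'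
    have h2 : orderOf y' = orderOf y := Subgroup.orderOf_mk y hyN
    rwa [h2] at h1
  have hrp : r ≠ p := by
    rintro rfl
    have h1 : r ∣ orderOf y := hrdvd.trans hdvd1
    have := Nat.Coprime.eq_one_of_dvd hcopl.symm h1
    exact hr.one_lt.ne' this
  have hrG : r ∣ Nat.card G := (hrdvd.trans hdvd1).trans (orderOf_dvd_natCard y)
  set β := (Ψ y') ^ (orderOf (Ψ y') / r) with hβ
  have hordβ : orderOf β = r := orderOf_pow_orderOf_div (orderOf_pos (Ψ y')).ne' hrdvd
  have hβr : β ^ r = 1 := by rw [← hordβ]; exact pow_orderOf_eq_one β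
  have hβ1 : β ≠ 1 := by
    intro h
    rw [← orderOf_eq_one_iff, hordβ] at h
    exact hr.one_lt.ne' h
  -- the order of the Frattini quotient
  have hVp : IsPGroup p (↥(P : Subgroup G) ⧸ frattini ↥(P : Subgroup G)) :=
    P.isPGroup'.to_quotient _
  obtain ⟨n, hn⟩ := hVp.exists_card_eq
  have hidx : (frattini ↥(P : Subgroup G)).index = p ^ n := by
    rw [Subgroup.index_eq_card]; exact hn
  obtain ⟨T, hTS, hTcard, _⟩ := Cfsg.Agent.Lib.H1.burnside_basis P.isPGroup' hidx S hS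
  have hnd : n ≤ d := by
    rw [← hTcard]
    exact (Finset.card_le_card hTS).trans hSd
  obtain ⟨i, hi1, hin, hri⟩ := exists_dvd_pow_sub_one_of_aut hrp hn β hβr hβ1
  exact hcop r hr hrG i hi1 (hin.trans hnd) hri

end Cfsg.Agent.Lib.H20
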