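/-
S5673 project (Aschbacher, orthogonal case, odd dimension), tool OT4 (helper20): factorisation of
the polar form along a homogeneous normal subgroup with absolutely irreducible constituent.
-/
import Cfsg.Agent.Lib.H20.AschTensorBilin
import Cfsg.Agent.Lib.H24.AschODefs
import Cfsg.Agent.Lib.H24.AschOBasic

set_option autoImplicit false

namespace Cfsg.Agent.Lib.H20.Asch

open Cfsg Cfsg.Geo Cfsg.Agent.Lib.Lead.Asch Cfsg.Agent.Lib.H6.Asch Cfsg.Agent.Lib.H24.Asch
open scoped MatrixGroups Matrix Kronecker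

variable {F : Type*} [Field F]

/-- A symmetric invertible matrix gives a symmetric form. -/
lemma isSymmetricForm_formOf {m : ℕ} (B : Matrix (Fin m) (Fin m) F) (hB : Bᵀ = B)
    (hdet : IsUnit B.det) : IsSymmetricForm (formOf (RingHom.id F) B) := by
  have hrep : Rep (RingHom.id F) B (formOf (RingHom.id F) B) := rep_formOf _ _
  refine ⟨hrep.bilinear, fun u v => ?_, hrep.nondegenerate hdet⟩
  show u ⬝ᵥ (B *ᵥ fun i => (RingHom.id F) (v i)) = v ⬝ᵥ (B *ᵥ fun i => (RingHom.id F) (u i))
  simp only [RingHom.id_apply]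
  rw [Matrix.dotProduct_mulVec, dotProduct_comm, ← Matrix.mulVec_transpose, hB]

/-- A skew-symmetric invertible matrix over a field with `2 ≠ 0` has even size. -/
lemma even_of_skew {m : ℕ} (h2 : (2 : F) ≠ 0) (B : Matrix (Fin m) (Fin m) F) (hB : Bᵀ = (-1 : F) • B)
    (hdet : IsUnit B.det) : Even m := by
  by_contra hodd
  rw [Nat.not_even_iff_odd] at hodd
  have h1 : B.det = (-1 : F) ^ m * B.det := by
    conv_lhs => rw [← Matrix.det_transpose, hB, Matrix.det_smul, Fintype.card_fin]
  rw [hodd.neg_one_pow] at h1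
  have h3 : (2 : F) * B.det = 0 := by linear_combination h1
  rcases mul_eq_zero.1 h3 with h | h
  · exact h2 h
  · rw [h] at hdet; exact not_isUnit_zero hdet

variable [Fintype F] {n : ℕ}

/-- **OT4**. -/
theorem exists_tensor_form_orth (Q : (Fin n → F) → F) (hQ : OData Q)
    (N : Subgroup (GL (Fin n) F)) (hN : N ≤ isometryGroup F Q) (D : HomogData N)
    (habs : ActsAbsolutelyIrreducibly (repSet D.ρ)) :
    ∃ (f₁ : (Fin D.d → F) → (Fin D.d → F) → F) (f₂ : (Fin D.k → F) → (Fin D.k → F) → F),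
      IsSymmetricForm f₁ ∧ IsSymmetricForm f₂ ∧
      IsTensorFormStructure id (QuadraticMap.polar Q) f₁ f₂ D.e D.P⁻¹ ∧
      ∀ x : N, ∀ u v, f₁ ((D.ρ x : Matrix (Fin D.d) (Fin D.d) F) *ᵥ u)
        ((D.ρ x : Matrix (Fin D.d) (Fin D.d) F) *ᵥ v) = f₁ u v := by
  have hnodd : Odd n := by
    have := hQ.nodd
    rwa [Fintype.card_fin] at this
  have hn : 0 < n := hnodd.pos
  have h2 : (2 : F) ≠ 0 := two_ne_zero_of_odd hQ.qodd
  obtain ⟨B, C, ε, hε, hBt, hCt, hBdet, hCdet, hform, hfixB⟩ :=
    exists_tensor_gram_bilin hn (QuadraticMap.polar Q) hQ.quad.polar_bilinear hQ.quad.nondegenerate 1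
      (fun u v => by rw [one_mul]; exact QuadraticMap.polar_comm Q u v) N
      (fun x hx u v => polar_isometry Q x (hN hx) u v) D habs
  have hcard : D.d * D.k = n := by
    have := Fintype.card_congr D.e
    simpa [Fintype.card_prod] using this.symm
  have hε1 : ε = 1 := by
    rcases hε with h | h
    · exact h
    · exfalso
      rw [h] at hBt
      have hev := even_of_skew h2 B hBt hBdet
      have : Even n := by rw [← hcard]; exact hev.mul_right _
      exact (Nat.not_even_iff_odd.mpr hnodd) this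
  rw [hε1, one_smul] at hBt
  rw [hε1, mul_one, one_smul] at hCt
  refine ⟨formOf (RingHom.id F) B, formOf (RingHom.id F) C, isSymmetricForm_formOf B hBt hBdet,
    isSymmetricForm_formOf C hCt hCdet, ⟨1, one_ne_zero, fun X Y => ?_⟩, fun x u v => ?_⟩
  · rw [one_mul, gramMatrix_formOf, gramMatrix_formOf, hform]
    exact (formOfGram_eq_formOf (RingHom.id F) _ X Y).symm
  · have := (rep_formOf (RingHom.id F) B).apply_mulVec
      ((D.ρ x : GL (Fin D.d) F) : Matrix (Fin D.d) (Fin D.d) F) 1
      (by rw [one_smul, map_id_eq]; exact hfixB x) u v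
    rw [one_mul] at this
    exact this

end Cfsg.Agent.Lib.H20.Asch
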