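/-
S5673 (Aschbacher, orthogonal odd case), module OM4 (tensor case of a homogeneous normal subgroup),
helper20.  `otame_of_kronecker_orth_aux`: all cases in the coordinates `(e, P)`, with the special
case `(q, k) = (3, 3)` (OM4-33, helper2) as a hypothesis.
-/
import Cfsg.Agent.Lib.H20.AschOT4
import Cfsg.Agent.Lib.H20.AschUM4S
import Cfsg.Agent.Lib.H20.AschM4
import Cfsg.Agent.Lib.H20.AschTensorPower
import Cfsg.Agent.Lib.H7.AschOM4S

set_option autoImplicit false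

namespace Cfsg.Agent.Lib.H20.Asch

open Cfsg Cfsg.Geo Cfsg.Agent.Lib.Lead.Asch Cfsg.Agent.Lib.H6.Asch Cfsg.Agent.Lib.H24.Asch
open scoped MatrixGroups Matrix Kronecker

variable {F : Type*} [Field F] [Fintype F] {n : ℕ}

/-- All cases of OM4, in the coordinates `(e, P)`; the case `(q, k) = (3, 3)` is a hypothesis. -/
theorem otame_of_kronecker_orth_aux (Q : (Fin n → F) → F) (hQ : OData Q)
    (H : Subgroup (GL (Fin n) F)) {d k : ℕ} (hd : 2 ≤ d) (hk : 2 ≤ k)
    (e : Fin n ≃ Fin d × Fin k) (P : GL (Fin n) F)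
    (f₁ : (Fin d → F) → (Fin d → F) → F) (f₂ : (Fin k → F) → (Fin k → F) → F)
    (h₁ : IsSymmetricForm f₁) (h₂ : IsSymmetricForm f₂)
    (hform : IsTensorFormStructure id (QuadraticMap.polar Q) f₁ f₂ e P⁻¹)
    (hH : ∀ h ∈ H, glReindex e (P * h * P⁻¹) ∈ kroneckerSubgroup d k F)
    (h33 : Fintype.card F = 3 → ∀ (e : Fin n ≃ Fin 3 × Fin 3) (P : GL (Fin n) F)
      (f₁ f₂ : (Fin 3 → F) → (Fin 3 → F) → F), IsSymmetricForm f₁ → IsSymmetricForm f₂ →
      IsTensorFormStructure id (QuadraticMap.polar Q) f₁ f₂ e P →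
      H ≤ tensorProductSubgroup 3 3 e P → OC2b Q H) :
    OC4 Q H ∨ OC7 Q H ∨ OC2b Q H := by
  have hcard : n = d * k := by
    have := Fintype.card_congr e
    simpa using this
  have hodd : Odd n := by
    have := hQ.nodd
    rwa [Fintype.card_fin] at this
  rw [hcard] at hodd
  have hdodd : Odd d := (Nat.odd_mul.1 hodd).1
  have hkodd : Odd k := (Nat.odd_mul.1 hodd).2
  have hd3 : 3 ≤ d := by
    obtain ⟨m, hm⟩ := hdodd
    omega
  have hk3 : 3 ≤ k := by
    obtain ⟨m, hm⟩ := hkodd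
    omega
  rcases lt_trichotomy d k with hlt | heq | hgt
  · exact Or.inl ⟨d, k, e, P⁻¹, f₁, f₂, hd3, hlt, h₁, h₂, hform, le_tensorProductSubgroup H e P hH⟩
  · subst heq
    by_cases hq3 : Fintype.card F = 3 ∧ d = 3
    · obtain ⟨hF3, rfl⟩ := hq3
      exact Or.inr (Or.inr (h33 hF3 e P⁻¹ f₁ f₂ h₁ h₂ hform (le_tensorProductSubgroup H e P hH)))
    · obtain ⟨a, g, ha, hg⟩ :=
        Cfsg.Agent.Lib.H7.Asch.exists_similar_of_odd_dim hQ.qodd d hdodd f₁ f₂ h₁ h₂
      have hcong : ((g⁻¹ : GL (Fin d) F) : Matrix (Fin d) (Fin d) F)ᵀ * gramMatrix f₂ *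
          ((g⁻¹ : GL (Fin d) F) : Matrix (Fin d) (Fin d) F).map (RingHom.id F) =
          a • gramMatrix f₁ := by
        have hmap : ((g⁻¹ : GL (Fin d) F) : Matrix (Fin d) (Fin d) F).map (RingHom.id F) =
            ((g⁻¹ : GL (Fin d) F) : Matrix (Fin d) (Fin d) F) := by
          ext i j; simp
        have h1 : (g : Matrix (Fin d) (Fin d) F) * ((g⁻¹ : GL (Fin d) F) : Matrix (Fin d) (Fin d) F) = 1 := by
          rw [← Units.val_mul, mul_inv_cancel, Units.val_one]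
        have h2 : ((g⁻¹ : GL (Fin d) F) : Matrix (Fin d) (Fin d) F)ᵀ * (g : Matrix (Fin d) (Fin d) F)ᵀ = 1 := by
          rw [← Matrix.transpose_mul, h1, Matrix.transpose_one]
        rw [hmap, hg, Matrix.mul_smul, Matrix.smul_mul]
        congr 1
        calc ((g⁻¹ : GL (Fin d) F) : Matrix (Fin d) (Fin d) F)ᵀ *
              ((g : Matrix (Fin d) (Fin d) F)ᵀ * gramMatrix f₁ * (g : Matrix (Fin d) (Fin d) F)) *
              ((g⁻¹ : GL (Fin d) F) : Matrix (Fin d) (Fin d) F)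
            = (((g⁻¹ : GL (Fin d) F) : Matrix (Fin d) (Fin d) F)ᵀ * (g : Matrix (Fin d) (Fin d) F)ᵀ) *
                gramMatrix f₁ * ((g : Matrix (Fin d) (Fin d) F) *
                ((g⁻¹ : GL (Fin d) F) : Matrix (Fin d) (Fin d) F)) := by
              simp only [Matrix.mul_assoc]
          _ = gramMatrix f₁ := by rw [h1, h2, Matrix.one_mul, Matrix.mul_one]
      have hform' : IsTensorFormStructure ((RingHom.id F : F →+* F) : F → F)
          (QuadraticMap.polar Q) f₁ f₂ e P⁻¹ := by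
        rw [RingHom.coe_id]; exact hform
      obtain ⟨e', P', hstr, hle⟩ := tensorPower_of_congr (RingHom.id F) (QuadraticMap.polar Q) H e P
        f₁ f₂ hform' hH g⁻¹ a ha hcong
      rw [RingHom.coe_id] at hstr
      exact Or.inr (Or.inl ⟨d, 2, e', P', f₁, hd3, le_refl 2, hq3, h₁, hstr, hle⟩)
  · refine Or.inl ⟨k, d, e.trans (Equiv.prodComm (Fin d) (Fin k)), P⁻¹, f₂, f₁, hk3, hgt, h₂, h₁,
      isTensorFormStructure_swap _ _ f₁ f₂ e P⁻¹ hform, ?_⟩
    apply le_tensorProductSubgroup H (e.trans (Equiv.prodComm (Fin d) (Fin k))) P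
    intro h hh
    rw [glReindex_trans]
    exact prodComm_mem_kronecker _ (hH h hh)

/-- **OM4**, with the special case `(q, k) = (3, 3)` as a hypothesis. -/
theorem otame_of_homog_tensor_aux (Q : (Fin n → F) → F) (hQ : OData Q) (hn : 3 ≤ n)
    (H N : Subgroup (GL (Fin n) F)) (hH : H ≤ isometryGroup F Q) (hNH : N ≤ H)
    (hnorm : NormalizedBy H N) (D : HomogData N)
    (habs : ActsAbsolutelyIrreducibly (repSet D.ρ)) (hd : 2 ≤ D.d) (hk : 2 ≤ D.k)
    (h33 : Fintype.card F = 3 → ∀ (e : Fin n ≃ Fin 3 × Fin 3) (P : GL (Fin n) F)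
      (f₁ f₂ : (Fin 3 → F) → (Fin 3 → F) → F), IsSymmetricForm f₁ → IsSymmetricForm f₂ →
      IsTensorFormStructure id (QuadraticMap.polar Q) f₁ f₂ e P →
      H ≤ tensorProductSubgroup 3 3 e P → OC2b Q H) :
    OC4 Q H ∨ OC7 Q H ∨ OC2b Q H := by
  obtain ⟨f₁, f₂, h₁, h₂, hform, _⟩ := exists_tensor_form_orth Q hQ N (hNH.trans hH) D habs
  exact otame_of_kronecker_orth_aux Q hQ H hd hk D.e D.P f₁ f₂ h₁ h₂ hform (fun h hh =>
    mem_kronecker_of_homog H N hnorm D habs (by omega) (by omega) h hh) h33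

end Cfsg.Agent.Lib.H20.Asch
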