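/-
Phase 2 of the S5630 project (SL_n rows), helper20: P2-E1 (`|F| = 2`, decomposition into lines:
the stabiliser fixes the sum of the non-zero vectors of the lines).
-/
import Cfsg.Agent.Lib.H20.AschP2E0

set_option autoImplicit false

namespace Cfsg.Agent.Lib.H20.AschP2

open Cfsg Cfsg.Geo Cfsg.Agent.Lib.Lead.Asch
open scoped MatrixGroups Matrix

variable {F : Type*} [Field F] [Fintype F] {n : ℕ}

/-- In the field with two elements every non-zero element is `1`. -/
theorem eq_one_of_card_two (hq : Fintype.card F = 2) {c : F} (hc : c ≠ 0) : c = 1 := by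
  have h := FiniteField.pow_card_sub_one_eq_one c hc
  rwa [hq, show 2 - 1 = 1 from rfl, pow_one] at h

/-- **P2-E1**. -/
theorem c2_m1_q2 {t : ℕ} (D : Fin t → Submodule F (Fin n → F)) (hD : IsMDecomposition 1 D)
    (hq : Fintype.card F = 2) :
    ∃ W : Submodule F (Fin n → F), W ≠ ⊥ ∧ W ≠ ⊤ ∧
      decompositionStabilizer D ≤ subspaceStabilizer W := by
  obtain ⟨b, -, hb⟩ := exists_basis_of_lines D hD
  have ht : 2 ≤ t := hD.two_le
  set w : Fin n → F := ∑ i, b i with hw
  have hrepr : ∀ i, b.repr w i = 1 := by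
    intro i
    rw [hw, map_sum, Finsupp.coe_finset_sum, Finset.sum_apply, Finset.sum_eq_single i]
    · rw [Module.Basis.repr_self, Finsupp.single_eq_same]
    · intro j _ hji
      rw [Module.Basis.repr_self, Finsupp.single_eq_of_ne (fun h => hji h.symm)]
    · intro h; exact absurd (Finset.mem_univ i) h
  have hw0 : w ≠ 0 := by
    intro h0
    have := hrepr ⟨0, by omega⟩
    rw [h0, map_zero, Finsupp.zero_apply] at this
    exact zero_ne_one this
  refine ⟨Submodule.span F {w}, ?_, ?_, ?_⟩
  · intro h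
    rw [Submodule.span_singleton_eq_bot] at h
    exact hw0 h
  · intro h
    -- `b 0 - b 1`... simpler: `b 0` is not a multiple of `w`
    have h0 : b ⟨0, by omega⟩ ∈ Submodule.span F {w} := by rw [h]; trivial
    rw [Submodule.mem_span_singleton] at h0
    obtain ⟨c, hc⟩ := h0
    have h1 := congrArg (fun v => b.repr v ⟨1, by omega⟩) hc
    have h2 := congrArg (fun v => b.repr v ⟨0, by omega⟩) hc
    simp only [map_smul, Finsupp.smul_apply, hrepr, smul_eq_mul, mul_one, Module.Basis.repr_self,
      Finsupp.single_eq_same] at h1 h2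
    rw [Finsupp.single_eq_of_ne (by simp [Fin.ext_iff])] at h1
    rw [h1] at h2
    exact zero_ne_one h2
  · intro g hg
    apply Cfsg.Agent.Lib.H28.mem_subspaceStabilizer_of_fix
    obtain ⟨σ, c, hc0, hgb, -⟩ := hb g hg
    have hgw : (g : Matrix (Fin n) (Fin n) F) *ᵥ w = w := by
      rw [hw, ← Matrix.toLin'_apply, map_sum]
      simp only [Matrix.toLin'_apply, hgb, eq_one_of_card_two hq (hc0 _), one_smul]
      exact Equiv.sum_comp σ (fun i => b i)
    intro v hv
    rw [Submodule.mem_span_singleton] at hv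
    obtain ⟨d, rfl⟩ := hv
    rw [Matrix.mulVec_smul, hgw]

end Cfsg.Agent.Lib.H20.AschP2
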