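/-
Phase 2 of the S5630 project (SL_n rows), helper20: P2-E2 (`|F| = 3`) and P2-E3 (`|F| = 4`):
the stabiliser of a decomposition into lines preserves the standard quadratic / unitary form
in the adapted basis.
-/
import Cfsg.Agent.Lib.H20.AschP2E0

set_option autoImplicit false

namespace Cfsg.Agent.Lib.H20.AschP2

open Cfsg Cfsg.Geo Cfsg.Agent.Lib.Lead.Asch
open scoped MatrixGroups Matrix

variable {F : Type*} [Field F] {n t : ℕ}

/-- The standard (twisted) form in the coordinates of a basis. -/
noncomputable def cform (b : Module.Basis (Fin t) F (Fin n → F)) (τ : F →+* F)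
    (u v : Fin n → F) : F := ∑ i, b.repr u i * τ (b.repr v i)

variable (b : Module.Basis (Fin t) F (Fin n → F)) (τ : F →+* F)

lemma cform_add_left (x y v : Fin n → F) : cform b τ (x + y) v = cform b τ x v + cform b τ y v := by
  unfold cform
  rw [← Finset.sum_add_distrib]
  refine Finset.sum_congr rfl fun i _ => ?_
  rw [map_add, Finsupp.add_apply, add_mul]

lemma cform_smul_left (c : F) (x v : Fin n → F) : cform b τ (c • x) v = c * cform b τ x v := by
  unfold cform
  rw [Finset.mul_sum]
  refine Finset.sum_congr rfl fun i _ => ?_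
  rw [map_smul, Finsupp.smul_apply, smul_eq_mul, mul_assoc]

lemma cform_add_right (v x y : Fin n → F) : cform b τ v (x + y) = cform b τ v x + cform b τ v y := by
  unfold cform
  rw [← Finset.sum_add_distrib]
  refine Finset.sum_congr rfl fun i _ => ?_
  rw [map_add, Finsupp.add_apply, map_add, mul_add]

lemma cform_smul_right (c : F) (v x : Fin n → F) : cform b τ v (c • x) = τ c * cform b τ v x := by
  unfold cform
  rw [Finset.mul_sum]
  refine Finset.sum_congr rfl fun i _ => ?_
  rw [map_smul, Finsupp.smul_apply, smul_eq_mul, map_mul]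
  ring

lemma cform_basis_left (i : Fin t) (v : Fin n → F) : cform b τ (b i) v = τ (b.repr v i) := by
  unfold cform
  rw [Finset.sum_eq_single i]
  · rw [Module.Basis.repr_self, Finsupp.single_eq_same, one_mul]
  · intro j _ hji
    rw [Module.Basis.repr_self, Finsupp.single_eq_of_ne hji, zero_mul]
  · intro h; exact absurd (Finset.mem_univ i) h

lemma cform_basis_right (i : Fin t) (v : Fin n → F) : cform b τ v (b i) = b.repr v i := by
  unfold cform
  rw [Finset.sum_eq_single i]
  · rw [Module.Basis.repr_self, Finsupp.single_eq_same, map_one, mul_one]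
  · intro j _ hji
    rw [Module.Basis.repr_self, Finsupp.single_eq_of_ne hji, map_zero, mul_zero]
  · intro h; exact absurd (Finset.mem_univ i) h

lemma exists_repr_ne_zero {v : Fin n → F} (hv : v ≠ 0) : ∃ i, b.repr v i ≠ 0 := by
  by_contra h
  push Not at h
  apply hv
  have : b.repr v = 0 := Finsupp.ext h
  exact b.repr.map_eq_zero_iff.mp this

lemma cform_nondegenerate : IsNondegenerateForm (cform b τ) := by
  intro v hv
  obtain ⟨i, hi⟩ := exists_repr_ne_zero b hv
  refine ⟨⟨b i, ?_⟩, ⟨b i, ?_⟩⟩
  · rw [cform_basis_left]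
    exact (map_ne_zero τ).mpr hi
  · rw [cform_basis_right]; exact hi

/-- Invariance of the standard form under monomial matrices with `c * τ c = 1`. -/
lemma cform_monomial (M : Matrix (Fin n) (Fin n) F) (σ : Equiv.Perm (Fin t)) (c : Fin t → F)
    (hc : ∀ i, c i * τ (c i) = 1)
    (hM : ∀ (v : Fin n → F) (i : Fin t), b.repr (M *ᵥ v) (σ i) = c i * b.repr v i)
    (u v : Fin n → F) : cform b τ (M *ᵥ u) (M *ᵥ v) = cform b τ u v := by
  unfold cform
  rw [← Equiv.sum_comp σ]
  refine Finset.sum_congr rfl fun i _ => ?_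
  rw [hM, hM, map_mul]
  calc c i * b.repr u i * (τ (c i) * τ (b.repr v i))
      = (c i * τ (c i)) * (b.repr u i * τ (b.repr v i)) := by ring
    _ = _ := by rw [hc, one_mul]

variable [Fintype F]

/-- **P2-E2**. -/
theorem c2_m1_q3 (D : Fin t → Submodule F (Fin n → F)) (hD : IsMDecomposition 1 D)
    (hq : Fintype.card F = 3) :
    ∃ Q : (Fin n → F) → F, IsNondegenerateQuadraticForm Q ∧
      decompositionStabilizer D ≤ quadSimilarityGroup Q := by
  obtain ⟨b, -, hb⟩ := exists_basis_of_lines D hD
  have h3 : (3 : F) = 0 := by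
    have := FiniteField.cast_card_eq_zero F
    rw [hq] at this
    exact_mod_cast this
  have h2 : (2 : F) ≠ 0 := by
    intro h
    have : (1 : F) = 3 - 2 := by norm_num
    rw [h3, h, sub_zero] at this
    exact one_ne_zero this
  set B : (Fin n → F) → (Fin n → F) → F := cform b (RingHom.id F) with hB
  have hsymm : ∀ u v, B u v = B v u := by
    intro u v
    simp only [hB, cform, RingHom.id_apply]
    exact Finset.sum_congr rfl fun i _ => mul_comm _ _
  set Q : (Fin n → F) → F := fun v => B v v with hQ
  have hpolar : QuadraticMap.polar Q = fun u v => 2 * B u v := by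
    funext u v
    simp only [QuadraticMap.polar, hQ]
    rw [hB, cform_add_left, cform_add_right, cform_add_right, ← hB, hsymm v u]
    ring
  refine ⟨Q, ⟨?_, ?_, ?_⟩, ?_⟩
  · intro c v
    simp only [hQ, hB]
    rw [cform_smul_left, cform_smul_right, RingHom.id_apply]
    ring
  · rw [hpolar]
    refine ⟨?_, ?_, ?_, ?_⟩
    · intro x y v; simp only [hB]; rw [cform_add_left]; ring
    · intro c x v; simp only [hB]; rw [cform_smul_left]; ring
    · intro v x y; simp only [hB]; rw [cform_add_right]; ring
    · intro c v x; simp only [hB]; rw [cform_smul_right, RingHom.id_apply]; ring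
  · rw [hpolar]
    intro v hv
    obtain ⟨⟨x, hx⟩, ⟨y, hy⟩⟩ := cform_nondegenerate b (RingHom.id F) v hv
    exact ⟨⟨x, mul_ne_zero h2 hx⟩, ⟨y, mul_ne_zero h2 hy⟩⟩
  · intro g hg
    obtain ⟨σ, c, hc0, -, hgv⟩ := hb g hg
    refine ⟨1, fun v => ?_⟩
    rw [Units.val_one, one_mul]
    simp only [hQ, hB]
    apply cform_monomial b (RingHom.id F) _ σ c _ hgv
    intro i
    rw [RingHom.id_apply, ← pow_two]
    have := FiniteField.pow_card_sub_one_eq_one (c i) (hc0 i)
    rwa [hq] at this

/-- **P2-E3**. -/
theorem c2_m1_q4 (D : Fin t → Submodule F (Fin n → F)) (hD : IsMDecomposition 1 D)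
    (hq : Fintype.card F = 4) :
    ∃ (σ : F ≃+* F) (f : (Fin n → F) → (Fin n → F) → F), IsUnitaryForm σ f ∧
      decompositionStabilizer D ≤ similarityGroup f := by
  obtain ⟨b, -, hb⟩ := exists_basis_of_lines D hD
  have h4 : (4 : F) = 0 := by
    have := FiniteField.cast_card_eq_zero F
    rw [hq] at this
    exact_mod_cast this
  have h2 : (2 : F) = 0 := by
    have : (2 : F) * 2 = 0 := by rw [← h4]; norm_num
    exact mul_self_eq_zero.mp this
  have : CharP F 2 := CharTwo.of_one_ne_zero_of_two_eq_zero one_ne_zero h2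
  have : ExpChar F 2 := ExpChar.prime Nat.prime_two
  set σ : F ≃+* F := frobeniusEquiv F 2 with hσ
  have hσa : ∀ a : F, σ a = a ^ 2 := fun a => by rw [hσ, frobeniusEquiv_apply, frobenius_def]
  have hpow4 : ∀ a : F, a ^ 4 = a := fun a => by
    have := FiniteField.pow_card a
    rwa [hq] at this
  set τ : F →+* F := (σ : F →+* F) with hτ
  have hτa : ∀ a : F, τ a = a ^ 2 := fun a => by rw [hτ, RingHom.coe_coe, hσa]
  refine ⟨σ, cform b τ, ⟨?_, ?_, cform_add_left b τ, cform_smul_left b τ, ?_,
    cform_nondegenerate b τ⟩, ?_⟩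
  · -- σ ≠ id
    intro h
    have hall : ∀ a : F, a = 0 ∨ a = 1 := by
      intro a
      have h1 : σ a = a := by rw [h]; rfl
      rw [hσa] at h1
      have h2 : a * (a - 1) = 0 := by ring_nf; rw [h1]; ring
      rcases mul_eq_zero.mp h2 with h3 | h3
      · exact Or.inl h3
      · exact Or.inr (sub_eq_zero.mp h3)
    have h3 : 2 < Fintype.card F := by omega
    obtain ⟨x, y, z, hxy, hxz, hyz⟩ := Fintype.two_lt_card_iff.mp h3
    rcases hall x with hx | hx <;> rcases hall y with hy | hy <;> rcases hall z with hz | hz <;>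
      simp_all
  · intro a
    rw [hσa, hσa, ← pow_mul]
    exact hpow4 a
  · intro v w
    unfold cform
    rw [map_sum]
    refine Finset.sum_congr rfl fun i _ => ?_
    rw [map_mul, hτa, hτa, hσa, hσa, ← pow_mul, hpow4]
    ring
  · intro g hg
    obtain ⟨π, c, hc0, -, hgv⟩ := hb g hg
    refine ⟨1, fun u v => ?_⟩
    rw [Units.val_one, one_mul]
    apply cform_monomial b τ _ π c _ hgv
    intro i
    rw [hτa, ← pow_succ']
    have := FiniteField.pow_card_sub_one_eq_one (c i) (hc0 i)
    rwa [hq] at this

end Cfsg.Agent.Lib.H20.AschP2
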