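/-
S5663 (Aschbacher, unitary case), module UM4 (tensor case of a homogeneous normal subgroup): assembly
(helper20; copy of the proved part of the lead's `tools/blueprints/S5663_UM4_sigs.lean`).
`utame_of_kronecker_gen` / `utame_of_homog_tensor_gen`: the two special cases `d = k = 2` (UM4-22) and
`q = 2, d = k = 3` (UM4-U9) are hypotheses.  `utame_of_homog_tensor_of_ne4_ne9`: no hypothesis left when
`n ≠ 4` and `(q, n) ≠ (2, 9)`.
-/
import Cfsg.Agent.Lib.H20.AschUT4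
import Cfsg.Agent.Lib.H20.AschUM4S
import Cfsg.Agent.Lib.H20.AschUM4Pw
import Cfsg.Agent.Lib.H20.AschM4
import Cfsg.Agent.Lib.Lead.AschUMain

set_option autoImplicit false

namespace Cfsg.Agent.Lib.H20.Asch

open Cfsg Cfsg.Geo Cfsg.Agent.Lib.Lead.Asch
open scoped MatrixGroups Matrix Kronecker

variable {F : Type*} [Field F] [Fintype F] {n q : ℕ}

/-- The statement of UM4-22 for one subgroup `H`. -/
def UM422Stmt (q : ℕ) (H : Subgroup (GL (Fin n) F)) : Prop :=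
  ∀ (e : Fin n ≃ Fin 2 × Fin 2) (P : GL (Fin n) F) (f₁ f₂ : (Fin 2 → F) → (Fin 2 → F) → F),
    IsUnitaryFormPow q f₁ → IsUnitaryFormPow q f₂ →
    IsTensorFormStructure (fun x : F => x ^ q) (hermForm n F q) f₁ f₂ e P⁻¹ →
    (∀ h ∈ H, glReindex e (P * h * P⁻¹) ∈ kroneckerSubgroup 2 2 F) → UC5b q H ∨ UC5c q H

/-- The statement of UM4-U9 for one subgroup `H`. -/
def UM4U9Stmt (q : ℕ) (H : Subgroup (GL (Fin n) F)) : Prop :=
  q = 2 → ∀ (e : Fin n ≃ Fin 3 × Fin 3) (P : GL (Fin n) F) (f₁ f₂ : (Fin 3 → F) → (Fin 3 → F) → F),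
    IsUnitaryFormPow q f₁ → IsUnitaryFormPow q f₂ →
    IsTensorFormStructure (fun x : F => x ^ q) (hermForm n F q) f₁ f₂ e P⁻¹ →
    (∀ h ∈ H, glReindex e (P * h * P⁻¹) ∈ kroneckerSubgroup 3 3 F) → UC6 q H

/-- All cases, in the coordinates `(e, P)`. -/
theorem utame_of_kronecker_gen (hF : Fintype.card F = q ^ 2) (H : Subgroup (GL (Fin n) F))
    {d k : ℕ} (hd : 2 ≤ d) (hk : 2 ≤ k) (e : Fin n ≃ Fin d × Fin k) (P : GL (Fin n) F)
    (f₁ : (Fin d → F) → (Fin d → F) → F) (f₂ : (Fin k → F) → (Fin k → F) → F)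
    (h₁ : IsUnitaryFormPow q f₁) (h₂ : IsUnitaryFormPow q f₂)
    (hform : IsTensorFormStructure (fun x : F => x ^ q) (hermForm n F q) f₁ f₂ e P⁻¹)
    (hH : ∀ h ∈ H, glReindex e (P * h * P⁻¹) ∈ kroneckerSubgroup d k F)
    (h22 : UM422Stmt q H) (h33 : UM4U9Stmt q H) :
    UC4 q H ∨ UC7 q H ∨ UC5 q H ∨ UC6 q H := by
  rcases lt_trichotomy d k with hlt | heq | hgt
  · exact Or.inl ⟨d, k, e, P⁻¹, f₁, f₂, hd, hlt, h₁, h₂, hform, le_tensorProductSubgroup H e P hH⟩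
  · subst heq
    by_cases h3 : 3 ≤ d
    · by_cases hq3 : q = 2 ∧ d = 3
      · obtain ⟨hq2, rfl⟩ := hq3
        exact Or.inr (Or.inr (Or.inr (h33 hq2 e P f₁ f₂ h₁ h₂ hform hH)))
      · exact Or.inr (Or.inl (uc7_of_kronecker_eq hF H h3 hq3 e P f₁ f₂ h₁ h₂ hform hH))
    · have h2 : d = 2 := by omega
      subst h2
      rcases h22 e P f₁ f₂ h₁ h₂ hform hH with h | h
      · exact Or.inr (Or.inr (Or.inl (Or.inr (Or.inl h))))
      · exact Or.inr (Or.inr (Or.inl (Or.inr (Or.inr h))))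
  · refine Or.inl ⟨k, d, e.trans (Equiv.prodComm (Fin d) (Fin k)), P⁻¹, f₂, f₁, hk, hgt, h₂, h₁,
      isTensorFormStructure_swap _ _ f₁ f₂ e P⁻¹ hform, ?_⟩
    apply le_tensorProductSubgroup H (e.trans (Equiv.prodComm (Fin d) (Fin k))) P
    intro h hh
    rw [glReindex_trans]
    exact prodComm_mem_kronecker _ (hH h hh)

/-- **UM4**, with the two special cases as hypotheses. -/
theorem utame_of_homog_tensor_gen (hF : Fintype.card F = q ^ 2)
    (H N : Subgroup (GL (Fin n) F)) (hH : H ≤ GU n F q) (hNH : N ≤ H)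
    (hnorm : NormalizedBy H N) (D : HomogData N)
    (habs : ActsAbsolutelyIrreducibly (repSet D.ρ)) (hd : 2 ≤ D.d) (hk : 2 ≤ D.k)
    (h22 : UM422Stmt q H) (h33 : UM4U9Stmt q H) :
    UC4 q H ∨ UC7 q H ∨ UC5 q H ∨ UC6 q H := by
  obtain ⟨f₁, f₂, h₁, h₂, hform, _⟩ := exists_tensor_form hF N (hNH.trans hH) D habs
  exact utame_of_kronecker_gen hF H hd hk D.e D.P f₁ f₂ h₁ h₂ hform (fun h hh =>
    mem_kronecker_of_homog H N hnorm D habs (by omega) (by omega) h hh) h22 h33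

theorem um4Stmt_gen (hF : Fintype.card F = q ^ 2) (H : Subgroup (GL (Fin n) F)) (hH : H ≤ GU n F q)
    (h22 : UM422Stmt q H) (h33 : UM4U9Stmt q H) : UM4Stmt q H :=
  fun N hNH hnorm D habs hd hk => utame_of_homog_tensor_gen hF H N hH hNH hnorm D habs hd hk h22 h33

theorem um422Stmt_of_ne4 (h4 : n ≠ 4) (H : Subgroup (GL (Fin n) F)) : UM422Stmt q H := by
  intro e
  exfalso
  have := Fintype.card_congr e
  simp at this
  omega

theorem um4U9Stmt_of_ne9 (h9 : ¬ (q = 2 ∧ n = 9)) (H : Subgroup (GL (Fin n) F)) : UM4U9Stmt q H := by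
  intro hq e
  exfalso
  have := Fintype.card_congr e
  simp at this
  exact h9 ⟨hq, by omega⟩

/-- **UM4** for `n ≠ 4`, `(q, n) ≠ (2, 9)`: complete. -/
theorem utame_of_homog_tensor_of_ne4_ne9 (hF : Fintype.card F = q ^ 2) (hn : 3 ≤ n)
    (H N : Subgroup (GL (Fin n) F)) (hH : H ≤ GU n F q) (hNH : N ≤ H)
    (hnorm : NormalizedBy H N) (D : HomogData N)
    (habs : ActsAbsolutelyIrreducibly (repSet D.ρ)) (hd : 2 ≤ D.d) (hk : 2 ≤ D.k)
    (h4 : n ≠ 4) (h9 : ¬ (q = 2 ∧ n = 9)) :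
    UC4 q H ∨ UC7 q H ∨ UC5 q H ∨ UC6 q H :=
  utame_of_homog_tensor_gen hF H N hH hNH hnorm D habs hd hk (um422Stmt_of_ne4 h4 H)
    (um4U9Stmt_of_ne9 h9 H)

/-- The unitary Aschbacher theorem (class-by-class form) for `n ≠ 4`, `(q, n) ≠ (2, 9)`. -/
theorem umain_strong_of_ne4_ne9 (hF : Fintype.card F = q ^ 2) (hn : 3 ≤ n)
    (H : Subgroup (GL (Fin n) F)) (hH : H ≤ GU n F q) (h4 : n ≠ 4) (h9 : ¬ (q = 2 ∧ n = 9)) :
    UTame q H ∨ InUnitaryResidualClass H :=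
  umain_strong_of hF hn H hH (um4Stmt_gen hF H hH (um422Stmt_of_ne4 h4 H) (um4U9Stmt_of_ne9 h9 H))

end Cfsg.Agent.Lib.H20.Asch
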