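/-
S5663 (Aschbacher, unitary case), module UM4: assembly with helper22's UM4-22 (`d = k = 2`); only the
case `q = 2, n = 9` (UM4-U9) is left as a hypothesis.  (helper20)
-/
import Cfsg.Agent.Lib.H20.AschUM4
import Cfsg.Agent.Lib.H22.AschUM422

set_option autoImplicit false

namespace Cfsg.Agent.Lib.H20.Asch

open Cfsg Cfsg.Geo Cfsg.Agent.Lib.Lead.Asch
open scoped MatrixGroups Matrix Kronecker

variable {F : Type*} [Field F] [Fintype F] {n q : ℕ}

theorem um422Stmt (hF : Fintype.card F = q ^ 2) (H : Subgroup (GL (Fin n) F)) (hHU : H ≤ GU n F q) :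
    UM422Stmt q H :=
  fun e P f₁ f₂ h₁ h₂ hform hH =>
    Cfsg.Agent.Lib.H22.Asch.uc5_of_kronecker_two_two hF H hHU e P f₁ f₂ h₁ h₂ hform hH

/-- **UM4** with `(q, n) ≠ (2, 9)`: complete. -/
theorem utame_of_homog_tensor_of_ne9 (hF : Fintype.card F = q ^ 2) (hn : 3 ≤ n)
    (H N : Subgroup (GL (Fin n) F)) (hH : H ≤ GU n F q) (hNH : N ≤ H)
    (hnorm : NormalizedBy H N) (D : HomogData N)
    (habs : ActsAbsolutelyIrreducibly (repSet D.ρ)) (hd : 2 ≤ D.d) (hk : 2 ≤ D.k)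
    (h9 : ¬ (q = 2 ∧ n = 9)) :
    UC4 q H ∨ UC7 q H ∨ UC5 q H ∨ UC6 q H :=
  utame_of_homog_tensor_gen hF H N hH hNH hnorm D habs hd hk (um422Stmt hF H hH)
    (um4U9Stmt_of_ne9 h9 H)

/-- **UM4** with the statement of UM4-U9 as a hypothesis. -/
theorem utame_of_homog_tensor_of_u9 (hF : Fintype.card F = q ^ 2) (hn : 3 ≤ n)
    (H N : Subgroup (GL (Fin n) F)) (hH : H ≤ GU n F q) (hNH : N ≤ H)
    (hnorm : NormalizedBy H N) (D : HomogData N)
    (habs : ActsAbsolutelyIrreducibly (repSet D.ρ)) (hd : 2 ≤ D.d) (hk : 2 ≤ D.k)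
    (h33 : UM4U9Stmt q H) :
    UC4 q H ∨ UC7 q H ∨ UC5 q H ∨ UC6 q H :=
  utame_of_homog_tensor_gen hF H N hH hNH hnorm D habs hd hk (um422Stmt hF H hH) h33

/-- The unitary Aschbacher theorem (class-by-class form) for `(q, n) ≠ (2, 9)`. -/
theorem umain_strong_of_ne9 (hF : Fintype.card F = q ^ 2) (hn : 3 ≤ n)
    (H : Subgroup (GL (Fin n) F)) (hH : H ≤ GU n F q) (h9 : ¬ (q = 2 ∧ n = 9)) :
    UTame q H ∨ InUnitaryResidualClass H :=
  umain_strong_of hF hn H hH (um4Stmt_gen hF H hH (um422Stmt hF H hH) (um4U9Stmt_of_ne9 h9 H))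

/-- The unitary Aschbacher theorem (class-by-class form), with the statement of UM4-U9 as a hypothesis. -/
theorem umain_strong_of_u9 (hF : Fintype.card F = q ^ 2) (hn : 3 ≤ n)
    (H : Subgroup (GL (Fin n) F)) (hH : H ≤ GU n F q) (h33 : UM4U9Stmt q H) :
    UTame q H ∨ InUnitaryResidualClass H :=
  umain_strong_of hF hn H hH (um4Stmt_gen hF H hH (um422Stmt hF H hH) h33)

end Cfsg.Agent.Lib.H20.Asch
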