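/-
S5663 (Aschbacher, unitary case), module UM4: assembly where the case `q = 2, d = k = 3` (UM4-U9) returns
`UC5 q H ∨ UC6 q H` (the shape of `uc56_of_kronecker_three_three`, U9 mini-project).  (helper20)
-/
import Cfsg.Agent.Lib.H20.AschUM4b

set_option autoImplicit false

namespace Cfsg.Agent.Lib.H20.Asch

open Cfsg Cfsg.Geo Cfsg.Agent.Lib.Lead.Asch
open scoped MatrixGroups Matrix Kronecker

variable {F : Type*} [Field F] [Fintype F] {n q : ℕ}

/-- The statement of U9-3 (`uc56_of_kronecker_three_three`) for one subgroup `H`. -/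
def UM4U956Stmt (q : ℕ) (H : Subgroup (GL (Fin n) F)) : Prop :=
  q = 2 → ∀ (e : Fin n ≃ Fin 3 × Fin 3) (P : GL (Fin n) F) (f₁ f₂ : (Fin 3 → F) → (Fin 3 → F) → F),
    IsUnitaryFormPow q f₁ → IsUnitaryFormPow q f₂ →
    IsTensorFormStructure (fun x : F => x ^ q) (hermForm n F q) f₁ f₂ e P⁻¹ →
    (∀ h ∈ H, glReindex e (P * h * P⁻¹) ∈ kroneckerSubgroup 3 3 F) → UC5 q H ∨ UC6 q H

/-- All cases, in the coordinates `(e, P)`. -/
theorem utame_of_kronecker_gen56 (hF : Fintype.card F = q ^ 2) (H : Subgroup (GL (Fin n) F))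
    {d k : ℕ} (hd : 2 ≤ d) (hk : 2 ≤ k) (e : Fin n ≃ Fin d × Fin k) (P : GL (Fin n) F)
    (f₁ : (Fin d → F) → (Fin d → F) → F) (f₂ : (Fin k → F) → (Fin k → F) → F)
    (h₁ : IsUnitaryFormPow q f₁) (h₂ : IsUnitaryFormPow q f₂)
    (hform : IsTensorFormStructure (fun x : F => x ^ q) (hermForm n F q) f₁ f₂ e P⁻¹)
    (hH : ∀ h ∈ H, glReindex e (P * h * P⁻¹) ∈ kroneckerSubgroup d k F)
    (h22 : UM422Stmt q H) (h33 : UM4U956Stmt q H) :
    UC4 q H ∨ UC7 q H ∨ UC5 q H ∨ UC6 q H := by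
  by_cases hc : q = 2 ∧ d = 3 ∧ k = 3
  · obtain ⟨hq2, rfl, rfl⟩ := hc
    rcases h33 hq2 e P f₁ f₂ h₁ h₂ hform hH with h | h
    · exact Or.inr (Or.inr (Or.inl h))
    · exact Or.inr (Or.inr (Or.inr h))
  · refine utame_of_kronecker_gen hF H hd hk e P f₁ f₂ h₁ h₂ hform hH h22 ?_
    intro hq2 e'
    exfalso
    have h1 := Fintype.card_congr e
    have h2 := Fintype.card_congr e'
    simp at h1 h2
    -- n = d * k = 9 with d, k ≥ 2 forces d = k = 3
    have h9 : d * k = 9 := by omega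
    have hd9 : d ∣ 9 := ⟨k, h9.symm⟩
    have hdle : d ≤ 9 := Nat.le_of_dvd (by norm_num) hd9
    have hd3 : d = 3 := by
      interval_cases d <;> first | omega | (exfalso; revert hd9; decide)
    subst hd3
    exact hc ⟨hq2, rfl, by omega⟩

/-- **UM4**, with the two special cases as hypotheses. -/
theorem utame_of_homog_tensor_gen56 (hF : Fintype.card F = q ^ 2)
    (H N : Subgroup (GL (Fin n) F)) (hH : H ≤ GU n F q) (hNH : N ≤ H)
    (hnorm : NormalizedBy H N) (D : HomogData N)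
    (habs : ActsAbsolutelyIrreducibly (repSet D.ρ)) (hd : 2 ≤ D.d) (hk : 2 ≤ D.k)
    (h22 : UM422Stmt q H) (h33 : UM4U956Stmt q H) :
    UC4 q H ∨ UC7 q H ∨ UC5 q H ∨ UC6 q H := by
  obtain ⟨f₁, f₂, h₁, h₂, hform, _⟩ := exists_tensor_form hF N (hNH.trans hH) D habs
  exact utame_of_kronecker_gen56 hF H hd hk D.e D.P f₁ f₂ h₁ h₂ hform (fun h hh =>
    mem_kronecker_of_homog H N hnorm D habs (by omega) (by omega) h hh) h22 h33

theorem um4Stmt_gen56 (hF : Fintype.card F = q ^ 2) (H : Subgroup (GL (Fin n) F)) (hH : H ≤ GU n F q)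
    (h33 : UM4U956Stmt q H) : UM4Stmt q H :=
  fun N hNH hnorm D habs hd hk =>
    utame_of_homog_tensor_gen56 hF H N hH hNH hnorm D habs hd hk (um422Stmt hF H hH) h33

/-- The unitary Aschbacher theorem (class-by-class form), with the statement of U9-3 as a hypothesis. -/
theorem umain_strong_of_u956 (hF : Fintype.card F = q ^ 2) (hn : 3 ≤ n)
    (H : Subgroup (GL (Fin n) F)) (hH : H ≤ GU n F q) (h33 : UM4U956Stmt q H) :
    UTame q H ∨ InUnitaryResidualClass H :=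
  umain_strong_of hF hn H hH (um4Stmt_gen56 hF H hH h33)

end Cfsg.Agent.Lib.H20.Asch
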