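/-
S5663 (Aschbacher, unitary case), module UM4 and the main theorem, with ONE hypothesis left: the standard
`U3Data` over the field with 4 elements (U9-1, `exists_u3Data_std`), needed only when `q = 2`.  (helper20)
-/
import Cfsg.Agent.Lib.H20.AschUM4c
import Cfsg.Agent.Lib.H16.AschU93

set_option autoImplicit false

namespace Cfsg.Agent.Lib.H20.Asch

open Cfsg Cfsg.Geo Cfsg.Agent.Lib.Lead.Asch
open scoped MatrixGroups Matrix Kronecker

variable {F : Type*} [Field F] [Fintype F] {n q : ℕ}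

/-- The conclusion of U9-1 (`exists_u3Data_std`), needed only for `q = 2`. -/
def U9StdStmt (F : Type*) [Field F] (q : ℕ) : Prop :=
  q = 2 → ∃ (R₁ : Subgroup (GL (Fin 3) F)) (u : GL (Fin 3) F), U3Data (hermForm 3 F 2) R₁ u

theorem um4U956Stmt_of_std (hstd : U9StdStmt F q) (hF : Fintype.card F = q ^ 2)
    (H : Subgroup (GL (Fin n) F)) (hHU : H ≤ GU n F q) : UM4U956Stmt q H :=
  fun hq e P f₁ f₂ h₁ h₂ hform hH =>
    Cfsg.Agent.Lib.H16.Asch.uc56_of_kronecker_three_three_of_std (hstd hq) hF hq H hHU e P f₁ f₂ h₁ h₂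
      hform hH

/-- **UM4** (signature of S5663_sigs.lean plus `hstd`). -/
theorem utame_of_homog_tensor_of_std (hstd : U9StdStmt F q) (hF : Fintype.card F = q ^ 2) (hn : 3 ≤ n)
    (H N : Subgroup (GL (Fin n) F)) (hH : H ≤ GU n F q) (hNH : N ≤ H)
    (hnorm : NormalizedBy H N) (D : HomogData N)
    (habs : ActsAbsolutelyIrreducibly (repSet D.ρ)) (hd : 2 ≤ D.d) (hk : 2 ≤ D.k) :
    UC4 q H ∨ UC7 q H ∨ UC5 q H ∨ UC6 q H :=
  utame_of_homog_tensor_gen56 hF H N hH hNH hnorm D habs hd hk (um422Stmt hF H hH)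
    (um4U956Stmt_of_std hstd hF H hH)

theorem um4Stmt_of_std (hstd : U9StdStmt F q) (hF : Fintype.card F = q ^ 2)
    (H : Subgroup (GL (Fin n) F)) (hH : H ≤ GU n F q) : UM4Stmt q H :=
  um4Stmt_gen56 hF H hH (um4U956Stmt_of_std hstd hF H hH)

/-- The unitary Aschbacher theorem (class-by-class form), modulo U9-1. -/
theorem umain_strong_of_std (hstd : U9StdStmt F q) (hF : Fintype.card F = q ^ 2) (hn : 3 ≤ n)
    (H : Subgroup (GL (Fin n) F)) (hH : H ≤ GU n F q) :
    UTame q H ∨ InUnitaryResidualClass H :=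
  umain_strong_of hF hn H hH (um4Stmt_of_std hstd hF H hH)

end Cfsg.Agent.Lib.H20.Asch
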