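/-
S5663 (Aschbacher, unitary case): module UM4 (`utame_of_homog_tensor`, exact signature of
`tools/blueprints/S5663_sigs.lean`) and the unconditional class-by-class main theorem `umain_strong`.
(helper20; uses helper4's U9-1, helper16's U9-3, helper22's UM4-E / UM4-22, helper1's U9-M7, lead's assembly.)
-/
import Cfsg.Agent.Lib.H20.AschUM4d
import Cfsg.Agent.Lib.H4.AschU91

set_option autoImplicit false

namespace Cfsg.Agent.Lib.H20.Asch

open Cfsg Cfsg.Geo Cfsg.Agent.Lib.Lead.Asch
open scoped MatrixGroups Matrix Kronecker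

variable {F : Type*} [Field F] [Fintype F] {n q : ℕ}

theorem u9StdStmt (hF : Fintype.card F = q ^ 2) : U9StdStmt F q := by
  intro hq
  exact Cfsg.Agent.Lib.H4.Asch.exists_u3Data_std (by rw [hF, hq]; norm_num)

/-- **UM4** (exact signature of S5663_sigs.lean). -/
theorem utame_of_homog_tensor (hF : Fintype.card F = q ^ 2) (hn : 3 ≤ n)
    (H N : Subgroup (GL (Fin n) F)) (hH : H ≤ GU n F q) (hNH : N ≤ H)
    (hnorm : NormalizedBy H N) (D : HomogData N)
    (habs : ActsAbsolutelyIrreducibly (repSet D.ρ)) (hd : 2 ≤ D.d) (hk : 2 ≤ D.k) :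
    UC4 q H ∨ UC7 q H ∨ UC5 q H ∨ UC6 q H :=
  utame_of_homog_tensor_of_std (u9StdStmt hF) hF hn H N hH hNH hnorm D habs hd hk

theorem um4Stmt (hF : Fintype.card F = q ^ 2) (H : Subgroup (GL (Fin n) F)) (hH : H ≤ GU n F q) :
    UM4Stmt q H :=
  um4Stmt_of_std (u9StdStmt hF) hF H hH

/-- **The unitary Aschbacher theorem, class-by-class form** (S5663 for every subgroup of `GU_n(q)`, `n ≥ 3`). -/
theorem umain_strong (hF : Fintype.card F = q ^ 2) (hn : 3 ≤ n)
    (H : Subgroup (GL (Fin n) F)) (hH : H ≤ GU n F q) :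
    UTame q H ∨ InUnitaryResidualClass H :=
  umain_strong_of hF hn H hH (um4Stmt hF H hH)

end Cfsg.Agent.Lib.H20.Asch
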