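import Mathlib

/-!
# Linear algebra core for the Laffey–MacHale theorem (three automorphism orbits)

`V` is a module over `ZMod p`, `φ` an endomorphism with `φ ^ q = 1` without nonzero fixed
vectors.
-/

set_option autoImplicit false

namespace Cfsg.Agent.Lib.H20.AO

open Polynomial

section LA

variable {p q : ℕ} [hp : Fact p.Prime] [hq : Fact q.Prime]
  {V : Type*} [AddCommGroup V] [Module (ZMod p) V]

theorem aeval_cyclotomic_eq_zero (φ : Module.End (ZMod p) V) (hφq : φ ^ q = 1)
    (hfpf : ∀ v, φ v = v → v = 0) : aeval φ (cyclotomic q (ZMod p)) = 0 := by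
  have h1 : (Polynomial.X - 1) * cyclotomic q (ZMod p) = Polynomial.X ^ q - 1 := by
    rw [mul_comm]; exact cyclotomic_prime_mul_X_sub_one (ZMod p) q
  have h2 := congrArg (aeval φ) h1
  simp only [map_mul, map_sub, aeval_X, map_one, map_pow, hφq, sub_self] at h2
  ext v
  have h3 := congrArg (fun g : Module.End (ZMod p) V => g v) h2
  simp only [Module.End.mul_apply, LinearMap.sub_apply, Module.End.one_apply,
    LinearMap.zero_apply] at h3
  have h4 : φ ((aeval φ (cyclotomic q (ZMod p))) v) = (aeval φ (cyclotomic q (ZMod p))) v :=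
    sub_eq_zero.mp h3
  simpa using hfpf _ h4

theorem dvd_of_aeval_apply_eq_zero {f g : (ZMod p)[X]} (hf : Irreducible f)
    (ψ : Module.End (ZMod p) V) {v : V} (hv : v ≠ 0) (h1 : aeval ψ f v = 0)
    (h2 : aeval ψ g v = 0) : f ∣ g := by
  rcases hf.isCoprime_or_dvd g with h | h
  · exfalso
    obtain ⟨a, b, hab⟩ := h
    have h3 := congrArg (fun r => (aeval ψ r) v) hab
    simp only [map_add, map_mul, map_one, LinearMap.add_apply, Module.End.mul_apply,
      Module.End.one_apply, h1, h2, map_zero, add_zero] at h3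
    exact hv h3.symm
  · exact h

theorem map_pow_apply (T : V →+ V) (φ ψ : Module.End (ZMod p) V)
    (h : ∀ u, T (φ u) = ψ (T u)) (n : ℕ) (u : V) : T ((φ ^ n) u) = (ψ ^ n) (T u) := by
  induction n generalizing u with
  | zero => simp
  | succ n ih =>
    rw [pow_succ, pow_succ, Module.End.mul_apply, Module.End.mul_apply, ih, h]

theorem map_aeval_apply (T : V →+ V) (φ ψ : Module.End (ZMod p) V)
    (h : ∀ u, T (φ u) = ψ (T u)) (g : (ZMod p)[X]) (u : V) :
    T (aeval φ g u) = aeval ψ g (T u) := by
  induction g using Polynomial.induction_on' with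
  | add a b ha hb =>
    simp only [map_add, LinearMap.add_apply, ha, hb]
  | monomial n a =>
    simp only [aeval_monomial, Module.End.mul_apply]
    rw [Module.algebraMap_end_apply, Module.algebraMap_end_apply, ZMod.map_smul,
      map_pow_apply T φ ψ h]

end LA

end Cfsg.Agent.Lib.H20.AO
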