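import Mathlib
import Cfsg.Agent.Lib.H20.AutOrb1

/-!
# Linear algebra core, part 2: irreducible factors and their kernels
-/

set_option autoImplicit false

namespace Cfsg.Agent.Lib.H20.AO

open Polynomial

section LA

variable {p q : ℕ} [hp : Fact p.Prime] [hq : Fact q.Prime]
  {V : Type*} [AddCommGroup V] [Module (ZMod p) V]

theorem exists_irreducible_factor_aux (φ : Module.End (ZMod p) V) (Φ : (ZMod p)[X]) :
    ∀ (n : ℕ) (g : (ZMod p)[X]), g.natDegree = n → g ≠ 0 → g ∣ Φ →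
      (∃ v : V, v ≠ 0 ∧ aeval φ g v = 0) →
      ∃ f : (ZMod p)[X], Irreducible f ∧ f ∣ Φ ∧ ∃ v : V, v ≠ 0 ∧ aeval φ f v = 0 := by
  intro n
  induction n using Nat.strong_induction_on with
  | _ n ih =>
    intro g hgn hg0 hgΦ ⟨v, hv, hgv⟩
    have hnu : ¬ IsUnit g := by
      intro hu
      obtain ⟨c, hc, rfl⟩ := Polynomial.isUnit_iff.mp hu
      rw [aeval_C, Module.algebraMap_end_apply] at hgv
      have : v = 0 := by
        rcases smul_eq_zero.mp hgv with h | h
        · exact absurd h hc.ne_zero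
        · exact h
      exact hv this
    obtain ⟨f, hfi, hfg⟩ := WfDvdMonoid.exists_irreducible_factor hnu hg0
    obtain ⟨h, rfl⟩ := hfg
    have hh0 : h ≠ 0 := right_ne_zero_of_mul hg0
    have hf0 : f ≠ 0 := left_ne_zero_of_mul hg0
    by_cases hhv : aeval φ h v = 0
    · have hlt : h.natDegree < n := by
        rw [← hgn, natDegree_mul hf0 hh0]
        have := hfi.natDegree_pos
        omega
      exact ih _ hlt h rfl hh0 (dvd_trans (Dvd.intro_left f rfl) hgΦ) ⟨v, hv, hhv⟩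
    · refine ⟨f, hfi, dvd_trans (Dvd.intro h rfl) hgΦ, aeval φ h v, hhv, ?_⟩
      rw [map_mul, Module.End.mul_apply] at hgv
      exact hgv

theorem exists_irreducible_factor (φ : Module.End (ZMod p) V) (Φ : (ZMod p)[X]) (hΦ0 : Φ ≠ 0)
    (hΦ : aeval φ Φ = 0) (hnt : ∃ v : V, v ≠ 0) :
    ∃ f : (ZMod p)[X], Irreducible f ∧ f ∣ Φ ∧ ∃ v : V, v ≠ 0 ∧ aeval φ f v = 0 := by
  obtain ⟨v, hv⟩ := hnt
  exact exists_irreducible_factor_aux φ Φ _ Φ rfl hΦ0 dvd_rfl ⟨v, hv, by rw [hΦ]; rfl⟩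

omit hq in
theorem pow_eq_pow_of_modEq (φ : Module.End (ZMod p) V) (hφq : φ ^ q = 1) {a b : ℕ}
    (hab : a ≡ b [MOD q]) : φ ^ a = φ ^ b := by
  have h : ∀ a : ℕ, φ ^ a = φ ^ (a % q) := by
    intro a
    conv_lhs => rw [← Nat.div_add_mod a q, pow_add, pow_mul, hφq, one_pow, one_mul]
  rw [h a, h b, hab]

/-- if `φ^m` fixes a vector and `q ∤ m`, then so does `φ`. -/
theorem fixed_of_pow_fixed (φ : Module.End (ZMod p) V) (hφq : φ ^ q = 1) {m : ℕ} (hm : ¬ q ∣ m)
    {v : V} (hv : (φ ^ m) v = v) : φ v = v := by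
  have hcop : Nat.Coprime m q := (Nat.Coprime.symm ((Nat.Prime.coprime_iff_not_dvd hq.out).mpr hm))
  obtain ⟨m', -, hm'⟩ := Nat.exists_mul_mod_eq_one_of_coprime hcop hq.out.one_lt
  have h1 : φ ^ (m * m') = φ ^ 1 := pow_eq_pow_of_modEq φ hφq (by
    unfold Nat.ModEq; rw [hm', Nat.mod_eq_of_lt hq.out.one_lt])
  have h2 : ∀ j : ℕ, ((φ ^ m) ^ j) v = v := by
    intro j
    induction j with
    | zero => simp
    | succ j ih => rw [pow_succ, Module.End.mul_apply, hv, ih]
  have h3 := h2 m'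
  rw [← pow_mul, h1, pow_one] at h3
  exact h3

/-- the vectors `v, φ v, …, φ^(q-1) v` are distinct. -/
theorem pow_apply_injective (φ : Module.End (ZMod p) V) (hφq : φ ^ q = 1)
    (hfpf : ∀ v, φ v = v → v = 0) {v : V} (hv : v ≠ 0) :
    Function.Injective (fun i : Fin q => (φ ^ (i : ℕ)) v) := by
  have key : ∀ i j : ℕ, i < j → j < q → (φ ^ i) v = (φ ^ j) v → False := by
    intro i j hij hjq h
    have hinj : Function.Injective (φ ^ i) := by
      have hu : (φ ^ i) * (φ ^ (q - i)) = 1 := by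
        rw [← pow_add, Nat.add_sub_cancel' (by omega), hφq]
      have hu' : (φ ^ (q - i)) * (φ ^ i) = 1 := by
        rw [← pow_add, Nat.sub_add_cancel (by omega), hφq]
      intro a b hab
      have := congrArg (φ ^ (q - i)) hab
      rw [← Module.End.mul_apply, ← Module.End.mul_apply, hu'] at this
      simpa using this
    have h1 : (φ ^ (j - i)) v = v := by
      apply hinj
      rw [← Module.End.mul_apply, ← pow_add, Nat.add_sub_cancel' hij.le]
      exact h.symm
    have hnd : ¬ q ∣ (j - i) := by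
      intro hd
      have := Nat.le_of_dvd (by omega) hd
      omega
    exact hv (hfpf v (fixed_of_pow_fixed φ hφq hnd h1))
  intro i j hij
  simp only at hij
  rcases lt_trichotomy (i : ℕ) (j : ℕ) with h | h | h
  · exact (key _ _ h j.2 hij).elim
  · exact Fin.ext h
  · exact (key _ _ h i.2 hij.symm).elim

end LA

end Cfsg.Agent.Lib.H20.AO
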