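import Mathlib
import Cfsg.Agent.Lib.H20.AutOrb2

/-!
# Linear algebra core, part 3: the kernels `W k = ker f(φ^k)` and the counting argument
-/

set_option autoImplicit false

namespace Cfsg.Agent.Lib.H20.AO

open Polynomial

section LA

variable {p q : ℕ} [hp : Fact p.Prime] [hq : Fact q.Prime]
  {V : Type*} [AddCommGroup V] [Module (ZMod p) V]

/-- kernel of `f (φ ^ k)` -/
noncomputable def W (φ : Module.End (ZMod p) V) (f : (ZMod p)[X]) (k : ℕ) : Submodule (ZMod p) V :=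
  LinearMap.ker (aeval (φ ^ k) f)

omit hq in
theorem mem_W (φ : Module.End (ZMod p) V) (f : (ZMod p)[X]) (k : ℕ) (v : V) :
    v ∈ W φ f k ↔ aeval (φ ^ k) f v = 0 := LinearMap.mem_ker

omit hq in
theorem W_congr (φ : Module.End (ZMod p) V) (hφq : φ ^ q = 1) (f : (ZMod p)[X]) {a b : ℕ}
    (hab : a ≡ b [MOD q]) : W φ f a = W φ f b := by
  unfold W; rw [pow_eq_pow_of_modEq φ hφq hab]

omit hq in
/-- a semilinear-type bijection transports kernels -/
theorem card_W_eq (φ : Module.End (ZMod p) V) (f : (ZMod p)[X]) (k : ℕ) (T : V ≃+ V)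
    (hT : ∀ u, T (φ u) = (φ ^ k) (T u)) : Nat.card (W φ f 1) = Nat.card (W φ f k) := by
  have h1 : ∀ u, T (aeval (φ ^ 1) f u) = aeval (φ ^ k) f (T u) := by
    intro u
    exact map_aeval_apply T.toAddMonoidHom (φ ^ 1) (φ ^ k) (by simpa using hT) f u
  refine Nat.card_congr (T.toEquiv.subtypeEquiv ?_)
  intro u
  change u ∈ W φ f 1 ↔ T u ∈ W φ f k
  rw [mem_W, mem_W, ← h1]
  constructor
  · intro h; rw [h, map_zero]
  · intro h
    exact T.injective (by rw [h, map_zero])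

omit hq in
theorem map_mem_W (φ : Module.End (ZMod p) V) (f : (ZMod p)[X]) (k : ℕ) (T : V ≃+ V)
    (hT : ∀ u, T (φ u) = (φ ^ k) (T u)) {u : V} (hu : u ∈ W φ f 1) : T u ∈ W φ f k := by
  have h1 : T (aeval (φ ^ 1) f u) = aeval (φ ^ k) f (T u) :=
    map_aeval_apply T.toAddMonoidHom (φ ^ 1) (φ ^ k) (by simpa using hT) f u
  rw [mem_W] at hu ⊢
  rw [← h1, hu, map_zero]

/-- two of the kernels are equal as soon as they share a nonzero vector -/
theorem W_le_of_inter (φ : Module.End (ZMod p) V) (hφq : φ ^ q = 1) {f : (ZMod p)[X]}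
    (hf : Irreducible f) {k l : ℕ} (hk : ¬ q ∣ k) {u : V} (hu : u ≠ 0) (huk : u ∈ W φ f k)
    (hul : u ∈ W φ f l) : W φ f k ≤ W φ f l := by
  have hcop : Nat.Coprime k q := (Nat.Coprime.symm ((Nat.Prime.coprime_iff_not_dvd hq.out).mpr hk))
  obtain ⟨k', -, hk'⟩ := Nat.exists_mul_mod_eq_one_of_coprime hcop hq.out.one_lt
  have h1 : (φ ^ k) ^ (k' * l) = φ ^ l := by
    rw [← pow_mul, ← mul_assoc]
    apply pow_eq_pow_of_modEq φ hφq
    have : k * k' ≡ 1 [MOD q] := by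
      unfold Nat.ModEq; rw [hk', Nat.mod_eq_of_lt hq.out.one_lt]
    simpa using this.mul_right l
  have h2 : aeval (φ ^ k) (f.comp (Polynomial.X ^ (k' * l))) = aeval (φ ^ l) f := by
    rw [aeval_comp, map_pow, aeval_X, h1]
  rw [mem_W] at huk hul
  have h3 : f ∣ f.comp (Polynomial.X ^ (k' * l)) :=
    dvd_of_aeval_apply_eq_zero hf (φ ^ k) hu huk (by rw [h2]; exact hul)
  obtain ⟨c, hc⟩ := h3
  intro w hw
  rw [mem_W] at hw ⊢
  rw [← h2, hc, mul_comm, map_mul, Module.End.mul_apply, hw, map_zero]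

theorem pow_apply_mem_W (φ : Module.End (ZMod p) V) (f : (ZMod p)[X]) (k i : ℕ) {u : V}
    (hu : u ∈ W φ f k) : (φ ^ i) u ∈ W φ f k := by
  rw [mem_W] at hu ⊢
  have hc : Commute (aeval (φ ^ k) f) (φ ^ i) := by
    have h1 : φ ^ i = aeval φ (Polynomial.X ^ i : (ZMod p)[X]) := by simp
    have h2 : aeval (φ ^ k) f = aeval φ (f.comp (Polynomial.X ^ k)) := by
      rw [aeval_comp, map_pow, aeval_X]
    rw [h1, h2]
    exact (Commute.all _ _).map (aeval φ)
  rw [← Module.End.mul_apply, hc.eq, Module.End.mul_apply, hu, map_zero]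

end LA

end Cfsg.Agent.Lib.H20.AO
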