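import Mathlib
import Cfsg.Agent.Lib.H20.AutOrb3

/-!
# Linear algebra core, part 4: the counting argument
-/

set_option autoImplicit false

namespace Cfsg.Agent.Lib.H20.AO

open Polynomial

section Cover

theorem card_le_of_cover {V : Type*} [AddCommGroup V] [Finite V] {R : Type*} [Semiring R]
    [Module R V] (s : Finset ℕ) (S : ℕ → Submodule R V) (c : ℕ)
    (hS : ∀ i ∈ s, Nat.card (S i) ≤ c)
    (hcov : ∀ w : V, w ≠ 0 → ∃ i ∈ s, w ∈ S i) : Nat.card V ≤ 1 + s.card * (c - 1) := by
  classical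
  haveI := Fintype.ofFinite V
  have hsub : (Finset.univ : Finset V) ⊆
      insert 0 (s.biUnion (fun i => (Finset.univ.filter (fun x => x ∈ S i)).erase 0)) := by
    intro w _
    by_cases hw : w = 0
    · simp [hw]
    · obtain ⟨i, hi, hwi⟩ := hcov w hw
      apply Finset.mem_insert_of_mem
      rw [Finset.mem_biUnion]
      exact ⟨i, hi, by simp [hw, hwi]⟩
  have h1 := Finset.card_le_card hsub
  rw [Finset.card_univ, ← Nat.card_eq_fintype_card] at h1
  refine h1.trans ((Finset.card_insert_le _ _).trans ?_)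
  rw [add_comm]
  apply Nat.add_le_add_left
  refine (Finset.card_biUnion_le).trans ?_
  refine (Finset.sum_le_card_nsmul s _ (c - 1) ?_).trans (by simp)
  intro i hi
  have h0 : (0 : V) ∈ Finset.univ.filter (fun x => x ∈ S i) := by simp
  rw [Finset.card_erase_of_mem h0]
  have h2 : (Finset.univ.filter (fun x => x ∈ S i)).card = Nat.card (S i) := by
    rw [Nat.card_eq_fintype_card, Fintype.card_subtype]
  rw [h2]
  exact Nat.sub_le_sub_right (hS i hi) 1

end Cover

section LA

variable {p q : ℕ} [hp : Fact p.Prime] [hq : Fact q.Prime]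
  {V : Type*} [AddCommGroup V] [Module (ZMod p) V]

theorem W_eq_top_of_transitive [Finite V] (φ : Module.End (ZMod p) V) (hφq : φ ^ q = 1)
    (hfpf : ∀ v, φ v = v → v = 0) {f : (ZMod p)[X]} (hf : Irreducible f) {v : V} (hv : v ≠ 0)
    (hfv : aeval φ f v = 0)
    (hT1 : ∀ w : V, w ≠ 0 → ∃ (T : V ≃+ V) (k : ℕ), ¬ q ∣ k ∧
      (∀ u, T (φ u) = (φ ^ k) (T u)) ∧ T v = w)
    (hT2 : ∀ k : ℕ, ¬ q ∣ k → ∃ T : V ≃+ V, ∀ u, T (φ u) = (φ ^ k) (T u)) :
    ∀ k, ¬ q ∣ k → W φ f k = ⊤ := by
  have hv1 : v ∈ W φ f 1 := by rw [mem_W, pow_one]; exact hfv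
  set c := Nat.card (W φ f 1) with hc
  have hck : ∀ k, ¬ q ∣ k → Nat.card (W φ f k) = c := by
    intro k hk
    obtain ⟨T, hT⟩ := hT2 k hk
    exact (card_W_eq φ f k T hT).symm
  have hqc : q ≤ c := by
    have hinj : Function.Injective
        (fun i : Fin q => (⟨(φ ^ (i : ℕ)) v, pow_apply_mem_W φ f 1 i hv1⟩ : W φ f 1)) := by
      intro i j hij
      apply pow_apply_injective φ hφq hfpf hv
      simpa using congrArg Subtype.val hij
    have := Nat.card_le_card_of_injective _ hinj
    simpa using this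
  have hq1 : 1 < q := hq.out.one_lt
  have hcover : ∀ w : V, w ≠ 0 → ∃ k ∈ Finset.Icc 1 (q - 1), w ∈ W φ f k := by
    intro w hw
    obtain ⟨T, k, hk, hT, hTv⟩ := hT1 w hw
    have h1 : w ∈ W φ f k := hTv ▸ map_mem_W φ f k T hT hv1
    refine ⟨k % q, ?_, ?_⟩
    · rw [Finset.mem_Icc]
      have h2 : k % q ≠ 0 := fun h => hk (Nat.dvd_of_mod_eq_zero h)
      have h3 : k % q < q := Nat.mod_lt _ (by omega)
      omega
    · rw [W_congr φ hφq f (Nat.mod_modEq k q)]; exact h1
  have hnd : ∀ l ∈ Finset.Icc 1 (q - 1), ¬ q ∣ l := by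
    intro l hl hd
    rw [Finset.mem_Icc] at hl
    have := Nat.le_of_dvd (by omega) hd
    omega
  have htop1 : W φ f 1 = ⊤ := by
    by_contra hne
    obtain ⟨w, hw⟩ : ∃ w : V, w ∉ W φ f 1 := by
      by_contra hall
      push_neg at hall
      exact hne (Submodule.eq_top_iff'.mpr hall)
    have hw0 : w ≠ 0 := by
      rintro rfl
      exact hw (Submodule.zero_mem _)
    obtain ⟨l, hl, hwl⟩ := hcover w hw0
    have hlq := hnd l hl
    have hdisj : ∀ u : V, u ∈ W φ f 1 → u ∈ W φ f l → u = 0 := by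
      intro u hu1 hul
      by_contra hu0
      exact hw (W_le_of_inter φ hφq hf hlq hu0 hul hu1 hwl)
    -- lower bound
    have hlow : c * c ≤ Nat.card V := by
      have hinj : Function.Injective
          (fun ab : (W φ f 1) × (W φ f l) => ((ab.1 : V) + (ab.2 : V))) := by
        rintro ⟨a, b⟩ ⟨a', b'⟩ hab
        simp only at hab
        have h1 : (a : V) - a' = b' - b := by
          rw [sub_eq_sub_iff_add_eq_add]; rw [hab]; abel
        have h2 : (a : V) - a' = 0 :=
          hdisj _ (Submodule.sub_mem _ a.2 a'.2) (h1 ▸ Submodule.sub_mem _ b'.2 b.2)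
        have h3 : (b' : V) - b = 0 := h1 ▸ h2
        have ha : a = a' := Subtype.ext (sub_eq_zero.mp h2)
        have hb : b = b' := Subtype.ext (sub_eq_zero.mp h3).symm
        rw [ha, hb]
      have := Nat.card_le_card_of_injective _ hinj
      rwa [Nat.card_prod, hck l hlq] at this
    -- upper bound
    have hup : Nat.card V ≤ 1 + (Finset.Icc 1 (q - 1)).card * (c - 1) :=
      card_le_of_cover (Finset.Icc 1 (q - 1)) (W φ f) c
        (fun i hi => (hck i (hnd i hi)).le) hcover
    rw [Nat.card_Icc] at hup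
    have h5 : q - 1 + 1 - 1 = q - 1 := by omega
    rw [h5] at hup
    have h6 : (q - 1) * (c - 1) ≤ (c - 1) * (c - 1) := Nat.mul_le_mul_right _ (by omega)
    clear_value c
    obtain ⟨d, rfl⟩ : ∃ d, c = d + 1 := ⟨c - 1, by omega⟩
    simp only [Nat.add_sub_cancel] at hup h6
    have h7 : (d + 1) * (d + 1) ≤ 1 + d * d := hlow.trans (hup.trans (by omega))
    have h8 : d = 0 := by nlinarith
    omega
  intro k hk
  have h1 : Nat.card (W φ f k) = Nat.card V := by
    rw [hck k hk, hc, htop1]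
    exact Nat.card_congr (Submodule.topEquiv.toEquiv)
  have hbij := Function.Injective.bijective_of_nat_card_le
    (f := (Subtype.val : W φ f k → V)) Subtype.val_injective h1.ge
  rw [Submodule.eq_top_iff']
  intro w
  obtain ⟨⟨w', hw'⟩, rfl⟩ := hbij.2 w
  exact hw'

end LA

end Cfsg.Agent.Lib.H20.AO
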