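import Mathlib
import Cfsg.Agent.Lib.H20.AutOrb4

/-!
# Linear algebra core, part 5: primitive root from transitivity
-/

set_option autoImplicit false

namespace Cfsg.Agent.Lib.H20.AO

open Polynomial

section Poly

variable {p q : ℕ} [hp : Fact p.Prime] [hq : Fact q.Prime]

theorem natDegree_ge_of_dvd_comp (hpq : p ≠ q) {f : (ZMod p)[X]} (hf : Irreducible f)
    (hfΦ : f ∣ cyclotomic q (ZMod p))
    (h : ∀ k ∈ Finset.Icc 1 (q - 1), f ∣ f.comp (Polynomial.X ^ k)) : q - 1 ≤ f.natDegree := by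
  classical
  haveI : Fact (Irreducible f) := ⟨hf⟩
  set r : AdjoinRoot f := AdjoinRoot.root f with hr
  have hr0 : aeval r f = 0 := by
    rw [hr, AdjoinRoot.aeval_eq, AdjoinRoot.mk_self]
  have hrk : ∀ k ∈ Finset.Icc 1 (q - 1), aeval (r ^ k) f = 0 := by
    intro k hk
    obtain ⟨c, hc⟩ := h k hk
    have h1 : aeval r (f.comp (Polynomial.X ^ k)) = aeval (r ^ k) f := by
      rw [aeval_comp, map_pow, aeval_X]
    rw [← h1, hc, map_mul, hr0, zero_mul]
  have hinj : Function.Injective (algebraMap (ZMod p) (AdjoinRoot f)) :=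
    (algebraMap (ZMod p) (AdjoinRoot f)).injective
  haveI : NeZero ((q : ℕ) : AdjoinRoot f) := by
    refine ⟨fun h0 => ?_⟩
    have h1 : ((q : ZMod p)) = 0 := by
      apply hinj
      rw [map_natCast, map_zero]; exact h0
    rw [ZMod.natCast_eq_zero_iff] at h1
    exact hpq ((Nat.prime_dvd_prime_iff_eq hp.out hq.out).mp h1)
  have hζ : IsPrimitiveRoot r q := by
    rw [← isRoot_cyclotomic_iff, IsRoot.def, ← map_cyclotomic q (algebraMap (ZMod p) (AdjoinRoot f)),
      eval_map_algebraMap]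
    obtain ⟨c, hc⟩ := hfΦ
    rw [hc, map_mul, hr0, zero_mul]
  have hf0 : f.map (algebraMap (ZMod p) (AdjoinRoot f)) ≠ 0 :=
    (Polynomial.map_ne_zero_iff hinj).mpr hf.ne_zero
  have hsub : (Finset.Icc 1 (q - 1)).image (fun k => r ^ k) ⊆
      (f.map (algebraMap (ZMod p) (AdjoinRoot f))).roots.toFinset := by
    intro x hx
    rw [Finset.mem_image] at hx
    obtain ⟨k, hk, rfl⟩ := hx
    rw [Multiset.mem_toFinset, mem_roots hf0, IsRoot.def, eval_map_algebraMap]
    exact hrk k hk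
  have hq1 : 1 < q := hq.out.one_lt
  have hcard : ((Finset.Icc 1 (q - 1)).image (fun k => r ^ k)).card = q - 1 := by
    rw [Finset.card_image_of_injOn, Nat.card_Icc]
    · omega
    · intro i hi j hj hij
      have hi' := Finset.mem_Icc.mp hi
      have hj' := Finset.mem_Icc.mp hj
      exact hζ.pow_inj (by omega) (by omega) hij
  calc q - 1 = ((Finset.Icc 1 (q - 1)).image (fun k => r ^ k)).card := hcard.symm
    _ ≤ (f.map (algebraMap (ZMod p) (AdjoinRoot f))).roots.toFinset.card := Finset.card_le_card hsub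
    _ ≤ Multiset.card (f.map (algebraMap (ZMod p) (AdjoinRoot f))).roots := Multiset.toFinset_card_le _
    _ ≤ (f.map (algebraMap (ZMod p) (AdjoinRoot f))).natDegree := card_roots' _
    _ = f.natDegree := natDegree_map _

end Poly

section LA

variable {p q : ℕ} [hp : Fact p.Prime] [hq : Fact q.Prime]
  {V : Type*} [AddCommGroup V] [Module (ZMod p) V]

theorem orderOf_unit_eq (hpq : p ≠ q) :
    orderOf (ZMod.unitOfCoprime p ((Nat.coprime_primes hp.out hq.out).mpr hpq)) =
      orderOf ((p : ℕ) : ZMod q) := by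
  rw [← orderOf_units, ZMod.coe_unitOfCoprime]

theorem orderOf_eq_of_transitive (hpq : p ≠ q) [Finite V] (φ : Module.End (ZMod p) V)
    (hφq : φ ^ q = 1) (hfpf : ∀ v, φ v = v → v = 0) (hnt : ∃ v : V, v ≠ 0)
    (hT1 : ∀ v w : V, v ≠ 0 → w ≠ 0 → ∃ (T : V ≃+ V) (k : ℕ), ¬ q ∣ k ∧
      (∀ u, T (φ u) = (φ ^ k) (T u)) ∧ T v = w)
    (hT2 : ∀ k : ℕ, ¬ q ∣ k → ∃ T : V ≃+ V, ∀ u, T (φ u) = (φ ^ k) (T u)) :
    orderOf ((p : ℕ) : ZMod q) = q - 1 := by
  have hΦ := aeval_cyclotomic_eq_zero (q := q) φ hφq hfpf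
  obtain ⟨f, hf, hfΦ, v, hv, hfv⟩ :=
    exists_irreducible_factor φ (cyclotomic q (ZMod p)) (cyclotomic_ne_zero q _) hΦ hnt
  have htop := W_eq_top_of_transitive φ hφq hfpf hf hv hfv (fun w hw => hT1 v w hv hw) hT2
  have hq1 : 1 < q := hq.out.one_lt
  have hdvd : ∀ k ∈ Finset.Icc 1 (q - 1), f ∣ f.comp (Polynomial.X ^ k) := by
    intro k hk
    rw [Finset.mem_Icc] at hk
    have hnd : ¬ q ∣ k := by
      intro hd
      have := Nat.le_of_dvd (by omega) hd
      omega
    have h1 : v ∈ W φ f k := by rw [htop k hnd]; trivial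
    rw [mem_W] at h1
    apply dvd_of_aeval_apply_eq_zero hf φ hv hfv
    rw [aeval_comp, map_pow, aeval_X]
    exact h1
  have hdeg := natDegree_ge_of_dvd_comp hpq hf hfΦ hdvd
  have hcop : p.Coprime q := (Nat.coprime_primes hp.out hq.out).mpr hpq
  have hK : Fintype.card (ZMod p) = p ^ 1 := by simp
  have hnat := natDegree_of_dvd_cyclotomic_of_irreducible (K := ZMod p) (p := p) (f := 1)
    (n := q) hK hcop hfΦ hf
  have hle : orderOf ((p : ℕ) : ZMod q) ≤ q - 1 := by
    rw [← orderOf_unit_eq hpq]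
    have h1 := orderOf_dvd_natCard (ZMod.unitOfCoprime p hcop)
    rw [Nat.card_eq_fintype_card, ZMod.card_units_eq_totient, Nat.totient_prime hq.out] at h1
    exact Nat.le_of_dvd (by omega) h1
  have hge : q - 1 ≤ orderOf ((p : ℕ) : ZMod q) := by
    rw [← orderOf_unit_eq hpq]
    have h2 : orderOf (ZMod.unitOfCoprime p hcop) = f.natDegree := by
      rw [hnat]
      congr 1
      apply Units.ext
      simp
    rw [h2]; exact hdeg
  omega

end LA

end Cfsg.Agent.Lib.H20.AO
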