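import Mathlib
import Cfsg.Agent.Lib.H20.AutOrb5

/-!
# Linear algebra core, part 6: constructing (semi)linear maps when `p` is a primitive root
-/

set_option autoImplicit false

namespace Cfsg.Agent.Lib.H20.AO

open Polynomial

section Generic

theorem exists_linearEquiv_apply_eq {K V : Type*} [Field K] [AddCommGroup V] [Module K V]
    {v w : V} (hv : v ≠ 0) (hw : w ≠ 0) : ∃ g : V ≃ₗ[K] V, g v = w := by
  let e1 := LinearEquiv.toSpanNonzeroSingleton K V v hv
  let e2 := LinearEquiv.toSpanNonzeroSingleton K V w hw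
  let f : (K ∙ v) ≃ₗ[K] (K ∙ w) := e1.symm ≪≫ₗ e2
  obtain ⟨g, hg⟩ := Submodule.exists_linearEquiv_restrict_eq f
  refine ⟨g, ?_⟩
  have h1 := hg ⟨v, Submodule.mem_span_singleton_self v⟩
  have h2 : e1.symm ⟨v, Submodule.mem_span_singleton_self v⟩ = 1 := by
    rw [LinearEquiv.symm_apply_eq]
    exact (LinearEquiv.toSpanNonzeroSingleton_one K V v hv).symm
  have h3 : f ⟨v, Submodule.mem_span_singleton_self v⟩ =
      ⟨w, Submodule.mem_span_singleton_self w⟩ := by
    change e2 (e1.symm _) = _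
    rw [h2]
    exact LinearEquiv.toSpanNonzeroSingleton_one K V w hw
  rw [h3] at h1
  exact h1.symm

theorem exists_frobenius_semilinear {K V : Type*} [Field K] [Finite K] (p : ℕ) [Fact p.Prime]
    [CharP K p] [AddCommGroup V] [Module K V] :
    ∃ T : V ≃+ V, ∀ (c : K) (u : V), T (c • u) = c ^ p • T u := by
  classical
  let b := Module.Basis.ofVectorSpace K V
  let σ : (Module.Basis.ofVectorSpaceIndex K V →₀ K) ≃+ (Module.Basis.ofVectorSpaceIndex K V →₀ K) :=
    Finsupp.mapRange.addEquiv (frobeniusEquiv K p).toAddEquiv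
  have hσ : ∀ (c : K) (g : Module.Basis.ofVectorSpaceIndex K V →₀ K), σ (c • g) = c ^ p • σ g := by
    intro c g
    ext i
    simp [σ, frobenius_def, mul_pow]
  refine ⟨b.repr.toAddEquiv.trans (σ.trans b.repr.symm.toAddEquiv), ?_⟩
  intro c u
  change b.repr.symm (σ (b.repr (c • u))) = c ^ p • b.repr.symm (σ (b.repr u))
  have h1 : b.repr (c • u) = c • b.repr u := map_smul _ _ _
  rw [h1, hσ]
  exact map_smul _ _ _

end Generic

end Cfsg.Agent.Lib.H20.AO
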