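import Mathlib
import Cfsg.Agent.Lib.H20.AutOrb6

/-!
# Linear algebra core, part 7: transitivity when `p` is a primitive root mod `q`
-/

set_option autoImplicit false

namespace Cfsg.Agent.Lib.H20.AO

open Polynomial

section LA

variable {p q : ℕ} [hp : Fact p.Prime] [hq : Fact q.Prime]
  {V : Type*} [AddCommGroup V] [Module (ZMod p) V]

theorem irreducible_cyclotomic_of_primitive (hpq : p ≠ q)
    (hprim : orderOf ((p : ℕ) : ZMod q) = q - 1) : Irreducible (cyclotomic q (ZMod p)) := by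
  have hpn : ¬ p ∣ q := fun h => hpq ((Nat.prime_dvd_prime_iff_eq hp.out hq.out).mp h)
  apply ZMod.irreducible_of_dvd_cyclotomic_of_natDegree hpn dvd_rfl
  rw [natDegree_cyclotomic, Nat.totient_prime hq.out, ← hprim, ← orderOf_unit_eq hpq]

theorem exists_pow_modEq_of_primitive (hpq : p ≠ q)
    (hprim : orderOf ((p : ℕ) : ZMod q) = q - 1) {k : ℕ} (hk : ¬ q ∣ k) :
    ∃ j : ℕ, p ^ j ≡ k [MOD q] := by
  have hcop : p.Coprime q := (Nat.coprime_primes hp.out hq.out).mpr hpq
  have hkcop : k.Coprime q := (Nat.Coprime.symm ((Nat.Prime.coprime_iff_not_dvd hq.out).mpr hk))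
  set u := ZMod.unitOfCoprime p hcop with hu
  have hord : orderOf u = Nat.card (ZMod q)ˣ := by
    rw [orderOf_unit_eq hpq, hprim, Nat.card_eq_fintype_card, ZMod.card_units_eq_totient,
      Nat.totient_prime hq.out]
  have htop : Subgroup.zpowers u = ⊤ := by
    apply Subgroup.eq_top_of_card_eq
    rw [Nat.card_zpowers, hord]
  have hmem : ZMod.unitOfCoprime k hkcop ∈ Subgroup.zpowers u := by rw [htop]; trivial
  rw [← mem_powers_iff_mem_zpowers, Submonoid.mem_powers_iff] at hmem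
  obtain ⟨j, hj⟩ := hmem
  refine ⟨j, ?_⟩
  rw [← ZMod.natCast_eq_natCast_iff]
  have := congrArg (fun x : (ZMod q)ˣ => (x : ZMod q)) hj
  simpa [hu] using this

theorem exists_equiv_of_primitive (hpq : p ≠ q) (φ : Module.End (ZMod p) V)
    (hφq : φ ^ q = 1) (hfpf : ∀ v, φ v = v → v = 0)
    (hprim : orderOf ((p : ℕ) : ZMod q) = q - 1) :
    (∀ v w : V, v ≠ 0 → w ≠ 0 → ∃ T : V ≃+ V, (∀ u, T (φ u) = φ (T u)) ∧ T v = w) ∧
    (∀ k : ℕ, ¬ q ∣ k → ∃ T : V ≃+ V, ∀ u, T (φ u) = (φ ^ k) (T u)) := by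
  have hΦ := aeval_cyclotomic_eq_zero (q := q) φ hφq hfpf
  have hirr := irreducible_cyclotomic_of_primitive hpq hprim
  haveI : Fact (Irreducible (cyclotomic q (ZMod p))) := ⟨hirr⟩
  let K := AdjoinRoot (cyclotomic q (ZMod p))
  let ρ : K →+* Module.End (ZMod p) V :=
    Ideal.Quotient.lift (Ideal.span {cyclotomic q (ZMod p)}) (aeval φ).toRingHom (by
      intro a ha
      obtain ⟨c, rfl⟩ := Ideal.mem_span_singleton.mp ha
      simp [hΦ])
  have hρ : ρ (AdjoinRoot.root (cyclotomic q (ZMod p))) = φ := by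
    change Ideal.Quotient.lift _ _ _ (Ideal.Quotient.mk _ Polynomial.X) = φ
    rw [Ideal.Quotient.lift_mk]
    simp
  letI : Module K V := Module.compHom V ρ
  have hsmul : ∀ (c : K) (u : V), c • u = ρ c u := fun c u => rfl
  have hroot : ∀ (n : ℕ) (u : V), (AdjoinRoot.root (cyclotomic q (ZMod p)) ^ n : K) • u = (φ ^ n) u := by
    intro n u
    rw [hsmul, map_pow, hρ]
  haveI : Module.Finite (ZMod p) K := (cyclotomic.monic q (ZMod p)).finite_adjoinRoot
  haveI : Finite K := Module.finite_of_finite (ZMod p)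
  haveI : CharP K p := charP_of_injective_algebraMap (algebraMap (ZMod p) K).injective p
  constructor
  · intro v w hv hw
    obtain ⟨g, hg⟩ := exists_linearEquiv_apply_eq (K := K) hv hw
    refine ⟨g.toAddEquiv, ?_, hg⟩
    intro u
    have h1 := hroot 1 u
    have h2 := hroot 1 (g u)
    rw [pow_one, pow_one] at h1 h2
    change g (φ u) = φ (g u)
    rw [← h1, ← h2, map_smul]
  · obtain ⟨T, hT⟩ := exists_frobenius_semilinear (K := K) (V := V) p
    have hTφ : ∀ u, T (φ u) = (φ ^ p) (T u) := by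
      intro u
      have h1 := hroot 1 u
      rw [pow_one, pow_one] at h1
      rw [← h1, hT, hroot]
    have hiter : ∀ j : ℕ, ∃ Tj : V ≃+ V, ∀ u, Tj (φ u) = (φ ^ (p ^ j)) (Tj u) := by
      intro j
      induction j with
      | zero => exact ⟨AddEquiv.refl V, fun u => by simp⟩
      | succ j ih =>
        obtain ⟨Tj, hTj⟩ := ih
        refine ⟨Tj.trans T, fun u => ?_⟩
        rw [AddEquiv.trans_apply, AddEquiv.trans_apply, hTj]
        have h2 := map_pow_apply T.toAddMonoidHom φ (φ ^ p) hTφ (p ^ j) (Tj u)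
        rw [← pow_mul, ← pow_succ'] at h2
        exact h2
    intro k hk
    obtain ⟨j, hj⟩ := exists_pow_modEq_of_primitive hpq hprim hk
    obtain ⟨Tj, hTj⟩ := hiter j
    refine ⟨Tj, fun u => ?_⟩
    rw [hTj, pow_eq_pow_of_modEq φ hφq hj]

end LA

end Cfsg.Agent.Lib.H20.AO
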