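import Mathlib
import Cfsg.Agent.Lib.H20.AutOrb7

/-!
# Multiplicative wrappers for the linear algebra core
-/

set_option autoImplicit false

namespace Cfsg.Agent.Lib.H20.AO

section Mul

variable {p q : ℕ} [hp : Fact p.Prime] [hq : Fact q.Prime] {P : Type*} [CommGroup P]

/-- the `ZMod p`-module structure on an abelian group of exponent `p` -/
@[reducible] def zmodModuleOfExp (hexp : ∀ a : P, a ^ p = 1) : Module (ZMod p) (Additive P) :=
  AddCommGroup.zmodModule (n := p) (G := Additive P) (by
    intro x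
    exact congrArg Additive.ofMul (hexp x.toMul))

/-- the endomorphism of `Additive P` attached to an automorphism of `P` -/
def toEnd (hexp : ∀ a : P, a ^ p = 1) (X : MulAut P) :
    @Module.End (ZMod p) (Additive P) _ _ (zmodModuleOfExp hexp) :=
  letI := zmodModuleOfExp hexp
  (MonoidHom.toAdditive X.toMonoidHom).toZModLinearMap p

omit hq in
theorem toEnd_apply (hexp : ∀ a : P, a ^ p = 1) (X : MulAut P) (u : Additive P) :
    toEnd hexp X u = Additive.ofMul (X u.toMul) := rfl

omit hq in
theorem toEnd_pow (hexp : ∀ a : P, a ^ p = 1) (X : MulAut P) (n : ℕ) :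
    letI := zmodModuleOfExp hexp
    (toEnd hexp X) ^ n = toEnd hexp (X ^ n) := by
  letI := zmodModuleOfExp hexp
  induction n with
  | zero =>
    ext u
    simp [toEnd_apply]
  | succ n ih =>
    ext u
    rw [pow_succ, ih, Module.End.mul_apply, toEnd_apply, toEnd_apply, toEnd_apply, pow_succ,
      MulAut.mul_apply]
    rfl

theorem mul_primitive_of_transitive (hpq : p ≠ q) [Finite P] (hexp : ∀ a : P, a ^ p = 1)
    (X : MulAut P) (hXq : X ^ q = 1) (hfpf : ∀ a, X a = a → a = 1) (hnt : ∃ a : P, a ≠ 1)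
    (hT1 : ∀ v w : P, v ≠ 1 → w ≠ 1 → ∃ (T : P ≃* P) (k : ℕ), ¬ q ∣ k ∧
      (∀ u, T (X u) = (X ^ k) (T u)) ∧ T v = w)
    (hT2 : ∀ k : ℕ, ¬ q ∣ k → ∃ T : P ≃* P, ∀ u, T (X u) = (X ^ k) (T u)) :
    orderOf ((p : ℕ) : ZMod q) = q - 1 := by
  letI := zmodModuleOfExp hexp
  haveI : Finite (Additive P) := inferInstanceAs (Finite P)
  apply orderOf_eq_of_transitive (V := Additive P) hpq (toEnd hexp X)
  · rw [toEnd_pow, hXq]
    ext u
    simp [toEnd_apply]
  · intro v hv
    rw [toEnd_apply] at hv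
    have := hfpf v.toMul (by simpa using congrArg Additive.toMul hv)
    simpa using congrArg Additive.ofMul this
  · obtain ⟨a, ha⟩ := hnt
    exact ⟨Additive.ofMul a, fun h => ha (by simpa using congrArg Additive.toMul h)⟩
  · intro v w hv hw
    obtain ⟨T, k, hk, hT, hTv⟩ := hT1 v.toMul w.toMul
      (fun h => hv (by simpa using congrArg Additive.ofMul h))
      (fun h => hw (by simpa using congrArg Additive.ofMul h))
    refine ⟨MulEquiv.toAdditive T, k, hk, ?_, ?_⟩
    · intro u
      rw [toEnd_pow, toEnd_apply, toEnd_apply]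
      exact congrArg Additive.ofMul (hT u.toMul)
    · exact congrArg Additive.ofMul hTv
  · intro k hk
    obtain ⟨T, hT⟩ := hT2 k hk
    refine ⟨MulEquiv.toAdditive T, ?_⟩
    intro u
    rw [toEnd_pow, toEnd_apply, toEnd_apply]
    exact congrArg Additive.ofMul (hT u.toMul)

theorem mul_transitive_of_primitive (hpq : p ≠ q) (hexp : ∀ a : P, a ^ p = 1)
    (X : MulAut P) (hXq : X ^ q = 1) (hfpf : ∀ a, X a = a → a = 1)
    (hprim : orderOf ((p : ℕ) : ZMod q) = q - 1) :
    (∀ v w : P, v ≠ 1 → w ≠ 1 → ∃ T : P ≃* P, (∀ u, T (X u) = X (T u)) ∧ T v = w) ∧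
    (∀ k : ℕ, ¬ q ∣ k → ∃ T : P ≃* P, ∀ u, T (X u) = (X ^ k) (T u)) := by
  letI := zmodModuleOfExp hexp
  have hφq : (toEnd hexp X) ^ q = 1 := by
    rw [toEnd_pow, hXq]
    ext u
    simp [toEnd_apply]
  have hfpf' : ∀ v, toEnd hexp X v = v → v = 0 := by
    intro v hv
    rw [toEnd_apply] at hv
    have := hfpf v.toMul (by simpa using congrArg Additive.toMul hv)
    simpa using congrArg Additive.ofMul this
  obtain ⟨h1, h2⟩ := exists_equiv_of_primitive (V := Additive P) hpq (toEnd hexp X) hφq hfpf' hprim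
  constructor
  · intro v w hv hw
    obtain ⟨T, hT, hTv⟩ := h1 (Additive.ofMul v) (Additive.ofMul w)
      (fun h => hv (by simpa using congrArg Additive.toMul h))
      (fun h => hw (by simpa using congrArg Additive.toMul h))
    refine ⟨MulEquiv.toAdditive.symm T, ?_, ?_⟩
    · intro u
      have := hT (Additive.ofMul u)
      rw [toEnd_apply, toEnd_apply] at this
      exact congrArg Additive.toMul this
    · exact congrArg Additive.toMul hTv
  · intro k hk
    obtain ⟨T, hT⟩ := h2 k hk
    refine ⟨MulEquiv.toAdditive.symm T, ?_⟩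
    intro u
    have := hT (Additive.ofMul u)
    rw [toEnd_pow, toEnd_apply, toEnd_apply] at this
    exact congrArg Additive.toMul this

end Mul

end Cfsg.Agent.Lib.H20.AO
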