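import Mathlib

/-!
# Extending automorphisms of the factors of a semidirect decomposition
-/

set_option autoImplicit false

namespace Cfsg.Agent.Lib.H20.AO

open SemidirectProduct

theorem exists_aut_of_compat {G : Type*} [Group G] (P Q : Subgroup G) [P.Normal]
    (hc : P.IsComplement' Q) (T : ↥P ≃* ↥P) (κ : ↥Q ≃* ↥Q)
    (hcompat : ∀ (z : ↥Q) (u : ↥P),
      ((T ⟨(z : G) * u * (z : G)⁻¹, ‹P.Normal›.conj_mem u u.2 z⟩ : ↥P) : G) =
        (κ z : G) * (T u : G) * (κ z : G)⁻¹) :
    ∃ θ : G ≃* G, (∀ u : ↥P, θ u = T u) ∧ (∀ z : ↥Q, θ z = κ z) := by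
  let e := SemidirectProduct.mulEquivSubgroup hc
  have hcond : ∀ g : ↥Q,
      (((P.normalizerMonoidHom).comp (Subgroup.inclusion (P.normalizer_eq_top ▸ le_top))) g).trans T =
        T.trans (((P.normalizerMonoidHom).comp
          (Subgroup.inclusion (P.normalizer_eq_top ▸ le_top))) (κ g)) := by
    intro g
    ext u
    simp only [MulEquiv.trans_apply, MonoidHom.comp_apply,
      Subgroup.normalizerMonoidHom_apply_apply_coe, Subgroup.coe_inclusion]
    rw [← hcompat g u]
    rfl
  let c := SemidirectProduct.congr T κ hcond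
  refine ⟨e.symm.trans (c.trans e), ?_, ?_⟩
  · intro u
    have h1 : e.symm (u : G) = inl u := by
      rw [MulEquiv.symm_apply_eq]
      simp [e]
    rw [MulEquiv.trans_apply, h1, MulEquiv.trans_apply]
    simp [e, c]
  · intro z
    have h1 : e.symm (z : G) = inr z := by
      rw [MulEquiv.symm_apply_eq]
      simp [e]
    rw [MulEquiv.trans_apply, h1, MulEquiv.trans_apply]
    simp [e, c]

end Cfsg.Agent.Lib.H20.AO
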