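import Mathlib
import Cfsg.Agent.Lib.H20.AutOrb8
import Cfsg.Agent.Lib.H20.AutOrb9

/-!
# The group-theoretic setting `G = P ⋊ ⟨x⟩`
-/

set_option autoImplicit false

namespace Cfsg.Agent.Lib.H20.AO

open Subgroup

variable {G : Type*} [Group G]

/-- `P` is an abelian normal subgroup of exponent `p`, complemented by `⟨x⟩` of prime order `q`
acting without fixed points. -/
structure Setting (p q : ℕ) (P : Subgroup G) (x : G) : Prop where
  comm : ∀ a ∈ P, ∀ b ∈ P, a * b = b * a
  exp : ∀ a ∈ P, a ^ p = 1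
  ordx : orderOf x = q
  card : Nat.card G = Nat.card P * q
  cop : (Nat.card P).Coprime q
  fpf : ∀ u ∈ P, x * u * x⁻¹ = u → u = 1

namespace Setting

variable {p q : ℕ} [hp : Fact p.Prime] [hq : Fact q.Prime] {P : Subgroup G} [hN : P.Normal] {x : G}

/-- the commutative group structure on `P` -/
@[reducible] def commGroup (S : Setting p q P x) : CommGroup ↥P :=
  { (inferInstance : Group ↥P) with
    mul_comm := fun a b => Subtype.ext (S.comm a a.2 b b.2) }

omit hp hq hN in
theorem card_zpowers (S : Setting p q P x) : Nat.card (zpowers x) = q := by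
  rw [Nat.card_zpowers, S.ordx]

omit hp hq hN in
theorem isComplement' [Finite G] (S : Setting p q P x) : P.IsComplement' (zpowers x) := by
  apply isComplement'_of_coprime
  · rw [S.card_zpowers, S.card]
  · rw [S.card_zpowers]; exact S.cop

omit hp hq in
theorem exists_mul [Finite G] (S : Setting p q P x) (g : G) :
    ∃ u ∈ P, ∃ z ∈ zpowers x, g = u * z := by
  have h1 : g ∈ P ⊔ zpowers x := by rw [S.isComplement'.sup_eq_top]; trivial
  rw [← SetLike.mem_coe, normal_mul] at h1
  obtain ⟨u, hu, z, hz, rfl⟩ := h1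
  exact ⟨u, hu, z, hz, rfl⟩

omit hp hq in
theorem exists_mul' [Finite G] (S : Setting p q P x) (g : G) :
    ∃ z ∈ zpowers x, ∃ u ∈ P, g = z * u := by
  obtain ⟨u, hu, z, hz, h⟩ := S.exists_mul g⁻¹
  refine ⟨z⁻¹, inv_mem hz, u⁻¹, inv_mem hu, ?_⟩
  rw [← mul_inv_rev, ← h, inv_inv]

omit hp in
theorem index_eq [Finite G] (S : Setting p q P x) : P.index = q := by
  have h1 := P.card_mul_index
  rw [S.card] at h1
  have hpos : 0 < Nat.card P := Nat.card_pos
  exact Nat.eq_of_mul_eq_mul_left hpos h1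

theorem mem_of_pow_eq_one [Finite G] (S : Setting p q P x) {g : G} (hg : g ^ p = 1)
    (hpq : p ≠ q) : g ∈ P := by
  rw [← QuotientGroup.eq_one_iff]
  have h1 : ((g : G ⧸ P)) ^ p = 1 := by
    rw [← QuotientGroup.mk_pow, hg]; rfl
  have h2 : ((g : G ⧸ P)) ^ q = 1 := by
    have := pow_card_eq_one' (G := G ⧸ P) (x := (g : G ⧸ P))
    rwa [← Subgroup.index_eq_card, S.index_eq] at this
  have h3 := orderOf_dvd_of_pow_eq_one h1
  have h4 := orderOf_dvd_of_pow_eq_one h2
  have h5 : orderOf (g : G ⧸ P) ∣ Nat.gcd p q := Nat.dvd_gcd h3 h4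
  rw [(Nat.coprime_primes hp.out hq.out).mpr hpq] at h5
  exact orderOf_eq_one_iff.mp (Nat.dvd_one.mp h5)

omit hp hq hN in
theorem pow_eq_one_of_mem (S : Setting p q P x) {g : G} (hg : g ∈ P) : g ^ p = 1 := S.exp g hg

/-- restriction of an automorphism of `G` to `P` -/
noncomputable def restrict [Finite G] (S : Setting p q P x) (hpq : p ≠ q) (θ : MulAut G) : ↥P ≃* ↥P where
  toFun u := ⟨θ u, S.mem_of_pow_eq_one (by rw [← map_pow, S.exp u u.2, map_one]) hpq⟩
  invFun u := ⟨θ.symm u, S.mem_of_pow_eq_one (by rw [← map_pow, S.exp u u.2, map_one]) hpq⟩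
  left_inv u := by simp
  right_inv u := by simp
  map_mul' a b := by simp

theorem restrict_apply [Finite G] (S : Setting p q P x) (hpq : p ≠ q) (θ : MulAut G) (u : ↥P) :
    ((S.restrict hpq θ u : ↥P) : G) = θ u := rfl

/-- conjugation by `x` on `P` -/
noncomputable def X (_S : Setting p q P x) : MulAut ↥P := MulAut.conjNormal x

omit hp hq in
theorem X_pow (S : Setting p q P x) (k : ℕ) : S.X ^ k = MulAut.conjNormal (x ^ k) := by
  unfold X; rw [map_pow]

omit hp hq in
theorem X_apply (S : Setting p q P x) (u : ↥P) : ((S.X u : ↥P) : G) = x * u * x⁻¹ := by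
  unfold X; rw [MulAut.conjNormal_apply]

omit hp hq in
theorem X_pow_apply (S : Setting p q P x) (k : ℕ) (u : ↥P) :
    (((S.X ^ k) u : ↥P) : G) = x ^ k * u * (x ^ k)⁻¹ := by
  rw [S.X_pow, MulAut.conjNormal_apply]

omit hp hq in
theorem X_pow_q (S : Setting p q P x) : S.X ^ q = 1 := by
  rw [S.X_pow, ← S.ordx, pow_orderOf_eq_one, map_one]

omit hp hq in
theorem X_fpf (S : Setting p q P x) (u : ↥P) (h : S.X u = u) : u = 1 := by
  have h1 := congrArg Subtype.val h
  rw [S.X_apply] at h1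
  exact Subtype.ext (S.fpf u u.2 h1)

end Setting

end Cfsg.Agent.Lib.H20.AO
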