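import Mathlib
import Cfsg.Agent.Lib.H20.AutOrb10

/-!
# Automorphisms of `G = P ⋊ ⟨x⟩` when `p` is a primitive root mod `q`
-/

set_option autoImplicit false

namespace Cfsg.Agent.Lib.H20.AO

open Subgroup

variable {G : Type*} [Group G]

/-- the `k`-th power automorphism of a cyclic subgroup of order prime to `k` -/
noncomputable def zpowersPowEquiv (x : G) (k : ℕ) (hk : (Nat.card (zpowers x)).Coprime k) :
    ↥(zpowers x) ≃* ↥(zpowers x) :=
  MulEquiv.ofBijective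
    ({ toFun := fun z => z ^ k
       map_one' := one_pow k
       map_mul' := fun a b => (show Commute a b from mul_comm' a b).mul_pow k } :
      ↥(zpowers x) →* ↥(zpowers x))
    hk.pow_left_bijective

theorem zpowersPowEquiv_apply (x : G) (k : ℕ) (hk : (Nat.card (zpowers x)).Coprime k)
    (z : ↥(zpowers x)) : zpowersPowEquiv x k hk z = z ^ k := rfl

theorem mulAut_map_pow_apply {P : Type*} [Group P] (T : P ≃* P) (X Y : MulAut P)
    (h : ∀ u, T (X u) = Y (T u)) (n : ℕ) (u : P) : T ((X ^ n) u) = (Y ^ n) (T u) := by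
  induction n generalizing u with
  | zero => simp
  | succ n ih =>
    rw [pow_succ, pow_succ, MulAut.mul_apply, MulAut.mul_apply, ih, h]

namespace Setting

variable {p q : ℕ} [hp : Fact p.Prime] [hq : Fact q.Prime] {P : Subgroup G} [hN : P.Normal] {x : G}

omit hp in
theorem exists_aut_of_semilinear [Finite G] (S : Setting p q P x) {k : ℕ} (hk : ¬ q ∣ k)
    (T : ↥P ≃* ↥P) (hT : ∀ u, T (S.X u) = (S.X ^ k) (T u)) :
    ∃ θ : MulAut G, θ x = x ^ k ∧ ∀ u : ↥P, θ u = T u := by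
  have hcop : (Nat.card (zpowers x)).Coprime k := by
    rw [S.card_zpowers]
    exact (Nat.Prime.coprime_iff_not_dvd hq.out).mpr hk
  have hcompat : ∀ (z : ↥(zpowers x)) (u : ↥P),
      ((T ⟨(z : G) * u * (z : G)⁻¹, hN.conj_mem u u.2 z⟩ : ↥P) : G) =
        ((zpowersPowEquiv x k hcop) z : G) * (T u : G) * ((zpowersPowEquiv x k hcop) z : G)⁻¹ := by
    intro z u
    obtain ⟨i, hi⟩ : ∃ i : ℕ, x ^ i = (z : G) := by
      have := z.2
      rw [← mem_powers_iff_mem_zpowers, Submonoid.mem_powers_iff] at this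
      exact this
    have h1 : (⟨(z : G) * u * (z : G)⁻¹, hN.conj_mem u u.2 z⟩ : ↥P) = (S.X ^ i) u := by
      apply Subtype.ext
      rw [S.X_pow_apply, hi]
    rw [h1, mulAut_map_pow_apply T S.X (S.X ^ k) hT, ← pow_mul, S.X_pow_apply,
      zpowersPowEquiv_apply, Subgroup.coe_pow, ← hi, ← pow_mul, mul_comm k i]
  obtain ⟨θ, hθ1, hθ2⟩ := exists_aut_of_compat P (zpowers x) S.isComplement' T
    (zpowersPowEquiv x k hcop) hcompat
  refine ⟨θ, ?_, hθ1⟩
  have := hθ2 ⟨x, mem_zpowers x⟩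
  rw [zpowersPowEquiv_apply] at this
  simpa using this

theorem exists_aut_pow [Finite G] (S : Setting p q P x) (hpq : p ≠ q)
    (hprim : orderOf ((p : ℕ) : ZMod q) = q - 1) {k : ℕ} (hk : ¬ q ∣ k) :
    ∃ θ : MulAut G, θ x = x ^ k := by
  letI := S.commGroup
  obtain ⟨-, h2⟩ := mul_transitive_of_primitive (P := ↥P) hpq
    (fun a => Subtype.ext (S.exp a a.2)) S.X S.X_pow_q S.X_fpf hprim
  obtain ⟨T, hT⟩ := h2 k hk
  obtain ⟨θ, hθ, -⟩ := S.exists_aut_of_semilinear hk T hT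
  exact ⟨θ, hθ⟩

theorem exists_aut_map [Finite G] (S : Setting p q P x) (hpq : p ≠ q)
    (hprim : orderOf ((p : ℕ) : ZMod q) = q - 1) {v w : G} (hv : v ∈ P) (hv1 : v ≠ 1)
    (hw : w ∈ P) (hw1 : w ≠ 1) : ∃ θ : MulAut G, θ v = w := by
  letI := S.commGroup
  obtain ⟨h1, -⟩ := mul_transitive_of_primitive (P := ↥P) hpq
    (fun a => Subtype.ext (S.exp a a.2)) S.X S.X_pow_q S.X_fpf hprim
  obtain ⟨T, hT, hTv⟩ := h1 ⟨v, hv⟩ ⟨w, hw⟩ (fun h => hv1 (congrArg Subtype.val h))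
    (fun h => hw1 (congrArg Subtype.val h))
  have hk : ¬ q ∣ 1 := fun h => hq.out.one_lt.ne' (Nat.dvd_one.mp h)
  obtain ⟨θ, -, hθ⟩ := S.exists_aut_of_semilinear hk T (by simpa using hT)
  refine ⟨θ, ?_⟩
  have := hθ ⟨v, hv⟩
  rw [hTv] at this
  exact this

end Setting

end Cfsg.Agent.Lib.H20.AO
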