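import Mathlib

/-!
# Counting automorphism orbits
-/

set_option autoImplicit false

namespace Cfsg.Agent.Lib.H20.AO

variable {G : Type*} [Group G]

theorem orbit_mk_eq_iff (g h : G) :
    (Quotient.mk'' g : MulAction.orbitRel.Quotient (MulAut G) G) = Quotient.mk'' h ↔
      ∃ θ : MulAut G, θ h = g := by
  rw [Quotient.eq'', MulAction.orbitRel_apply, MulAction.mem_orbit_iff]
  rfl

theorem orderOf_eq_of_orbit_mk_eq {g h : G}
    (e : (Quotient.mk'' g : MulAction.orbitRel.Quotient (MulAut G) G) = Quotient.mk'' h) :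
    orderOf g = orderOf h := by
  obtain ⟨θ, rfl⟩ := (orbit_mk_eq_iff g h).mp e
  exact MulEquiv.orderOf_eq θ h

theorem card_orbits_eq_three [Finite G] {p q : ℕ} (hp : p.Prime) (hq : q.Prime) (hpq : p ≠ q)
    (a b : G) (ha : orderOf a = p) (hb : orderOf b = q)
    (hord : ∀ g : G, orderOf g = 1 ∨ orderOf g = p ∨ orderOf g = q)
    (hp_trans : ∀ g, orderOf g = p → ∃ θ : MulAut G, θ a = g)
    (hq_trans : ∀ g, orderOf g = q → ∃ θ : MulAut G, θ b = g) :
    Nat.card (MulAction.orbitRel.Quotient (MulAut G) G) = 3 := by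
  classical
  haveI : Fintype (MulAction.orbitRel.Quotient (MulAut G) G) := Fintype.ofFinite _
  rw [Nat.card_eq_fintype_card, ← Finset.card_univ, Finset.card_eq_three]
  refine ⟨Quotient.mk'' 1, Quotient.mk'' a, Quotient.mk'' b, ?_, ?_, ?_, ?_⟩
  · intro e
    have := orderOf_eq_of_orbit_mk_eq e
    rw [orderOf_one, ha] at this
    exact hp.one_lt.ne this
  · intro e
    have := orderOf_eq_of_orbit_mk_eq e
    rw [orderOf_one, hb] at this
    exact hq.one_lt.ne this
  · intro e
    have := orderOf_eq_of_orbit_mk_eq e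
    rw [ha, hb] at this
    exact hpq this
  · ext c
    simp only [Finset.mem_univ, Finset.mem_insert, Finset.mem_singleton, true_iff]
    refine Quotient.inductionOn' c (fun g => ?_)
    rcases hord g with h | h | h
    · left
      rw [orderOf_eq_one_iff.mp h]
    · right; left
      exact (orbit_mk_eq_iff g a).mpr (hp_trans g h)
    · right; right
      exact (orbit_mk_eq_iff g b).mpr (hq_trans g h)

theorem cases_of_card_orbits_eq_three [Finite G]
    (h3 : Nat.card (MulAction.orbitRel.Quotient (MulAut G) G) = 3) (a b : G)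
    (hab : orderOf a ≠ orderOf b) (ha : a ≠ 1) (hb : b ≠ 1) (g : G) :
    g = 1 ∨ (∃ θ : MulAut G, θ a = g) ∨ (∃ θ : MulAut G, θ b = g) := by
  classical
  haveI : Fintype (MulAction.orbitRel.Quotient (MulAut G) G) := Fintype.ofFinite _
  set s : Finset (MulAction.orbitRel.Quotient (MulAut G) G) :=
    {Quotient.mk'' 1, Quotient.mk'' a, Quotient.mk'' b} with hs
  have h1a : (Quotient.mk'' 1 : MulAction.orbitRel.Quotient (MulAut G) G) ≠ Quotient.mk'' a := by
    intro e
    have := orderOf_eq_of_orbit_mk_eq e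
    rw [orderOf_one] at this
    exact ha (orderOf_eq_one_iff.mp this.symm)
  have h1b : (Quotient.mk'' 1 : MulAction.orbitRel.Quotient (MulAut G) G) ≠ Quotient.mk'' b := by
    intro e
    have := orderOf_eq_of_orbit_mk_eq e
    rw [orderOf_one] at this
    exact hb (orderOf_eq_one_iff.mp this.symm)
  have hab' : (Quotient.mk'' a : MulAction.orbitRel.Quotient (MulAut G) G) ≠ Quotient.mk'' b :=
    fun e => hab (orderOf_eq_of_orbit_mk_eq e)
  have hcard : s.card = 3 := by
    rw [hs, Finset.card_eq_three]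
    exact ⟨_, _, _, h1a, h1b, hab', rfl⟩
  have huniv : s = Finset.univ := by
    apply Finset.eq_univ_of_card
    rw [hcard, ← Nat.card_eq_fintype_card, h3]
  have hg : (Quotient.mk'' g : MulAction.orbitRel.Quotient (MulAut G) G) ∈ s := by
    rw [huniv]; exact Finset.mem_univ _
  rw [hs, Finset.mem_insert, Finset.mem_insert, Finset.mem_singleton] at hg
  rcases hg with h | h | h
  · left
    obtain ⟨θ, hθ⟩ := (orbit_mk_eq_iff g 1).mp h
    rw [map_one] at hθ
    exact hθ.symm
  · right; left
    exact (orbit_mk_eq_iff g a).mp h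
  · right; right
    exact (orbit_mk_eq_iff g b).mp h

end Cfsg.Agent.Lib.H20.AO
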