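import Mathlib
import Cfsg.Agent.Lib.H20.AutOrb11
import Cfsg.Agent.Lib.H20.AutOrb12

/-!
# Three automorphism orbits from the structure
-/

set_option autoImplicit false

namespace Cfsg.Agent.Lib.H20.AO

open Subgroup

variable {G : Type*} [Group G]

theorem factorization_pow_mul_left {p q n : ℕ} (hp : p.Prime) (hq : q.Prime) (hpq : p ≠ q) :
    (p ^ n * q).factorization p = n := by
  rw [Nat.factorization_mul (pow_ne_zero _ hp.ne_zero) hq.ne_zero, Nat.factorization_pow,
    hp.factorization, hq.factorization]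
  simp [Finsupp.single_apply, hpq.symm]

theorem factorization_pow_mul_right {p q n : ℕ} (hp : p.Prime) (hq : q.Prime) (hpq : p ≠ q) :
    (p ^ n * q).factorization q = 1 := by
  rw [Nat.factorization_mul (pow_ne_zero _ hp.ne_zero) hq.ne_zero, Nat.factorization_pow,
    hp.factorization, hq.factorization]
  simp [Finsupp.single_apply, hpq]

/-- any element of order `q` is conjugate into `⟨x⟩` when `|G| = p^n q` -/
theorem exists_conj_mem_zpowers [Finite G] {p q n : ℕ} [hp : Fact p.Prime] [hq : Fact q.Prime]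
    (hpq : p ≠ q) (hcard : Nat.card G = p ^ n * q) {x g : G} (hx : orderOf x = q)
    (hg : orderOf g = q) : ∃ c : G, c * g * c⁻¹ ∈ zpowers x := by
  have hpg : ∀ y : G, orderOf y = q → IsPGroup q (zpowers y) := by
    intro y hy
    apply IsPGroup.of_card (n := 1)
    rw [Nat.card_zpowers, hy, pow_one]
  obtain ⟨Sg, hSg⟩ := (hpg g hg).exists_le_sylow
  obtain ⟨Sx, hSx⟩ := (hpg x hx).exists_le_sylow
  have hSxc : Nat.card Sx = q := by
    rw [Sylow.card_eq_multiplicity, hcard, factorization_pow_mul_right hp.out hq.out hpq, pow_one]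
  have hSxeq : zpowers x = (Sx : Subgroup G) := by
    apply Subgroup.eq_of_le_of_card_ge hSx
    rw [Nat.card_zpowers, hx]
    exact hSxc.le
  obtain ⟨c, hc⟩ := MulAction.exists_smul_eq G Sg Sx
  have hc' : (Sx : Subgroup G) = (Sg : Subgroup G).map (MulAut.conj c).toMonoidHom := by
    rw [← hc]; rfl
  refine ⟨c, ?_⟩
  rw [hSxeq, hc']
  exact Subgroup.mem_map.mpr ⟨g, hSg (mem_zpowers g), by simp [MulAut.conj_apply]⟩

theorem three_orbits_of_structure [Finite G] {p q n : ℕ} [hp : Fact p.Prime] [hq : Fact q.Prime]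
    (hpq : p ≠ q) (hn : 1 ≤ n) (hcard : Nat.card G = p ^ n * q)
    (hS : ∀ P : Sylow p G, (P : Subgroup G).Normal ∧
      (∀ a ∈ (P : Subgroup G), ∀ b ∈ (P : Subgroup G), a * b = b * a) ∧
      ∀ a ∈ (P : Subgroup G), a ^ p = 1)
    (hprim : orderOf ((p : ℕ) : ZMod q) = q - 1)
    (hnc : ∀ x y : G, orderOf x = q → orderOf y = p → x * y * x⁻¹ ≠ y) :
    Nat.card (MulAction.orbitRel.Quotient (MulAut G) G) = 3 := by
  obtain ⟨P0⟩ : Nonempty (Sylow p G) := inferInstance
  obtain ⟨hnorm, hcomm, hexp⟩ := hS P0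
  set P : Subgroup G := (P0 : Subgroup G) with hP
  haveI : P.Normal := hnorm
  have hPcard : Nat.card P = p ^ n := by
    rw [hP, Sylow.card_eq_multiplicity, hcard, factorization_pow_mul_left hp.out hq.out hpq]
  obtain ⟨x, hx⟩ := exists_prime_orderOf_dvd_card' (G := G) q (by rw [hcard]; exact dvd_mul_left _ _)
  have hordP : ∀ u ∈ P, u ≠ 1 → orderOf u = p := by
    intro u hu hu1
    exact orderOf_eq_prime (hexp u hu) hu1
  have S : Setting p q P x :=
    { comm := hcomm
      exp := hexp
      ordx := hx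
      card := by rw [hPcard, hcard]
      cop := by
        rw [hPcard]
        exact Nat.Coprime.pow_left _ ((Nat.coprime_primes hp.out hq.out).mpr hpq)
      fpf := by
        intro u hu hfix
        by_contra hu1
        exact hnc x u hx (hordP u hu hu1) hfix }
  obtain ⟨v0, hv0⟩ := exists_prime_orderOf_dvd_card' (G := ↥P) p (by
    rw [hPcard]; exact dvd_pow_self p (by omega))
  have hv0' : orderOf (v0 : G) = p := by rw [Subgroup.orderOf_coe]; exact hv0
  have hv01 : (v0 : G) ≠ 1 := by
    intro h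
    rw [h, orderOf_one] at hv0'
    exact hp.out.one_lt.ne hv0'
  have hord : ∀ g : G, orderOf g = 1 ∨ orderOf g = p ∨ orderOf g = q := by
    intro g
    have hgq : g ^ q ∈ P := by
      rw [← QuotientGroup.eq_one_iff, QuotientGroup.mk_pow]
      have := pow_card_eq_one' (G := G ⧸ P) (x := (g : G ⧸ P))
      rwa [← Subgroup.index_eq_card, S.index_eq] at this
    by_cases h1 : g ^ q = 1
    · rcases (Nat.dvd_prime hq.out).mp (orderOf_dvd_of_pow_eq_one h1) with h | h
      · exact Or.inl h
      · exact Or.inr (Or.inr h)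
    · have hh := hordP _ hgq h1
      have hy : (g ^ p) ^ q = 1 := by
        rw [← pow_mul, mul_comm, pow_mul, hexp _ hgq]
      rcases (Nat.dvd_prime hq.out).mp (orderOf_dvd_of_pow_eq_one hy) with h | h
      · have h2 : g ^ p = 1 := orderOf_eq_one_iff.mp h
        rcases (Nat.dvd_prime hp.out).mp (orderOf_dvd_of_pow_eq_one h2) with h' | h'
        · exact Or.inl h'
        · exact Or.inr (Or.inl h')
      · exfalso
        apply hnc (g ^ p) (g ^ q) h hh
        have hc : Commute (g ^ p) (g ^ q) := (Commute.refl g).pow_pow p q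
        rw [hc.eq, mul_inv_cancel_right]
  apply card_orbits_eq_three hp.out hq.out hpq (v0 : G) x hv0' hx hord
  · intro g hg
    have hg1 : g ≠ 1 := by
      intro h
      rw [h, orderOf_one] at hg
      exact hp.out.one_lt.ne hg
    have hgP : g ∈ P := S.mem_of_pow_eq_one (by rw [← hg]; exact pow_orderOf_eq_one g) hpq
    exact S.exists_aut_map hpq hprim v0.2 hv01 hgP hg1
  · intro g hg
    obtain ⟨c, hc⟩ := exists_conj_mem_zpowers hpq hcard hx hg
    rw [← mem_powers_iff_mem_zpowers, Submonoid.mem_powers_iff] at hc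
    obtain ⟨k, hk⟩ := hc
    have hkq : ¬ q ∣ k := by
      intro hd
      have h1 : x ^ k = 1 := by
        rw [← hx] at hd
        exact orderOf_dvd_iff_pow_eq_one.mp hd
      rw [h1] at hk
      have h2 : g = 1 := by
        have := congrArg (fun y => c⁻¹ * y * c) hk
        simp only [mul_one, inv_mul_cancel] at this
        rw [this]; group
      rw [h2, orderOf_one] at hg
      exact hq.out.one_lt.ne hg
    obtain ⟨θ, hθ⟩ := S.exists_aut_pow hpq hprim hkq
    refine ⟨MulAut.conj c⁻¹ * θ, ?_⟩
    rw [MulAut.mul_apply, hθ, hk, MulAut.conj_apply]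
    group

end Cfsg.Agent.Lib.H20.AO
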