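import Mathlib
import Cfsg.Agent.Lib.H20.AutOrb13
import Cfsg.Agent.Lib.H1.FpfAction

/-!
# Structure from three automorphism orbits: the core
-/

set_option autoImplicit false

namespace Cfsg.Agent.Lib.H20.AO

open Subgroup

variable {G : Type*} [Group G]

theorem not_commute_of_orders {p q : ℕ} (hp : p.Prime) (hq : q.Prime) (hpq : p ≠ q)
    (hord : ∀ g : G, orderOf g = 1 ∨ orderOf g = p ∨ orderOf g = q) {x y : G}
    (hx : orderOf x = q) (hy : orderOf y = p) : ¬ Commute x y := by
  intro hc
  have h1 : orderOf (x * y) = q * p := by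
    rw [hc.orderOf_mul_eq_mul_orderOf_of_coprime, hx, hy]
    rw [hx, hy]
    exact (Nat.coprime_primes hq hp).mpr hpq.symm
  have hp2 := hp.two_le
  have hq2 := hq.two_le
  rcases hord (x * y) with h | h | h
  · rw [h1] at h; nlinarith
  · rw [h1] at h; nlinarith
  · rw [h1] at h; nlinarith

/-- the subgroup of elements of order dividing `p`, when these all lie in an abelian subgroup -/
def powSubgroup (p : ℕ) (D : Subgroup G) (hDc : ∀ a ∈ D, ∀ b ∈ D, a * b = b * a)
    (hpowD : ∀ g : G, g ^ p = 1 → g ∈ D) : Subgroup G where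
  carrier := {g | g ^ p = 1}
  mul_mem' := by
    intro a b ha hb
    have hc : Commute a b := hDc a (hpowD a ha) b (hpowD b hb)
    change (a * b) ^ p = 1
    rw [hc.mul_pow, ha, hb, one_mul]
  one_mem' := one_pow p
  inv_mem' := by
    intro a ha
    change (a⁻¹) ^ p = 1
    rw [inv_pow, ha, inv_one]

theorem mem_powSubgroup {p : ℕ} {D : Subgroup G} {hDc : ∀ a ∈ D, ∀ b ∈ D, a * b = b * a}
    {hpowD : ∀ g : G, g ^ p = 1 → g ∈ D} {g : G} :
    g ∈ powSubgroup p D hDc hpowD ↔ g ^ p = 1 := Iff.rfl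

theorem structure_core [Finite G] {p q : ℕ} [hp : Fact p.Prime] [hq : Fact q.Prime] (hpq : p ≠ q)
    (hord : ∀ g : G, orderOf g = 1 ∨ orderOf g = p ∨ orderOf g = q)
    (htrans : ∀ g h : G, orderOf g = orderOf h → ∃ θ : MulAut G, θ g = h)
    (D : Subgroup G) (hDc : ∀ a ∈ D, ∀ b ∈ D, a * b = b * a)
    (hDchar : ∀ θ : MulAut G, ∀ d ∈ D, θ d ∈ D)
    (d0 : G) (hd0 : d0 ∈ D) (hd0p : orderOf d0 = p) (x : G) (hx : orderOf x = q) :
    ∃ n : ℕ, 1 ≤ n ∧ Nat.card G = p ^ n * q ∧
      (∀ P : Sylow p G, (P : Subgroup G).Normal ∧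
        (∀ a ∈ (P : Subgroup G), ∀ b ∈ (P : Subgroup G), a * b = b * a) ∧
        ∀ a ∈ (P : Subgroup G), a ^ p = 1) ∧
      orderOf ((p : ℕ) : ZMod q) = q - 1 ∧
      ∀ x y : G, orderOf x = q → orderOf y = p → x * y * x⁻¹ ≠ y := by
  have hp2 := hp.out.two_le
  have hq2 := hq.out.two_le
  have hpowD : ∀ g : G, g ^ p = 1 → g ∈ D := by
    intro g hg
    rcases (Nat.dvd_prime hp.out).mp (orderOf_dvd_of_pow_eq_one hg) with h | h
    · rw [orderOf_eq_one_iff.mp h]; exact D.one_mem
    · obtain ⟨θ, hθ⟩ := htrans d0 g (by rw [hd0p, h])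
      rw [← hθ]; exact hDchar θ d0 hd0
  set P : Subgroup G := powSubgroup p D hDc hpowD with hP
  have hPmem : ∀ g : G, g ∈ P ↔ g ^ p = 1 := fun g => Iff.rfl
  haveI hPn : P.Normal := by
    refine ⟨fun g hg c => ?_⟩
    rw [hPmem] at hg ⊢
    rw [conj_pow, hg, mul_one, mul_inv_cancel]
  have hPcomm : ∀ a ∈ P, ∀ b ∈ P, a * b = b * a := fun a ha b hb =>
    hDc a (hpowD a ((hPmem a).mp ha)) b (hpowD b ((hPmem b).mp hb))
  have hPexp : ∀ a ∈ P, a ^ p = 1 := fun a ha => (hPmem a).mp ha
  have hPp : IsPGroup p P := by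
    intro g
    refine ⟨1, ?_⟩
    rw [pow_one]
    exact Subtype.ext (hPexp g g.2)
  have hnc : ∀ x y : G, orderOf x = q → orderOf y = p → x * y * x⁻¹ ≠ y := by
    intro x y hx hy hxy
    apply not_commute_of_orders hp.out hq.out hpq hord hx hy
    exact mul_inv_eq_iff_eq_mul.mp hxy
  have hSyl : ∀ S : Sylow p G, (S : Subgroup G) = P := by
    intro S
    have hSP : (S : Subgroup G) ≤ P := by
      intro g hg
      rw [hPmem]
      obtain ⟨k, hk⟩ := S.2 ⟨g, hg⟩
      have hk' : g ^ (p ^ k) = 1 := by simpa using congrArg Subtype.val hk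
      have hdvd := orderOf_dvd_of_pow_eq_one hk'
      rcases hord g with h | h | h
      · rw [orderOf_eq_one_iff.mp h, one_pow]
      · rw [← h]; exact pow_orderOf_eq_one g
      · exfalso
        rw [h] at hdvd
        have := (Nat.prime_dvd_prime_iff_eq hq.out hp.out).mp (hq.out.dvd_of_dvd_pow hdvd)
        exact hpq this.symm
    exact (S.is_maximal' hPp hSP).symm
  have hd0P : d0 ∈ P := by rw [hPmem, ← hd0p]; exact pow_orderOf_eq_one d0
  have hd01 : d0 ≠ 1 := by
    intro h; rw [h, orderOf_one] at hd0p; omega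
  have hPbot : P ≠ ⊥ := by
    intro h
    rw [h, Subgroup.mem_bot] at hd0P
    exact hd01 hd0P
  obtain ⟨n, hn⟩ := hPp.exists_card_eq
  have hn1 : 1 ≤ n := by
    rcases Nat.eq_zero_or_pos n with h | h
    · exfalso
      rw [h, pow_zero] at hn
      exact hPbot ((Subgroup.card_eq_one).mp hn)
    · exact h
  -- the index of P is a power of q
  obtain ⟨S0⟩ : Nonempty (Sylow p G) := inferInstance
  have hidx_p : ¬ p ∣ P.index := by
    rw [← hSyl S0]; exact S0.not_dvd_index
  have hidx : ∃ b : ℕ, P.index = q ^ b := by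
    refine ⟨_, Nat.eq_prime_pow_of_unique_prime_dvd (Subgroup.index_ne_zero_of_finite) ?_⟩
    intro r hr hrd
    haveI : Fact r.Prime := ⟨hr⟩
    have hrG : r ∣ Nat.card G := dvd_trans hrd (Subgroup.index_dvd_card P)
    obtain ⟨y, hy⟩ := exists_prime_orderOf_dvd_card' (G := G) r hrG
    rcases hord y with h | h | h
    · rw [hy] at h; exact absurd h hr.one_lt.ne'
    · rw [hy] at h; exact absurd (h ▸ hrd) hidx_p
    · rw [hy] at h; exact h
  obtain ⟨b, hb⟩ := hidx
  have hcardG : Nat.card G = p ^ n * q ^ b := by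
    rw [← P.card_mul_index, hn, hb]
  -- b = 1
  have hxP : x ∉ P := by
    intro h
    have h1 := hPexp x h
    have := orderOf_dvd_of_pow_eq_one h1
    rw [hx] at this
    exact hpq ((Nat.prime_dvd_prime_iff_eq hq.out hp.out).mp this).symm
  have hb0 : b ≠ 0 := by
    intro h
    rw [h, pow_zero] at hb
    have : P = ⊤ := Subgroup.index_eq_one.mp hb
    exact hxP (this ▸ Subgroup.mem_top x)
  have hb1 : b = 1 := by
    by_contra hne
    have hb2 : 2 ≤ b := by omega
    have hdvd : q ^ 2 ∣ Nat.card G := by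
      rw [hcardG]
      exact dvd_mul_of_dvd_right (pow_dvd_pow q hb2) _
    obtain ⟨E, hE⟩ := Sylow.exists_subgroup_card_pow_prime q hdvd
    haveI : IsMulCommutative P := ⟨⟨fun a b => Subtype.ext (hPcomm a a.2 b b.2)⟩⟩
    have hEord : ∀ a ∈ E, a ≠ 1 → orderOf a = q := by
      intro a ha ha1
      have h1 : orderOf a ∣ q ^ 2 := by
        have := orderOf_dvd_natCard (⟨a, ha⟩ : E)
        rw [hE] at this
        rwa [← Subgroup.orderOf_mk a ha]
      rcases hord a with h | h | h
      · exact absurd (orderOf_eq_one_iff.mp h) ha1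
      · exfalso
        rw [h] at h1
        exact hpq ((Nat.prime_dvd_prime_iff_eq hp.out hq.out).mp (hp.out.dvd_of_dvd_pow h1))
      · exact h
    have hfpf : ∀ a ∈ E, a ≠ 1 → P ⊓ Subgroup.centralizer {a} = ⊥ := by
      intro a ha ha1
      rw [eq_bot_iff]
      intro u hu
      rw [Subgroup.mem_bot]
      by_contra hu1
      obtain ⟨huP, huC⟩ := hu
      have hup : orderOf u = p := orderOf_eq_prime (hPexp u huP) hu1
      apply not_commute_of_orders hp.out hq.out hpq hord (hEord a ha ha1) hup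
      have huC' : u ∈ Subgroup.centralizer {a} := huC
      rw [Subgroup.mem_centralizer_iff] at huC'
      exact huC' a (Set.mem_singleton a)
    have hcyc := Cfsg.Agent.Lib.H1.isCyclic_of_fpf_of_card_pq (A := E) (V := P) hPbot
      (by rw [Subgroup.normalizer_eq_top]; exact le_top) hfpf hq.out hq.out (by rw [hE, sq])
    obtain ⟨e, he⟩ := hcyc.exists_generator
    have heo : orderOf e = q ^ 2 := by
      rw [orderOf_eq_card_of_forall_mem_zpowers he, hE]
    have heo' : orderOf (e : G) = q ^ 2 := by rw [Subgroup.orderOf_coe]; exact heo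
    rcases hord (e : G) with h | h | h
    · rw [heo'] at h; nlinarith
    · rw [heo'] at h
      have : q ∣ p := by rw [← h]; exact dvd_pow_self q (by norm_num)
      exact hpq ((Nat.prime_dvd_prime_iff_eq hq.out hp.out).mp this).symm
    · rw [heo'] at h; nlinarith
  rw [hb1, pow_one] at hcardG hb
  have S : Setting p q P x :=
    { comm := hPcomm
      exp := hPexp
      ordx := hx
      card := by rw [hn, hcardG]
      cop := by
        rw [hn]
        exact Nat.Coprime.pow_left _ ((Nat.coprime_primes hp.out hq.out).mpr hpq)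
      fpf := by
        intro u hu hfix
        by_contra hu1
        exact hnc x u hx (orderOf_eq_prime (hPexp u hu) hu1) hfix }
  refine ⟨n, hn1, hcardG, ?_, ?_, hnc⟩
  · intro S'
    rw [hSyl S']
    exact ⟨hPn, hPcomm, hPexp⟩
  · letI := S.commGroup
    haveI : Finite ↥P := inferInstance
    apply mul_primitive_of_transitive (P := ↥P) hpq (fun a => Subtype.ext (S.exp a a.2)) S.X
      S.X_pow_q S.X_fpf ⟨⟨d0, hd0P⟩, fun h => hd01 (congrArg Subtype.val h)⟩
    · -- hT1
      intro v w hv hw
      have hv1 : (v : G) ≠ 1 := fun h => hv (Subtype.ext h)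
      have hw1 : (w : G) ≠ 1 := fun h => hw (Subtype.ext h)
      have hvo : orderOf (v : G) = p := orderOf_eq_prime (hPexp v v.2) hv1
      have hwo : orderOf (w : G) = p := orderOf_eq_prime (hPexp w w.2) hw1
      obtain ⟨θ, hθ⟩ := htrans v w (by rw [hvo, hwo])
      have hθx : orderOf (θ x) = q := by rw [MulEquiv.orderOf_eq θ x, hx]
      obtain ⟨c, hc⟩ := exists_conj_mem_zpowers hpq hcardG hx hθx
      obtain ⟨z, hz, u, hu, hcz⟩ := S.exists_mul' c
      have hu' : u * θ x * u⁻¹ ∈ zpowers x := by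
        have h1 : u * θ x * u⁻¹ = z⁻¹ * (c * θ x * c⁻¹) * z := by rw [hcz]; group
        rw [h1]
        exact mul_mem (mul_mem (inv_mem hz) hc) hz
      rw [← mem_powers_iff_mem_zpowers, Submonoid.mem_powers_iff] at hu'
      obtain ⟨k, hk⟩ := hu'
      set θ' : MulAut G := MulAut.conj u * θ with hθ'
      have hθ'x : θ' x = x ^ k := by
        rw [hθ', MulAut.mul_apply, MulAut.conj_apply, hk]
      have hkq : ¬ q ∣ k := by
        intro hd
        have h1 : x ^ k = 1 := by
          rw [← hx] at hd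
          exact orderOf_dvd_iff_pow_eq_one.mp hd
        rw [h1] at hθ'x
        have h2 : x = 1 := by
          have := congrArg θ'.symm hθ'x
          simpa using this
        rw [h2, orderOf_one] at hx
        omega
      refine ⟨S.restrict hpq θ', k, hkq, ?_, ?_⟩
      · intro t
        apply Subtype.ext
        rw [S.restrict_apply, S.X_apply, S.X_pow_apply, S.restrict_apply, map_mul, map_mul,
          map_inv, hθ'x]
      · apply Subtype.ext
        rw [S.restrict_apply, hθ', MulAut.mul_apply, MulAut.conj_apply, hθ]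
        rw [hPcomm u hu w w.2, mul_inv_cancel_right]
    · -- hT2
      intro k hk
      have hxk : orderOf (x ^ k) = q := by
        rw [Nat.Coprime.orderOf_pow, hx]
        rw [hx]
        exact (Nat.Prime.coprime_iff_not_dvd hq.out).mpr hk
      obtain ⟨θ, hθ⟩ := htrans x (x ^ k) (by rw [hx, hxk])
      refine ⟨S.restrict hpq θ, ?_⟩
      intro t
      apply Subtype.ext
      rw [S.restrict_apply, S.X_apply, S.X_pow_apply, S.restrict_apply, map_mul, map_mul,
        map_inv, hθ]

end Cfsg.Agent.Lib.H20.AO
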