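import Mathlib
import Cfsg.Agent.Lib.H20.AutOrb14
import Cfsg.Agent.Lib.H23.BurnsidePQ

/-!
# Structure from three automorphism orbits: assembling
-/

set_option autoImplicit false

namespace Cfsg.Agent.Lib.H20.AO

open Subgroup
open scoped commutatorElement

variable {G : Type*} [Group G]

theorem eq_pow_mul_pow_of_prime_dvd {n r1 r2 : ℕ} (hn : n ≠ 0) (hr1 : r1.Prime) (hr2 : r2.Prime)
    (h : ∀ r : ℕ, r.Prime → r ∣ n → r = r1 ∨ r = r2) : ∃ a b : ℕ, n = r1 ^ a * r2 ^ b := by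
  refine ⟨n.factorization r1, (n / r1 ^ n.factorization r1).primeFactorsList.length, ?_⟩
  have hm0 : n / r1 ^ n.factorization r1 ≠ 0 := (Nat.ordCompl_pos r1 hn).ne'
  have hm : n / r1 ^ n.factorization r1 =
      r2 ^ (n / r1 ^ n.factorization r1).primeFactorsList.length := by
    apply Nat.eq_prime_pow_of_unique_prime_dvd hm0
    intro r hr hrd
    have hrn : r ∣ n := dvd_trans hrd (Nat.ordCompl_dvd n r1)
    rcases h r hr hrn with h1 | h1
    · exfalso
      rw [h1] at hrd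
      exact Nat.not_dvd_ordCompl hr1 hn hrd
    · exact h1
  rw [← hm]
  exact (Nat.ordProj_mul_ordCompl_eq_self n r1).symm

theorem exists_char_abelian [Nontrivial G] (hsol : IsSolvable G) :
    ∃ D : Subgroup G, D ≠ ⊥ ∧ (∀ a ∈ D, ∀ b ∈ D, a * b = b * a) ∧
      (∀ θ : MulAut G, ∀ d ∈ D, θ d ∈ D) := by
  classical
  have hex : ∃ n : ℕ, derivedSeries G n = ⊥ := hsol.solvable
  set m := Nat.find hex with hm
  have hm_spec : derivedSeries G m = ⊥ := Nat.find_spec hex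
  have hm0 : m ≠ 0 := by
    intro h
    rw [h, derivedSeries_zero] at hm_spec
    exact top_ne_bot hm_spec
  obtain ⟨k, hk⟩ : ∃ k, m = k + 1 := ⟨m - 1, by omega⟩
  have hkne : derivedSeries G k ≠ ⊥ := by
    intro h
    have := Nat.find_min' hex h
    omega
  refine ⟨derivedSeries G k, hkne, ?_, ?_⟩
  · intro a ha b hb
    have h1 : ⁅derivedSeries G k, derivedSeries G k⁆ = ⊥ := by
      rw [← derivedSeries_succ, ← hk]; exact hm_spec
    have h2 : ⁅a, b⁆ ∈ ⁅derivedSeries G k, derivedSeries G k⁆ :=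
      Subgroup.commutator_mem_commutator ha hb
    rw [h1, Subgroup.mem_bot, commutatorElement_eq_one_iff_mul_comm] at h2
    exact h2
  · intro θ d hd
    have hchar : (derivedSeries G k).Characteristic := derivedSeries_characteristic G k
    have := (Subgroup.characteristic_iff_map_eq.mp hchar) θ
    rw [← this]
    exact Subgroup.mem_map.mpr ⟨d, hd, rfl⟩

theorem data_of_three_orbits [Finite G]
    (h3 : Nat.card (MulAction.orbitRel.Quotient (MulAut G) G) = 3)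
    (hnpp : ¬ IsPrimePow (Nat.card G)) (hnt : Nat.card G ≠ 1) :
    ∃ r1 r2 : ℕ, r1.Prime ∧ r2.Prime ∧ r1 ≠ r2 ∧ (∃ a : G, orderOf a = r1) ∧
      (∃ b : G, orderOf b = r2) ∧
      (∀ g : G, orderOf g = 1 ∨ orderOf g = r1 ∨ orderOf g = r2) ∧
      (∀ g h : G, orderOf g = orderOf h → ∃ θ : MulAut G, θ g = h) := by
  have hr1 : (Nat.card G).minFac.Prime := Nat.minFac_prime hnt
  have hr1d : (Nat.card G).minFac ∣ Nat.card G := Nat.minFac_dvd _
  set r1 := (Nat.card G).minFac with hr1def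
  obtain ⟨r2, hr2, hr2d, hne⟩ : ∃ r2 : ℕ, r2.Prime ∧ r2 ∣ Nat.card G ∧ r1 ≠ r2 := by
    by_contra hcon
    push_neg at hcon
    apply hnpp
    rw [isPrimePow_iff_unique_prime_dvd]
    exact ⟨r1, ⟨hr1, hr1d⟩, fun r ⟨hr, hrd⟩ => (hcon r hr hrd).symm⟩
  haveI : Fact r1.Prime := ⟨hr1⟩
  haveI : Fact r2.Prime := ⟨hr2⟩
  obtain ⟨a, ha⟩ := exists_prime_orderOf_dvd_card' (G := G) r1 hr1d
  obtain ⟨b, hb⟩ := exists_prime_orderOf_dvd_card' (G := G) r2 hr2d
  have ha1 : a ≠ 1 := by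
    intro h; rw [h, orderOf_one] at ha; exact hr1.one_lt.ne ha
  have hb1 : b ≠ 1 := by
    intro h; rw [h, orderOf_one] at hb; exact hr2.one_lt.ne hb
  have hcases := cases_of_card_orbits_eq_three h3 a b (by rw [ha, hb]; exact hne) ha1 hb1
  have hord : ∀ g : G, orderOf g = 1 ∨ orderOf g = r1 ∨ orderOf g = r2 := by
    intro g
    rcases hcases g with h | ⟨θ, h⟩ | ⟨θ, h⟩
    · left; rw [h, orderOf_one]
    · right; left; rw [← h, MulEquiv.orderOf_eq θ a, ha]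
    · right; right; rw [← h, MulEquiv.orderOf_eq θ b, hb]
  refine ⟨r1, r2, hr1, hr2, hne, ⟨a, ha⟩, ⟨b, hb⟩, hord, ?_⟩
  intro g h hgh
  rcases hcases g with hg | ⟨θ1, hg⟩ | ⟨θ1, hg⟩
  · have hh : h = 1 := by
      rw [hg, orderOf_one] at hgh
      exact orderOf_eq_one_iff.mp hgh.symm
    exact ⟨1, by rw [hg, hh]; rfl⟩
  · have hgo : orderOf g = r1 := by rw [← hg, MulEquiv.orderOf_eq θ1 a, ha]
    rcases hcases h with hh | ⟨θ2, hh⟩ | ⟨θ2, hh⟩
    · exfalso
      rw [hh, orderOf_one, hgo] at hgh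
      exact hr1.one_lt.ne' hgh
    · refine ⟨θ2 * θ1⁻¹, ?_⟩
      rw [MulAut.mul_apply, ← hg, MulAut.inv_apply_self, hh]
    · exfalso
      have hho : orderOf h = r2 := by rw [← hh, MulEquiv.orderOf_eq θ2 b, hb]
      rw [hgo, hho] at hgh
      exact hne hgh
  · have hgo : orderOf g = r2 := by rw [← hg, MulEquiv.orderOf_eq θ1 b, hb]
    rcases hcases h with hh | ⟨θ2, hh⟩ | ⟨θ2, hh⟩
    · exfalso
      rw [hh, orderOf_one, hgo] at hgh
      exact hr2.one_lt.ne' hgh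
    · exfalso
      have hho : orderOf h = r1 := by rw [← hh, MulEquiv.orderOf_eq θ2 a, ha]
      rw [hgo, hho] at hgh
      exact hne hgh.symm
    · refine ⟨θ2 * θ1⁻¹, ?_⟩
      rw [MulAut.mul_apply, ← hg, MulAut.inv_apply_self, hh]

theorem structure_of_three_orbits [Finite G]
    (h3 : Nat.card (MulAction.orbitRel.Quotient (MulAut G) G) = 3)
    (hnpp : ¬ IsPrimePow (Nat.card G)) (hnt : Nat.card G ≠ 1) :
    ∃ (p q n : ℕ) (_ : Fact p.Prime) (_ : Fact q.Prime), p ≠ q ∧ 1 ≤ n ∧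
      Nat.card G = p ^ n * q ∧
      (∀ P : Sylow p G, (P : Subgroup G).Normal ∧
        (∀ a ∈ (P : Subgroup G), ∀ b ∈ (P : Subgroup G), a * b = b * a) ∧
        ∀ a ∈ (P : Subgroup G), a ^ p = 1) ∧
      orderOf ((p : ℕ) : ZMod q) = q - 1 ∧
      ∀ x y : G, orderOf x = q → orderOf y = p → x * y * x⁻¹ ≠ y := by
  obtain ⟨r1, r2, hr1, hr2, hne, ⟨a, ha⟩, ⟨b, hb⟩, hord, htrans⟩ :=
    data_of_three_orbits h3 hnpp hnt
  haveI : Fact r1.Prime := ⟨hr1⟩
  haveI : Fact r2.Prime := ⟨hr2⟩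
  have hcard : ∃ e1 e2 : ℕ, Nat.card G = r1 ^ e1 * r2 ^ e2 := by
    apply eq_pow_mul_pow_of_prime_dvd Nat.card_pos.ne' hr1 hr2
    intro r hr hrd
    haveI : Fact r.Prime := ⟨hr⟩
    obtain ⟨y, hy⟩ := exists_prime_orderOf_dvd_card' (G := G) r hrd
    rcases hord y with h | h | h
    · rw [hy] at h; exact absurd h hr.one_lt.ne'
    · left; rw [← hy, h]
    · right; rw [← hy, h]
  obtain ⟨e1, e2, hcard⟩ := hcard
  have hsol : IsSolvable G :=
    Cfsg.Agent.Lib.H23.isSolvable_of_card_eq_prime_pow_mul_prime_pow r1 r2 e1 e2 hr1 hr2 hcard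
  haveI : Nontrivial G := by
    rw [← Finite.one_lt_card_iff_nontrivial]
    have := Nat.card_pos (α := G)
    omega
  obtain ⟨D, hDne, hDc, hDchar⟩ := exists_char_abelian hsol
  obtain ⟨d, hd, hd1⟩ : ∃ d ∈ D, d ≠ 1 := by
    by_contra hcon
    push_neg at hcon
    exact hDne ((Subgroup.eq_bot_iff_forall D).mpr hcon)
  rcases hord d with h | h | h
  · exact absurd (orderOf_eq_one_iff.mp h) hd1
  · obtain ⟨n, hn, hc, hS, hprim, hnc⟩ := structure_core hne hord htrans D hDc hDchar d hd h b hb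
    exact ⟨r1, r2, n, ⟨hr1⟩, ⟨hr2⟩, hne, hn, hc, hS, hprim, hnc⟩
  · have hord' : ∀ g : G, orderOf g = 1 ∨ orderOf g = r2 ∨ orderOf g = r1 := by
      intro g
      rcases hord g with h | h | h
      · exact Or.inl h
      · exact Or.inr (Or.inr h)
      · exact Or.inr (Or.inl h)
    obtain ⟨n, hn, hc, hS, hprim, hnc⟩ :=
      structure_core hne.symm hord' htrans D hDc hDchar d hd h a ha
    exact ⟨r2, r1, n, ⟨hr2⟩, ⟨hr1⟩, hne.symm, hn, hc, hS, hprim, hnc⟩

end Cfsg.Agent.Lib.H20.AO
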