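import Mathlib

set_option autoImplicit false

/-!
# Orbits of the automorphism group: counting lemmas
-/

namespace Cfsg.Agent.Lib.H20.AutOrb

variable {G : Type*} [Group G]

/-- Conjugate elements lie in the same `Aut`-orbit. -/
theorem orbit_mk_eq_of_isConj {a b : G} (h : IsConj a b) :
    (Quotient.mk'' a : MulAction.orbitRel.Quotient (MulAut G) G) = Quotient.mk'' b := by
  rw [isConj_iff] at h
  obtain ⟨c, hc⟩ := h
  rw [Quotient.eq'']
  change a ∈ MulAction.orbit (MulAut G) b
  refine ⟨MulAut.conj c⁻¹, ?_⟩
  change MulAut.conj c⁻¹ b = a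
  rw [MulAut.conj_apply, ← hc]
  group

/-- The number of `Aut`-orbits is at most the class number. -/
theorem card_orbits_le_card_conjClasses [Finite G] :
    Nat.card (MulAction.orbitRel.Quotient (MulAut G) G) ≤ Nat.card (ConjClasses G) := by
  let f : ConjClasses G → MulAction.orbitRel.Quotient (MulAut G) G :=
    Quotient.lift (fun a => (Quotient.mk'' a : MulAction.orbitRel.Quotient (MulAut G) G))
      (fun a b h => orbit_mk_eq_of_isConj h)
  have hf : Function.Surjective f := by
    intro q
    induction q using Quotient.inductionOn' with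
    | h a => exact ⟨ConjClasses.mk a, rfl⟩
  exact Nat.card_le_card_of_surjective f hf

/-- Weighted orbit counting: if every orbit carries weight at least `W`, then `W` times the number
of orbits is at most the total weight. -/
theorem weight_mul_card_orbits_le {Γ X : Type*} [Group Γ] [MulAction Γ X] [Fintype X]
    (w : X → ℕ) (W : ℕ)
    (h : ∀ x : X, ∃ S : Finset X, (∀ s ∈ S, s ∈ MulAction.orbit Γ x) ∧ W ≤ ∑ s ∈ S, w s) :
    W * Nat.card (MulAction.orbitRel.Quotient Γ X) ≤ ∑ x, w x := by
  classical
  haveI : Fintype (MulAction.orbitRel.Quotient Γ X) := Fintype.ofFinite _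
  rw [Nat.card_eq_fintype_card, mul_comm, ← smul_eq_mul, ← Finset.card_univ,
    ← Finset.sum_const]
  rw [← Finset.sum_fiberwise Finset.univ
    (fun x : X => (Quotient.mk'' x : MulAction.orbitRel.Quotient Γ X)) w]
  apply Finset.sum_le_sum
  intro q _
  induction q using Quotient.inductionOn' with
  | h x =>
    obtain ⟨S, hS, hW⟩ := h x
    refine hW.trans (Finset.sum_le_sum_of_subset ?_)
    intro s hs
    rw [Finset.mem_filter]
    refine ⟨Finset.mem_univ _, ?_⟩
    rw [Quotient.eq'']
    exact hS s hs

end Cfsg.Agent.Lib.H20.AutOrb
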