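import Mathlib
import Cfsg.Agent.Lib.H24.CharOrth
import Cfsg.Agent.Lib.L0.CharLinear
import Cfsg.Agent.Lib.H23.DegreeDvd

set_option autoImplicit false

/-!
# Bounding the number of conjugacy classes by character degrees

If every divisor `≠ 1` of `|G|` is at least `p`, then
`p² k(G) ≤ |G| + (p² - 1) |G : G'|`; hence `p k(G) ≤ |G|` as soon as `|G'| ≥ p + 1`.
-/

namespace Cfsg.Agent.Lib.H20.AutOrb

open Cfsg

variable {G : Type*} [Group G] [Finite G]

theorem sq_mul_card_conjClasses_le (p : ℕ) (hp1 : 1 ≤ p)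
    (hp : ∀ n : ℕ, n ∣ Nat.card G → n ≠ 1 → p ≤ n) :
    p ^ 2 * Nat.card (ConjClasses G) ≤ Nat.card G + (p ^ 2 - 1) * (commutator G).index := by
  classical
  haveI : Fintype G := Fintype.ofFinite _
  haveI : Fintype (IrrCharacter G) := Fintype.ofFinite _
  have hdeg : ∀ χ : IrrCharacter G, ∃ n : ℕ, 0 < n ∧ (χ : G → ℂ) 1 = n ∧ n ∣ Nat.card G :=
    fun χ => Cfsg.Agent.Lib.H23.irr_apply_one_dvd_card χ.1 χ.2
  choose deg hpos hval hdvd using hdeg
  have hsum : ∑ χ : IrrCharacter G, (deg χ) ^ 2 = Nat.card G := by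
    have h := Cfsg.Agent.Lib.H24.sum_irr_one_sq (G := G)
    have h2 : ∑ χ : IrrCharacter G, ((deg χ : ℂ)) ^ 2 = (Nat.card G : ℂ) := by
      rw [← h]
      exact Finset.sum_congr rfl (fun χ _ => by rw [hval χ])
    exact_mod_cast h2
  have hlin : (Finset.univ.filter (fun χ : IrrCharacter G => deg χ = 1)).card =
      (commutator G).index := by
    rw [← Cfsg.Agent.Lib.L0.card_linear_irr, Nat.card_eq_fintype_card, Fintype.card_subtype]
    congr 1
    ext χ
    simp only [Finset.mem_filter, Finset.mem_univ, true_and]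
    rw [hval χ]
    exact_mod_cast Iff.rfl
  have hk : Nat.card (ConjClasses G) = Fintype.card (IrrCharacter G) := by
    rw [← Cfsg.Agent.Lib.H24.card_irr_eq_card_conjClasses, Nat.card_eq_fintype_card]
  have hmain : ∑ _χ : IrrCharacter G, p ^ 2 ≤
      ∑ χ : IrrCharacter G, ((deg χ) ^ 2 + (if deg χ = 1 then p ^ 2 - 1 else 0)) := by
    apply Finset.sum_le_sum
    intro χ _
    by_cases h1 : deg χ = 1
    · rw [if_pos h1, h1]
      have : 1 ≤ p ^ 2 := Nat.one_le_pow _ _ hp1
      omega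
    · rw [if_neg h1, add_zero]
      exact Nat.pow_le_pow_left (hp _ (hdvd χ) h1) 2
  rw [Finset.sum_const, Finset.card_univ, smul_eq_mul, Finset.sum_add_distrib, hsum,
    ← Finset.sum_filter, Finset.sum_const, hlin, smul_eq_mul] at hmain
  rw [hk, mul_comm]
  calc Fintype.card (IrrCharacter G) * p ^ 2 ≤ Nat.card G + (commutator G).index * (p ^ 2 - 1) :=
        hmain
    _ = Nat.card G + (p ^ 2 - 1) * (commutator G).index := by rw [mul_comm]

theorem mul_card_conjClasses_le (p : ℕ) (hp1 : 1 ≤ p)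
    (hp : ∀ n : ℕ, n ∣ Nat.card G → n ≠ 1 → p ≤ n)
    (hd : (p + 1) * (commutator G).index ≤ Nat.card G) :
    p * Nat.card (ConjClasses G) ≤ Nat.card G := by
  have h1 := sq_mul_card_conjClasses_le p hp1 hp
  have h2 : p ^ 2 - 1 = (p - 1) * (p + 1) := by
    obtain ⟨q, rfl⟩ : ∃ q, p = q + 1 := ⟨p - 1, by omega⟩
    simp only [Nat.add_sub_cancel]
    have : (q + 1) ^ 2 = q * (q + 1 + 1) + 1 := by ring
    rw [this, Nat.add_sub_cancel]
  have h3 : (p ^ 2 - 1) * (commutator G).index ≤ (p - 1) * Nat.card G := by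
    rw [h2, mul_assoc]
    exact Nat.mul_le_mul_left _ hd
  have h4 : p * (p * Nat.card (ConjClasses G)) ≤ p * Nat.card G := by
    calc p * (p * Nat.card (ConjClasses G)) = p ^ 2 * Nat.card (ConjClasses G) := by ring
      _ ≤ Nat.card G + (p - 1) * Nat.card G := h1.trans (Nat.add_le_add_left h3 _)
      _ = p * Nat.card G := by
        obtain ⟨q, rfl⟩ : ∃ q, p = q + 1 := ⟨p - 1, by omega⟩
        simp only [Nat.add_sub_cancel]
        ring
  exact Nat.le_of_mul_le_mul_left h4 (by omega)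

end Cfsg.Agent.Lib.H20.AutOrb
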