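import Mathlib

set_option autoImplicit false

/-!
# A transvection-like automorphism

Let `M` be a normal subgroup of prime index `p` in the finite group `G`, `y ∉ M`, and `z ∈ M`
commuting with all of `M` such that `(y * z) ^ p = y ^ p`.  Then there is an automorphism of `G`
fixing `M` pointwise and mapping `y` to `y * z`.
-/

namespace Cfsg.Agent.Lib.H20.AutOrb

variable {G : Type*} [Group G]

/-- A subgroup containing a subgroup of prime index and an element outside is everything. -/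
theorem eq_top_of_le_of_mem {p : ℕ} (hp : p.Prime) {M H : Subgroup G} (hidx : M.index = p)
    (hMH : M ≤ H) {y : G} (hyH : y ∈ H) (hyM : y ∉ M) : H = ⊤ := by
  have h1 := Subgroup.relIndex_mul_index hMH
  rw [hidx] at h1
  have h2 : M.relIndex H ≠ 1 := by
    intro h
    rw [Subgroup.relIndex_eq_one] at h
    exact hyM (h hyH)
  have h3 : H.index ∣ p := Dvd.intro_left _ h1
  rcases (Nat.dvd_prime hp).mp h3 with h | h
  · exact Subgroup.index_eq_one.mp h
  · rw [h] at h1
    exfalso
    apply h2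
    have hp0 : 0 < p := hp.pos
    exact Nat.eq_of_mul_eq_mul_right hp0 (by rw [h1, one_mul])

/-- If `M` is normal of prime index `p` and `y ∉ M`, then `y ^ n ∈ M` iff `p ∣ n`. -/
theorem zpow_mem_iff {p : ℕ} (hp : p.Prime) {M : Subgroup G} [M.Normal] (hidx : M.index = p)
    {y : G} (hyM : y ∉ M) (n : ℤ) : y ^ n ∈ M ↔ (p : ℤ) ∣ n := by
  haveI : M.FiniteIndex := ⟨by rw [hidx]; exact hp.ne_zero⟩
  haveI : Finite (G ⧸ M) := Subgroup.finite_quotient_of_finiteIndex
  have hcard : Nat.card (G ⧸ M) = p := by rw [← Subgroup.index_eq_card]; exact hidx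
  have hord : orderOf (QuotientGroup.mk y : G ⧸ M) = p := by
    have h1 : orderOf (QuotientGroup.mk y : G ⧸ M) ∣ p := by
      rw [← hcard]; exact orderOf_dvd_natCard _
    rcases (Nat.dvd_prime hp).mp h1 with h | h
    · exfalso
      rw [orderOf_eq_one_iff, QuotientGroup.eq_one_iff] at h
      exact hyM h
    · exact h
  rw [← hord, orderOf_dvd_iff_zpow_eq_one, ← QuotientGroup.mk_zpow, QuotientGroup.eq_one_iff]

/-- Conjugation by `(y * z) ^ n` agrees on `M` with conjugation by `y ^ n` when `z ∈ M`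
centralizes `M`. -/
theorem conj_zpow_eq {M : Subgroup G} [M.Normal] {y z : G}
    (hzc : ∀ m ∈ M, Commute z m) (n : ℤ) {m : G} (hm : m ∈ M) :
    (y * z) ^ n * m * ((y * z) ^ n)⁻¹ = y ^ n * m * (y ^ n)⁻¹ := by
  have h1 : (MulAut.conjNormal (y * z) : MulAut M) = MulAut.conjNormal y := by
    ext m'
    rw [MulAut.conjNormal_apply, MulAut.conjNormal_apply]
    have := (hzc m' m'.2).eq
    calc y * z * (m' : G) * (y * z)⁻¹ = y * (z * (m' : G)) * z⁻¹ * y⁻¹ := by group
      _ = y * ((m' : G) * z) * z⁻¹ * y⁻¹ := by rw [this]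
      _ = y * (m' : G) * y⁻¹ := by group
  have h2 : (MulAut.conjNormal ((y * z) ^ n) : MulAut M) = MulAut.conjNormal (y ^ n) := by
    rw [map_zpow, map_zpow, h1]
  have h3 : (((MulAut.conjNormal ((y * z) ^ n) : MulAut M) ⟨m, hm⟩ : M) : G) =
      (((MulAut.conjNormal (y ^ n) : MulAut M) ⟨m, hm⟩ : M) : G) := by rw [h2]
  rw [MulAut.conjNormal_apply, MulAut.conjNormal_apply] at h3
  exact h3

/-- The transvection-like automorphism. -/
theorem exists_aut_of_data [Finite G] {p : ℕ} (hp : p.Prime) (M : Subgroup G) [M.Normal]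
    (hidx : M.index = p) {y z : G} (hyM : y ∉ M) (hzM : z ∈ M) (hzc : ∀ m ∈ M, Commute z m)
    (hpow : (y * z) ^ p = y ^ p) :
    ∃ τ : MulAut G, (∀ m ∈ M, τ m = m) ∧ τ y = y * z := by
  classical
  let φ : Multiplicative ℤ →* MulAut M :=
    (MulAut.conjNormal : G →* MulAut M).comp (zpowersHom G y)
  have hφ : ∀ (n : Multiplicative ℤ) (m : M),
      ((φ n m : M) : G) = y ^ (Multiplicative.toAdd n) * m * (y ^ (Multiplicative.toAdd n))⁻¹ := by
    intro n m
    change (((MulAut.conjNormal (y ^ (Multiplicative.toAdd n)) : MulAut M) m : M) : G) = _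
    rw [MulAut.conjNormal_apply]
  have h₁ : ∀ n : Multiplicative ℤ, M.subtype.comp (φ n).toMonoidHom =
      (MulAut.conj (zpowersHom G y n)).toMonoidHom.comp M.subtype := by
    intro n
    ext m
    simp only [MonoidHom.coe_comp, Subgroup.coe_subtype, MulEquiv.coe_toMonoidHom,
      Function.comp_apply, hφ, zpowersHom_apply, MulAut.conj_apply]
  have h₂ : ∀ n : Multiplicative ℤ, M.subtype.comp (φ n).toMonoidHom =
      (MulAut.conj (zpowersHom G (y * z) n)).toMonoidHom.comp M.subtype := by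
    intro n
    ext m
    simp only [MonoidHom.coe_comp, Subgroup.coe_subtype, MulEquiv.coe_toMonoidHom,
      Function.comp_apply, hφ, zpowersHom_apply, MulAut.conj_apply]
    exact (conj_zpow_eq hzc _ m.2).symm
  let π₁ : M ⋊[φ] Multiplicative ℤ →* G := SemidirectProduct.lift M.subtype (zpowersHom G y) h₁
  let π₂ : M ⋊[φ] Multiplicative ℤ →* G :=
    SemidirectProduct.lift M.subtype (zpowersHom G (y * z)) h₂
  have hπ₁ : ∀ s : M ⋊[φ] Multiplicative ℤ,
      π₁ s = (s.left : G) * y ^ (Multiplicative.toAdd s.right) := fun s => rfl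
  have hπ₂ : ∀ s : M ⋊[φ] Multiplicative ℤ,
      π₂ s = (s.left : G) * (y * z) ^ (Multiplicative.toAdd s.right) := fun s => rfl
  -- `(y z)^n = y^n` when `p ∣ n`
  have hpow' : ∀ n : ℤ, (p : ℤ) ∣ n → (y * z) ^ n = y ^ n := by
    rintro n ⟨k, rfl⟩
    rw [zpow_mul, zpow_mul, zpow_natCast, zpow_natCast, hpow]
  have hker : π₁.ker ≤ π₂.ker := by
    intro s hs
    rw [MonoidHom.mem_ker] at hs ⊢
    rw [hπ₁] at hs
    rw [hπ₂]
    have h1 : y ^ (Multiplicative.toAdd s.right) ∈ M := by
      have : y ^ (Multiplicative.toAdd s.right) = (s.left : G)⁻¹ :=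
        eq_inv_of_mul_eq_one_right hs
      rw [this]
      exact M.inv_mem s.left.2
    rw [zpow_mem_iff hp hidx hyM] at h1
    rw [hpow' _ h1]
    exact hs
  have hsurj : Function.Surjective π₁ := by
    rw [← MonoidHom.range_eq_top]
    apply eq_top_of_le_of_mem hp hidx (y := y) _ _ hyM
    · intro m hm
      exact ⟨SemidirectProduct.inl ⟨m, hm⟩, by simp [π₁]⟩
    · exact ⟨SemidirectProduct.inr (Multiplicative.ofAdd 1), by simp [π₁, zpowersHom_apply]⟩
  let τ₀ : G →* G := MonoidHom.liftOfSurjective π₁ hsurj ⟨π₂, hker⟩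
  have hτ₀ : ∀ s, τ₀ (π₁ s) = π₂ s := fun s =>
    MonoidHom.liftOfRightInverse_comp_apply _ _ _ ⟨π₂, hker⟩ s
  have hτM : ∀ m ∈ M, τ₀ m = m := by
    intro m hm
    have := hτ₀ (SemidirectProduct.inl ⟨m, hm⟩)
    simpa [π₁, π₂] using this
  have hτy : τ₀ y = y * z := by
    have := hτ₀ (SemidirectProduct.inr (Multiplicative.ofAdd 1))
    simpa [π₁, π₂, zpowersHom_apply] using this
  have hτsurj : Function.Surjective τ₀ := by
    rw [← MonoidHom.range_eq_top]
    apply eq_top_of_le_of_mem hp hidx (y := y) _ _ hyM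
    · intro m hm
      exact ⟨m, hτM m hm⟩
    · have h1 : y * z ∈ τ₀.range := ⟨y, hτy⟩
      have h2 : z ∈ τ₀.range := ⟨z, hτM z hzM⟩
      have : y = y * z * z⁻¹ := by group
      rw [this]
      exact τ₀.range.mul_mem h1 (τ₀.range.inv_mem h2)
  have hτbij : Function.Bijective τ₀ :=
    ⟨Finite.injective_iff_surjective.mpr hτsurj, hτsurj⟩
  refine ⟨MulEquiv.ofBijective τ₀ hτbij, ?_, ?_⟩
  · intro m hm
    exact hτM m hm
  · exact hτy

end Cfsg.Agent.Lib.H20.AutOrb
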