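import Mathlib
import Cfsg.Agent.Lib.H20.ConjClass

set_option autoImplicit false

/-!
# Groups whose derived subgroup has order the least prime divisor

`|G'| = p` with `p` the least prime dividing `|G|`: then `G' ≤ Z(G)`, centralizers of noncentral
elements have index `p`, and `p² |Z(G)| ≤ |G|`.
-/

namespace Cfsg.Agent.Lib.H20.AutOrb

open scoped commutatorElement

variable {G : Type*} [Group G]

/-- A normal subgroup of order `p`, where every nontrivial divisor of `|G|` is at least `p`, is
central. -/
theorem le_center_of_card_eq [Finite G] {p : ℕ}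
    (hmin : ∀ n : ℕ, n ∣ Nat.card G → n ≠ 1 → p ≤ n) (D : Subgroup G) [D.Normal]
    (hc : Nat.card D = p) : D ≤ Subgroup.center G := by
  classical
  intro c hcD
  by_cases hc1 : c = 1
  · rw [hc1]; exact Subgroup.one_mem _
  have hsub : {y : G | IsConj c y} ⊆ ((D : Set G) \ {1}) := by
    intro y hy
    rw [Set.mem_ofPred_eq, isConj_iff] at hy
    obtain ⟨g, hg⟩ := hy
    refine ⟨?_, ?_⟩
    · rw [← hg]; exact Subgroup.Normal.conj_mem inferInstance c hcD g
    · intro h1
      rw [Set.mem_singleton_iff] at h1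
      rw [h1] at hg
      apply hc1
      have : c = g⁻¹ * (g * c * g⁻¹) * g := by group
      rw [this, hg]; group
  have hlt : {y : G | IsConj c y}.ncard < p := by
    have h1 : {y : G | IsConj c y}.ncard ≤ ((D : Set G) \ {1}).ncard :=
      Set.ncard_le_ncard hsub (Set.toFinite _)
    have h2 : ((D : Set G) \ {1}).ncard = p - 1 := by
      rw [Set.ncard_diff_singleton_of_mem (Subgroup.one_mem D)]
      have : (D : Set G).ncard = Nat.card D := rfl
      rw [this, hc]
    have hp1 : 1 ≤ p := by
      rw [← hc]; exact Nat.card_pos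
    omega
  rw [← Cfsg.Agent.Lib.H20.index_centralizer_eq_ncard_conj] at hlt
  have hdvd : (Subgroup.centralizer ({c} : Set G)).index ∣ Nat.card G :=
    Subgroup.index_dvd_card _
  have h1 : (Subgroup.centralizer ({c} : Set G)).index = 1 := by
    by_contra hne
    exact absurd (hmin _ hdvd hne) (not_le.mpr hlt)
  rw [Subgroup.index_eq_one] at h1
  rw [Subgroup.mem_center_iff]
  intro g
  have : g ∈ Subgroup.centralizer ({c} : Set G) := by rw [h1]; exact Subgroup.mem_top g
  rw [Subgroup.mem_centralizer_singleton_iff] at this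
  exact this

/-- The commutator map `g ↦ ⁅g, u⁆` as a homomorphism into a central derived subgroup. -/
noncomputable def cHom (hD : commutator G ≤ Subgroup.center G) (u : G) : G →* commutator G :=
  MonoidHom.mk' (fun g => ⟨⁅g, u⁆, by
    rw [commutator_def]
    exact Subgroup.commutator_mem_commutator (Subgroup.mem_top g) (Subgroup.mem_top u)⟩) (by
    intro g h
    apply Subtype.ext
    have hmem : ⁅h, u⁆ ∈ Subgroup.center G := hD (by
      rw [commutator_def]
      exact Subgroup.commutator_mem_commutator (Subgroup.mem_top h) (Subgroup.mem_top u))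
    have h1 : g * ⁅h, u⁆ = ⁅h, u⁆ * g := (Subgroup.mem_center_iff.mp hmem g)
    change ⁅g * h, u⁆ = ⁅g, u⁆ * ⁅h, u⁆
    have h2 : ⁅g, u⁆ * ⁅h, u⁆ = ⁅h, u⁆ * ⁅g, u⁆ := (Subgroup.mem_center_iff.mp hmem _)
    calc ⁅g * h, u⁆ = g * ⁅h, u⁆ * g⁻¹ * ⁅g, u⁆ := by
          simp only [commutatorElement_def]; group
      _ = ⁅h, u⁆ * g * g⁻¹ * ⁅g, u⁆ := by rw [h1]
      _ = ⁅h, u⁆ * ⁅g, u⁆ := by group
      _ = ⁅g, u⁆ * ⁅h, u⁆ := h2.symm)

theorem cHom_apply (hD : commutator G ≤ Subgroup.center G) (u g : G) :
    ((cHom hD u g : commutator G) : G) = ⁅g, u⁆ := rfl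

theorem mem_ker_cHom (hD : commutator G ≤ Subgroup.center G) (u g : G) :
    g ∈ (cHom hD u).ker ↔ Commute g u := by
  rw [MonoidHom.mem_ker, ← commutatorElement_eq_one_iff_commute, ← cHom_apply hD u g]
  exact ⟨fun h => by rw [h]; rfl, fun h => Subtype.ext h⟩

/-- For noncentral `u`, the commutator map is onto a derived subgroup of prime order. -/
theorem cHom_surjective [Finite G] {p : ℕ} (hp : p.Prime)
    (hD : commutator G ≤ Subgroup.center G) (hc : Nat.card (commutator G) = p) {u : G}
    (hu : u ∉ Subgroup.center G) : Function.Surjective (cHom hD u) := by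
  haveI : Fact (Nat.card (commutator G)).Prime := ⟨by rw [hc]; exact hp⟩
  rw [← MonoidHom.range_eq_top]
  rcases Subgroup.eq_bot_or_eq_top_of_prime_card (cHom hD u).range with h | h
  · exfalso
    apply hu
    rw [Subgroup.mem_center_iff]
    intro g
    have : g ∈ (cHom hD u).ker := by
      rw [MonoidHom.mem_ker]
      have : cHom hD u g ∈ (cHom hD u).range := ⟨g, rfl⟩
      rw [h, Subgroup.mem_bot] at this
      exact this
    rw [mem_ker_cHom] at this
    exact this.eq
  · exact h

/-- The centralizer of a noncentral element has index `p`. -/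
theorem index_ker_cHom [Finite G] {p : ℕ} (hp : p.Prime)
    (hD : commutator G ≤ Subgroup.center G) (hc : Nat.card (commutator G) = p) {u : G}
    (hu : u ∉ Subgroup.center G) : (cHom hD u).ker.index = p := by
  rw [Subgroup.index_ker, MonoidHom.range_eq_top.mpr (cHom_surjective hp hD hc hu),
    Subgroup.card_top, hc]

/-- For noncentral `u`, every `u * d` with `d ∈ G'` is conjugate to `u`. -/
theorem exists_conj_eq_mul [Finite G] {p : ℕ} (hp : p.Prime)
    (hD : commutator G ≤ Subgroup.center G) (hc : Nat.card (commutator G) = p) {u : G}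
    (hu : u ∉ Subgroup.center G) {d : G} (hd : d ∈ commutator G) :
    ∃ g : G, g * u * g⁻¹ = u * d := by
  obtain ⟨g, hg⟩ := cHom_surjective hp hD hc hu ⟨d, hd⟩
  have h1 : ⁅g, u⁆ = d := by rw [← cHom_apply hD u g, hg]
  refine ⟨g, ?_⟩
  have h2 : u * d = d * u := (Subgroup.mem_center_iff.mp (hD hd) u)
  rw [h2, ← h1, commutatorElement_def]
  group

/-- The center has index at least `p²`. -/
theorem sq_mul_card_center_le [Finite G] {p : ℕ}
    (hmin : ∀ n : ℕ, n ∣ Nat.card G → n ≠ 1 → p ≤ n) (hZ : Subgroup.center G ≠ ⊤) :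
    p ^ 2 * Nat.card (Subgroup.center G) ≤ Nat.card G := by
  have hidx1 : (Subgroup.center G).index ≠ 1 := by
    rw [Ne, Subgroup.index_eq_one]; exact hZ
  have hdvd : (Subgroup.center G).index ∣ Nat.card G := Subgroup.index_dvd_card _
  have hnp : ¬ (Subgroup.center G).index.Prime := by
    intro hprime
    haveI : Fact (Subgroup.center G).index.Prime := ⟨hprime⟩
    have hcard : Nat.card (G ⧸ Subgroup.center G) = (Subgroup.center G).index :=
      (Subgroup.index_eq_card _).symm
    haveI : IsCyclic (G ⧸ Subgroup.center G) := isCyclic_of_prime_card hcard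
    apply hZ
    rw [eq_top_iff]
    intro a _
    rw [Subgroup.mem_center_iff]
    intro b
    exact ((QuotientGroup.mk' (Subgroup.center G)).isMulCommutative_of_isCyclic_of_ker_le_center
      (by rw [QuotientGroup.ker_mk'])).is_comm.comm b a
  have hpos : 0 < (Subgroup.center G).index := Nat.pos_of_ne_zero Subgroup.index_ne_zero_of_finite
  have h1 : (Subgroup.center G).index.minFac ^ 2 ≤ (Subgroup.center G).index :=
    Nat.minFac_sq_le_self hpos hnp
  have h2 : p ≤ (Subgroup.center G).index.minFac := by
    apply hmin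
    · exact (Nat.minFac_dvd _).trans hdvd
    · intro h
      rw [Nat.minFac_eq_one_iff] at h
      exact hidx1 h
  have h3 : p ^ 2 ≤ (Subgroup.center G).index := (Nat.pow_le_pow_left h2 2).trans h1
  calc p ^ 2 * Nat.card (Subgroup.center G)
      ≤ (Subgroup.center G).index * Nat.card (Subgroup.center G) := Nat.mul_le_mul_right _ h3
    _ = Nat.card G := by rw [mul_comm]; exact Subgroup.card_mul_index _

end Cfsg.Agent.Lib.H20.AutOrb
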