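import Mathlib
import Cfsg.Agent.Lib.H20.AutOrbits4
import Cfsg.Agent.Lib.H16.ClassTwo

set_option autoImplicit false

/-!
# Existence of the data for the transvection-like automorphism
-/

namespace Cfsg.Agent.Lib.H20.AutOrb

open scoped commutatorElement

variable {G : Type*} [Group G]

/-- The data needed to build the extra automorphism. -/
def HasData (p : ℕ) (G : Type*) [Group G] : Prop :=
  ∃ (M : Subgroup G) (y z : G), M.Normal ∧ M.index = p ∧ Subgroup.center G ≤ M ∧ y ∉ M ∧ z ∈ M ∧
    (∀ m ∈ M, Commute z m) ∧ z ∉ commutator G ∧ z ^ p ∈ commutator G ∧ (y * z) ^ p = y ^ p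

/-- The class-two relation: `y * x = x * y * c` with `c ∈ G'` central. -/
theorem comm_rel (hD : commutator G ≤ Subgroup.center G) (x y : G) :
    ∃ c ∈ commutator G, y * x = x * y * c ∧ (∀ g : G, Commute c g) := by
  refine ⟨⁅y⁻¹, x⁻¹⁆, ?_, ?_, ?_⟩
  · rw [commutator_def]
    exact Subgroup.commutator_mem_commutator (Subgroup.mem_top _) (Subgroup.mem_top _)
  · rw [commutatorElement_def]; group
  · intro g
    have : ⁅y⁻¹, x⁻¹⁆ ∈ Subgroup.center G := hD (by
      rw [commutator_def]
      exact Subgroup.commutator_mem_commutator (Subgroup.mem_top _) (Subgroup.mem_top _))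
    exact (Subgroup.mem_center_iff.mp this g).symm

theorem pow_eq_one_of_mem_commutator [Finite G] {p : ℕ} (hc : Nat.card (commutator G) = p)
    {d : G} (hd : d ∈ commutator G) : d ^ p = 1 := by
  have h := pow_card_eq_one' (G := commutator G) (x := ⟨d, hd⟩)
  rw [hc] at h
  exact congrArg Subtype.val h

/-- `p`-th powers are central. -/
theorem pow_mem_center [Finite G] {p : ℕ} (hD : commutator G ≤ Subgroup.center G)
    (hc : Nat.card (commutator G) = p) (x : G) : x ^ p ∈ Subgroup.center G := by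
  rw [Subgroup.mem_center_iff]
  intro g
  have h1 : x ^ p ∈ (cHom hD g).ker := by
    rw [MonoidHom.mem_ker, map_pow]
    have := pow_card_eq_one' (G := commutator G) (x := cHom hD g x)
    rw [hc] at this
    exact this
  rw [mem_ker_cHom] at h1
  exact h1.eq.symm

/-- Common part: for a noncentral `z`, the centralizer `M` of `z`. -/
theorem hasData_of_noncentral [Finite G] {p : ℕ} (hp : p.Prime)
    (hD : commutator G ≤ Subgroup.center G) (hc : Nat.card (commutator G) = p) {z : G}
    (hz : z ∉ Subgroup.center G) (hzp : z ^ p ∈ commutator G)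
    (hy : ∀ y : G, ¬ Commute y z → (y * z) ^ p = y ^ p) : HasData p G := by
  have hidx := index_ker_cHom hp hD hc hz
  have hne : (cHom hD z).ker ≠ ⊤ := by
    intro h
    rw [← Subgroup.index_eq_one, hidx] at h
    exact hp.one_lt.ne' h
  obtain ⟨y, hy'⟩ : ∃ y : G, y ∉ (cHom hD z).ker := by
    by_contra hcon
    push_neg at hcon
    exact hne (eq_top_iff.mpr fun g _ => hcon g)
  refine ⟨(cHom hD z).ker, y, z, inferInstance, hidx, ?_, hy', ?_, ?_, ?_, hzp, ?_⟩
  · intro w hw
    rw [mem_ker_cHom]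
    exact (Subgroup.mem_center_iff.mp hw z).symm
  · rw [mem_ker_cHom]
  · intro m hm
    rw [mem_ker_cHom] at hm
    exact hm.symm
  · intro h
    exact hz (hD h)
  · apply hy
    intro h
    apply hy'
    rw [mem_ker_cHom]
    exact h

/-- Case A: a central element of order `p` outside `G'`. -/
theorem hasData_of_central [Finite G] {p : ℕ} (hp : p.Prime)
    (hD : commutator G ≤ Subgroup.center G) (hc : Nat.card (commutator G) = p)
    (hZ : Subgroup.center G ≠ ⊤) {w : G} (hw : w ∈ Subgroup.center G) (hwp : w ^ p = 1)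
    (hwD : w ∉ commutator G) : HasData p G := by
  obtain ⟨x₀, hx₀⟩ : ∃ x₀ : G, x₀ ∉ Subgroup.center G := by
    by_contra hcon
    push_neg at hcon
    exact hZ (eq_top_iff.mpr fun g _ => hcon g)
  have hidx := index_ker_cHom hp hD hc hx₀
  have hne : (cHom hD x₀).ker ≠ ⊤ := by
    intro h
    rw [← Subgroup.index_eq_one, hidx] at h
    exact hp.one_lt.ne' h
  obtain ⟨y, hy'⟩ : ∃ y : G, y ∉ (cHom hD x₀).ker := by
    by_contra hcon
    push_neg at hcon
    exact hne (eq_top_iff.mpr fun g _ => hcon g)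
  have hcen : ∀ g : G, Commute w g := fun g => (Subgroup.mem_center_iff.mp hw g).symm
  refine ⟨(cHom hD x₀).ker, y, w, inferInstance, hidx, ?_, hy', ?_, ?_, hwD, ?_, ?_⟩
  · intro v hv
    rw [mem_ker_cHom]
    exact (Subgroup.mem_center_iff.mp hv x₀).symm
  · rw [mem_ker_cHom]
    exact hcen x₀
  · intro m _
    exact hcen m
  · rw [hwp]; exact Subgroup.one_mem _
  · rw [(hcen y).symm.mul_pow, hwp, mul_one]

/-- Case B, `p` odd. -/
theorem hasData_of_odd [Finite G] {p : ℕ} (hp : p.Prime) (hodd : Odd p)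
    (hD : commutator G ≤ Subgroup.center G) (hc : Nat.card (commutator G) = p)
    (hZ : p ^ 2 * Nat.card (Subgroup.center G) ≤ Nat.card G)
    (hB : ∀ w ∈ Subgroup.center G, w ^ p = 1 → w ∈ commutator G) : HasData p G := by
  have hmulpow : ∀ x y : G, (x * y) ^ p = x ^ p * y ^ p := by
    intro x y
    obtain ⟨c, hcD, h, hcc⟩ := comm_rel hD x y
    exact Cfsg.Agent.Lib.H16.mul_pow_eq_of_central h (hcc x) (hcc y) hodd
      (pow_eq_one_of_mem_commutator hc hcD)
  let P : G →* G := MonoidHom.mk' (fun x => x ^ p) hmulpow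
  have hP : ∀ x, P x = x ^ p := fun x => rfl
  -- there is a noncentral element of order dividing `p`
  obtain ⟨z, hzp, hz⟩ : ∃ z : G, z ^ p = 1 ∧ z ∉ Subgroup.center G := by
    by_contra hcon
    push_neg at hcon
    have hker : P.ker ≤ commutator G := by
      intro g hg
      rw [MonoidHom.mem_ker, hP] at hg
      exact hB g (hcon g hg) hg
    have hrange : P.range ≤ Subgroup.center G := by
      rintro _ ⟨x, rfl⟩
      rw [hP]
      exact pow_mem_center hD hc x
    have h1 : Nat.card P.ker ≤ p := by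
      rw [← hc]; exact Subgroup.card_le_of_le hker
    have h2 : Nat.card P.range ≤ Nat.card (Subgroup.center G) := Subgroup.card_le_of_le hrange
    have h3 : Nat.card P.ker * Nat.card P.range = Nat.card G := by
      rw [← Subgroup.index_ker]; exact Subgroup.card_mul_index _
    have h4 : Nat.card G ≤ p * Nat.card (Subgroup.center G) := by
      rw [← h3]; exact Nat.mul_le_mul h1 h2
    have h5 : 0 < Nat.card (Subgroup.center G) := Nat.card_pos
    have h6 : p * Nat.card (Subgroup.center G) < p ^ 2 * Nat.card (Subgroup.center G) := by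
      apply Nat.mul_lt_mul_of_pos_right _ h5
      have := hp.one_lt
      nlinarith
    omega
  apply hasData_of_noncentral hp hD hc hz
  · rw [hzp]; exact Subgroup.one_mem _
  · intro y _
    rw [hmulpow, hzp, mul_one]

/-- A subgroup of index at most two contains the product of any two elements outside it. -/
theorem mul_mem_of_index_le_two {A : Type*} [Group A] [Finite A] {H : Subgroup A}
    (h : H.index ≤ 2) {a b : A} (ha : a ∉ H) (hb : b ∉ H) : a * b ∈ H := by
  have h0 : H.index ≠ 0 := Subgroup.index_ne_zero_of_finite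
  have h1 : H.index ≠ 1 := by
    intro h1
    rw [Subgroup.index_eq_one] at h1
    exact ha (by rw [h1]; exact Subgroup.mem_top a)
  have h2 : H.index = 2 := by omega
  rw [Subgroup.mul_mem_iff_of_index_two h2]
  exact ⟨fun h => absurd h ha, fun h => absurd h hb⟩

/-- Case B, `p = 2`. -/
theorem hasData_of_two [Finite G]
    (hD : commutator G ≤ Subgroup.center G) (hc : Nat.card (commutator G) = 2)
    (hZ : Subgroup.center G ≠ ⊤)
    (hB : ∀ w ∈ Subgroup.center G, w ^ 2 = 1 → w ∈ commutator G) : HasData 2 G := by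
  classical
  obtain ⟨x₀, hx₀⟩ : ∃ x₀ : G, x₀ ∉ Subgroup.center G := by
    by_contra hcon
    push_neg at hcon
    exact hZ (eq_top_iff.mpr fun g _ => hcon g)
  obtain ⟨y₀, hy₀⟩ : ∃ y₀ : G, y₀ * x₀ ≠ x₀ * y₀ := by
    by_contra hcon
    push_neg at hcon
    exact hx₀ (Subgroup.mem_center_iff.mpr hcon)
  obtain ⟨c, hcD, hrel, hcc⟩ := comm_rel hD x₀ y₀
  have hc1 : c ≠ 1 := by
    intro h
    rw [h, mul_one] at hrel
    exact hy₀ hrel
  have hD2 : ∀ d ∈ commutator G, d = 1 ∨ d = c := by
    intro d hd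
    by_contra hcon
    push_neg at hcon
    obtain ⟨e, _, huniq⟩ := (Nat.card_eq_two_iff' (1 : commutator G)).mp hc
    have h1 : (⟨d, hd⟩ : commutator G) = e :=
      huniq _ (fun h => hcon.1 (congrArg Subtype.val h))
    have h2 : (⟨c, hcD⟩ : commutator G) = e :=
      huniq _ (fun h => hc1 (congrArg Subtype.val h))
    exact hcon.2 (congrArg Subtype.val (h1.trans h2.symm))
  have hcsq : c ^ 2 = 1 := pow_eq_one_of_mem_commutator hc hcD
  have hcZ : c ∈ Subgroup.center G := hD hcD
  -- the squaring endomorphism of the center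
  let sq : Subgroup.center G →* Subgroup.center G := MonoidHom.mk' (fun w => w ^ 2) (by
    intro a b
    have : Commute a b := Subtype.ext (Subgroup.mem_center_iff.mp a.2 b).symm
    exact this.mul_pow 2)
  have hsq : ∀ w, sq w = w ^ 2 := fun w => rfl
  have hker : Nat.card sq.ker ≤ 2 := by
    rw [← hc]
    have hmem : ∀ w : sq.ker, ((w : Subgroup.center G) : G) ∈ commutator G := by
      intro w
      apply hB _ (w : Subgroup.center G).2
      have := w.2
      rw [MonoidHom.mem_ker, hsq] at this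
      exact congrArg Subtype.val this
    apply Nat.card_le_card_of_injective
      (fun w : sq.ker => (⟨((w : Subgroup.center G) : G), hmem w⟩ : commutator G))
    intro a b h
    apply Subtype.ext
    apply Subtype.ext
    have h' := congrArg (fun d : commutator G => (d : G)) h
    exact h'
  have hidx : sq.range.index ≤ 2 := by
    have h1 : Nat.card sq.ker * Nat.card sq.range = Nat.card (Subgroup.center G) := by
      rw [← Subgroup.index_ker]; exact Subgroup.card_mul_index _
    have h2 : Nat.card sq.range * sq.range.index = Nat.card (Subgroup.center G) :=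
      Subgroup.card_mul_index _
    have h3 : 0 < Nat.card sq.range := Nat.card_pos
    have h4 : sq.range.index = Nat.card sq.ker := by
      apply Nat.eq_of_mul_eq_mul_left h3
      rw [h2, ← h1, mul_comm]
    rw [h4]; exact hker
  -- squares in the center, phrased in `G`
  have hmul : ∀ a b : G, a ∈ Subgroup.center G → b ∈ Subgroup.center G →
      (¬ ∃ u ∈ Subgroup.center G, a = u ^ 2) → (¬ ∃ u ∈ Subgroup.center G, b = u ^ 2) →
      ∃ u ∈ Subgroup.center G, a * b = u ^ 2 := by
    intro a b ha hb hna hnb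
    have h1 : (⟨a, ha⟩ : Subgroup.center G) ∉ sq.range := by
      rintro ⟨u, hu⟩
      apply hna
      refine ⟨u, u.2, ?_⟩
      rw [hsq] at hu
      exact (congrArg Subtype.val hu).symm
    have h2 : (⟨b, hb⟩ : Subgroup.center G) ∉ sq.range := by
      rintro ⟨u, hu⟩
      apply hnb
      refine ⟨u, u.2, ?_⟩
      rw [hsq] at hu
      exact (congrArg Subtype.val hu).symm
    obtain ⟨u, hu⟩ := mul_mem_of_index_le_two hidx h1 h2
    refine ⟨u, u.2, ?_⟩
    rw [hsq] at hu
    exact (congrArg Subtype.val hu).symm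
  have hxsq : x₀ ^ 2 ∈ Subgroup.center G := pow_mem_center hD hc x₀
  have hysq : y₀ ^ 2 ∈ Subgroup.center G := pow_mem_center hD hc y₀
  have hxy : (x₀ * y₀) ^ 2 = x₀ ^ 2 * y₀ ^ 2 * c := by
    have := Cfsg.Agent.Lib.H16.mul_pow_of_central hrel (hcc x₀) (hcc y₀) 2
    rw [this]
    norm_num
  -- a noncentral element `t` with `c * t ^ 2` a central square
  obtain ⟨t, ht, u, hu, htu⟩ : ∃ t : G, t ∉ Subgroup.center G ∧
      ∃ u ∈ Subgroup.center G, c * t ^ 2 = u ^ 2 := by
    by_cases h1 : ∃ u ∈ Subgroup.center G, c * x₀ ^ 2 = u ^ 2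
    · exact ⟨x₀, hx₀, h1⟩
    by_cases h2 : ∃ u ∈ Subgroup.center G, c * y₀ ^ 2 = u ^ 2
    · refine ⟨y₀, ?_, h2⟩
      intro h
      exact hy₀ (Subgroup.mem_center_iff.mp h x₀).symm
    obtain ⟨u, hu, h3⟩ := hmul _ _ (Subgroup.mul_mem _ hcZ hxsq) (Subgroup.mul_mem _ hcZ hysq) h1 h2
    refine ⟨x₀ * y₀, ?_, u, hu, ?_⟩
    · intro h
      have h4 := Subgroup.mem_center_iff.mp h x₀
      apply hy₀
      have h5 : x₀ * (y₀ * x₀) = x₀ * (x₀ * y₀) := by
        rw [← mul_assoc, ← mul_assoc, ← h4, mul_assoc]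
      exact mul_left_cancel h5
    · rw [← h3, hxy]
      have e1 := (hcc (x₀ ^ 2)).eq
      have e2 := (hcc (y₀ ^ 2)).eq
      calc c * (x₀ ^ 2 * y₀ ^ 2 * c) = c * x₀ ^ 2 * (y₀ ^ 2 * c) := by group
        _ = c * x₀ ^ 2 * (c * y₀ ^ 2) := by rw [e2]
  have hucomm : ∀ g : G, Commute u g := fun g => (Subgroup.mem_center_iff.mp hu g).symm
  have hzsq : (t * u⁻¹) ^ 2 = c := by
    have h1 : Commute t u⁻¹ := (hucomm t).symm.inv_right
    rw [h1.mul_pow, inv_pow, ← htu]
    have hcinv : c⁻¹ = c := by
      rw [inv_eq_iff_mul_eq_one, ← pow_two]; exact hcsq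
    calc t ^ 2 * (c * t ^ 2)⁻¹ = c⁻¹ := by group
      _ = c := hcinv
  have hz : t * u⁻¹ ∉ Subgroup.center G := by
    intro h
    apply ht
    have : t = t * u⁻¹ * u := by group
    rw [this]
    exact Subgroup.mul_mem _ h hu
  apply hasData_of_noncentral Nat.prime_two hD hc hz
  · rw [hzsq]; exact hcD
  · intro y hy
    obtain ⟨c', hc'D, hrel', hcc'⟩ := comm_rel hD y (t * u⁻¹)
    have hc'1 : c' ≠ 1 := by
      intro h
      rw [h, mul_one] at hrel'
      exact hy hrel'.symm
    have hc'c : c' = c := (hD2 c' hc'D).resolve_left hc'1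
    have := Cfsg.Agent.Lib.H16.mul_pow_of_central hrel' (hcc' y) (hcc' (t * u⁻¹)) 2
    rw [this, hzsq, hc'c]
    norm_num
    rw [mul_assoc, ← pow_two, hcsq, mul_one]

end Cfsg.Agent.Lib.H20.AutOrb
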