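import Mathlib
import Cfsg.Agent.Lib.H20.AutOrbits1
import Cfsg.Agent.Lib.H20.AutOrbits3
import Cfsg.Agent.Lib.H20.AutOrbits5

set_option autoImplicit false

/-!
# Orbit bounds from the extra automorphism
-/

namespace Cfsg.Agent.Lib.H20.AutOrb

open scoped commutatorElement

variable {G : Type*} [Group G]

/-- Automorphisms preserve non-centrality. -/
theorem aut_not_mem_center (φ : MulAut G) {u : G} (hu : u ∉ Subgroup.center G) :
    φ u ∉ Subgroup.center G := by
  intro h
  apply hu
  rw [Subgroup.mem_center_iff] at h ⊢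
  intro g
  have := h (φ g)
  rw [← map_mul, ← map_mul] at this
  exact φ.injective this

/-- For noncentral `u`, `u * d` lies in the `Aut`-orbit of `u`. -/
theorem mul_mem_orbit [Finite G] {p : ℕ} (hp : p.Prime)
    (hD : commutator G ≤ Subgroup.center G) (hc : Nat.card (commutator G) = p) {u : G}
    (hu : u ∉ Subgroup.center G) {d : G} (hd : d ∈ commutator G) :
    u * d ∈ MulAction.orbit (MulAut G) u := by
  obtain ⟨g, hg⟩ := exists_conj_eq_mul hp hD hc hu hd
  refine ⟨MulAut.conj g, ?_⟩
  change MulAut.conj g u = u * d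
  rw [MulAut.conj_apply, hg]

section delta

variable {p : ℕ} (hp : p.Prime) (M : Subgroup G) [M.Normal] (hidx : M.index = p)
  (τ : MulAut G) (hτM : ∀ m ∈ M, τ m = m) {y z : G} (hτy : τ y = y * z) (hyM : y ∉ M)
  (hzM : z ∈ M)

/-- The displacement homomorphism `g ↦ of (τ g) / of g`. -/
noncomputable def delta (τ : MulAut G) : G →* Abelianization G :=
  (Abelianization.of.comp τ.toMonoidHom) / Abelianization.of

theorem delta_apply (τ : MulAut G) (g : G) :
    delta τ g = Abelianization.of (τ g) / Abelianization.of g := rfl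

include hτM in
theorem delta_of_mem {m : G} (hm : m ∈ M) : delta τ m = 1 := by
  rw [delta_apply, hτM m hm, div_self']

include hp hidx hτM hτy hyM hzM in
theorem delta_comp (g : G) : delta τ (τ g) = delta τ g := by
  have h1 : M ≤ MonoidHom.eqLocus ((delta τ).comp τ.toMonoidHom) (delta τ) := by
    intro m hm
    change delta τ (τ m) = delta τ m
    rw [hτM m hm]
  have h2 : y ∈ MonoidHom.eqLocus ((delta τ).comp τ.toMonoidHom) (delta τ) := by
    change delta τ (τ y) = delta τ y
    rw [hτy, map_mul, delta_of_mem M τ hτM hzM, mul_one]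
  have h3 := eq_top_of_le_of_mem hp hidx h1 h2 hyM
  have h4 : g ∈ MonoidHom.eqLocus ((delta τ).comp τ.toMonoidHom) (delta τ) := by
    rw [h3]; exact Subgroup.mem_top g
  exact h4

include hp hidx hτM hτy hyM hzM in
theorem delta_pow (g : G) (i : ℕ) : delta τ ((τ ^ i) g) = delta τ g := by
  induction i with
  | zero => rfl
  | succ k ih =>
    rw [pow_succ', MulAut.mul_apply, delta_comp hp M hidx τ hτM hτy hyM hzM, ih]

include hp hidx hτM hτy hyM hzM in
theorem of_pow_apply (g : G) (i : ℕ) :
    Abelianization.of ((τ ^ i) g) = Abelianization.of g * (delta τ g) ^ i := by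
  induction i with
  | zero => simp
  | succ k ih =>
    have h1 : Abelianization.of ((τ ^ (k + 1)) g) =
        Abelianization.of ((τ ^ k) g) * delta τ ((τ ^ k) g) := by
      rw [delta_apply, pow_succ', MulAut.mul_apply, mul_div_cancel]
    rw [h1, ih, delta_pow hp M hidx τ hτM hτy hyM hzM, pow_succ, mul_assoc]

include hp hidx hτM hτy hyM hzM in
theorem orderOf_delta (hzD : z ∉ commutator G) {x : G} (hx : x ∉ M) :
    orderOf (delta τ x) = p := by
  haveI : Fact p.Prime := ⟨hp⟩
  apply orderOf_eq_prime
  · rw [← map_pow]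
    apply delta_of_mem M τ hτM
    have := (zpow_mem_iff hp hidx hx (p : ℤ)).mpr dvd_rfl
    rwa [zpow_natCast] at this
  · intro h
    have h1 : M ≤ (delta τ).ker := fun m hm => delta_of_mem M τ hτM hm
    have h2 : x ∈ (delta τ).ker := h
    have h3 := eq_top_of_le_of_mem hp hidx h1 h2 hx
    have h4 : y ∈ (delta τ).ker := by rw [h3]; exact Subgroup.mem_top y
    rw [MonoidHom.mem_ker, delta_apply, hτy, map_mul, mul_div_cancel_left] at h4
    apply hzD
    rw [← Abelianization.ker_of, MonoidHom.mem_ker]
    exact h4

end delta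

theorem sum_ite_mem_subgroup [Fintype G] (H : Subgroup G) (a : ℕ) [DecidablePred (· ∈ H)] :
    ∑ x : G, (if x ∈ H then a else 0) = a * Nat.card H := by
  rw [← Finset.sum_filter, Finset.sum_const, smul_eq_mul, mul_comm]
  congr 1
  rw [Nat.card_eq_fintype_card, Fintype.card_subtype]

/-- The main orbit count in the case `|G'| = p`. -/
theorem mul_card_orbits_le_of_data [Finite G] {p : ℕ} (hp : p.Prime)
    (hD : commutator G ≤ Subgroup.center G) (hc : Nat.card (commutator G) = p)
    (hZ2 : p ^ 2 * Nat.card (Subgroup.center G) ≤ Nat.card G) (h : HasData p G) :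
    p * Nat.card (MulAction.orbitRel.Quotient (MulAut G) G) ≤ Nat.card G := by
  classical
  obtain ⟨M, y, z, hMn, hidx, hZM, hyM, hzM, hzc, hzD, hzp, hpow⟩ := h
  haveI := hMn
  obtain ⟨τ, hτM, hτy⟩ := exists_aut_of_data hp M hidx hyM hzM hzc hpow
  haveI : Fintype G := Fintype.ofFinite G
  have hp1 : 1 ≤ p := hp.pos
  obtain ⟨a, hpa⟩ : ∃ a, p = a + 1 := ⟨p - 1, by omega⟩
  let w : G → ℕ := fun x =>
    1 + (if x ∈ M then a else 0) + (if x ∈ Subgroup.center G then p * a else 0)
  have hwZ : ∀ x ∈ Subgroup.center G, w x = p ^ 2 := by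
    intro x hx
    simp only [w, if_pos hx, if_pos (hZM hx)]
    rw [hpa]; ring
  have hwM : ∀ x ∈ M, p ≤ w x := by
    intro x hx
    simp only [w, if_pos hx]; omega
  have hw1 : ∀ x, 1 ≤ w x := by intro x; simp only [w]; omega
  have hcardD : Fintype.card (commutator G) = p := by rw [← Nat.card_eq_fintype_card, hc]
  have key := weight_mul_card_orbits_le (Γ := MulAut G) (X := G) w (p ^ 2) ?_
  · -- arithmetic
    have hsum : ∑ x, w x =
        Nat.card G + a * Nat.card M + p * a * Nat.card (Subgroup.center G) := by
      simp only [w, Finset.sum_add_distrib]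
      rw [sum_ite_mem_subgroup, sum_ite_mem_subgroup, Finset.sum_const, Finset.card_univ,
        smul_eq_mul, mul_one, ← Nat.card_eq_fintype_card]
    have hM : Nat.card M * p = Nat.card G := by rw [← hidx]; exact Subgroup.card_mul_index M
    rw [hsum] at key
    have h1 : p * (Nat.card G + a * Nat.card M + p * a * Nat.card (Subgroup.center G)) ≤
        p * (p * Nat.card G) := by
      have e1 : p * (a * Nat.card M) = a * Nat.card G := by rw [← hM]; ring
      have e2 : p * (p * a * Nat.card (Subgroup.center G)) =
          a * (p ^ 2 * Nat.card (Subgroup.center G)) := by ring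
      have e3 : a * (p ^ 2 * Nat.card (Subgroup.center G)) ≤ a * Nat.card G :=
        Nat.mul_le_mul_left _ hZ2
      have e4 : p + 2 * a ≤ p * p := by rw [hpa]; nlinarith [Nat.le_mul_self a]
      calc p * (Nat.card G + a * Nat.card M + p * a * Nat.card (Subgroup.center G))
          = p * Nat.card G + a * Nat.card G + a * (p ^ 2 * Nat.card (Subgroup.center G)) := by
            rw [mul_add, mul_add, e1, e2]
        _ ≤ p * Nat.card G + a * Nat.card G + a * Nat.card G := Nat.add_le_add_left e3 _
        _ = (p + 2 * a) * Nat.card G := by ring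
        _ ≤ p * p * Nat.card G := Nat.mul_le_mul_right _ e4
        _ = p * (p * Nat.card G) := by ring
    have h2 := Nat.le_of_mul_le_mul_left h1 hp.pos
    have h3 : p * (p * Nat.card (MulAction.orbitRel.Quotient (MulAut G) G)) ≤
        p * Nat.card G := by
      calc p * (p * Nat.card (MulAction.orbitRel.Quotient (MulAut G) G))
          = p ^ 2 * Nat.card (MulAction.orbitRel.Quotient (MulAut G) G) := by ring
        _ ≤ _ := key
        _ ≤ _ := h2
    exact Nat.le_of_mul_le_mul_left h3 hp.pos
  · -- every orbit has weight at least `p ^ 2`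
    intro x
    by_cases hxZ : x ∈ Subgroup.center G
    · refine ⟨{x}, ?_, ?_⟩
      · intro s hs
        rw [Finset.mem_singleton] at hs
        rw [hs]; exact MulAction.mem_orbit_self x
      · rw [Finset.sum_singleton, hwZ x hxZ]
    by_cases hall : ∀ s ∈ MulAction.orbit (MulAut G) x, s ∈ M
    · refine ⟨Finset.univ.image (fun d : commutator G => x * (d : G)), ?_, ?_⟩
      · intro s hs
        rw [Finset.mem_image] at hs
        obtain ⟨d, -, rfl⟩ := hs
        exact mul_mem_orbit hp hD hc hxZ d.2
      · rw [Finset.sum_image]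
        · calc p ^ 2 = ∑ _d : commutator G, p := by
                rw [Finset.sum_const, Finset.card_univ, hcardD, smul_eq_mul, pow_two]
            _ ≤ _ := by
                apply Finset.sum_le_sum
                intro d _
                exact hwM _ (hall _ (mul_mem_orbit hp hD hc hxZ d.2))
        · intro d _ d' _ hdd
          exact Subtype.ext (mul_left_cancel hdd)
    · push_neg at hall
      obtain ⟨x₁, hx₁o, hx₁M⟩ := hall
      have hx₁Z : x₁ ∉ Subgroup.center G := fun h => hx₁M (hZM h)
      have horb : MulAction.orbit (MulAut G) x₁ = MulAction.orbit (MulAut G) x :=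
        MulAction.orbit_eq_iff.mpr hx₁o
      have hord := orderOf_delta hp M hidx τ hτM hτy hyM hzM hzD hx₁M
      refine ⟨Finset.univ.image (fun q : Fin p × commutator G => (τ ^ (q.1 : ℕ)) x₁ * (q.2 : G)),
        ?_, ?_⟩
      · intro s hs
        rw [Finset.mem_image] at hs
        obtain ⟨q, -, rfl⟩ := hs
        rw [← horb]
        have h1 : (τ ^ (q.1 : ℕ)) x₁ ∈ MulAction.orbit (MulAut G) x₁ := ⟨τ ^ (q.1 : ℕ), rfl⟩
        have h2 := mul_mem_orbit hp hD hc (aut_not_mem_center (τ ^ (q.1 : ℕ)) hx₁Z) q.2.2
        rw [MulAction.orbit_eq_iff.mpr h1] at h2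
        exact h2
      · rw [Finset.sum_image]
        · calc p ^ 2 = ∑ _q : Fin p × commutator G, 1 := by
                rw [Finset.sum_const, Finset.card_univ, Fintype.card_prod, Fintype.card_fin,
                  hcardD, smul_eq_mul, mul_one, pow_two]
            _ ≤ _ := Finset.sum_le_sum (fun q _ => hw1 _)
        · intro q _ q' _ hqq
          beta_reduce at hqq
          have h1 := congrArg Abelianization.of hqq
          have hofd : ∀ d : commutator G, Abelianization.of (d : G) = 1 := by
            intro d
            rw [← MonoidHom.mem_ker, Abelianization.ker_of]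
            exact d.2
          rw [map_mul, map_mul, hofd, hofd, mul_one, mul_one,
            of_pow_apply hp M hidx τ hτM hτy hyM hzM, of_pow_apply hp M hidx τ hτM hτy hyM hzM]
            at h1
          have h2 : delta τ x₁ ^ (q.1 : ℕ) = delta τ x₁ ^ (q'.1 : ℕ) := mul_left_cancel h1
          have h3 : (q.1 : ℕ) = (q'.1 : ℕ) := by
            apply pow_injOn_Iio_orderOf (x := delta τ x₁)
            · rw [Set.mem_Iio, hord]; exact q.1.2
            · rw [Set.mem_Iio, hord]; exact q'.1.2
            · exact h2
          have h4 : q.1 = q'.1 := Fin.ext h3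
          have h5 : (q.2 : G) = (q'.2 : G) := by
            rw [h3] at hqq
            exact mul_left_cancel hqq
          exact Prod.ext h4 (Subtype.ext h5)

end Cfsg.Agent.Lib.H20.AutOrb
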