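import Mathlib
import Cfsg.Agent.Lib.H20.BGC1
import Cfsg.Agent.Lib.H20.DirectFactor

set_option autoImplicit false

/-!
# Two largest class sizes coprime, part 2: centralizers of the two kinds of elements
-/

namespace Cfsg.Agent.Lib.H20.BGC

open scoped Pointwise
open Cfsg.Agent.Lib.H20.BHM

variable {G : Type*} [Group G]

theorem conj_mem_center_iff (t g : G) : t * g * t⁻¹ ∈ Subgroup.center G ↔ g ∈ Subgroup.center G := by
  constructor
  · intro h
    have := (inferInstance : (Subgroup.center G).Normal).conj_mem _ h t⁻¹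
    have e : t⁻¹ * (t * g * t⁻¹) * t⁻¹⁻¹ = g := by group
    rwa [e] at this
  · intro h
    exact (inferInstance : (Subgroup.center G).Normal).conj_mem _ h t

theorem conj_commute {t g b : G} (h : g * b = b * g) :
    (t * g * t⁻¹) * (t * b * t⁻¹) = (t * b * t⁻¹) * (t * g * t⁻¹) := by
  calc (t * g * t⁻¹) * (t * b * t⁻¹) = t * (g * b) * t⁻¹ := by group
    _ = t * (b * g) * t⁻¹ := by rw [h]
    _ = (t * b * t⁻¹) * (t * g * t⁻¹) := by group

section hyp

variable [Finite G] {m n : ℕ} (H : Hyp G m n) {x y : G} (hx : cs x = n) (hy : cs y = m)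

include H hy

/-- L4: an element commuting with an element of class size `n` does not have class size `m`. -/
theorem Hyp.cs_ne_m_of_commute_n {a g : G} (ha : cs a = n) (hg : g * a = a * g) : cs g ≠ m := by
  intro hgm
  obtain ⟨q, hq, hqn⟩ := Nat.exists_prime_and_dvd (H.hn.ne')
  have hqm : ¬ q ∣ m := by
    intro h
    exact H.not_dvd hq h hqn
  haveI : Fact q.Prime := ⟨hq⟩
  obtain ⟨k, l, hkl, ⟨e, he⟩, hl⟩ := exists_pPart_pPrimePart g (isOfFinOrder_of_finite g) q hq
  have hgc : Commute g a := hg
  have hk : g ^ k ∈ Subgroup.center G :=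
    H.mem_center_of_commute_n hy ha (hgc.pow_left k).eq hq hqm he
  have hC := centralizer_pow_eq_of_mul hkl hk
  have hl1 : cs (g ^ l) = m := by unfold cs; rw [hC]; exact hgm
  obtain ⟨Q⟩ : Nonempty (Sylow q G) := inferInstance
  have hQ : ¬ ((Q : Subgroup G) ≤ Subgroup.center G) := by
    intro hQ
    have h1 : cs a ∣ (Q : Subgroup G).index := by
      apply Subgroup.index_dvd_of_le
      intro u hu
      have := hQ hu
      rw [Subgroup.mem_center_iff] at this
      rw [Subgroup.mem_centralizer_singleton_iff]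
      exact (this a).symm
    rw [ha] at h1
    exact Q.not_dvd_index (hqn.trans h1)
  obtain ⟨u0, hu0Q, hu0Z⟩ := SetLike.not_le_iff_exists.mp hQ
  obtain ⟨i, hi⟩ := (IsPGroup.iff_orderOf.mp Q.isPGroup') ⟨u0, hu0Q⟩
  rw [Subgroup.orderOf_mk] at hi
  obtain ⟨t, ht⟩ := exists_conj_mem_of_not_dvd_index (Subgroup.centralizer ({g ^ l} : Set G))
    (by rw [show (Subgroup.centralizer ({g ^ l} : Set G)).index = cs (g ^ l) from rfl, hl1]; exact hqm)
    hi
  rw [Subgroup.mem_centralizer_singleton_iff] at ht
  have huZ : t * u0 * t⁻¹ ∉ Subgroup.center G := fun h => hu0Z ((conj_mem_center_iff t u0).mp h)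
  have huo : orderOf (t * u0 * t⁻¹) = q ^ i := by rw [orderOf_conj', hi]
  have hco : (orderOf (t * u0 * t⁻¹)).Coprime (orderOf (g ^ l)) := by
    rw [huo]; exact (hl.symm).pow_left i
  have hle := H.centralizer_le_of_m hl1 ht hco
  have haC : a ∈ Subgroup.centralizer ({g ^ l} : Set G) := by
    rw [Subgroup.mem_centralizer_singleton_iff]
    exact ((hgc.pow_left l).eq).symm
  have h2 := hle haC
  rw [Subgroup.mem_centralizer_singleton_iff] at h2
  exact huZ (H.mem_center_of_commute_n hy ha h2.symm hq hqm huo)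

include hx

/-- The stabilizer of the class of `x` is central. -/
theorem Hyp.stabK_le_center : stabK x ≤ Subgroup.center G := by
  intro k hk
  have hxD : (cs x).Coprime m := by rw [hx]; exact H.hcop.symm
  obtain ⟨h, hh⟩ := mul_mem_cls_of_mem_stabK hk (self_mem_cls x)
  have hk' : k = (h * x * h⁻¹) * x⁻¹ := by rw [hh]; group
  have hD1 : (cs (h * x * h⁻¹)).Coprime m := by rw [cs_conj]; exact hxD
  have hD2 : (cs x⁻¹).Coprime m := by rw [cs_inv]; exact hxD
  have hc : Commute (h * x * h⁻¹) x⁻¹ := H.commute_D hy hD1 hD2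
  have hkm : k ^ m ∈ Subgroup.center G := by
    rw [hk', hc.mul_pow]
    exact Subgroup.mul_mem _ (H.pow_mem_center_D hy hD1) (H.pow_mem_center_D hy hD2)
  have hord : orderOf k ∣ n := by
    have h1 : orderOf k ∣ Nat.card (stabK x) := by
      have := orderOf_dvd_natCard (⟨k, hk⟩ : stabK x)
      rwa [Subgroup.orderOf_mk] at this
    have h2 := card_stabK_dvd x
    rw [hx] at h2
    exact h1.trans h2
  have hco : m.Coprime (orderOf k) := Nat.Coprime.coprime_dvd_right hord H.hcop
  obtain ⟨t, ht⟩ := exists_pow_eq_self_of_coprime hco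
  rw [← ht]
  exact Subgroup.pow_mem _ hkm t

/-- L5: a non-central element whose class size divides `m` has class size `m`. -/
theorem Hyp.cs_eq_m_of_dvd {u : G} (hu : u ∉ Subgroup.center G) (hd : cs u ∣ m) : cs u = m := by
  have hxD : (cs x).Coprime m := by rw [hx]; exact H.hcop.symm
  have hc : (cs u).Coprime (cs x) := by
    rw [hx]; exact Nat.Coprime.coprime_dvd_left hd H.hcop
  by_cases h2 : cs (u * x) = m
  · have hD2 : (cs x⁻¹).Coprime m := by rw [cs_inv]; exact hxD
    have := H.cs_mul_D' hD2 h2
    rwa [mul_inv_cancel_right] at this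
  · exfalso
    have h3 : cs (u * x) < m := lt_of_le_of_ne (H.htop _) h2
    have hle : cs (u * x) ≤ cs x := by rw [hx]; exact H.hsecond _ h3
    have h4 := fun g => inv_mul_conj_mem_stabK_of_le hc hle g
    have h5 := cs_dvd_card_of_conj_mem (stabK x) (H.stabK_le_center hx hy) h4
    have h6 : cs u ∣ n := by
      have := card_stabK_dvd x
      rw [hx] at this
      exact h5.trans this
    have h7 : cs u ∣ 1 := by
      have := Nat.dvd_gcd hd h6
      rwa [H.hcop] at this
    exact hu ((cs_eq_one_iff u).mp (Nat.dvd_one.mp h7))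

/-- L6: for `b` of class size `m`, a `p`-element of `C(b)` with `p ∣ m` is central. -/
theorem Hyp.mem_center_of_commute_m {b g : G} (hb : cs b = m) (hg : g * b = b * g) {p j : ℕ}
    (hp : p.Prime) (hpm : p ∣ m) (hgo : orderOf g = p ^ j) : g ∈ Subgroup.center G := by
  by_contra hgZ
  haveI : Fact p.Prime := ⟨hp⟩
  have hpn : ¬ p ∣ n := H.not_dvd hp hpm
  have hidx : ¬ p ∣ (Subgroup.centralizer ({x} : Set G)).index := by
    rw [show (Subgroup.centralizer ({x} : Set G)).index = cs x from rfl, hx]; exact hpn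
  obtain ⟨t, ht⟩ := exists_conj_mem_of_not_dvd_index _ hidx hgo
  rw [Subgroup.mem_centralizer_singleton_iff] at ht
  set g' := t * g * t⁻¹ with hg'
  set b' := t * b * t⁻¹ with hb'
  have hb'm : cs b' = m := by rw [hb', cs_conj]; exact hb
  have hg'b' : g' * b' = b' * g' := conj_commute hg
  have hg'o : orderOf g' = p ^ j := by rw [hg', orderOf_conj', hgo]
  have hg'Z : g' ∉ Subgroup.center G := fun h => hgZ ((conj_mem_center_iff t g).mp h)
  have hg'm : cs g' ≠ m := H.cs_ne_m_of_commute_n hy hx ht
  obtain ⟨k, l, hkl, ⟨e, he⟩, hl⟩ := exists_pPart_pPrimePart b' (isOfFinOrder_of_finite b') p hp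
  have hk : b' ^ k ∈ Subgroup.center G := by
    by_contra hkZ
    have h1 : cs (b' ^ k) ∣ m := hb'm ▸ cs_dvd_of_le (centralizer_le_pow b' k)
    have h2 := H.cs_eq_m_of_dvd hx hy hkZ h1
    obtain ⟨t', ht'⟩ := exists_conj_mem_of_not_dvd_index _ hidx he
    rw [Subgroup.mem_centralizer_singleton_iff] at ht'
    apply H.cs_ne_m_of_commute_n hy hx ht'
    rw [cs_conj]; exact h2
  have hC := centralizer_pow_eq_of_mul hkl hk
  have hl1 : cs (b' ^ l) = m := by unfold cs; rw [hC]; exact hb'm
  have hgl : g' * b' ^ l = b' ^ l * g' := by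
    have : Commute g' b' := hg'b'
    exact (this.pow_right l).eq
  have hco : (orderOf g').Coprime (orderOf (b' ^ l)) := by
    rw [hg'o]; exact (hl.symm).pow_left j
  have hle := H.centralizer_le_of_m hl1 hgl hco
  have h3 : cs g' ∣ m := by
    have := cs_dvd_of_le hle
    rwa [hl1] at this
  exact hg'm (H.cs_eq_m_of_dvd hx hy hg'Z h3)

/-- L7: `C(b) ∩ C(x)` is central when `b` has class size `m`. -/
theorem Hyp.inf_le_center {b : G} (hb : cs b = m) :
    Subgroup.centralizer ({b} : Set G) ⊓ Subgroup.centralizer ({x} : Set G) ≤ Subgroup.center G := by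
  intro g hg
  rw [Subgroup.mem_inf, Subgroup.mem_centralizer_singleton_iff,
    Subgroup.mem_centralizer_singleton_iff] at hg
  by_contra hgZ
  obtain ⟨k, r, j, hr, hkZ, hko⟩ := exists_prime_pow_part _ g rfl hgZ
  have h1 : Commute g b := hg.1
  have h2 : Commute g x := hg.2
  by_cases hrm : r ∣ m
  · exact hkZ (H.mem_center_of_commute_m hx hy hb (h1.pow_left k).eq hr hrm hko)
  · exact hkZ (H.mem_center_of_commute_n hy hx (h2.pow_left k).eq hr hrm hko)

theorem Hyp.index_center : (Subgroup.center G).index = m * n := by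
  have h1 : Subgroup.center G =
      Subgroup.centralizer ({y} : Set G) ⊓ Subgroup.centralizer ({x} : Set G) := by
    apply le_antisymm
    · intro z hz
      rw [Subgroup.mem_center_iff] at hz
      rw [Subgroup.mem_inf, Subgroup.mem_centralizer_singleton_iff,
        Subgroup.mem_centralizer_singleton_iff]
      exact ⟨(hz y).symm, (hz x).symm⟩
    · exact H.inf_le_center hx hy hy
  rw [h1, index_inf_of_coprime]
  · rw [show (Subgroup.centralizer ({y} : Set G)).index = cs y from rfl,
      show (Subgroup.centralizer ({x} : Set G)).index = cs x from rfl, hx, hy]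
  · rw [show (Subgroup.centralizer ({y} : Set G)).index = cs y from rfl,
      show (Subgroup.centralizer ({x} : Set G)).index = cs x from rfl, hx, hy]
    exact H.hcop

theorem Hyp.card_eq : Nat.card G = Nat.card (Subgroup.center G) * (m * n) := by
  rw [← H.index_center hx hy]; exact (Subgroup.card_mul_index _).symm

theorem Hyp.card_centralizer_m {b : G} (hb : cs b = m) :
    Nat.card (Subgroup.centralizer ({b} : Set G)) = Nat.card (Subgroup.center G) * n := by
  have h1 := (Subgroup.centralizer ({b} : Set G)).card_mul_index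
  rw [show (Subgroup.centralizer ({b} : Set G)).index = cs b from rfl, hb, H.card_eq hx hy] at h1
  have hm0 : 0 < m := by have := H.hmn; omega
  have : Nat.card (Subgroup.centralizer ({b} : Set G)) * m =
      Nat.card (Subgroup.center G) * n * m := by rw [h1]; ring
  exact Nat.eq_of_mul_eq_mul_right hm0 this

theorem Hyp.card_centralizer_n {a : G} (ha : cs a = n) :
    Nat.card (Subgroup.centralizer ({a} : Set G)) = Nat.card (Subgroup.center G) * m := by
  have h1 := (Subgroup.centralizer ({a} : Set G)).card_mul_index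
  rw [show (Subgroup.centralizer ({a} : Set G)).index = cs a from rfl, ha, H.card_eq hx hy] at h1
  have hn0 : 0 < n := by have := H.hn; omega
  have : Nat.card (Subgroup.centralizer ({a} : Set G)) * n =
      Nat.card (Subgroup.center G) * m * n := by rw [h1]; ring
  exact Nat.eq_of_mul_eq_mul_right hn0 this

end hyp

end Cfsg.Agent.Lib.H20.BGC
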