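import Mathlib
import Cfsg.Agent.Lib.H20.BGC2
import Cfsg.Agent.Lib.H20.ConjOrbit

set_option autoImplicit false

/-!
# Two largest class sizes coprime, part 3: the abelian normal subgroup `M` and the key counting
-/

namespace Cfsg.Agent.Lib.H20.BGC

open scoped Pointwise
open Cfsg.Agent.Lib.H20.BHM

variable {G : Type*} [Group G]

/-- `nrm u a i = ∏_{l < i} u^l a u^{-l}`. -/
def nrm (u a : G) : ℕ → G
  | 0 => 1
  | (i + 1) => nrm u a i * (u ^ i * a * (u ^ i)⁻¹)

theorem nrm_mem (M : Subgroup G) [hM : M.Normal] (u : G) {a : G} (ha : a ∈ M) (i : ℕ) :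
    nrm u a i ∈ M := by
  induction i with
  | zero => exact M.one_mem
  | succ i ih => exact M.mul_mem ih (hM.conj_mem a ha _)

theorem nrm_succ' (u a : G) (i : ℕ) : nrm u a (i + 1) = a * (u * nrm u a i * u⁻¹) := by
  induction i with
  | zero => simp [nrm]
  | succ i ih =>
    have e : nrm u a (i + 1 + 1) = nrm u a (i + 1) * (u ^ (i + 1) * a * (u ^ (i + 1))⁻¹) := rfl
    have e2 : nrm u a (i + 1) = nrm u a i * (u ^ i * a * (u ^ i)⁻¹) := rfl
    rw [e]
    conv_lhs => rw [ih]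
    rw [e2, pow_succ']
    group

theorem nrm_conj_self {u a : G} {k : ℕ} (hk : u ^ k = 1) (hc : Commute a (nrm u a k)) :
    u * nrm u a k * u⁻¹ = nrm u a k := by
  have h1 : nrm u a (k + 1) = nrm u a k * a := by
    show nrm u a k * (u ^ k * a * (u ^ k)⁻¹) = nrm u a k * a
    rw [hk]; group
  have h2 := nrm_succ' u a k
  rw [h1, ← hc.eq] at h2
  exact (mul_left_cancel h2).symm

theorem conj_nrm {δ u : G} (h : δ * u = u * δ) (a : G) (i : ℕ) :
    δ * nrm u a i * δ⁻¹ = nrm u (δ * a * δ⁻¹) i := by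
  induction i with
  | zero => simp [nrm]
  | succ i ih =>
    show δ * (nrm u a i * (u ^ i * a * (u ^ i)⁻¹)) * δ⁻¹ =
      nrm u (δ * a * δ⁻¹) i * (u ^ i * (δ * a * δ⁻¹) * (u ^ i)⁻¹)
    rw [← ih]
    have hc : Commute δ u := h
    have h1 : δ * u ^ i = u ^ i * δ := (hc.pow_right i).eq
    calc δ * (nrm u a i * (u ^ i * a * (u ^ i)⁻¹)) * δ⁻¹
        = δ * nrm u a i * δ⁻¹ * ((δ * u ^ i) * a * (δ * u ^ i)⁻¹) := by group
      _ = δ * nrm u a i * δ⁻¹ * ((u ^ i * δ) * a * (u ^ i * δ)⁻¹) := by rw [h1]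
      _ = δ * nrm u a i * δ⁻¹ * (u ^ i * (δ * a * δ⁻¹) * (u ^ i)⁻¹) := by group

theorem nrm_mul {u a v : G} (hvu : v * u = u * v)
    (hva : ∀ l : ℕ, Commute v (u ^ l * a * (u ^ l)⁻¹)) (i : ℕ) :
    nrm u (a * v) i = nrm u a i * v ^ i := by
  induction i with
  | zero => simp [nrm]
  | succ i ih =>
    show nrm u (a * v) i * (u ^ i * (a * v) * (u ^ i)⁻¹) =
      nrm u a i * (u ^ i * a * (u ^ i)⁻¹) * v ^ (i + 1)
    rw [ih]
    have hc : Commute v u := hvu
    have h1 : u ^ i * v = v * u ^ i := ((hc.pow_right i).eq).symm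
    have h1' : v * (u ^ i)⁻¹ = (u ^ i)⁻¹ * v := by
      calc v * (u ^ i)⁻¹ = (u ^ i)⁻¹ * (u ^ i * v) * (u ^ i)⁻¹ := by group
        _ = (u ^ i)⁻¹ * (v * u ^ i) * (u ^ i)⁻¹ := by rw [h1]
        _ = (u ^ i)⁻¹ * v := by group
    have h2 : u ^ i * (a * v) * (u ^ i)⁻¹ = (u ^ i * a * (u ^ i)⁻¹) * v := by
      calc u ^ i * (a * v) * (u ^ i)⁻¹ = u ^ i * a * (v * (u ^ i)⁻¹) := by group
        _ = u ^ i * a * ((u ^ i)⁻¹ * v) := by rw [h1']
        _ = (u ^ i * a * (u ^ i)⁻¹) * v := by group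
    have h3 : v ^ i * (u ^ i * a * (u ^ i)⁻¹) = (u ^ i * a * (u ^ i)⁻¹) * v ^ i :=
      ((hva i).pow_left i).eq
    rw [h2, pow_succ]
    calc nrm u a i * v ^ i * (u ^ i * a * (u ^ i)⁻¹ * v)
        = nrm u a i * (v ^ i * (u ^ i * a * (u ^ i)⁻¹)) * v := by group
      _ = nrm u a i * ((u ^ i * a * (u ^ i)⁻¹) * v ^ i) * v := by rw [h3]
      _ = nrm u a i * (u ^ i * a * (u ^ i)⁻¹) * (v ^ i * v) := by group

/-- The set of elements whose class size is coprime to `m`. -/
def Dset (G : Type*) [Group G] (m : ℕ) : Set G := {a | (cs a).Coprime m}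

/-- The subgroup generated by the elements whose class size is coprime to `m`. -/
def Mgrp (G : Type*) [Group G] (m : ℕ) : Subgroup G := Subgroup.closure (Dset G m)

instance Mgrp_normal (m : ℕ) : (Mgrp G m).Normal := by
  apply closure_normal_of_conj
  intro g a ha
  show (cs (g * a * g⁻¹)).Coprime m
  rw [cs_conj]
  exact ha

theorem center_le_Mgrp (m : ℕ) : Subgroup.center G ≤ Mgrp G m := by
  intro z hz
  apply Subgroup.subset_closure
  show (cs z).Coprime m
  rw [(cs_eq_one_iff z).mpr hz]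
  exact Nat.coprime_one_left m

section hyp

variable [Finite G] {m n : ℕ} (H : Hyp G m n) {x y : G} (hx : cs x = n) (hy : cs y = m)

include H

theorem Hyp.mem_Mgrp_of_n {a : G} (ha : cs a = n) : a ∈ Mgrp G m := by
  apply Subgroup.subset_closure
  show (cs a).Coprime m
  rw [ha]
  exact H.hcop.symm

include hy

theorem Hyp.Mgrp_comm {a a' : G} (ha : a ∈ Mgrp G m) (ha' : a' ∈ Mgrp G m) : a * a' = a' * a := by
  have h1 : Mgrp G m ≤ Subgroup.centralizer (Dset G m) := by
    unfold Mgrp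
    rw [Subgroup.closure_le]
    intro d hd
    rw [SetLike.mem_coe, Subgroup.mem_centralizer_iff]
    intro d' hd'
    exact H.commute_D hy hd' hd
  have h2 : Mgrp G m ≤ Subgroup.centralizer (Mgrp G m : Set G) := by
    unfold Mgrp
    rw [Subgroup.closure_le]
    intro d hd
    rw [SetLike.mem_coe, Subgroup.mem_centralizer_iff]
    intro a'' ha''
    have := h1 ha''
    rw [Subgroup.mem_centralizer_iff] at this
    exact (this d hd).symm
  have := h2 ha'
  rw [Subgroup.mem_centralizer_iff] at this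
  exact this a ha

theorem Hyp.pow_mem_center_M {a : G} (ha : a ∈ Mgrp G m) : a ^ m ∈ Subgroup.center G := by
  have key : ∀ a ∈ Mgrp G m, a ∈ Mgrp G m ∧ a ^ m ∈ Subgroup.center G := by
    intro a ha
    unfold Mgrp at ha
    induction ha using Subgroup.closure_induction with
    | mem d hd => exact ⟨Subgroup.subset_closure hd, H.pow_mem_center_D hy hd⟩
    | one => exact ⟨Subgroup.one_mem _, by rw [one_pow]; exact Subgroup.one_mem _⟩
    | mul a b _ _ iha ihb =>
      refine ⟨Subgroup.mul_mem _ iha.1 ihb.1, ?_⟩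
      have hc : Commute a b := H.Mgrp_comm hy iha.1 ihb.1
      rw [hc.mul_pow]
      exact Subgroup.mul_mem _ iha.2 ihb.2
    | inv a _ iha =>
      refine ⟨Subgroup.inv_mem _ iha.1, ?_⟩
      rw [inv_pow]
      exact Subgroup.inv_mem _ iha.2
  exact (key a ha).2

include hx

theorem Hyp.Mgrp_inf_centralizer_le {b : G} (hb : cs b = m) :
    Mgrp G m ⊓ Subgroup.centralizer ({b} : Set G) ≤ Subgroup.center G := by
  intro a ha
  rw [Subgroup.mem_inf] at ha
  obtain ⟨haM, hab⟩ := ha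
  rw [Subgroup.mem_centralizer_singleton_iff] at hab
  by_contra haZ
  obtain ⟨k, r, j, hr, hkZ, hko⟩ := exists_prime_pow_part _ a rfl haZ
  have hc : Commute a b := hab
  by_cases hrm : r ∣ m
  · exact hkZ (H.mem_center_of_commute_m hx hy hb (hc.pow_left k).eq hr hrm hko)
  · have h1 := H.pow_mem_center_M hy (Subgroup.pow_mem _ haM k)
    have hco : m.Coprime (orderOf (a ^ k)) := by
      rw [hko]
      apply Nat.Coprime.pow_right
      exact ((Nat.Prime.coprime_iff_not_dvd hr).mpr hrm).symm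
    obtain ⟨t, ht⟩ := exists_pow_eq_self_of_coprime hco
    apply hkZ
    rw [← ht]
    exact Subgroup.pow_mem _ h1 t

/-- The key lemma: an element of `C(u)` fixing `nrm u x k` that moves `x` inside `x · C_M(u)`
fixes `x`. -/
theorem Hyp.key_lemma {u t v : G} {k : ℕ} (hk : u ^ k = 1) (hkm : k.Coprime m)
    (htu : t * u = u * t) (htN : t * nrm u x k = nrm u x k * t)
    (hvM : v ∈ Mgrp G m) (hvu : v * u = u * v) (htx : t * x * t⁻¹ = x * v) : v = 1 := by
  have hxM : x ∈ Mgrp G m := H.mem_Mgrp_of_n hx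
  have h1 : nrm u (t * x * t⁻¹) k = nrm u x k := by
    rw [← conj_nrm htu, htN]; group
  have h2 : nrm u (x * v) k = nrm u x k * v ^ k := by
    apply nrm_mul hvu
    intro l
    exact H.Mgrp_comm hy hvM ((Mgrp_normal m).conj_mem x hxM _)
  rw [htx, h2] at h1
  have hvk : v ^ k = 1 := by
    have := mul_left_cancel (a := nrm u x k) (b := v ^ k) (c := 1) (by rw [h1, mul_one])
    exact this
  have hvm : v ^ m = 1 := by
    have hxm := H.pow_mem_center_M hy hxM
    have hc : Commute x v := H.Mgrp_comm hy hxM hvM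
    have e1 : (t * x * t⁻¹) ^ m = x ^ m := by
      rw [conj_pow]
      have := (Subgroup.mem_center_iff.mp hxm) t
      calc t * x ^ m * t⁻¹ = x ^ m * t * t⁻¹ := by rw [this]
        _ = x ^ m := by group
    rw [htx, hc.mul_pow] at e1
    exact mul_left_cancel (a := x ^ m) (by rw [e1, mul_one])
  have h3 : orderOf v ∣ Nat.gcd k m :=
    Nat.dvd_gcd (orderOf_dvd_of_pow_eq_one hvk) (orderOf_dvd_of_pow_eq_one hvm)
  rw [hkm] at h3
  exact orderOf_eq_one_iff.mp (Nat.dvd_one.mp h3)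

end hyp

end Cfsg.Agent.Lib.H20.BGC
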