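import Mathlib
import Cfsg.Agent.Lib.H20.BGC3

set_option autoImplicit false

/-!
# Two largest class sizes coprime, part 4: no edges, and the trichotomy of class sizes
-/

namespace Cfsg.Agent.Lib.H20.BGC

open scoped Pointwise
open Cfsg.Agent.Lib.H20.BHM

variable {G : Type*} [Group G]

section hyp

variable [Finite G] {m n : ℕ} (H : Hyp G m n) {x y : G} (hx : cs x = n) (hy : cs y = m)

include H hx hy

theorem Hyp.Mgrp_le_centralizer : Mgrp G m ≤ Subgroup.centralizer ({x} : Set G) := by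
  intro a ha
  rw [Subgroup.mem_centralizer_singleton_iff]
  exact H.Mgrp_comm hy ha (H.mem_Mgrp_of_n hx)

/-- ME: a non-central prime-power element of the centralizer of a class-`m` element commutes with no
non-central element of `M`. -/
theorem Hyp.no_M_edge {b u c : G} {q j : ℕ} (hq : q.Prime) (hb : cs b = m) (hub : u * b = b * u)
    (huo : orderOf u = q ^ j) (huZ : u ∉ Subgroup.center G) (hcM : c ∈ Mgrp G m)
    (hcZ : c ∉ Subgroup.center G) (hcu : c * u = u * c) : False := by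
  have hqm : ¬ q ∣ m := fun h => huZ (H.mem_center_of_commute_m hx hy hb hub hq h huo)
  have hqm' : m.Coprime q := ((Nat.Prime.coprime_iff_not_dvd hq).mpr hqm).symm
  obtain ⟨k, hk⟩ : ∃ k, k = q ^ j := ⟨_, rfl⟩
  have huk : u ^ k = 1 := by rw [hk, ← huo]; exact pow_orderOf_eq_one u
  have hkm : k.Coprime m := by rw [hk]; exact (hqm'.symm).pow_left j
  have hxM : x ∈ Mgrp G m := H.mem_Mgrp_of_n hx
  obtain ⟨Nx, hNx⟩ : ∃ Nx, Nx = nrm u x k := ⟨_, rfl⟩
  have hNxM : Nx ∈ Mgrp G m := by rw [hNx]; exact nrm_mem _ u hxM k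
  have hNxu : u * Nx * u⁻¹ = Nx := by
    rw [hNx]; exact nrm_conj_self huk (H.Mgrp_comm hy hxM (hNx ▸ hNxM))
  obtain ⟨c0, hc0M, hc0Z, hc0u, hc0N⟩ : ∃ c0 ∈ Mgrp G m, c0 ∉ Subgroup.center G ∧
      c0 * u = u * c0 ∧ ∀ δ : G, δ * c0 = c0 * δ → δ * Nx = Nx * δ := by
    by_cases hNZ : Nx ∈ Subgroup.center G
    · exact ⟨c, hcM, hcZ, hcu, fun δ _ => Subgroup.mem_center_iff.mp hNZ δ⟩
    · refine ⟨Nx, hNxM, hNZ, ?_, fun δ h => h⟩
      calc Nx * u = (u * Nx * u⁻¹) * u := by rw [hNxu]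
        _ = u * Nx := by group
  obtain ⟨k1, l1, hkl, ⟨e, he⟩, hl⟩ := exists_pPart_pPrimePart c0 (isOfFinOrder_of_finite c0) q hq
  have hk1 : c0 ^ k1 ∈ Subgroup.center G := by
    have h1 : (c0 ^ k1) ^ m ∈ Subgroup.center G :=
      H.pow_mem_center_M hy (Subgroup.pow_mem _ hc0M k1)
    have hco : m.Coprime (orderOf (c0 ^ k1)) := by rw [he]; exact hqm'.pow_right e
    obtain ⟨t, ht⟩ := exists_pow_eq_self_of_coprime hco
    rw [← ht]; exact Subgroup.pow_mem _ h1 t
  have hC := centralizer_pow_eq_of_mul hkl hk1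
  obtain ⟨c', hc'⟩ : ∃ c', c' = c0 ^ l1 := ⟨_, rfl⟩
  rw [← hc'] at hC hl hkl
  have hc'M : c' ∈ Mgrp G m := by rw [hc']; exact Subgroup.pow_mem _ hc0M l1
  have hc'Z : c' ∉ Subgroup.center G := by
    intro h
    apply hc0Z
    rw [← hkl]; exact Subgroup.mul_mem _ hk1 h
  have hc'u : Commute c' u := by rw [hc']; exact (show Commute c0 u from hc0u).pow_left l1
  have hco : (orderOf c').Coprime (orderOf u) := by rw [huo]; exact hl.pow_right j
  have hCw := centralizer_mul_of_coprime hc'u hco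
  obtain ⟨w, hw⟩ : ∃ w, w = c' * u := ⟨_, rfl⟩
  rw [← hw] at hCw
  -- members of `C(w)`
  have hCw_u : ∀ s ∈ Subgroup.centralizer ({w} : Set G), s * u = u * s := by
    intro s hs
    rw [hCw, Subgroup.mem_inf] at hs
    exact Subgroup.mem_centralizer_singleton_iff.mp hs.2
  have hCw_N : ∀ s ∈ Subgroup.centralizer ({w} : Set G), s * Nx = Nx * s := by
    intro s hs
    rw [hCw, Subgroup.mem_inf, hC] at hs
    exact hc0N s (Subgroup.mem_centralizer_singleton_iff.mp hs.1)
  have hwm : cs w = m := by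
    by_contra hne
    have hlt : cs w < m := lt_of_le_of_ne (H.htop w) hne
    have hle : cs w ≤ n := H.hsecond w hlt
    obtain ⟨Cw, hCwd⟩ : ∃ Cw, Cw = Subgroup.centralizer ({w} : Set G) := ⟨_, rfl⟩
    obtain ⟨Cx, hCxd⟩ : ∃ Cx, Cx = Subgroup.centralizer ({x} : Set G) := ⟨_, rfl⟩
    obtain ⟨Cu, hCud⟩ : ∃ Cu, Cu = Subgroup.centralizer ({u} : Set G) := ⟨_, rfl⟩
    obtain ⟨V, hV⟩ : ∃ V, V = Mgrp G m ⊓ Cu := ⟨_, rfl⟩
    obtain ⟨O, hO⟩ : ∃ O : Set G, O = {o : G | ∃ t ∈ Cw, t * x * t⁻¹ = o} := ⟨_, rfl⟩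
    have horb : Nat.card Cw = O.ncard * Nat.card ↥(Cw ⊓ Cx) := by
      rw [hO, hCxd]; exact card_eq_ncard_conj_mul_card_inf_centralizer Cw x
    have hCwCu : Cw ≤ Cu := by
      intro s hs
      rw [hCud, Subgroup.mem_centralizer_singleton_iff]
      exact hCw_u s (hCwd ▸ hs)
    have hMCx : Mgrp G m ≤ Cx := by rw [hCxd]; exact H.Mgrp_le_centralizer hx hy
    -- the injection
    have hinj : Set.InjOn (fun p : G × G => p.1 * p.2) (O ×ˢ (V : Set G)) := by
      rintro ⟨o, v⟩ ⟨ho, hv⟩ ⟨o', v'⟩ ⟨ho', hv'⟩ h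
      simp only at h ho hv ho' hv'
      rw [hO] at ho ho'
      obtain ⟨t, ht, rfl⟩ := ho
      obtain ⟨t', ht', rfl⟩ := ho'
      rw [SetLike.mem_coe, hV, Subgroup.mem_inf] at hv hv'
      have hsCw : t'⁻¹ * t ∈ Cw := Cw.mul_mem (Cw.inv_mem ht') ht
      have hv''M : t'⁻¹ * (v' * v⁻¹) * t'⁻¹⁻¹ ∈ Mgrp G m :=
        (Mgrp_normal m).conj_mem _ ((Mgrp G m).mul_mem hv'.1 ((Mgrp G m).inv_mem hv.1)) _
      have hv''u : t'⁻¹ * (v' * v⁻¹) * t'⁻¹⁻¹ ∈ Cu :=
        Cu.mul_mem (Cu.mul_mem (Cu.inv_mem (hCwCu ht')) (Cu.mul_mem hv'.2 (Cu.inv_mem hv.2)))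
          (Cu.inv_mem (Cu.inv_mem (hCwCu ht')))
      rw [hCud, Subgroup.mem_centralizer_singleton_iff] at hv''u
      have htx : (t'⁻¹ * t) * x * (t'⁻¹ * t)⁻¹ = x * (t'⁻¹ * (v' * v⁻¹) * t'⁻¹⁻¹) := by
        have e1 : t * x * t⁻¹ = t' * x * t'⁻¹ * v' * v⁻¹ := by
          calc t * x * t⁻¹ = (t * x * t⁻¹ * v) * v⁻¹ := by group
            _ = (t' * x * t'⁻¹ * v') * v⁻¹ := by rw [h]
        calc (t'⁻¹ * t) * x * (t'⁻¹ * t)⁻¹ = t'⁻¹ * (t * x * t⁻¹) * t' := by group
          _ = t'⁻¹ * (t' * x * t'⁻¹ * v' * v⁻¹) * t' := by rw [e1]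
          _ = x * (t'⁻¹ * (v' * v⁻¹) * t'⁻¹⁻¹) := by group
      have h1 := H.key_lemma hx hy huk hkm (hCw_u _ (hCwd ▸ hsCw))
        (by rw [← hNx]; exact hCw_N _ (hCwd ▸ hsCw)) hv''M hv''u htx
      have h2 : v' * v⁻¹ = 1 := by
        calc v' * v⁻¹ = t' * (t'⁻¹ * (v' * v⁻¹) * t'⁻¹⁻¹) * t'⁻¹ := by group
          _ = 1 := by rw [h1]; group
      have h3 : v' = v := by
        calc v' = (v' * v⁻¹) * v := by group
          _ = v := by rw [h2, one_mul]
      subst h3
      have h4 : t * x * t⁻¹ = t' * x * t'⁻¹ := mul_right_cancel h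
      rw [h4]
    have himg : (fun p : G × G => p.1 * p.2) '' (O ×ˢ (V : Set G)) ⊆
        ((Mgrp G m : Subgroup G) : Set G) \ (V : Set G) := by
      rintro _ ⟨⟨o, v⟩, ⟨ho, hv⟩, rfl⟩
      simp only at ho hv ⊢
      rw [hO] at ho
      obtain ⟨t, ht, rfl⟩ := ho
      have hv2 := hv
      rw [SetLike.mem_coe, hV, Subgroup.mem_inf] at hv2
      refine ⟨(Mgrp G m).mul_mem ((Mgrp_normal m).conj_mem x hxM t) hv2.1, ?_⟩
      intro hov
      have h1 : t * x * t⁻¹ ∈ V := by
        have := V.mul_mem hov (V.inv_mem hv)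
        rwa [mul_inv_cancel_right] at this
      rw [hV, Subgroup.mem_inf] at h1
      have h2 : x ∈ Cu := by
        have := Cu.mul_mem (Cu.mul_mem (Cu.inv_mem (hCwCu ht)) h1.2) (hCwCu ht)
        have e : t⁻¹ * (t * x * t⁻¹) * t = x := by group
        rwa [e] at this
      rw [hCud, Subgroup.mem_centralizer_singleton_iff] at h2
      apply huZ
      apply H.inf_le_center hx hy hb
      rw [Subgroup.mem_inf, Subgroup.mem_centralizer_singleton_iff,
        Subgroup.mem_centralizer_singleton_iff]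
      exact ⟨hub, h2.symm⟩
    have hVM : (V : Set G) ⊆ ((Mgrp G m : Subgroup G) : Set G) := by
      intro v hv
      rw [SetLike.mem_coe, hV, Subgroup.mem_inf] at hv
      exact hv.1
    have hcount : O.ncard * Nat.card V + Nat.card V ≤ Nat.card (Mgrp G m) := by
      have h1 := Set.ncard_le_ncard himg (Set.toFinite _)
      rw [Set.InjOn.ncard_image hinj, Set.ncard_prod] at h1
      have h2 := Set.ncard_sdiff_add_ncard_of_subset hVM (Set.toFinite _)
      rw [← Nat.card_coe_set_eq (V : Set G), ← Nat.card_coe_set_eq ((Mgrp G m : Subgroup G) : Set G)]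
        at h2
      rw [← Nat.card_coe_set_eq (V : Set G)] at h1
      have e1 : Nat.card ((V : Set G)) = Nat.card V := rfl
      have e2 : Nat.card (((Mgrp G m : Subgroup G) : Set G)) = Nat.card (Mgrp G m) := rfl
      rw [e1] at h1 h2
      rw [e2] at h2
      omega
    obtain ⟨K, hK⟩ : ∃ K, K = Cx ⊓ Cu := ⟨_, rfl⟩
    have hiK : Nat.card ↥(Cw ⊓ Cx) ≤ Nat.card K := by
      apply Subgroup.card_le_of_le
      rw [hK]
      exact le_inf inf_le_right (inf_le_left.trans hCwCu)
    have h2 := Cfsg.Agent.Lib.H1.card_sup_mul_card_inf K (Mgrp G m)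
    have h3 : Nat.card ↥(Mgrp G m ⊓ K) ≤ Nat.card V := by
      apply Subgroup.card_le_of_le
      rw [hV, hK]
      exact le_inf inf_le_left (inf_le_right.trans inf_le_right)
    have h4 : Nat.card ↥(K ⊔ Mgrp G m) ≤ Nat.card Cx := by
      apply Subgroup.card_le_of_le
      rw [hK]
      exact sup_le inf_le_left hMCx
    have h5 : Nat.card K * Nat.card (Mgrp G m) ≤ Nat.card Cx * Nat.card V := by
      rw [← h2]; exact Nat.mul_le_mul h4 h3
    have hVpos : 0 < Nat.card V := Nat.card_pos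
    have hCxpos : 0 < Nat.card Cx := Nat.card_pos
    have hMpos : 0 < Nat.card (Mgrp G m) := Nat.card_pos
    have h6 : Nat.card Cw * Nat.card (Mgrp G m) + Nat.card Cx * Nat.card V ≤
        Nat.card Cx * Nat.card (Mgrp G m) := by
      calc Nat.card Cw * Nat.card (Mgrp G m) + Nat.card Cx * Nat.card V
          = O.ncard * (Nat.card ↥(Cw ⊓ Cx) * Nat.card (Mgrp G m)) + Nat.card Cx * Nat.card V := by
            rw [horb]; ring
        _ ≤ O.ncard * (Nat.card K * Nat.card (Mgrp G m)) + Nat.card Cx * Nat.card V := by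
            gcongr
        _ ≤ O.ncard * (Nat.card Cx * Nat.card V) + Nat.card Cx * Nat.card V := by
            gcongr
        _ = Nat.card Cx * (O.ncard * Nat.card V + Nat.card V) := by ring
        _ ≤ Nat.card Cx * Nat.card (Mgrp G m) := by gcongr
    have h7 : Nat.card Cw < Nat.card Cx := by
      have : 0 < Nat.card Cx * Nat.card V := Nat.mul_pos hCxpos hVpos
      have h8 : Nat.card Cw * Nat.card (Mgrp G m) < Nat.card Cx * Nat.card (Mgrp G m) := by omega
      exact Nat.lt_of_mul_lt_mul_right h8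
    have h9 := Cw.card_mul_index
    have h10 := Cx.card_mul_index
    rw [hCwd] at h9
    rw [hCxd] at h10
    rw [show (Subgroup.centralizer ({w} : Set G)).index = cs w from rfl] at h9
    rw [show (Subgroup.centralizer ({x} : Set G)).index = cs x from rfl, hx] at h10
    rw [hCwd, hCxd] at h7
    have hn0 : 0 < n := by have := H.hn; omega
    have h11 : Nat.card (Subgroup.centralizer ({w} : Set G)) * cs w <
        Nat.card (Subgroup.centralizer ({x} : Set G)) * n :=
      calc Nat.card (Subgroup.centralizer ({w} : Set G)) * cs w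
          ≤ Nat.card (Subgroup.centralizer ({w} : Set G)) * n := Nat.mul_le_mul_left _ hle
        _ < Nat.card (Subgroup.centralizer ({x} : Set G)) * n := Nat.mul_lt_mul_of_pos_right h7 hn0
    rw [h9, h10] at h11
    exact lt_irrefl _ h11
  have hmem : c' ∈ Mgrp G m ⊓ Subgroup.centralizer ({w} : Set G) := by
    rw [Subgroup.mem_inf, Subgroup.mem_centralizer_singleton_iff, hw]
    refine ⟨hc'M, ?_⟩
    calc c' * (c' * u) = c' * (u * c') := by rw [hc'u.eq]
      _ = c' * u * c' := by group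
  exact hc'Z (H.Mgrp_inf_centralizer_le hx hy hwm hmem)

/-- Zx: a conjugate of `x` in the coset `x Z(G)` is `x`. -/
theorem Hyp.eq_one_of_conj_eq_mul {t z : G} (hz : z ∈ Subgroup.center G)
    (h : t * x * t⁻¹ = x * z) : z = 1 := by
  have hxD : (cs x).Coprime m := by rw [hx]; exact H.hcop.symm
  have hzc : ∀ g : G, g * z = z * g := Subgroup.mem_center_iff.mp hz
  have hzm : z ^ m = 1 := by
    have hxm := H.pow_mem_center_D hy hxD
    have hc : Commute x z := hzc x
    have e1 : (t * x * t⁻¹) ^ m = x ^ m := by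
      rw [conj_pow]
      have := (Subgroup.mem_center_iff.mp hxm) t
      calc t * x ^ m * t⁻¹ = x ^ m * t * t⁻¹ := by rw [this]
        _ = x ^ m := by group
    rw [h, hc.mul_pow] at e1
    exact mul_left_cancel (a := x ^ m) (by rw [e1, mul_one])
  have hzK : z ∈ stabK x := by
    apply mem_stabK_of_subset
    rintro _ ⟨g, rfl⟩
    refine ⟨g * t, ?_⟩
    calc g * t * x * (g * t)⁻¹ = g * (t * x * t⁻¹) * g⁻¹ := by group
      _ = g * (x * z) * g⁻¹ := by rw [h]
      _ = (g * x) * (z * g⁻¹) := by group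
      _ = (g * x) * (g⁻¹ * z) := by rw [hzc g⁻¹]
      _ = (g * x * g⁻¹) * z := by group
      _ = z * (g * x * g⁻¹) := by rw [hzc (g * x * g⁻¹)]
  have hzn : orderOf z ∣ n := by
    have h1 : orderOf z ∣ Nat.card (stabK x) := by
      have := orderOf_dvd_natCard (⟨z, hzK⟩ : stabK x)
      rwa [Subgroup.orderOf_mk] at this
    have h2 := card_stabK_dvd x
    rw [hx] at h2
    exact h1.trans h2
  have h3 : orderOf z ∣ Nat.gcd m n := Nat.dvd_gcd (orderOf_dvd_of_pow_eq_one hzm) hzn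
  rw [H.hcop] at h3
  exact orderOf_eq_one_iff.mp (Nat.dvd_one.mp h3)

/-- `|M| ≥ (n + 1) |Z|`. -/
theorem Hyp.card_Mgrp_ge :
    n * Nat.card (Subgroup.center G) + Nat.card (Subgroup.center G) ≤ Nat.card (Mgrp G m) := by
  have hxM : x ∈ Mgrp G m := H.mem_Mgrp_of_n hx
  obtain ⟨Zs, hZs⟩ : ∃ Zs : Set G, Zs = (Subgroup.center G : Set G) := ⟨_, rfl⟩
  have hinj : Set.InjOn (fun p : G × G => p.1 * p.2) (cls x ×ˢ Zs) := by
    rintro ⟨o, z⟩ ⟨ho, hz⟩ ⟨o', z'⟩ ⟨ho', hz'⟩ h
    simp only at h ho hz ho' hz'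
    obtain ⟨g, rfl⟩ := ho
    obtain ⟨g', rfl⟩ := ho'
    rw [hZs, SetLike.mem_coe] at hz hz'
    have hzz : z' * z⁻¹ ∈ Subgroup.center G := Subgroup.mul_mem _ hz' (Subgroup.inv_mem _ hz)
    have hzc := Subgroup.mem_center_iff.mp hzz
    have htx : (g'⁻¹ * g) * x * (g'⁻¹ * g)⁻¹ = x * (z' * z⁻¹) := by
      have e1 : g * x * g⁻¹ = g' * x * g'⁻¹ * (z' * z⁻¹) := by
        calc g * x * g⁻¹ = (g * x * g⁻¹ * z) * z⁻¹ := by group
          _ = (g' * x * g'⁻¹ * z') * z⁻¹ := by rw [h]
          _ = g' * x * g'⁻¹ * (z' * z⁻¹) := by group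
      calc (g'⁻¹ * g) * x * (g'⁻¹ * g)⁻¹ = g'⁻¹ * (g * x * g⁻¹) * g' := by group
        _ = g'⁻¹ * (g' * x * g'⁻¹ * (z' * z⁻¹)) * g' := by rw [e1]
        _ = x * (g'⁻¹ * (z' * z⁻¹)) * g' := by group
        _ = x * ((z' * z⁻¹) * g'⁻¹) * g' := by rw [hzc g'⁻¹]
        _ = x * (z' * z⁻¹) := by group
    have h2 := H.eq_one_of_conj_eq_mul hx hy hzz htx
    have h3 : z' = z := by
      calc z' = (z' * z⁻¹) * z := by group
        _ = z := by rw [h2, one_mul]
    subst h3
    have h4 : g * x * g⁻¹ = g' * x * g'⁻¹ := mul_right_cancel h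
    rw [h4]
  have himg : (fun p : G × G => p.1 * p.2) '' (cls x ×ˢ Zs) ⊆
      ((Mgrp G m : Subgroup G) : Set G) \ Zs := by
    rintro _ ⟨⟨o, z⟩, ⟨ho, hz⟩, rfl⟩
    simp only at ho hz ⊢
    obtain ⟨g, rfl⟩ := ho
    have hz2 := hz
    rw [hZs, SetLike.mem_coe] at hz2
    refine ⟨(Mgrp G m).mul_mem ((Mgrp_normal m).conj_mem x hxM g) (center_le_Mgrp m hz2), ?_⟩
    intro hoz
    rw [hZs, SetLike.mem_coe] at hoz
    have h1 : g * x * g⁻¹ ∈ Subgroup.center G := by
      have := Subgroup.mul_mem _ hoz (Subgroup.inv_mem _ hz2)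
      rwa [mul_inv_cancel_right] at this
    have h2 := (conj_mem_center_iff g x).mp h1
    have h3 := (cs_eq_one_iff x).mpr h2
    have := H.hn
    omega
  have hZM : Zs ⊆ ((Mgrp G m : Subgroup G) : Set G) := by
    intro z hz
    rw [hZs, SetLike.mem_coe] at hz
    exact center_le_Mgrp m hz
  have h1 := Set.ncard_le_ncard himg (Set.toFinite _)
  rw [Set.InjOn.ncard_image hinj, Set.ncard_prod] at h1
  have h2 := Set.ncard_sdiff_add_ncard_of_subset hZM (Set.toFinite _)
  have e0 : (cls x).ncard = n := by rw [← Nat.card_coe_set_eq, card_cls, hx]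
  have e1 : Zs.ncard = Nat.card (Subgroup.center G) := by
    rw [hZs, ← Nat.card_coe_set_eq]; rfl
  have e2 : ((Mgrp G m : Subgroup G) : Set G).ncard = Nat.card (Mgrp G m) := by
    rw [← Nat.card_coe_set_eq]; rfl
  rw [e0, e1] at h1
  rw [e1, e2] at h2
  omega

/-- AE: a non-central `q`-element of the centralizer of a class-`m` element commutes with no
non-central `p`-element for `p ∣ m`. -/
theorem Hyp.no_edge {b u g : G} {q j p i : ℕ} (hq : q.Prime) (hp : p.Prime) (hpm : p ∣ m)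
    (hb : cs b = m) (hub : u * b = b * u) (huo : orderOf u = q ^ j)
    (huZ : u ∉ Subgroup.center G) (hgo : orderOf g = p ^ i) (hgZ : g ∉ Subgroup.center G)
    (hgu : g * u = u * g) : False := by
  have hqm : ¬ q ∣ m := fun h => huZ (H.mem_center_of_commute_m hx hy hb hub hq h huo)
  have hpq : p ≠ q := by rintro rfl; exact hqm hpm
  have hco : (orderOf g).Coprime (orderOf u) := by
    rw [hgo, huo]
    exact Nat.Coprime.pow _ _ ((Nat.coprime_primes hp hq).mpr hpq)
  have hCw := centralizer_mul_of_coprime (show Commute g u from hgu) hco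
  obtain ⟨w, hw⟩ : ∃ w, w = g * u := ⟨_, rfl⟩
  rw [← hw] at hCw
  have hMw : Mgrp G m ⊓ Subgroup.centralizer ({w} : Set G) ≤ Subgroup.center G := by
    intro a ha
    rw [Subgroup.mem_inf, hCw, Subgroup.mem_inf, Subgroup.mem_centralizer_singleton_iff,
      Subgroup.mem_centralizer_singleton_iff] at ha
    by_contra haZ
    exact H.no_M_edge hx hy hq hb hub huo huZ ha.1 haZ ha.2.2
  have h2 := Cfsg.Agent.Lib.H1.card_sup_mul_card_inf (Subgroup.centralizer ({w} : Set G)) (Mgrp G m)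
  have h3 : Nat.card ↥(Mgrp G m ⊓ Subgroup.centralizer ({w} : Set G)) ≤
      Nat.card (Subgroup.center G) := Subgroup.card_le_of_le hMw
  have h4 : Nat.card ↥(Subgroup.centralizer ({w} : Set G) ⊔ Mgrp G m) ≤ Nat.card G :=
    Subgroup.card_le_card_group _
  have h5 : Nat.card (Subgroup.centralizer ({w} : Set G)) * Nat.card (Mgrp G m) ≤
      Nat.card G * Nat.card (Subgroup.center G) := by
    rw [← h2]; exact Nat.mul_le_mul h4 h3
  have h6 := H.card_Mgrp_ge hx hy
  have h7 := (Subgroup.centralizer ({w} : Set G)).card_mul_index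
  rw [show (Subgroup.centralizer ({w} : Set G)).index = cs w from rfl] at h7
  have hCpos : 0 < Nat.card (Subgroup.centralizer ({w} : Set G)) := Nat.card_pos
  have hZpos : 0 < Nat.card (Subgroup.center G) := Nat.card_pos
  have hwn : n < cs w := by
    by_contra hle
    push Not at hle
    have h8 : Nat.card (Subgroup.centralizer ({w} : Set G)) * Nat.card (Mgrp G m) ≤
        Nat.card (Subgroup.centralizer ({w} : Set G)) * (n * Nat.card (Subgroup.center G)) := by
      calc Nat.card (Subgroup.centralizer ({w} : Set G)) * Nat.card (Mgrp G m)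
          ≤ Nat.card G * Nat.card (Subgroup.center G) := h5
        _ = Nat.card (Subgroup.centralizer ({w} : Set G)) * (cs w * Nat.card (Subgroup.center G)) := by
            rw [← h7]; ring
        _ ≤ Nat.card (Subgroup.centralizer ({w} : Set G)) * (n * Nat.card (Subgroup.center G)) := by
            gcongr
    have h9 := Nat.le_of_mul_le_mul_left h8 hCpos
    omega
  have hwm : cs w = m := by
    by_contra hne
    have hlt : cs w < m := lt_of_le_of_ne (H.htop w) hne
    have := H.hsecond w hlt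
    omega
  have hgw : g * w = w * g := by
    rw [hw]
    calc g * (g * u) = g * (u * g) := by rw [hgu]
      _ = g * u * g := by group
  exact hgZ (H.mem_center_of_commute_m hx hy hwm hgw hp hpm hgo)

omit H hx hy in
/-- A non-central `q`-element in `C` when `q` divides `|C : Z(G)|`. -/
theorem exists_q_elt_of_dvd_relIndex {q : ℕ} [Fact q.Prime] (C : Subgroup G)
    (hq : q ∣ (Subgroup.center G).relIndex C) :
    ∃ u ∈ C, u ∉ Subgroup.center G ∧ ∃ j : ℕ, orderOf u = q ^ j := by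
  obtain ⟨Q⟩ : Nonempty (Sylow q ↥C) := inferInstance
  by_contra hcon
  push Not at hcon
  have hQZ : (Q : Subgroup ↥C) ≤ (Subgroup.center G).subgroupOf C := by
    intro s hs
    rw [Subgroup.mem_subgroupOf]
    by_contra hsZ
    obtain ⟨j, hj⟩ := (IsPGroup.iff_orderOf.mp Q.isPGroup') ⟨s, hs⟩
    rw [Subgroup.orderOf_mk] at hj
    have hj' : orderOf (s : G) = q ^ j := by rw [Subgroup.orderOf_coe]; exact hj
    exact hcon (s : G) s.2 hsZ j hj'
  have h1 := Subgroup.relIndex_mul_index hQZ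
  have h2 : q ∣ (Q : Subgroup ↥C).index := by
    rw [← h1]
    exact Dvd.dvd.mul_left hq _
  exact Q.not_dvd_index h2

/-- Every class size is `1`, `n` or `m`. -/
theorem Hyp.trichotomy (w : G) : cs w = 1 ∨ cs w = n ∨ cs w = m := by
  by_cases hwZ : w ∈ Subgroup.center G
  · left; exact (cs_eq_one_iff w).mpr hwZ
  right
  obtain ⟨k, r, i, hr, hkZ, hko⟩ := exists_prime_pow_part _ w rfl hwZ
  have hZC : Subgroup.center G ≤ Subgroup.centralizer ({w} : Set G) := by
    intro z hz
    rw [Subgroup.mem_centralizer_singleton_iff]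
    exact ((Subgroup.mem_center_iff.mp hz) w).symm
  have ha : (Subgroup.center G).relIndex (Subgroup.centralizer ({w} : Set G)) * cs w = m * n := by
    rw [← H.index_center hx hy]
    exact Subgroup.relIndex_mul_index hZC
  have hidx : (Subgroup.centralizer ({y} : Set G)).index = m := hy
  by_cases hrm : r ∣ m
  · have hcop : ((Subgroup.center G).relIndex (Subgroup.centralizer ({w} : Set G))).Coprime n := by
      by_contra hnc
      obtain ⟨q, hq, hqa, hqn⟩ := Nat.Prime.not_coprime_iff_dvd.mp hnc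
      haveI : Fact q.Prime := ⟨hq⟩
      obtain ⟨u, huC, huZ, j, huo⟩ := exists_q_elt_of_dvd_relIndex _ hqa
      have hqm : ¬ q ∣ m := fun h => H.not_dvd hq h hqn
      obtain ⟨t, ht⟩ := exists_conj_mem_of_not_dvd_index (Subgroup.centralizer ({y} : Set G))
        (by rw [hidx]; exact hqm) huo
      rw [Subgroup.mem_centralizer_singleton_iff] at ht huC
      have huw : Commute u w := huC
      exact H.no_edge hx hy hq hr hrm hy ht (by rw [orderOf_conj', huo])
        (fun h => huZ ((conj_mem_center_iff t u).mp h))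
        (show orderOf (t * w ^ k * t⁻¹) = r ^ i by rw [orderOf_conj', hko])
        (fun h => hkZ ((conj_mem_center_iff t (w ^ k)).mp h))
        (conj_commute ((huw.pow_right k).eq.symm))
    have hdvd : n ∣ cs w := by
      have h1 : n ∣ (Subgroup.center G).relIndex (Subgroup.centralizer ({w} : Set G)) * cs w := by
        rw [ha]; exact Dvd.intro_left m rfl
      exact (hcop.symm).dvd_of_dvd_mul_left h1
    by_cases hwm : cs w = m
    · right; exact hwm
    · left; exact H.eq_n_of_dvd hdvd hwm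
  · right
    have hcop : ((Subgroup.center G).relIndex (Subgroup.centralizer ({w} : Set G))).Coprime m := by
      by_contra hnc
      obtain ⟨p, hp, hpa, hpm⟩ := Nat.Prime.not_coprime_iff_dvd.mp hnc
      haveI : Fact p.Prime := ⟨hp⟩
      haveI : Fact r.Prime := ⟨hr⟩
      obtain ⟨g2, hg2C, hg2Z, i2, hg2o⟩ := exists_q_elt_of_dvd_relIndex _ hpa
      obtain ⟨t, ht⟩ := exists_conj_mem_of_not_dvd_index (Subgroup.centralizer ({y} : Set G))
        (by rw [hidx]; exact hrm) hko
      rw [Subgroup.mem_centralizer_singleton_iff] at ht hg2C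
      have hgw : Commute g2 w := hg2C
      exact H.no_edge hx hy hr hp hpm hy ht (by rw [orderOf_conj', hko])
        (fun h => hkZ ((conj_mem_center_iff t (w ^ k)).mp h))
        (show orderOf (t * g2 * t⁻¹) = p ^ i2 by rw [orderOf_conj', hg2o])
        (fun h => hg2Z ((conj_mem_center_iff t g2).mp h))
        (conj_commute ((hgw.pow_right k).eq))
    have hdvd : m ∣ cs w := by
      have h1 : m ∣ (Subgroup.center G).relIndex (Subgroup.centralizer ({w} : Set G)) * cs w := by
        rw [ha]; exact Dvd.intro n rfl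
      exact (hcop.symm).dvd_of_dvd_mul_left h1
    exact le_antisymm (H.htop w) (Nat.le_of_dvd (Nat.pos_of_ne_zero (cs_ne_zero w)) hdvd)

end hyp

end Cfsg.Agent.Lib.H20.BGC
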