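import Mathlib
import Cfsg.Agent.Lib.H20.BGZ1

/-!
# `U`-versions of helper8's abelian-case lemmas for BG Lemma 12.12 (helper20)

Copies of lemmas of `Cfsg.Agent.Lib.H8.BG1213c-f` in which the regularity hypothesis is only assumed
for a subgroup `U ≤ E` (as needed for BG Lemma 15.1(d),(e), where `E = K U` and the elements of
`K` do have fixed points on `M_σ`).
-/

set_option autoImplicit false
set_option linter.style.haveILetI false
set_option linter.unusedSectionVars false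
set_option linter.unusedVariables false
set_option maxHeartbeats 800000

open Cfsg

namespace Cfsg.Agent.Lib.H20.BGZ

open Cfsg.Agent.Lib.H16.BG
open Cfsg.Agent.Lib.H7.BG7
open Cfsg.Agent.Lib.H7.BG10
open Cfsg.Agent.Lib.H20.BGS
open Cfsg.Agent.Lib.H19 (IsPiCard)
open Cfsg.Agent.Lib.H8.BG11
open Cfsg.Agent.Lib.H8.BG12
open Cfsg.Agent.Lib.H8.BG12.TData
open scoped commutatorElement Pointwise

universe u
variable {G : Type u} [Group G] [Finite G]

local notation:max "cj(" g ", " X ")" => Subgroup.map (MulEquiv.toMonoidHom (MulAut.conj g)) X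

variable {M E : Subgroup G} {p : ℕ} [hpf : Fact p.Prime] {Q A : Subgroup G}

/-- **(β)**: in the abelian case, if `E` normalizes a line of `A`, it normalizes a line of `A`
without fixed points on `M_σ`. -/
theorem exists_invariant_regular_line' (c : Ctx M E) (d : TData M E p Q A)
    (hab : ∃ S : Sylow p G, IsMulCommutative ↥(S : Subgroup G)) {H : Subgroup G} (hHE : H ≤ E)
    {X₁ : Subgroup G}
    (hX₁A : X₁ ≤ A) (hX₁c : Nat.card X₁ = p) (hEX₁ : H ≤ Subgroup.normalizer (X₁ : Set G)) :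
    ∃ X : Subgroup G, X ≤ A ∧ Nat.card X = p ∧ H ≤ Subgroup.normalizer (X : Set G) ∧
      sigmaCore M ⊓ Subgroup.centralizer (X : Set G) = ⊥ := by
  by_cases h1 : sigmaCore M ⊓ Subgroup.centralizer (X₁ : Set G) = ⊥
  · exact ⟨X₁, hX₁A, hX₁c, hEX₁, h1⟩
  obtain ⟨y, hyN, hyM⟩ := d.exists_not_mem c
  have hX'A : cj(y, X₁) ≤ A := by
    rintro _ ⟨x, hx, rfl⟩
    exact (Subgroup.mem_normalizer_iff.1 hyN x).1 (hX₁A hx)
  refine ⟨cj(y, X₁), hX'A, ?_, ?_, ?_⟩
  · rw [card_cj]; exact hX₁c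
  · intro e he
    rw [normalizer_cj, mem_cj_iff]
    have heN : e ∈ Subgroup.normalizer (A : Set G) := d.le_normalizer c (hHE he)
    have hcomm : ⁅e⁻¹, y⁻¹⁆ ∈ Subgroup.centralizer (A : Set G) :=
      commutator_mem_centralizer_of_abelian_sylow c.hG d.hAe d.hAc (d.sylIn_top c hab) d.hAQ d.hQc
        (Subgroup.inv_mem _ heN) (Subgroup.inv_mem _ hyN)
    have heq : y⁻¹ * e * y = e * ⁅e⁻¹, y⁻¹⁆ := by
      rw [commutatorElement_def]; group
    rw [heq]
    exact Subgroup.mul_mem _ (hEX₁ he) (centralizer_le_normalizer_of_le hX₁A hcomm)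
  · by_contra h2
    exact hyM (d.mem_of_bad_cj c hX₁A hX₁c hyN h1 h2)

/-- **(I-2)** if `E` normalizes no line of `A`, then under the regularity hypothesis every element
of prime order of `E` centralizes `A`. -/
theorem prime_order_mem_centralizer_U (c : Ctx M E) (d : TData M E p Q A)
    (hab : ∃ S : Sylow p G, IsMulCommutative ↥(S : Subgroup G)) (hno : NoLine E A p)
    {U : Subgroup G} (hUE : U ≤ E)
    (hreg : HypReg M U) {s : G} (hsU : s ∈ U) {q : ℕ} (hq : q.Prime) (hsq : orderOf s = q) :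
    s ∈ Subgroup.centralizer (A : Set G) := by
  have hs : s ∈ E := hUE hsU
  have hqE : q ∣ Nat.card ↥E := by
    have := orderOf_dvd_natCard (⟨s, hs⟩ : ↥E)
    rwa [Subgroup.orderOf_mk, hsq] at this
  have hs1 : s ≠ 1 := by
    rintro rfl
    rw [orderOf_one] at hsq
    exact hq.one_lt.ne hsq
  have hdiv : ∀ r : ℕ, r.Prime → r ∣ orderOf s → r = q := by
    intro r hr hrd
    rw [hsq] at hrd
    exact (Nat.prime_dvd_prime_iff_eq hr hq).1 hrd
  rcases mem_tau_of_dvd_card_compl c.hG c.hU c.hM c.hE hq hqE with h | h | h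
  · -- `q ∈ τ₁(M)`
    by_contra hsC
    obtain ⟨-, hqp, hqσ, -⟩ := d.tau13_facts (Or.inl h)
    have hfix : sigmaCore M ⊓ Subgroup.centralizer ({s} : Set G) = ⊥ :=
      hreg s hsU hs1 (fun r hr hrd => by rw [hdiv r hr hrd]; exact Or.inl h)
    have hfpf := d.fpf_of_noLine c hab hno (d.le_normalizer c hs) hsC
    have hcopKp : (Nat.card ↥(sigmaCore M)).Coprime p := by
      rw [Nat.coprime_comm, d.prime.coprime_iff_not_dvd]
      exact fun hd => d.not_sigma (sigmaCore_isPiCard M p d.prime hd)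
    have hcopKq : (Nat.card ↥(sigmaCore M)).Coprime q := by
      rw [Nat.coprime_comm, hq.coprime_iff_not_dvd]
      exact fun hd => hqσ (sigmaCore_isPiCard M q hq hd)
    have hMK := Cfsg.Agent.Lib.H16.BG.le_normalizer_sigmaCore M
    have := fix_ne_bot_of_frob hq (U := A) (E := Subgroup.zpowers s) (H := sigmaCore M) d.ne_bot
      (by rw [Nat.card_zpowers, hsq])
      (by rw [d.hAc]; exact Nat.Coprime.pow_left 2 ((Nat.coprime_primes d.prime hq).2 hqp.symm))
      ((Subgroup.zpowers_le.2 hs).trans (d.le_normalizer c))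
      (by rw [centralizer_zpowers_eq]; exact hfpf)
      c.sigmaCore_ne_bot (solvable_of_le_ne_top c.hG c.hM.1 (Cfsg.Agent.Lib.H16.BG.sigmaCore_le M))
      (by rw [d.hAc]; exact Nat.Coprime.pow_right 2 hcopKp) hcopKq
      (d.hAM.trans hMK) ((Subgroup.zpowers_le.2 (c.le hs)).trans hMK)
      (d.sigmaCore_inf_centralizer c)
    rw [centralizer_zpowers_eq] at this
    exact this hfix
  · exact d.mem_centralizer_of_tau2 c hs (fun r hr hrd => by rw [hdiv r hr hrd]; exact h)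
  · -- `q ∈ τ₃(M)`
    by_contra hsC
    obtain ⟨-, hqp, hqσ, -⟩ := d.tau13_facts (Or.inr h)
    have hfix : sigmaCore M ⊓ Subgroup.centralizer ({s} : Set G) = ⊥ :=
      hreg s hsU hs1 (fun r hr hrd => by rw [hdiv r hr hrd]; exact Or.inr h)
    have hfpf := d.fpf_of_noLine c hab hno (d.le_normalizer c hs) hsC
    have hcopKp : (Nat.card ↥(sigmaCore M)).Coprime p := by
      rw [Nat.coprime_comm, d.prime.coprime_iff_not_dvd]
      exact fun hd => d.not_sigma (sigmaCore_isPiCard M p d.prime hd)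
    have hcopKq : (Nat.card ↥(sigmaCore M)).Coprime q := by
      rw [Nat.coprime_comm, hq.coprime_iff_not_dvd]
      exact fun hd => hqσ (sigmaCore_isPiCard M q hq hd)
    have hMK := Cfsg.Agent.Lib.H16.BG.le_normalizer_sigmaCore M
    have := fix_ne_bot_of_frob hq (U := A) (E := Subgroup.zpowers s) (H := sigmaCore M) d.ne_bot
      (by rw [Nat.card_zpowers, hsq])
      (by rw [d.hAc]; exact Nat.Coprime.pow_left 2 ((Nat.coprime_primes d.prime hq).2 hqp.symm))
      ((Subgroup.zpowers_le.2 hs).trans (d.le_normalizer c))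
      (by rw [centralizer_zpowers_eq]; exact hfpf)
      c.sigmaCore_ne_bot (solvable_of_le_ne_top c.hG c.hM.1 (Cfsg.Agent.Lib.H16.BG.sigmaCore_le M))
      (by rw [d.hAc]; exact Nat.Coprime.pow_right 2 hcopKp) hcopKq
      (d.hAM.trans hMK) ((Subgroup.zpowers_le.2 (c.le hs)).trans hMK)
      (d.sigmaCore_inf_centralizer c)
    rw [centralizer_zpowers_eq] at this
    exact this hfix

/-- **(I-3)** if `E` normalizes no line of `A`, there is a `q`-element `t ∈ E ∖ C_G(A)` of order at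
least `q²` with `t ^ q ∈ C_G(A)`, for some `q ∈ τ₁(M) ∪ τ₃(M)`. -/
theorem exists_minimal_element_U (c : Ctx M E) (d : TData M E p Q A)
    (hab : ∃ S : Sylow p G, IsMulCommutative ↥(S : Subgroup G)) (hno : NoLine E A p)
    {U : Subgroup G} (hUE : U ≤ E)
    (hreg : HypReg M U) (hUC : ¬ U ≤ Subgroup.centralizer (A : Set G)) :
    ∃ (t : G) (q k : ℕ), t ∈ U ∧ t ∉ Subgroup.centralizer (A : Set G) ∧ q.Prime ∧
      orderOf t = q ^ k ∧ 2 ≤ k ∧ t ^ q ∈ Subgroup.centralizer (A : Set G) ∧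
      (q ∈ tau1 M ∨ q ∈ tau3 M) := by
  obtain ⟨t₀, ht₀E, ht₀C⟩ := SetLike.not_le_iff_exists.1 hUC
  obtain ⟨t, ⟨htU, htC⟩, hmin⟩ := (InvImage.wf (orderOf : G → ℕ) Nat.lt_wfRel.wf).has_min
    {t : G | t ∈ U ∧ t ∉ Subgroup.centralizer (A : Set G)} ⟨t₀, ht₀E, ht₀C⟩
  have htE : t ∈ E := hUE htU
  have hpos : 0 < orderOf t := orderOf_pos t
  have ht1 : orderOf t ≠ 1 := by
    intro h
    rw [orderOf_eq_one_iff] at h
    exact htC (h ▸ Subgroup.one_mem _)
  -- powers by prime divisors of the order centralize `A`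
  have hpow : ∀ r : ℕ, r.Prime → r ∣ orderOf t → t ^ r ∈ Subgroup.centralizer (A : Set G) := by
    intro r hr hrd
    by_contra hn
    apply hmin (t ^ r) ⟨U.pow_mem htU r, hn⟩
    show orderOf (t ^ r) < orderOf t
    rw [orderOf_pow_of_dvd hr.ne_zero hrd]
    exact Nat.div_lt_self hpos hr.one_lt
  obtain ⟨q, hq, hqd⟩ := Nat.exists_prime_and_dvd ht1
  have huniq : ∀ {r : ℕ}, r.Prime → r ∣ orderOf t → r = q := by
    intro r hr hrd
    by_contra hne
    have hcop : Nat.Coprime r q := (Nat.coprime_primes hr hq).2 hne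
    apply htC
    have h1 := hpow r hr hrd
    have h2 := hpow q hq hqd
    have hb : (r : ℤ) * Nat.gcdA r q + (q : ℤ) * Nat.gcdB r q = 1 := by
      have := Nat.gcd_eq_gcd_ab r q
      rw [hcop.gcd_eq_one] at this
      exact_mod_cast this.symm
    have : t = (t ^ r) ^ (Nat.gcdA r q) * (t ^ q) ^ (Nat.gcdB r q) := by
      rw [← zpow_natCast t r, ← zpow_natCast t q, ← zpow_mul, ← zpow_mul, ← zpow_add, hb, zpow_one]
    rw [this]
    exact Subgroup.mul_mem _ (Subgroup.zpow_mem _ h1 _) (Subgroup.zpow_mem _ h2 _)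
  have hqk := Nat.eq_prime_pow_of_unique_prime_dvd hpos.ne' huniq
  set k := (orderOf t).primeFactorsList.length with hk
  have hk0 : k ≠ 0 := by
    intro h
    rw [h, pow_zero] at hqk
    exact ht1 hqk
  have hk1 : k ≠ 1 := by
    intro h
    rw [h, pow_one] at hqk
    exact htC (prime_order_mem_centralizer_U c d hab hno hUE hreg htU hq hqk)
  have hqE : q ∣ Nat.card ↥E := by
    have := orderOf_dvd_natCard (⟨t, htE⟩ : ↥E)
    rw [Subgroup.orderOf_mk] at this
    exact hqd.trans this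
  have hτ : q ∈ tau1 M ∨ q ∈ tau3 M := by
    rcases mem_tau_of_dvd_card_compl c.hG c.hU c.hM c.hE hq hqE with h | h | h
    · exact Or.inl h
    · exfalso
      apply htC
      apply d.mem_centralizer_of_tau2 c htE
      intro r hr hrd
      rw [huniq hr hrd]; exact h
    · exact Or.inr h
  exact ⟨t, q, k, htU, htC, hq, hqk, by omega, hpow q hq hqd, hτ⟩


/-- **Claim I for `U`**: in the abelian case, if `E` normalizes no line of `A` and the regularity
hypothesis holds for `U ≤ E`, then `U` centralizes `A`. -/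
theorem le_centralizer_of_noLine (c : Ctx M E) (d : TData M E p Q A)
    (hab : ∃ S : Sylow p G, IsMulCommutative ↥(S : Subgroup G)) (hno : NoLine E A p)
    {U : Subgroup G} (hUE : U ≤ E) (hreg : HypReg M U) :
    U ≤ Subgroup.centralizer (A : Set G) := by
  by_contra hUC
  obtain ⟨t, q, k, htU, htC, hq, htk, hk2, htq, hτ⟩ :=
    exists_minimal_element_U c d hab hno hUE hreg hUC
  have htE : t ∈ E := hUE htU
  haveI : Fact q.Prime := ⟨hq⟩
  obtain ⟨-, hqp, hqσ, hqr⟩ := d.tau13_facts hτ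
  have hpp : p.Prime := d.prime
  -- the element `s` of order `q` in `⟨t⟩`
  set s := t ^ q ^ (k - 1) with hs
  have hsC : s ∈ Subgroup.centralizer (A : Set G) := by
    have : s = (t ^ q) ^ q ^ (k - 2) := by
      rw [hs, ← pow_mul, ← pow_succ']
      congr 2
      omega
    rw [this]
    exact Subgroup.pow_mem _ htq _
  have hs1 : s ≠ 1 := by
    intro h
    have h1 : orderOf t ∣ q ^ (k - 1) := orderOf_dvd_of_pow_eq_one h
    rw [htk] at h1
    have h2 := Nat.le_of_dvd (pow_pos hq.pos _) h1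
    have h3 : q ^ (k - 1) < q ^ k := Nat.pow_lt_pow_right hq.one_lt (by omega)
    omega
  have hsz : s ∈ Subgroup.zpowers t := Subgroup.pow_mem _ (Subgroup.mem_zpowers t) _
  -- a maximal subgroup `L` containing `N_G(A)`
  set Y := Subgroup.normalizer (A : Set G) with hY
  have hYtop : Y ≠ ⊤ := normalizer_ne_top_of_isPGroup c.hG d.isPGroup d.ne_bot
  obtain ⟨L, hL, hYL⟩ := (eq_top_or_exists_le_coatom Y).resolve_left hYtop
  have hQG := d.sylIn_top c hab
  have hQY : Q ≤ Y := d.le_centralizer.trans (Subgroup.centralizer_le_normalizer _)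
  have hQL : Q ≤ L := hQY.trans hYL
  have hQLs : SylIn p Q L := hQG.mono hQL le_top
  have hNQ : Subgroup.normalizer (Q : Set G) ≤ Y := d.normalizer_sylow_le
  have hAL : A ≤ L := d.hAQ.trans hQL
  have hQ1 : Q ≠ ⊥ := _root_.ne_bot_of_le_ne_bot d.ne_bot d.hAQ
  have hpL : p ∣ Nat.card ↥L :=
    (dvd_card_of_isPGroup_ne_bot hQLs.isPGroup hQ1).trans (Subgroup.card_dvd_of_le hQL)
  have hpσL : p ∈ sigma L := by
    obtain ⟨P, hP⟩ := hQLs.exists_sylow
    exact ⟨hpp, hpL, P, by rw [hP]; exact hNQ.trans hYL⟩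
  have hr2 : PRankLE p 2 ↥L := pRankLE_of_sylIn hQLs d.pRankLE_two
  have hpβ : p ∉ beta L := fun h => h.1.2 hr2
  have htY : t ∈ Y := d.le_normalizer c htE
  have htL : t ∈ L := hYL htY
  have hσL := (sigma_core_hall c.hG c.hU hL).1
  have hprimes : ∀ r : ℕ, r.Prime → r ∣ Nat.card ↥Q → r ∈ sigma L := by
    intro r hr hrd
    obtain ⟨n, hn⟩ := IsPGroup.iff_card.1 hQLs.isPGroup
    rw [hn] at hrd
    rw [(Nat.prime_dvd_prime_iff_eq hr hpp).1 (hr.dvd_of_dvd_pow hrd)]
    exact hpσL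
  have hQσ : Q ≤ sigmaCore L := le_sigmaCore hσL hQL hprimes
  have hAσ : A ≤ sigmaCore L := d.hAQ.trans hQσ
  by_cases hqσL : q ∈ sigma L
  · exact htC (Cfsg.Agent.Lib.H16.BG1213.mem_centralizer_of_sigma c.hG c.hU hL hpp hq hqp hpσL hpβ hqσL hAL d.isPGroup htL
      htk htY)
  by_cases hr1 : PRankLE q 1 ↥L
  · exact htC (Cfsg.Agent.Lib.H23.BG1213.mem_centralizer_of_rank_one c.hG c.hC c.h17 hL hqσL hr1 htL htk hsz hs1 hAσ hsC)
  -- `q ∈ τ₂(L)`
  have hq2L : PRankLE q 2 ↥L := by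
    by_contra h
    exact hqσL (alpha_subset_sigma c.hG c.hU hL ⟨hq, h⟩)
  have hqτ : q ∈ tau2 L := ⟨hq, hqσL, hq2L, hr1⟩
  have htq' : IsPGroup q ↥(Subgroup.zpowers t) := by
    apply IsPGroup.of_card (n := k)
    rw [Nat.card_zpowers, htk]
  obtain ⟨S, hSL, htS⟩ := SylIn.exists_ge htq' (Subgroup.zpowers_le.2 htL)
  have hrS : ¬ PRankLE q 1 ↥S := fun h => hr1 (pRankLE_of_sylIn hSL h)
  obtain ⟨B, hBS, hBe, hBc⟩ := exists_elemAb_sq hq hrS
  obtain ⟨hnil, hb, -⟩ := c.h17 L hL q hqτ B ⟨hBS.trans hSL.le, hBe, hBc⟩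
  have hSc : IsMulCommutative ↥S := sylIn_comm hSL (fun P => (hb P).1)
  have hQσs : SylIn p Q (sigmaCore L) := hQLs.mono hQσ (Cfsg.Agent.Lib.H16.BG.sigmaCore_le L)
  have hLQ : L ≤ Subgroup.normalizer (Q : Set G) :=
    (Cfsg.Agent.Lib.H16.BG.le_normalizer_sigmaCore L).trans
      (normalizer_le_of_sylIn_nilpotent hnil hQσs)
  have hLY : L ≤ Y := hLQ.trans hNQ
  have hBM : ¬ B ≤ M := by
    intro h
    refine not_pRankLE_of_elemAb h hBe ?_ hqr
    rw [hBc]
    exact Nat.pow_lt_pow_right hq.one_lt (by norm_num)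
  obtain ⟨u, huB, huM⟩ := SetLike.not_le_iff_exists.1 hBM
  have huq : u ^ q ∈ Subgroup.centralizer (A : Set G) := by
    rw [hBe.2 u huB]; exact Subgroup.one_mem _
  obtain ⟨m, hm⟩ := Cfsg.Agent.Lib.H23.FreeCyc.exists_pow_mul_mem_centralizer_of_free d.ne_bot
    d.hAe.1 hSc hSL.isPGroup (hSL.le.trans hLY)
    (fun w hw hwC => d.fpf_of_noLine c hab hno (hLY (hSL.le hw)) hwC)
    (htS (Subgroup.mem_zpowers t)) htC (hBS huB) huq
  apply huM
  have h1 : u⁻¹ * t ^ m ∈ M := c.le (d.centralizer_le c hm)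
  have h2 : t ^ m ∈ M := Subgroup.pow_mem _ (c.le htE) m
  have h3 : u⁻¹ ∈ M := by
    have := Subgroup.mul_mem _ h1 (Subgroup.inv_mem _ h2)
    simpa [mul_assoc] using this
  simpa using Subgroup.inv_mem _ h3


/-- **the subgroup `T_p`** of the abelian case. -/
theorem exists_regular_invariant_cyclic' (c : Ctx M E) (d : TData M E p Q A)
    (hab : ∃ S : Sylow p G, IsMulCommutative ↥(S : Subgroup G))
    {H : Subgroup G} (hHE : H ≤ E) (hHp : (Nat.card ↥H).Coprime p)
    (hline : ∃ X : Subgroup G, X ≤ A ∧ Nat.card X = p ∧ H ≤ Subgroup.normalizer (X : Set G) ∧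
      sigmaCore M ⊓ Subgroup.centralizer (X : Set G) = ⊥) :
    ∃ T : Subgroup G, T ≤ Q ∧ H ≤ Subgroup.normalizer (T : Set G) ∧
      (∀ x ∈ T, x ≠ 1 → sigmaCore M ⊓ Subgroup.centralizer ({x} : Set G) = ⊥) ∧
      ∃ t ∈ T, ∀ x ∈ Q, orderOf x ∣ orderOf t := by
  classical
  have hpp : p.Prime := d.prime
  have hQp : IsPGroup p ↥Q := d.hQE.isPGroup
  have hQ1 : Q ≠ ⊥ := _root_.ne_bot_of_le_ne_bot d.ne_bot d.hAQ
  -- the exponent of `Q`
  have hex : ∃ n : ℕ, ∀ x ∈ Q, x ^ p ^ n = 1 := by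
    obtain ⟨m, hm⟩ := IsPGroup.iff_card.1 hQp
    refine ⟨m, fun x hx => ?_⟩
    have := pow_card_eq_one' (G := ↥Q) (x := ⟨x, hx⟩)
    rw [hm] at this
    have h2 := congrArg Subtype.val this
    simpa using h2
  set n := Nat.find hex with hn
  have hnspec : ∀ x ∈ Q, x ^ p ^ n = 1 := Nat.find_spec hex
  have hn0 : n ≠ 0 := by
    intro h0
    apply hQ1
    rw [eq_bot_iff]
    intro x hx
    have := hnspec x hx
    rw [h0, pow_zero, pow_one] at this
    exact Subgroup.mem_bot.2 this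
  obtain ⟨e, he⟩ : ∃ e, n = e + 1 := Nat.exists_eq_succ_of_ne_zero hn0
  have hexp : ∀ x ∈ Q, x ^ p ^ (e + 1) = 1 := he ▸ hnspec
  have hmin : ¬ ∀ x ∈ Q, x ^ p ^ e = 1 := Nat.find_min hex (by omega)
  push Not at hmin
  obtain ⟨y₀, hy₀Q, hy₀1⟩ := hmin
  -- the subgroup of `p^e`-th powers
  set V := powSubgroup Q d.hQc (p ^ e) with hV
  have hVA : V ≤ A := by
    rintro _ ⟨y, hy, rfl⟩
    apply (d.hΩ _ (Q.pow_mem hy _)).1
    rw [← pow_mul, ← pow_succ]
    exact hexp y hy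
  have hV1 : V ≠ ⊥ := by
    intro h
    apply hy₀1
    have : y₀ ^ p ^ e ∈ V := ⟨y₀, hy₀Q, rfl⟩
    rw [h] at this
    exact Subgroup.mem_bot.1 this
  have hEQ := d.le_normalizer_sylow c hab
  -- the line `X'` and the element `y`
  obtain ⟨X', y, hX'A, hX'c, hEX', hX'reg, hyQ, hyX', hy1⟩ :
      ∃ (X' : Subgroup G) (y : G), X' ≤ A ∧ Nat.card X' = p ∧
        H ≤ Subgroup.normalizer (X' : Set G) ∧
        sigmaCore M ⊓ Subgroup.centralizer (X' : Set G) = ⊥ ∧ y ∈ Q ∧ y ^ p ^ e ∈ X' ∧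
        y ^ p ^ e ≠ 1 := by
    by_cases hVeq : V = A
    · obtain ⟨X, hXA, hXc, hEX, hXreg⟩ := hline
      have hX1 : X ≠ ⊥ := by
        intro h
        rw [h, Subgroup.card_bot] at hXc
        exact hpp.one_lt.ne hXc
      obtain ⟨⟨a, haX⟩, ha1'⟩ := (Subgroup.ne_bot_iff_exists_ne_one).1 hX1
      have ha1 : a ≠ 1 := fun h => ha1' (Subtype.ext h)
      have haV : a ∈ V := by rw [hVeq]; exact hXA haX
      obtain ⟨y, hyQ, hya⟩ := haV
      exact ⟨X, y, hXA, hXc, hEX, hXreg, hyQ, hya ▸ haX, hya ▸ ha1⟩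
    · have hVc : Nat.card V = p := card_eq_of_ne_bot_of_ne hpp d.hAc hVA hV1 hVeq
      have hNV : Subgroup.normalizer (A : Set G) ≤ Subgroup.normalizer (V : Set G) :=
        (d.normalizer_le_normalizer c hab).trans
          (normalizer_le_normalizer_powSubgroup Q d.hQc (p ^ e))
      exact ⟨V, y₀, hVA, hVc, (hHE.trans (d.le_normalizer c)).trans hNV,
        d.regular_of_normalizer_le c hVA hVc hNV, hy₀Q, ⟨y₀, hy₀Q, rfl⟩, hy₀1⟩
  -- the cyclic subgroup
  obtain ⟨T, hTQ, hTcyc, hTc, hX'T, hHT⟩ :=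
    Cfsg.Agent.Lib.L0.BGSC.exists_invariant_cyclic_of_abelian hQp d.hQc (hHE.trans hEQ) hHp
      (hX'A.trans d.hAQ) hX'c hEX' hexp hyQ hyX' hy1
  refine ⟨T, hTQ, hHT, ?_, ?_⟩
  · intro x hxT hx1
    -- an element of order `p` in `⟨x⟩`
    have hxo : orderOf x ∣ p ^ (e + 1) := orderOf_dvd_of_pow_eq_one (hexp x (hTQ hxT))
    obtain ⟨j, hj, hjo⟩ := (Nat.dvd_prime_pow hpp).1 hxo
    have hj0 : j ≠ 0 := by
      intro h
      rw [h, pow_zero, orderOf_eq_one_iff] at hjo
      exact hx1 hjo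
    set x' := x ^ p ^ (j - 1) with hx'
    have hx'p : x' ^ p = 1 := by
      rw [hx', ← pow_mul, ← pow_succ, show j - 1 + 1 = j by omega, ← hjo]
      exact pow_orderOf_eq_one x
    have hx'1 : x' ≠ 1 := by
      intro h
      have h1 : orderOf x ∣ p ^ (j - 1) := orderOf_dvd_of_pow_eq_one h
      rw [hjo] at h1
      have h2 := Nat.le_of_dvd (pow_pos hpp.pos _) h1
      have h3 : p ^ (j - 1) < p ^ j := Nat.pow_lt_pow_right hpp.one_lt (by omega)
      omega
    have hx'T : x' ∈ T := T.pow_mem hxT _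
    -- a generator of `X'`
    have hX'1 : X' ≠ ⊥ := by
      intro h
      rw [h, Subgroup.card_bot] at hX'c
      exact hpp.one_lt.ne hX'c
    obtain ⟨⟨a, haX⟩, ha1'⟩ := (Subgroup.ne_bot_iff_exists_ne_one).1 hX'1
    have ha1 : a ≠ 1 := fun h => ha1' (Subtype.ext h)
    have hap : a ^ p = 1 := d.hAe.2 a (hX'A haX)
    have hz := zpowers_eq_of_mem_cyclic hTcyc hpp hx'T (hX'T haX) hx'p hx'1 hap ha1
    have hX'z : X' ≤ Subgroup.zpowers x := by
      refine (le_zpowers_of_card_prime hpp hX'c haX ha1).trans ?_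
      rw [← hz]
      exact Subgroup.zpowers_le.2 (Subgroup.pow_mem _ (Subgroup.mem_zpowers x) _)
    rw [eq_bot_iff, ← hX'reg]
    refine inf_le_inf_left _ ?_
    rw [← centralizer_zpowers_eq]
    exact Subgroup.centralizer_le (show (X' : Set G) ⊆ Subgroup.zpowers x from hX'z)
  · haveI := hTcyc
    obtain ⟨g, hg⟩ := IsCyclic.exists_generator (α := ↥T)
    refine ⟨(g : G), g.2, fun x hx => ?_⟩
    have h1 : orderOf g = Nat.card ↥T := orderOf_eq_card_of_forall_mem_zpowers hg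
    rw [Subgroup.orderOf_coe, h1, hTc]
    exact orderOf_dvd_of_pow_eq_one (hexp x hx)

/-- **(β) for `U`**: in the abelian case, a subgroup `H` of `U` normalizes a line of `A` without
fixed points on `M_σ`. -/
theorem exists_invariant_regular_line_U (c : Ctx M E) (d : TData M E p Q A)
    (hab : ∃ S : Sylow p G, IsMulCommutative ↥(S : Subgroup G))
    {U : Subgroup G} (hUE : U ≤ E) (hreg : HypReg M U) {H : Subgroup G} (hHU : H ≤ U) :
    ∃ X : Subgroup G, X ≤ A ∧ Nat.card X = p ∧ H ≤ Subgroup.normalizer (X : Set G) ∧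
      sigmaCore M ⊓ Subgroup.centralizer (X : Set G) = ⊥ := by
  by_cases hno : NoLine E A p
  · have hUC := le_centralizer_of_noLine c d hab hno hUE hreg
    obtain ⟨X₁, hX₁A, hX₁c⟩ := exists_line_of_ne_bot d.prime d.hAe le_rfl d.ne_bot
    exact exists_invariant_regular_line' c d hab (hHU.trans hUE) hX₁A hX₁c
      ((hHU.trans hUC).trans (centralizer_le_normalizer_of_le hX₁A))
  · unfold NoLine at hno
    push Not at hno
    obtain ⟨X₁, hX₁A, hX₁c, hEX₁⟩ := hno
    exact exists_invariant_regular_line' c d hab (hHU.trans hUE) hX₁A hX₁c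
      ((hHU.trans hUE).trans hEX₁)

/-- **the subgroup `T_p` for `U`** in the abelian case. -/
theorem exists_regular_invariant_cyclic_U (c : Ctx M E) (d : TData M E p Q A)
    (hab : ∃ S : Sylow p G, IsMulCommutative ↥(S : Subgroup G))
    {U : Subgroup G} (hUE : U ≤ E) (hreg : HypReg M U)
    {H : Subgroup G} (hHU : H ≤ U) (hHp : (Nat.card ↥H).Coprime p) :
    ∃ T : Subgroup G, T ≤ Q ∧ H ≤ Subgroup.normalizer (T : Set G) ∧
      (∀ x ∈ T, x ≠ 1 → sigmaCore M ⊓ Subgroup.centralizer ({x} : Set G) = ⊥) ∧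
      ∃ t ∈ T, ∀ x ∈ Q, orderOf x ∣ orderOf t :=
  exists_regular_invariant_cyclic' c d hab (hHU.trans hUE) hHp
    (exists_invariant_regular_line_U c d hab hUE hreg hHU)

end Cfsg.Agent.Lib.H20.BGZ
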