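import Mathlib
import Cfsg.Agent.Lib.H20.BGZ2

/-!
# The nonabelian case of BG Lemma 12.12 for `U` (helper20)

Copy of helper8's `TData.mem_lineZero_of_bad` with the regularity hypothesis replaced by the
assumption that the element is a `τ₂(M)`-element.
-/

set_option autoImplicit false
set_option linter.style.haveILetI false
set_option linter.unusedSectionVars false
set_option linter.unusedVariables false
set_option maxHeartbeats 800000

open Cfsg

namespace Cfsg.Agent.Lib.H20.BGZ

open Cfsg.Agent.Lib.H16.BG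
open Cfsg.Agent.Lib.H7.BG7
open Cfsg.Agent.Lib.H7.BG10
open Cfsg.Agent.Lib.H20.BGS
open Cfsg.Agent.Lib.H19 (IsPiCard)
open Cfsg.Agent.Lib.H8.BG11
open Cfsg.Agent.Lib.H8.BG12
open Cfsg.Agent.Lib.H8.BG12.TData
open scoped commutatorElement Pointwise

universe u
variable {G : Type u} [Group G] [Finite G]

local notation:max "cj(" g ", " X ")" => Subgroup.map (MulEquiv.toMonoidHom (MulAut.conj g)) X

variable {M E : Subgroup G} {p : ℕ} [hpf : Fact p.Prime] {Q A : Subgroup G}


/-- **N1**: in the nonabelian case, an element of `E` with fixed points on `M_σ` lies in `A₀`. -/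
theorem mem_lineZero_of_bad' (c : Ctx M E) (d : TData M E p Q A)
    (hS : ∀ S : Sylow p G, ¬ IsMulCommutative (S : Subgroup G)) {e : G}
    (he : e ∈ E) (hτe : ∀ r : ℕ, r.Prime → r ∣ orderOf e → r ∈ tau2 M)
    (hbad : sigmaCore M ⊓ Subgroup.centralizer ({e} : Set G) ≠ ⊥) :
    e ∈ lineZero M A := by
  have hpp : p.Prime := d.prime
  have hτ : tau2 M = {p} := tau2_eq_singleton c.hG c.hU c.hC c.h17 M c.hM E c.hE p d.hp hS A d.hAE
    d.hAe d.hAc
  obtain ⟨hA₀c, hlines⟩ := d.thm127 c hS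
  obtain ⟨Sh, x, hQSh, hxSh, hxN, hxM⟩ := d.exists_sylow_above c hS
  obtain ⟨R₁, hR₁, hpow⟩ := d.exists_cyclic_pow c Sh (hS Sh) hQSh
  -- `e` is a `p`-element
  have huniq : ∀ {r : ℕ}, r.Prime → r ∣ orderOf e → r = p := by
    intro r hr hrd
    have := hτe r hr hrd
    rw [hτ] at this
    exact this
  have hek := Nat.eq_prime_pow_of_unique_prime_dvd (orderOf_pos e).ne' huniq
  set j := (orderOf e).primeFactorsList.length with hj
  have hep : IsPGroup p ↥(Subgroup.zpowers e) := by
    apply IsPGroup.of_card (n := j)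
    rw [Nat.card_zpowers, hek]
  -- conjugate `e` into `Q`
  obtain ⟨g, hgE, hgQ⟩ := d.hQE.exists_conj_le hep (Subgroup.zpowers_le.2 he)
  set e' := g * e * g⁻¹ with he'
  have he'Q : e' ∈ Q := hgQ ⟨e, Subgroup.mem_zpowers e, by simp [MulAut.conj_apply, he']⟩
  have hoe' : orderOf e' = p ^ j := by
    rw [he', ← hek]
    exact Cfsg.Agent.Lib.H16.SameExp.orderOf_conj' g e
  -- `e'` has fixed points
  obtain ⟨⟨k, hkK, hkC⟩, hk1'⟩ := (Subgroup.ne_bot_iff_exists_ne_one).1 hbad
  have hk1 : k ≠ 1 := fun h => hk1' (Subtype.ext h)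
  have hgK : g ∈ Subgroup.normalizer ((sigmaCore M : Subgroup G) : Set G) :=
    Cfsg.Agent.Lib.H16.BG.le_normalizer_sigmaCore M (c.le hgE)
  have hbad' : ∀ n : ℕ, sigmaCore M ⊓ Subgroup.centralizer ({e' ^ n} : Set G) ≠ ⊥ := by
    intro n h
    apply hk1
    have : g * k * g⁻¹ ∈ sigmaCore M ⊓ Subgroup.centralizer ({e' ^ n} : Set G) := by
      refine ⟨(Subgroup.mem_normalizer_iff.1 hgK k).1 hkK, ?_⟩
      show g * k * g⁻¹ ∈ Subgroup.centralizer ({e' ^ n} : Set G)
      rw [Subgroup.mem_centralizer_singleton_iff]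
      have hke : k * e = e * k := by
        have := Subgroup.mem_centralizer_singleton_iff.1 hkC
        exact this
      have h1 : (g * k * g⁻¹) * e' = e' * (g * k * g⁻¹) := by
        rw [he']
        calc g * k * g⁻¹ * (g * e * g⁻¹) = g * (k * e) * g⁻¹ := by group
          _ = g * (e * k) * g⁻¹ := by rw [hke]
          _ = g * e * g⁻¹ * (g * k * g⁻¹) := by group
      exact (Commute.pow_right (show Commute (g * k * g⁻¹) e' from h1) n).eq
    rw [h] at this
    have h2 := Subgroup.mem_bot.1 this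
    have : k = g⁻¹ * (g * k * g⁻¹) * g := by group
    rw [this, h2]; group
  -- it suffices to treat `e'`
  suffices hsuff : e' ∈ lineZero M A by
    have hgN := d.le_normalizer_lineZero c (Subgroup.inv_mem _ hgE)
    have := (Subgroup.mem_normalizer_iff.1 hgN e').1 hsuff
    have h2 : g⁻¹ * e' * g⁻¹⁻¹ = e := by rw [he']; group
    rwa [h2] at this
  by_cases hj0 : j = 0
  · have : e' = 1 := by
      rw [hj0, pow_zero, orderOf_eq_one_iff] at hoe'
      exact hoe'
    rw [this]; exact Subgroup.one_mem _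
  -- the element `w` of order `p`
  set w := e' ^ p ^ (j - 1) with hw
  have hwp : w ^ p = 1 := by
    rw [hw, ← pow_mul, ← pow_succ, show j - 1 + 1 = j by omega, ← hoe']
    exact pow_orderOf_eq_one e'
  have hw1 : w ≠ 1 := by
    intro h
    have h1 : orderOf e' ∣ p ^ (j - 1) := orderOf_dvd_of_pow_eq_one h
    rw [hoe'] at h1
    have h2 := Nat.le_of_dvd (pow_pos hpp.pos _) h1
    have h3 : p ^ (j - 1) < p ^ j := Nat.pow_lt_pow_right hpp.one_lt (by omega)
    omega
  have hwQ : w ∈ Q := Q.pow_mem he'Q _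
  have hWc : Nat.card ↥(Subgroup.zpowers w) = p := by
    rw [Nat.card_zpowers]; exact orderOf_eq_prime hwp hw1
  have hWE : Subgroup.zpowers w ≤ E := Subgroup.zpowers_le.2 (d.hQE.le hwQ)
  have hWbad : sigmaCore M ⊓ Subgroup.centralizer ((Subgroup.zpowers w : Subgroup G) : Set G) ≠ ⊥ := by
    rw [centralizer_zpowers_eq]
    exact hbad' _
  have hWeq : Subgroup.zpowers w = lineZero M A := by
    by_contra hne
    exact hWbad (hlines _ hWE hWc hne)
  by_cases hj1 : j = 1
  · have : e' = w := by rw [hw, hj1]; simp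
    rw [this, ← hWeq]
    exact Subgroup.mem_zpowers w
  -- `j ≥ 2`: contradiction
  exfalso
  have hexp : p ^ (j - 1) = p * p ^ (j - 2) := by
    rw [← pow_succ']
    congr 1
    omega
  have hwR : w ∈ R₁ := by
    have : w = (e' ^ p) ^ p ^ (j - 2) := by
      rw [hw, ← pow_mul, hexp]
    rw [this]
    exact Subgroup.pow_mem _ (hpow e' he'Q) _
  have hxe'Q : x * e' * x⁻¹ ∈ Q := (Subgroup.mem_normalizer_iff.1 hxN e').1 he'Q
  have hw'R : x * w * x⁻¹ ∈ R₁ := by
    have : x * w * x⁻¹ = ((x * e' * x⁻¹) ^ p) ^ p ^ (j - 2) := by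
      rw [← pow_mul, ← hexp, conj_pow, hw]
    rw [this]
    exact Subgroup.pow_mem _ (hpow _ hxe'Q) _
  have hw'p : (x * w * x⁻¹) ^ p = 1 := by rw [conj_pow, hwp]; group
  have hw'1 : x * w * x⁻¹ ≠ 1 := by
    intro h
    apply hw1
    have : w = x⁻¹ * (x * w * x⁻¹) * x := by group
    rw [this, h]; group
  have hz := zpowers_eq_of_mem_cyclic hR₁ hpp hwR hw'R hwp hw1 hw'p hw'1
  have hxW : x ∈ Subgroup.normalizer ((Subgroup.zpowers w : Subgroup G) : Set G) := by
    rw [Subgroup.mem_normalizer_iff_map_conj_eq, MonoidHom.map_zpowers]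
    show Subgroup.zpowers (x * w * x⁻¹) = Subgroup.zpowers w
    exact hz.symm
  have hWA : Subgroup.zpowers w ≤ A := by rw [hWeq]; exact lineZero_le M A
  exact hxM (d.mem_of_mem_normalizer_bad c hWA hWc hWbad hxW)

end Cfsg.Agent.Lib.H20.BGZ
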