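import Mathlib
import Cfsg.Agent.Lib.H20.BGZ3

/-!
# BG Lemma 12.12 for the factor `U` of a standard factorisation (BG Lemma 15.1(d),(e)) (helper20)

For a standard factorisation `M = K U M_σ`: the elements of `U` with fixed points on `M_σ` lie in
an abelian subgroup, and `U` has a subgroup `U₀` of the same exponent acting without fixed points
on `M_σ`.  Adapted from helper8's `concl_of_abelian`, `concl_of_nonabelian`.
-/

set_option autoImplicit false
set_option linter.style.haveILetI false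
set_option linter.unusedSectionVars false
set_option linter.unusedVariables false
set_option maxHeartbeats 1600000

open Cfsg

namespace Cfsg.Agent.Lib.H20.BGZ

open Cfsg.Agent.Lib.H16.BG
open Cfsg.Agent.Lib.H7.BG7
open Cfsg.Agent.Lib.H7.BG10
open Cfsg.Agent.Lib.H20.BGS
open Cfsg.Agent.Lib.H19 (IsPiCard)
open Cfsg.Agent.Lib.H8.BG11
open Cfsg.Agent.Lib.H8.BG12
open Cfsg.Agent.Lib.H8.BG12.TData
open scoped commutatorElement Pointwise

universe u
variable {G : Type u} [Group G] [Finite G]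

/-- the conclusion of BG Lemma 15.1(d),(e). -/
def ConclU (M U : Subgroup G) : Prop :=
  (∃ A₀ : Subgroup G, IsMulCommutative A₀ ∧
      ∀ u ∈ U, sigmaCore M ⊓ Subgroup.centralizer ({u} : Set G) ≠ ⊥ → u ∈ A₀) ∧
    ∃ U₀ : Subgroup G, U₀ ≤ U ∧ Monoid.exponent U₀ = Monoid.exponent U ∧
      ∀ e ∈ U₀, e ≠ 1 → sigmaCore M ⊓ Subgroup.centralizer ({e} : Set G) = ⊥

/-- **the abelian case**. -/
theorem conclU_of_abelian (hG : IsMinSimpleOddOrder G) (hC : HypCent G) (h17 : Hyp1417 G)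
    {M K U : Subgroup G} (hM : IsCoatom M) (hKU : IsSigmaDecomposition M K U)
    (hab : ∀ p ∈ tau2 M, ∀ _ : Fact p.Prime, ∃ S : Sylow p G, IsMulCommutative ↥(S : Subgroup G)) :
    ConclU M U := by
  classical
  set E : Subgroup G := K ⊔ U with hEdef
  have c : Ctx M E := ctx hG hC h17 hM hKU
  have hUE : U ≤ E := le_sup_right
  have hreg : HypReg M U := hypReg_U hG hC h17 hM hKU
  haveI hEs : Group.IsSolvable ↥E := solvable_of_le_ne_top c.hG c.hM.1 c.le
  haveI hUs : Group.IsSolvable ↥U := solvable_of_le_ne_top c.hG c.hM.1 (hUE.trans c.le)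
  set A₀ := piCoreOf (tau2 M) E with hA₀
  have hA₀E : A₀ ≤ E := piCoreOf_le _ _
  have hEA₀ : E ≤ Subgroup.normalizer (A₀ : Set G) := le_normalizer_piCoreOf _ _
  have hA₀π : IsPiCard (tau2 M) (Nat.card ↥A₀) := piCoreOf_isPiCard _ _
  have hA₀c : IsMulCommutative ↥A₀ := c.tau2_abelian hA₀E hA₀π
  have hA₀U : A₀ ≤ U := le_U_of_not_kappa hG hM hKU hA₀E
    (fun r hr hd => not_kappa_of_tau23 hG hM hKU (Or.inl (hA₀π r hr hd)))
  -- the Sylow subgroups for the primes of `τ₂(M)` lie in `A₀`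
  have hQ : ∀ p ∈ tau2 M, ∀ _ : Fact p.Prime, ∀ Q A : Subgroup G, TData M E p Q A → Q ≤ A₀ := by
    intro p hp hpf Q A d
    exact le_piCoreOf d.hQE.le (d.le_normalizer_sylow c (hab p hp hpf))
      (isPiCard_card_of_isPGroup hp d.hQE.isPGroup)
  -- `τ₂`-elements of `E` lie in `A₀`
  have hmem : ∀ e ∈ E, (∀ q : ℕ, q.Prime → q ∣ orderOf e → q ∈ tau2 M) → e ∈ A₀ := by
    intro e he hτ
    apply Cfsg.Agent.Lib.H16.SameExp.mem_of_card_coprime hA₀E he (hEA₀ he)
      (m := A₀.relIndex E)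
    · rw [Cfsg.Agent.Lib.H19.card_mul_relIndex hA₀E]
    · apply Nat.coprime_of_dvd
      intro r hr hr1 hr2
      have hrτ : r ∈ tau2 M := by
        rcases (Nat.Prime.dvd_mul hr).1 hr1 with h | h
        · exact hτ r hr h
        · exact hA₀π r hr h
      haveI : Fact r.Prime := ⟨hr⟩
      obtain ⟨Q, A, d⟩ := c.exists_tData hrτ
      have h1 : A₀.relIndex E ∣ Q.relIndex E :=
        Subgroup.relIndex_dvd_of_le_left E (hQ r hrτ ⟨hr⟩ Q A d)
      exact d.hQE.2.2 (hr2.trans h1)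
  refine ⟨⟨A₀, hA₀c, ?_⟩, ?_⟩
  · intro u hu hbad
    exact hmem u (hUE hu) (fun q hq hqd => tau2_of_bad_U hG hC h17 hM hKU hu hbad hq hqd)
  · -- the subgroup `U₀`
    obtain ⟨H, hH⟩ := Cfsg.Agent.Lib.H19.exists_isPiHallOf U (tau2 M)ᶜ
    have hHp : ∀ p ∈ tau2 M, (Nat.card ↥H).Coprime p := by
      intro p hp
      rw [Nat.coprime_comm, hp.1.coprime_iff_not_dvd]
      intro hd
      exact hH.2.1 p hp.1 hd hp
    have key : ∀ p ∈ tau2 M, ∃ T : Subgroup G, T ≤ A₀ ∧ IsPGroup p ↥T ∧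
        H ≤ Subgroup.normalizer (T : Set G) ∧
        (∀ x ∈ T, x ≠ 1 → sigmaCore M ⊓ Subgroup.centralizer ({x} : Set G) = ⊥) ∧
        ∀ x ∈ U, (∃ k : ℕ, x ^ p ^ k = 1) → ∃ t ∈ T, orderOf x ∣ orderOf t := by
      intro p hp
      haveI hpf : Fact p.Prime := ⟨hp.1⟩
      obtain ⟨Q, A, d⟩ := c.exists_tData hp
      obtain ⟨T, hTQ, hHT, hTreg, t, htT, ht⟩ :=
        exists_regular_invariant_cyclic_U c d (hab p hp hpf) hUE hreg hH.1 (hHp p hp)
      refine ⟨T, hTQ.trans (hQ p hp hpf Q A d), d.hQE.isPGroup.to_le hTQ, hHT, hTreg, ?_⟩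
      rintro x hxU ⟨k, hk⟩
      refine ⟨t, htT, ht x ?_⟩
      have hxp : IsPGroup p ↥(Subgroup.zpowers x) := by
        apply IsPGroup.of_card (n := (Nat.card ↥(Subgroup.zpowers x)).factorization p)
        rw [Nat.card_zpowers]
        obtain ⟨j, hj, hjo⟩ := (Nat.dvd_prime_pow hp.1).1 (orderOf_dvd_of_pow_eq_one hk)
        rw [hjo, hp.1.factorization_pow]
        simp
      exact le_of_sylIn_normal d.hQE (d.le_normalizer_sylow c (hab p hp hpf)) hxp
        (Subgroup.zpowers_le.2 (hUE hxU)) (Subgroup.mem_zpowers x)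
    choose T hT using key
    set T' : ℕ → Subgroup G := fun p => if h : p ∈ tau2 M then T p h else ⊥ with hT'
    have hT'eq : ∀ p (h : p ∈ tau2 M), T' p = T p h := fun p h => by simp [hT', h]
    obtain ⟨U₀, hU₀U, hexp, hU₀⟩ := Cfsg.Agent.Lib.H16.SameExp.exists_same_exponent_of_family
      (π := tau2 M) (fun p hp => hp.1) hH T'
      (fun p hp => by rw [hT'eq p hp]; exact (hT p hp).1.trans hA₀U)
      (fun p hp => by rw [hT'eq p hp]; exact (hT p hp).2.1)
      (fun p hp => by rw [hT'eq p hp]; exact (hT p hp).2.2.1)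
      (fun p hp q hq x hx y hy => by
        rw [hT'eq p hp] at hx
        rw [hT'eq q hq] at hy
        exact comm_of_mem hA₀c ((hT p hp).1 hx) ((hT q hq).1 hy))
      (fun p hp x hx hxp => by rw [hT'eq p hp]; exact (hT p hp).2.2.2.2 x hx hxp)
    refine ⟨U₀, hU₀U, hexp, ?_⟩
    intro e he he1
    apply regular_of_prime_powers he1
    intro q hq hqd
    by_contra hbad
    set e' := e ^ (orderOf e / q) with he'
    have ho : orderOf e' = q := orderOf_pow_orderOf_div (orderOf_pos e).ne' hqd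
    have he'U₀ : e' ∈ U₀ := U₀.pow_mem he _
    have he'1 : e' ≠ 1 := by
      intro h
      rw [h, orderOf_one] at ho
      exact hq.one_lt.ne ho
    have hqτ : q ∈ tau2 M :=
      tau2_of_bad_U hG hC h17 hM hKU (hU₀U he'U₀) hbad hq (by rw [ho])
    have hmemT := hU₀ e' he'U₀ q hqτ ho
    rw [hT'eq q hqτ] at hmemT
    exact hbad ((hT q hqτ).2.2.2.1 e' hmemT he'1)

end Cfsg.Agent.Lib.H20.BGZ
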