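import Mathlib
import Cfsg.Agent.Lib.H20.BGZ4

/-!
# BG Lemma 12.12 for the factor `U`: the nonabelian case and the theorem (helper20)
-/

set_option autoImplicit false
set_option linter.style.haveILetI false
set_option linter.unusedSectionVars false
set_option linter.unusedVariables false
set_option maxHeartbeats 1600000

open Cfsg

namespace Cfsg.Agent.Lib.H20.BGZ

open Cfsg.Agent.Lib.H16.BG
open Cfsg.Agent.Lib.H7.BG7
open Cfsg.Agent.Lib.H7.BG10
open Cfsg.Agent.Lib.H20.BGS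
open Cfsg.Agent.Lib.H19 (IsPiCard)
open Cfsg.Agent.Lib.H8.BG11
open Cfsg.Agent.Lib.H8.BG12
open Cfsg.Agent.Lib.H8.BG12.TData
open scoped commutatorElement Pointwise

universe u
variable {G : Type u} [Group G] [Finite G]

/-- **the nonabelian case**. -/
theorem conclU_of_nonabelian (hG : IsMinSimpleOddOrder G) (hC : HypCent G) (h17 : Hyp1417 G)
    {M K U : Subgroup G} (hM : IsCoatom M) (hKU : IsSigmaDecomposition M K U) {p : ℕ}
    [hpf : Fact p.Prime] (hp : p ∈ tau2 M)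
    (hS : ∀ S : Sylow p G, ¬ IsMulCommutative (S : Subgroup G)) : ConclU M U := by
  classical
  set E : Subgroup G := K ⊔ U with hEdef
  have c : Ctx M E := ctx hG hC h17 hM hKU
  have hUE : U ≤ E := le_sup_right
  have hpp : p.Prime := hpf.out
  haveI hEs : Group.IsSolvable ↥E := solvable_of_le_ne_top c.hG c.hM.1 c.le
  haveI hUs : Group.IsSolvable ↥U := solvable_of_le_ne_top c.hG c.hM.1 (hUE.trans c.le)
  obtain ⟨Q₀, A, d₀⟩ := c.exists_tData hp
  have hτ : tau2 M = {p} := tau2_eq_singleton c.hG c.hU c.hC c.h17 M c.hM E c.hE p hp hS A d₀.hAE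
    d₀.hAe d₀.hAc
  have hA₀A : TData.lineZero M A ≤ A := TData.lineZero_le M A
  have hEA₀ := d₀.le_normalizer_lineZero c
  have hbadmem : ∀ u ∈ U, sigmaCore M ⊓ Subgroup.centralizer ({u} : Set G) ≠ ⊥ →
      u ∈ TData.lineZero M A := by
    intro u hu hbad
    exact mem_lineZero_of_bad' c d₀ hS (hUE hu)
      (fun r hr hrd => tau2_of_bad_U hG hC h17 hM hKU hu hbad hr hrd) hbad
  refine ⟨⟨TData.lineZero M A, isMulCommutative_of_le hA₀A d₀.hAe.1, hbadmem⟩, ?_⟩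
  -- the subgroup `U₀`
  have hE'π : IsPiCard (tau1 M)ᶜ (Nat.card ↥⁅E, E⁆) := by
    intro r hr hrd hr1
    apply hr1.2.2.2.1
    exact hrd.trans (Subgroup.card_dvd_of_le (Subgroup.commutator_mono c.le c.le))
  obtain ⟨N, hN, hE'N⟩ := Cfsg.Agent.Lib.H19.exists_isPiHallOf_ge (π := (tau1 M)ᶜ)
    (Cfsg.Agent.Lib.H8.BG12.commutator_self_le E) hE'π
  have hEN : E ≤ Subgroup.normalizer (N : Set G) := le_normalizer_of_commutator_le hN.1 hE'N
  obtain ⟨D₁U, hD₁U⟩ := Cfsg.Agent.Lib.H19.exists_isPiHallOf U (tau1 M)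
  obtain ⟨D₁, hD₁, hD₁UD₁⟩ := Cfsg.Agent.Lib.H19.exists_isPiHallOf_ge (π := tau1 M)
    (hD₁U.1.trans hUE) hD₁U.2.1
  haveI hNs : Group.IsSolvable ↥N := solvable_of_le_ne_top c.hG c.hM.1 (hN.1.trans c.le)
  have hcop : Cfsg.Agent.Lib.H1.CoprimeAction D₁ N :=
    ⟨hD₁.1.trans hEN, Cfsg.Agent.Lib.H19.coprime_of_isPiCard hD₁.2.1 hN.2.1, Or.inr hNs⟩
  obtain ⟨Q, hQH, hD₁Q⟩ := Cfsg.Agent.Lib.H19.coprime_exists_invariant_hall hcop {p}
  have hQN : SylIn p Q N := sylIn_of_isPiHallOf_singleton hQH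
  have hp1 : p ∉ tau1 M := fun h => hp.2.2.2 h.2.2.2.2
  have hp3 : p ∉ tau3 M := fun h => hp.2.2.2 h.2.2.2
  have hQE : SylIn p Q E := by
    refine ⟨hQN.le.trans hN.1, hQN.isPGroup, fun hd => ?_⟩
    rw [← Subgroup.relIndex_mul_relIndex Q N E hQN.le hN.1, Nat.Prime.dvd_mul hpp] at hd
    rcases hd with hd | hd
    · exact hQN.2.2 hd
    · exact hN.2.2 p hpp hp1 hd
  have d : TData M E p Q A := d₀.of_sylIn c hQE
  have hD₁p : (Nat.card ↥D₁).Coprime p := by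
    rw [Nat.coprime_comm, hpp.coprime_iff_not_dvd]
    exact fun hd => hp1 (hD₁.2.1 p hpp hd)
  obtain ⟨T, hTQ, hD₁T, hTA₀, t, htT, ht⟩ :=
    d.exists_regular_cyclic_nonabelian c hS hD₁.1 hD₁Q hD₁p
  obtain ⟨E₃, hE₃⟩ := Cfsg.Agent.Lib.H19.exists_isPiHallOf E (tau3 M)
  have hEE₃ : E ≤ Subgroup.normalizer (E₃ : Set G) := (hall_tau3_structure c.hG c.hU c.hM c.hE hE₃).2.2
  -- `Q` and `E₃` lie in `U`
  have hQU : Q ≤ U := le_U_of_not_kappa hG hM hKU hQE.le (by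
    intro r hr hd
    obtain ⟨n, hn⟩ := IsPGroup.iff_card.1 hQE.isPGroup
    rw [hn] at hd
    rw [(Nat.prime_dvd_prime_iff_eq hr hpp).1 (hr.dvd_of_dvd_pow hd)]
    exact not_kappa_of_tau23 hG hM hKU (Or.inl hp))
  have hE₃U : E₃ ≤ U := le_U_of_not_kappa hG hM hKU hE₃.1
    (fun r hr hd => not_kappa_of_tau23 hG hM hKU (Or.inr (hE₃.2.1 r hr hd)))
  -- `E₃ ⊔ D₁U` is a Hall `p'`-subgroup of `U`
  have hHall : IsPiHallOf ({p}ᶜ : Set ℕ) (E₃ ⊔ D₁U) U := by
    refine ⟨sup_le hE₃U hD₁U.1, ?_, ?_⟩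
    · intro r hr hrd hrp
      have hrp' : r = p := hrp
      subst hrp'
      have h1 : Nat.card ↥(D₁U ⊔ E₃ : Subgroup G) ∣ Nat.card ↥D₁U * Nat.card ↥E₃ :=
        Cfsg.Agent.Lib.H19.card_sup_dvd_mul_of_le_normalizer ((hD₁U.1.trans hUE).trans hEE₃)
      rw [sup_comm] at hrd
      rcases (Nat.Prime.dvd_mul hr).1 (hrd.trans h1) with h | h
      · exact hp1 (hD₁U.2.1 r hr h)
      · exact hp3 (hE₃.2.1 r hr h)
    · intro r hr hrp hrd
      have hrU : r ∣ Nat.card ↥U :=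
        hrd.trans (Subgroup.relIndex_dvd_card _ _)
      have hrE : r ∣ Nat.card ↥E := hrU.trans (Subgroup.card_dvd_of_le hUE)
      rcases mem_tau_of_dvd_card_compl c.hG c.hU c.hM c.hE hr hrE with h | h | h
      · exact hD₁U.2.2 r hr h (hrd.trans (Subgroup.relIndex_dvd_of_le_left U le_sup_right))
      · rw [hτ] at h
        exact hrp h
      · apply hE₃.2.2 r hr h
        have h1 : E₃.relIndex U ∣ E₃.relIndex E := by
          rw [← Subgroup.relIndex_mul_relIndex E₃ U E hE₃U hUE]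
          exact dvd_mul_right _ _
        exact (hrd.trans (Subgroup.relIndex_dvd_of_le_left U le_sup_left)).trans h1
  obtain ⟨U₀, hU₀U, hexp, hU₀⟩ := Cfsg.Agent.Lib.H16.SameExp.exists_same_exponent_of_normal_hall
    hE₃U (hUE.trans hEE₃) hD₁U.1 hHall (hTQ.trans hQU) (hQE.isPGroup.to_le hTQ)
    (hD₁UD₁.trans hD₁T) (by
      rintro x hxU ⟨k, hk⟩
      have hxp : IsPGroup p ↥(Subgroup.zpowers x) := by
        apply IsPGroup.of_card (n := (Nat.card ↥(Subgroup.zpowers x)).factorization p)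
        rw [Nat.card_zpowers]
        obtain ⟨j, hj, hjo⟩ := (Nat.dvd_prime_pow hpp).1 (orderOf_dvd_of_pow_eq_one hk)
        rw [hjo, hpp.factorization_pow]
        simp
      obtain ⟨g, hgE, hgQ⟩ := hQE.exists_conj_le hxp (Subgroup.zpowers_le.2 (hUE hxU))
      have hx'Q : g * x * g⁻¹ ∈ Q :=
        hgQ ⟨x, Subgroup.mem_zpowers x, by simp [MulAut.conj_apply]⟩
      refine ⟨t, htT, ?_⟩
      rw [← Cfsg.Agent.Lib.H16.SameExp.orderOf_conj' g x]
      exact ht _ hx'Q)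
  refine ⟨U₀, hU₀U, hexp, ?_⟩
  intro e he he1
  apply regular_of_prime_powers he1
  intro q hq hqd
  by_contra hbad
  set e' := e ^ (orderOf e / q) with he'
  have ho : orderOf e' = q := orderOf_pow_orderOf_div (orderOf_pos e).ne' hqd
  have he'U₀ : e' ∈ U₀ := U₀.pow_mem he _
  have he'1 : e' ≠ 1 := by
    intro h
    rw [h, orderOf_one] at ho
    exact hq.one_lt.ne ho
  have hqτ : q ∈ tau2 M :=
    tau2_of_bad_U hG hC h17 hM hKU (hU₀U he'U₀) hbad hq (by rw [ho])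
  rw [hτ] at hqτ
  have hqp : q = p := hqτ
  have he'A₀ : e' ∈ TData.lineZero M A := hbadmem e' (hU₀U he'U₀) hbad
  obtain ⟨g, hgU₀, hgT⟩ := hU₀ e' he'U₀ (ho.trans hqp)
  have hgA₀ : g * e' * g⁻¹ ∈ TData.lineZero M A :=
    (Subgroup.mem_normalizer_iff.1 (hEA₀ (hUE (hU₀U hgU₀))) e').1 he'A₀
  have h1 : g * e' * g⁻¹ ∈ T ⊓ TData.lineZero M A := ⟨hgT, hgA₀⟩
  rw [hTA₀] at h1
  have h2 := Subgroup.mem_bot.1 h1
  apply he'1
  have : e' = g⁻¹ * (g * e' * g⁻¹) * g := by group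
  rw [this, h2]; group

/-- **BG Lemma 15.1(d),(e)**: BG Lemma 12.12 for the factor `U` of a standard factorisation. -/
theorem conclU (hG : IsMinSimpleOddOrder G) (hC : HypCent G) (h17 : Hyp1417 G)
    {M K U : Subgroup G} (hM : IsCoatom M) (hKU : IsSigmaDecomposition M K U) : ConclU M U := by
  by_cases hab : ∀ p ∈ tau2 M, ∀ _ : Fact p.Prime,
      ∃ S : Sylow p G, IsMulCommutative ↥(S : Subgroup G)
  · exact conclU_of_abelian hG hC h17 hM hKU hab
  · push Not at hab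
    obtain ⟨p, hp, hpf, hS⟩ := hab
    haveI := hpf
    exact conclU_of_nonabelian hG hC h17 hM hKU hp hS

end Cfsg.Agent.Lib.H20.BGZ
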