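import Mathlib
import Cfsg.Agent.Lib.H8.FrobFormula2
import Cfsg.Agent.Lib.H10.BG144e
import Cfsg.Agent.Lib.H10.BG152j
import Cfsg.Agent.Lib.H7.BG16i
import Cfsg.Agent.S1354
import Cfsg.Agent.S1366
import Cfsg.Agent.S1367
import Cfsg.Agent.S1368
import Cfsg.Agent.S1369
import Cfsg.Agent.S1434

/-!
# BG Corollary 15.9 (helper20), part R1: the context, `κ(M) = ∅`

`M` a maximal subgroup, `x₁ ∈ M_σ` of prime order `p` with `C_G(x₁) ≰ M`, `N` the maximal subgroup
over `C_G(x₁)`, of type `𝒫₂` with standard factorisation `N = K U N_σ`, `K ⊔ U = M ∩ N`, and partner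
`N*`.
-/

set_option autoImplicit false
set_option linter.style.haveILetI false
set_option linter.unusedSectionVars false
set_option linter.unusedVariables false
set_option maxHeartbeats 800000

open Cfsg
open Cfsg.Agent.Lib.H16.BG
open Cfsg.Agent.Lib.H7.BG7
open Cfsg.Agent.Lib.H7.BG10
open Cfsg.Agent.Lib.H19 (IsPiCard)
open Cfsg.Agent.Lib.H10.BG144 (Cfg)

namespace Cfsg.Agent.Lib.H20.BGR

section frob

variable {X : Type*} [Group X]

theorem mem_centralizer_sup {U E : Subgroup X} {x : X}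
    (hU : x ∈ Subgroup.centralizer (U : Set X)) (hE : x ∈ Subgroup.centralizer (E : Set X)) :
    x ∈ Subgroup.centralizer ((U ⊔ E : Subgroup X) : Set X) := by
  have h1 : U ⊔ E ≤ Subgroup.centralizer ({x} : Set X) := by
    apply sup_le
    · intro u hu
      rw [Subgroup.mem_centralizer_singleton_iff]
      exact (Subgroup.mem_centralizer_iff.1 hU u hu)
    · intro u hu
      rw [Subgroup.mem_centralizer_singleton_iff]
      exact (Subgroup.mem_centralizer_iff.1 hE u hu)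
  rw [Subgroup.mem_centralizer_iff]
  intro y hy
  exact (Subgroup.mem_centralizer_singleton_iff.1 (h1 hy))

/-- **the Frobenius lemma**: if `U E` is a Frobenius-type group acting coprimely on the solvable group
`H` and the fixed points of `E` on `H` are fixed by `U`, then `U` centralizes `H`. -/
theorem le_centralizer_of_frobAct [Finite X] {U E H : Subgroup X}
    (h : Cfsg.Agent.Lib.H8.FrobAct U E H)
    (hE : H ⊓ Subgroup.centralizer (E : Set X) ≤ Subgroup.centralizer (U : Set X)) :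
    H ≤ Subgroup.centralizer (U : Set X) := by
  have hf := Cfsg.Agent.Lib.H8.frobFormula U E H h
  unfold Cfsg.Agent.Lib.H8.FrobFormula at hf
  have h1 : H ⊓ Subgroup.centralizer ((U ⊔ E : Subgroup X) : Set X) =
      H ⊓ Subgroup.centralizer (E : Set X) := by
    apply le_antisymm
    · exact inf_le_inf_left _ (Subgroup.centralizer_le (by exact_mod_cast (le_sup_right : E ≤ U ⊔ E)))
    · intro x hx
      exact ⟨hx.1, mem_centralizer_sup (hE hx) hx.2⟩
  rw [h1] at hf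
  have hpos : 0 < Nat.card ↥(H ⊓ Subgroup.centralizer (E : Set X)) ^ Nat.card E :=
    pow_pos Nat.card_pos _
  have h2 : Nat.card H = Nat.card ↥(H ⊓ Subgroup.centralizer (U : Set X)) :=
    Nat.eq_of_mul_eq_mul_left hpos hf
  have h3 : H ⊓ Subgroup.centralizer (U : Set X) = H :=
    Subgroup.eq_of_le_of_card_ge inf_le_left (le_of_eq h2)
  rw [← h3]
  exact inf_le_right

end frob

universe u
variable {G : Type u} [Group G] [Finite G]

local notation:max "cj(" g ", " X ")" => Subgroup.map (MulEquiv.toMonoidHom (MulAut.conj g)) X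

/-- the standing configuration of BG 15.9. -/
structure Ctx (M N K U Ns : Subgroup G) (x₁ : G) (p : ℕ) : Prop where
  hG : IsMinSimpleOddOrder G
  cfg : Cfg M N x₁ p
  hC : ¬ Subgroup.centralizer ({x₁} : Set G) ≤ M
  hKU : IsSigmaDecomposition N K U
  hsup : K ⊔ U = M ⊓ N
  hK1 : K ≠ ⊥
  hU1 : U ≠ ⊥
  hNs : IsCoatom Ns
  hKst : K = sigmaCore Ns ⊓ Subgroup.centralizer
    ((sigmaCore N ⊓ Subgroup.centralizer (K : Set G) : Subgroup G) : Set G)
  hKstH : IsPiHallOf (kappa Ns) (sigmaCore N ⊓ Subgroup.centralizer (K : Set G)) Ns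

/-- the configuration exists under the hypotheses of `S1376`. -/
theorem exists_ctx (hG : IsMinSimpleOddOrder G) {M : Subgroup G} (hM : IsCoatom M) {x : G}
    (hx : x ∈ sigmaCore M) (hx1 : x ≠ 1) (hxM : ¬ Subgroup.centralizer ({x} : Set G) ≤ M)
    {N : Subgroup G} (hN : IsCoatom N) (hxN : Subgroup.centralizer ({x} : Set G) ≤ N)
    (hkN : (kappa N).Nonempty) :
    ∃ (K U Ns : Subgroup G) (x₁ : G) (p : ℕ), Ctx M N K U Ns x₁ p ∧ x₁ ∈ Subgroup.zpowers x := by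
  rcases Cfsg.Agent.Lib.H10.BG144.dichotomy hG hM hx hx1 with ⟨hC, -⟩ | ⟨N₀, x₁, p, h, hx₁x⟩
  · exact absurd hC hxM
  have hNN₀ : N = N₀ := Cfg.unique hG h hx hx₁x hxM hN hxN
  subst hNN₀
  haveI : Group.IsSolvable ↥N := solvable_of_coatom hG hN
  obtain ⟨K', U', hKU'⟩ := Cfsg.Agent.Lib.H10.BG152.exists_isSigmaDecomposition hG hN
  have hc' := Cfsg.Agent.Lib.H20.BGZ.isComplIn_sup hG hN hKU'
  have hH1 := Cfsg.Agent.Lib.H10.BG144.isPiHallOf_compl hG hN hc'
  have hH2 := Cfsg.Agent.Lib.H10.BG144.isPiHallOf_compl hG hN h.compl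
  obtain ⟨n, hn, hconj⟩ := Cfsg.Agent.Lib.H19.isPiHallOf_exists_conj hH1 hH2
  rw [← Cfsg.Agent.Lib.H20.map_conj_eq_smul] at hconj
  have hKU := Cfsg.Agent.Lib.H7.BG16.isSigmaDecomposition_cj_of_mem hKU' hn
  have hsup : cj(n, K') ⊔ cj(n, U') = M ⊓ N := by
    rw [← Subgroup.map_sup, hconj]
  -- `K ≠ ⊥`
  have hK1 : cj(n, K') ≠ ⊥ := by
    intro hb
    obtain ⟨q, hq⟩ := hkN
    have h1 := hKU.hall.2.2 q hq.1 hq
    rw [hb, Subgroup.relIndex_bot_left] at h1
    exact h1 hq.2.1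
  -- `U ≠ ⊥`
  have hU1 : cj(n, U') ≠ ⊥ := by
    obtain ⟨N', ⟨hN', hCN'⟩, huniq, -, -, -, -, hall⟩ :=
      Cfsg.Agent.Lib.H10.BG144.thm_14_4_b hG M hM x hx hx1 hxM
    have hNN' : N = N' := huniq N hN hxN
    subst hNN'
    exact (hall _ _ hKU).1
  obtain ⟨Ns, ⟨hNs, hKst, hKstH⟩, -⟩ := Cfsg.Agent.S1366.result hG N hN _ _ hKU hK1
  exact ⟨cj(n, K'), cj(n, U'), Ns, x₁, p, ⟨hG, h,
    fun h' => hxM ((Cfg.centralizer_le hx₁x).trans h'), hKU, hsup, hK1, hU1, hNs, hKst, hKstH⟩,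
    hx₁x⟩

namespace Ctx

variable {M N K U Ns : Subgroup G} {x₁ : G} {p : ℕ}

theorem hM (c : Ctx M N K U Ns x₁ p) : IsCoatom M := c.cfg.hM
theorem hN (c : Ctx M N K U Ns x₁ p) : IsCoatom N := c.cfg.hN

theorem K_le_M (c : Ctx M N K U Ns x₁ p) : K ≤ M :=
  (le_sup_left.trans (le_of_eq c.hsup)).trans inf_le_left

theorem U_le_M (c : Ctx M N K U Ns x₁ p) : U ≤ M :=
  (le_sup_right.trans (le_of_eq c.hsup)).trans inf_le_left

theorem K_le_N (c : Ctx M N K U Ns x₁ p) : K ≤ N := c.hKU.hall.1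

theorem U_le_N (c : Ctx M N K U Ns x₁ p) : U ≤ N := c.hKU.compl.1

/-- `K*` is cyclic. -/
theorem star_cyclic (c : Ctx M N K U Ns x₁ p) :
    IsCyclic ↥(sigmaCore N ⊓ Subgroup.centralizer (K : Set G)) :=
  (Cfsg.Agent.S1351.result c.hG Ns c.hNs).2 _ c.hKstH

/-- `K* ≠ 1`. -/
theorem star_ne (c : Ctx M N K U Ns x₁ p) :
    sigmaCore N ⊓ Subgroup.centralizer (K : Set G) ≠ ⊥ :=
  (Cfsg.Agent.S1354.result c.hG N c.hN K c.hKU.cyclic c.hKU.hall).1

/-- a standard factorisation of `N*` with Hall `κ`-subgroup `K*`. -/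
theorem exists_Ustar (c : Ctx M N K U Ns x₁ p) :
    ∃ Us : Subgroup G,
      IsSigmaDecomposition Ns (sigmaCore N ⊓ Subgroup.centralizer (K : Set G)) Us := by
  have hκ := Cfsg.Agent.Lib.H7.BG13t.kappa_subset_tau1 c.hG c.hNs c.star_cyclic c.hKstH
  obtain ⟨L, hL, -, hnorm⟩ := Cfsg.Agent.Lib.H20.BGY.exists_normal_hall_kappa_compl c.hG c.hNs hκ
  exact Cfsg.Agent.Lib.H20.BGY.exists_isSigmaDecomposition c.hG c.hNs c.star_cyclic c.hKstH hL hnorm

/-- the symmetric form of `hKst`. -/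
theorem hKst' (c : Ctx M N K U Ns x₁ p) :
    sigmaCore N ⊓ Subgroup.centralizer (K : Set G) = sigmaCore N ⊓ Subgroup.centralizer
      ((sigmaCore Ns ⊓ Subgroup.centralizer
        ((sigmaCore N ⊓ Subgroup.centralizer (K : Set G) : Subgroup G) : Set G) : Subgroup G) :
          Set G) := by
  rw [← c.hKst]

theorem hKstH' (c : Ctx M N K U Ns x₁ p) :
    IsPiHallOf (kappa N) (sigmaCore Ns ⊓ Subgroup.centralizer
      ((sigmaCore N ⊓ Subgroup.centralizer (K : Set G) : Subgroup G) : Set G)) N := by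
  rw [← c.hKst]; exact c.hKU.hall

/-- `p ∈ σ(M)`. -/
theorem p_mem_sigma (c : Ctx M N K U Ns x₁ p) : p ∈ sigma M :=
  Cfsg.Agent.Lib.H10.BG144.mem_sigma_of_mem_sigmaCore c.hG c.hM c.cfg.hx₁ c.cfg.tau2.1
    (by rw [c.cfg.ord])

/-- **`κ(M) = ∅`**. -/
theorem kappa_M (c : Ctx M N K U Ns x₁ p) : kappa M = ∅ := by
  by_contra hne
  have hne' : (kappa M).Nonempty := Set.nonempty_iff_ne_empty.2 hne
  obtain ⟨g, hg | hg⟩ :=
    (Cfsg.Agent.S1369.result c.hG N c.hN K U c.hKU c.hK1 Ns c.hNs c.hKst c.hKstH).2 M c.hM hne'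
  · apply c.cfg.nconj g⁻¹
    rw [hg, cj_inv_cj]
  · obtain ⟨Us, hUs⟩ := c.exists_Ustar
    have h34 := (Cfsg.Agent.S1434.result c.hG Ns c.hNs _ Us hUs c.star_ne N c.hN
      c.hKst' c.hKstH').2.1
    rw [← c.hKst] at h34
    have hp := c.cfg.tau2.1
    have hpσ : p ∈ sigma Ns := by
      have := c.p_mem_sigma
      rwa [hg, sigma_cj] at this
    have h1 : ¬ p ∣ K.relIndex N := h34.2.2 p hp hpσ
    obtain ⟨A, hAE, hAe, hAc⟩ := c.cfg.hA
    have hpN : p ∣ Nat.card N := by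
      have h2 : Nat.card A ∣ Nat.card N := Subgroup.card_dvd_of_le (hAE.trans inf_le_right)
      rw [hAc] at h2
      exact (dvd_pow_self p (by norm_num)).trans h2
    rw [← Cfsg.Agent.Lib.H19.card_mul_relIndex c.K_le_N] at hpN
    have hpK : p ∣ Nat.card K := (hp.dvd_mul.1 hpN).resolve_right h1
    exact Cfsg.Agent.Lib.H20.BGZ.not_kappa_of_tau23 c.hG c.hN c.hKU (Or.inl c.cfg.tau2)
      (c.hKU.hall.2.1 p hp hpK)

end Ctx

end Cfsg.Agent.Lib.H20.BGR
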