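import Mathlib
import Cfsg.Agent.Lib.H20.BGR1
import Cfsg.Agent.Lib.H7.FrobNil
import Cfsg.Agent.Lib.H21.BGP2c
import Cfsg.Agent.S1432

/-!
# BG Corollary 15.9 (helper20), part R2: `K` acts without fixed points on `M_σ`, `M_σ = M_F` is
nilpotent and not a TI-subset
-/

set_option autoImplicit false
set_option linter.style.haveILetI false
set_option linter.unusedSectionVars false
set_option linter.unusedVariables false
set_option maxHeartbeats 800000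

open Cfsg
open Cfsg.Agent.Lib.H16.BG
open Cfsg.Agent.Lib.H7.BG7
open Cfsg.Agent.Lib.H7.BG10
open Cfsg.Agent.Lib.H19 (IsPiCard)
open Cfsg.Agent.Lib.H10.BG144 (Cfg)

namespace Cfsg.Agent.Lib.H20.BGR

universe u
variable {G : Type u} [Group G] [Finite G]

local notation:max "cj(" g ", " X ")" => Subgroup.map (MulEquiv.toMonoidHom (MulAut.conj g)) X

namespace Ctx

variable {M N K U Ns : Subgroup G} {x₁ : G} {p : ℕ}

/-- `|K|` is prime. -/
theorem card_K (c : Ctx M N K U Ns x₁ p) : (Nat.card K).Prime :=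
  Cfsg.Agent.Lib.H21.BGP2.card_K_prime c.hG c.hN c.hKU c.hK1 c.hU1

theorem K_le_sigmaCore_Ns (c : Ctx M N K U Ns x₁ p) : K ≤ sigmaCore Ns := by
  have h := c.hKst
  exact (le_of_eq h).trans inf_le_left

theorem K_le_Ns (c : Ctx M N K U Ns x₁ p) : K ≤ Ns :=
  c.K_le_sigmaCore_Ns.trans (Cfsg.Agent.Lib.H20.BGS.sigmaCore_le Ns)

/-- `κ(N*) ≠ ∅`. -/
theorem kappa_Ns (c : Ctx M N K U Ns x₁ p) : (kappa Ns).Nonempty := by
  have h1 : Nat.card ↥(sigmaCore N ⊓ Subgroup.centralizer (K : Set G)) ≠ 1 :=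
    fun h => c.star_ne (Subgroup.card_eq_one.1 h)
  obtain ⟨q, hq, hqd⟩ := Nat.exists_prime_and_dvd h1
  exact ⟨q, c.hKstH.2.1 q hq hqd⟩

/-- `N*` is not conjugate to `M`. -/
theorem Ns_nconj (c : Ctx M N K U Ns x₁ p) (g : G) : Ns ≠ cj(g, M) := by
  intro h
  have h1 := c.kappa_Ns
  rw [h, Cfsg.Agent.Lib.H16.BGCov.kappa_cj c.hG c.hM g, c.kappa_M] at h1
  exact Set.not_nonempty_empty h1

theorem Ns_ne (c : Ctx M N K U Ns x₁ p) : Ns ≠ M := by
  have := c.Ns_nconj 1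
  rwa [cj_one] at this

/-- `k ∈ σ(N*)`. -/
theorem k_mem_sigma_Ns (c : Ctx M N K U Ns x₁ p) : Nat.card K ∈ sigma Ns :=
  Cfsg.Agent.Lib.H20.BGS.sigmaCore_isPiCard Ns _ c.card_K
    (Subgroup.card_dvd_of_le c.K_le_sigmaCore_Ns)

/-- `k ∉ σ(M)`. -/
theorem k_not_sigma (c : Ctx M N K U Ns x₁ p) : Nat.card K ∉ sigma M := by
  intro h
  obtain ⟨g, hg⟩ := Cfsg.Agent.Lib.H7.BG14v.sigma_partition' c.hG c.hM c.hNs h c.k_mem_sigma_Ns
  exact c.Ns_nconj g hg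

theorem orderOf_of_mem_K (c : Ctx M N K U Ns x₁ p) {y : G} (hy : y ∈ K) (hy1 : y ≠ 1) :
    orderOf y = Nat.card K := by
  have h1 : orderOf y ∣ Nat.card K := by
    have := orderOf_dvd_natCard (⟨y, hy⟩ : K)
    rwa [Subgroup.orderOf_mk] at this
  rcases (Nat.dvd_prime c.card_K).1 h1 with h | h
  · exact absurd (orderOf_eq_one_iff.1 h) hy1
  · exact h

/-- `C_{M_σ}(y) = 1` for `y ∈ K#`. -/
theorem fpf_K (c : Ctx M N K U Ns x₁ p) {y : G} (hy : y ∈ K) (hy1 : y ≠ 1) :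
    sigmaCore M ⊓ Subgroup.centralizer ({y} : Set G) = ⊥ := by
  rw [eq_bot_iff]
  intro m hm
  rw [Subgroup.mem_bot]
  by_contra hm1
  have hyo := c.orderOf_of_mem_K hy hy1
  have hym : y ∈ M ⊓ Subgroup.centralizer ({m} : Set G) := by
    have h0 : y ∈ Subgroup.centralizer ({m} : Set G) := by
      rw [Subgroup.mem_centralizer_singleton_iff]
      exact (Subgroup.mem_centralizer_singleton_iff.1 hm.2).symm
    exact ⟨c.K_le_M hy, h0⟩
  have hσ : ∀ q : ℕ, q.Prime → q ∣ orderOf y → q ∉ sigma M := by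
    intro q hq hd
    rw [hyo] at hd
    rw [(Nat.prime_dvd_prime_iff_eq hq c.card_K).1 hd]
    exact c.k_not_sigma
  rcases Cfsg.Agent.S1432.result c.hG M c.hM m hm.1 hm1 y hym hy1 hσ with ⟨h1, -⟩ | ⟨-, -, -, h2⟩
  · have := h1 _ c.card_K (by rw [hyo])
    rw [c.kappa_M] at this
    exact this
  · have hZ : Subgroup.zpowers y ≤ K := Subgroup.zpowers_le.2 hy
    have hZc : (Nat.card (Subgroup.zpowers y)).Prime := by
      rw [Nat.card_zpowers, hyo]; exact c.card_K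
    have h3 := ((Cfsg.Agent.S1367.result c.hG N c.hN K U c.hKU c.hK1 Ns c.hNs c.hKst
      c.hKstH).2 _ hZ hZc).1
    rw [centralizer_zpowers_eq] at h3
    exact c.Ns_ne (h2 Ns c.hNs h3)

/-- `C_{M_σ}(K) = 1`. -/
theorem fpf_K' (c : Ctx M N K U Ns x₁ p) :
    sigmaCore M ⊓ Subgroup.centralizer (K : Set G) = ⊥ := by
  obtain ⟨y, hy1⟩ := (Subgroup.ne_bot_iff_exists_ne_one.1 c.hK1)
  have hy1' : (y : G) ≠ 1 := fun h => hy1 (Subtype.ext h)
  rw [eq_bot_iff, ← c.fpf_K y.2 hy1']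
  exact inf_le_inf_left _ (Subgroup.centralizer_le (Set.singleton_subset_iff.2 y.2))

/-- `M_σ` is nilpotent. -/
theorem nil (c : Ctx M N K U Ns x₁ p) : Group.IsNilpotent (sigmaCore M) := by
  obtain ⟨y, hy1⟩ := (Subgroup.ne_bot_iff_exists_ne_one.1 c.hK1)
  have hy1' : (y : G) ≠ 1 := fun h => hy1 (Subtype.ext h)
  have hyo := c.orderOf_of_mem_K y.2 hy1'
  refine Cfsg.Agent.Lib.H7.FrobNil.isNilpotent_of_fpf c.card_K
    (Cfsg.Agent.Lib.H20.BGS.le_normalizer_sigmaCore M (c.K_le_M y.2))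
    (by rw [← hyo]; exact pow_orderOf_eq_one _) ?_
  intro m hm hc
  have : m ∈ sigmaCore M ⊓ Subgroup.centralizer ({(y : G)} : Set G) :=
    ⟨hm, Subgroup.mem_centralizer_singleton_iff.2 hc.symm⟩
  rw [c.fpf_K y.2 hy1'] at this
  exact Subgroup.mem_bot.1 this

/-- `M_σ = M_F`. -/
theorem sigmaCore_eq (c : Ctx M N K U Ns x₁ p) : sigmaCore M = fittingHallOf M :=
  Cfsg.Agent.Lib.H10.BG144.sigmaCore_eq_fittingHallOf c.hG c.hM c.nil

theorem x₁_ne_one (c : Ctx M N K U Ns x₁ p) : x₁ ≠ 1 := by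
  intro h
  have := c.cfg.ord
  rw [h, orderOf_one] at this
  exact c.cfg.tau2.1.one_lt.ne this

/-- `M_F` is not a TI-subset. -/
theorem not_TI (c : Ctx M N K U Ns x₁ p) : ¬ IsTISubset (fittingHallOf M : Set G) := by
  intro hTI
  rw [← c.sigmaCore_eq] at hTI
  have hσ1 := Cfsg.Agent.Lib.H8.BG12.sigmaCore_ne_bot' c.hG c.hM
  have hnorm := normalizer_eq_of_coatom c.hG c.hM (Cfsg.Agent.Lib.H20.BGS.sigmaCore_le M) hσ1
    (Cfsg.Agent.Lib.H20.BGS.le_normalizer_sigmaCore M)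
  obtain ⟨g, hg, hgM⟩ := SetLike.not_le_iff_exists.1 c.hC
  have hgn : g ∉ Subgroup.normalizer ((sigmaCore M : Subgroup G) : Set G) := by
    rw [hnorm]; exact hgM
  have hcomm : g * x₁ = x₁ * g := (Subgroup.mem_centralizer_singleton_iff.1 hg)
  have h1 : g * x₁ * g⁻¹ = x₁ := by rw [hcomm]; group
  exact c.x₁_ne_one (hTI g hgn x₁ c.cfg.hx₁ (by rw [h1]; exact c.cfg.hx₁))

end Ctx

end Cfsg.Agent.Lib.H20.BGR
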