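import Mathlib
import Cfsg.Agent.Lib.H20.BGR2
import Cfsg.Agent.Lib.H16.BGCentA
import Cfsg.Agent.S1353
import Cfsg.Agent.S1417
import Cfsg.Agent.S1418

/-!
# BG Corollary 15.9 (helper20), part R3: `U ≤ M_σ`
-/

set_option autoImplicit false
set_option linter.style.haveILetI false
set_option linter.unusedSectionVars false
set_option linter.unusedVariables false
set_option maxHeartbeats 800000

open Cfsg
open Cfsg.Agent.Lib.H16.BG
open Cfsg.Agent.Lib.H7.BG7
open Cfsg.Agent.Lib.H7.BG10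
open Cfsg.Agent.Lib.H19 (IsPiCard)
open Cfsg.Agent.Lib.H10.BG144 (Cfg)

namespace Cfsg.Agent.Lib.H20.BGR

universe u
variable {G : Type u} [Group G] [Finite G]

local notation:max "cj(" g ", " X ")" => Subgroup.map (MulEquiv.toMonoidHom (MulAut.conj g)) X

namespace Ctx

variable {M N K U Ns : Subgroup G} {x₁ : G} {p : ℕ}

/-- `κ(N) = {k}`. -/
theorem eq_of_mem_kappa_N (c : Ctx M N K U Ns x₁ p) {q : ℕ} (hq : q ∈ kappa N) :
    q = Nat.card K := by
  have h1 : ¬ q ∣ K.relIndex N := c.hKU.hall.2.2 q hq.1 hq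
  have h2 : q ∣ Nat.card N := hq.2.1
  rw [← Cfsg.Agent.Lib.H19.card_mul_relIndex c.K_le_N] at h2
  exact (Nat.prime_dvd_prime_iff_eq hq.1 c.card_K).1 ((hq.1.dvd_mul.1 h2).resolve_right h1)

theorem k_mem_kappa_N (c : Ctx M N K U Ns x₁ p) : Nat.card K ∈ kappa N :=
  c.hKU.hall.2.1 _ c.card_K dvd_rfl

/-- the primes of `U`. -/
theorem prime_U (c : Ctx M N K U Ns x₁ p) {s : ℕ} (hs : s.Prime) (hsU : s ∣ Nat.card U) :
    s ∉ sigma N ∧ s ≠ Nat.card K := by
  have h := Cfsg.Agent.Lib.H7.BG14.not_mem_sigma_kappa_of_isSigmaDecomposition c.hG c.hN c.hKU hs hsU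
  refine ⟨h.1, ?_⟩
  intro e
  rw [e] at h
  exact h.2 c.k_mem_kappa_N

/-- `K` is generated by each of its non-identity elements. -/
theorem zpowers_eq (c : Ctx M N K U Ns x₁ p) {y : G} (hy : y ∈ K) (hy1 : y ≠ 1) :
    Subgroup.zpowers y = K := by
  apply Subgroup.eq_of_le_of_card_ge (Subgroup.zpowers_le.2 hy)
  rw [Nat.card_zpowers, c.orderOf_of_mem_K hy hy1]

theorem centralizer_singleton_eq (c : Ctx M N K U Ns x₁ p) {y : G} (hy : y ∈ K) (hy1 : y ≠ 1) :
    Subgroup.centralizer ({y} : Set G) = Subgroup.centralizer (K : Set G) := by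
  rw [← centralizer_zpowers_eq, c.zpowers_eq hy hy1]

/-- `C_G(K) ≤ N*`. -/
theorem centralizer_K_le (c : Ctx M N K U Ns x₁ p) : Subgroup.centralizer (K : Set G) ≤ Ns :=
  ((Cfsg.Agent.S1367.result c.hG N c.hN K U c.hKU c.hK1 Ns c.hNs c.hKst c.hKstH).2 K le_rfl
    c.card_K).1

/-- **the Frobenius lemma for `K`**: a nontrivial `K`-invariant `σ(M)'`-subgroup `R` of `M` of order
prime to `k` on which `K` acts without fixed points centralizes `M_σ`. -/
theorem core_le_centralizer (c : Ctx M N K U Ns x₁ p) {R : Subgroup G} (hRM : R ≤ M)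
    (hR1 : R ≠ ⊥) (hKR : K ≤ Subgroup.normalizer (R : Set G))
    (hcop : (Nat.card K).Coprime (Nat.card R))
    (hσ : ∀ q : ℕ, q.Prime → q ∣ Nat.card R → q ∉ sigma M)
    (hfix : R ⊓ Subgroup.centralizer (K : Set G) = ⊥) :
    sigmaCore M ≤ Subgroup.centralizer (R : Set G) := by
  have hsupM : R ⊔ K ≤ M := sup_le hRM c.K_le_M
  have hcard : Nat.card (R ⊔ K : Subgroup G) ∣ Nat.card K * Nat.card R := by
    rw [sup_comm]
    exact Cfsg.Agent.Lib.H19.card_sup_dvd_mul_of_le_normalizer hKR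
  have hcop2 : (Nat.card (sigmaCore M)).Coprime (Nat.card (R ⊔ K : Subgroup G)) := by
    apply Nat.coprime_of_dvd
    intro q hq h1 h2
    have hqσ : q ∈ sigma M := Cfsg.Agent.Lib.H20.BGS.sigmaCore_isPiCard M q hq h1
    rcases hq.dvd_mul.1 (h2.trans hcard) with h | h
    · rw [(Nat.prime_dvd_prime_iff_eq hq c.card_K).1 h] at hqσ
      exact c.k_not_sigma hqσ
    · exact hσ q hq h hqσ
  have hF : Cfsg.Agent.Lib.H8.FrobAct R K (sigmaCore M) :=
    { hU1 := hR1
      hE1 := c.hK1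
      hUE := (Subgroup.disjoint_of_coprime_natCard hcop.symm).eq_bot
      hUn := fun e he u hu => (Subgroup.mem_normalizer_iff.1 (hKR he) u).1 hu
      hfpf := by
        intro e he he1 u hu hc
        have h1 : u ∈ Subgroup.centralizer ({e} : Set G) :=
          Subgroup.mem_centralizer_singleton_iff.2 hc.symm
        rw [c.centralizer_singleton_eq he he1] at h1
        have : u ∈ R ⊓ Subgroup.centralizer (K : Set G) := ⟨hu, h1⟩
        rw [hfix] at this
        exact Subgroup.mem_bot.1 this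
      hHn := fun x hx h hh =>
        (Subgroup.mem_normalizer_iff.1
          (Cfsg.Agent.Lib.H20.BGS.le_normalizer_sigmaCore M (hsupM hx)) h).1 hh
      hdisj := (Subgroup.disjoint_of_coprime_natCard hcop2).eq_bot
      hsolv := solvable_of_le_ne_top c.hG c.hM.1 (Cfsg.Agent.Lib.H20.BGS.sigmaCore_le M)
      hcop := hcop2 }
  apply le_centralizer_of_frobAct hF
  rw [c.fpf_K']
  exact bot_le

/-- `K` is a Hall `σ(N*)`-subgroup of `N`. -/
theorem hall_K (c : Ctx M N K U Ns x₁ p) : IsPiHallOf (sigma Ns) K N := by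
  obtain ⟨Us, hUs⟩ := c.exists_Ustar
  have h34 := (Cfsg.Agent.S1434.result c.hG Ns c.hNs _ Us hUs c.star_ne N c.hN
    c.hKst' c.hKstH').2.1
  rwa [← c.hKst] at h34

/-- a prime of `σ(N*)` dividing `|N|` is `k`. -/
theorem eq_of_mem_sigma_Ns (c : Ctx M N K U Ns x₁ p) {s : ℕ} (hs : s.Prime) (hsσ : s ∈ sigma Ns)
    (hsN : s ∣ Nat.card N) : s = Nat.card K := by
  have h1 : ¬ s ∣ K.relIndex N := c.hall_K.2.2 s hs hsσ
  rw [← Cfsg.Agent.Lib.H19.card_mul_relIndex c.K_le_N] at hsN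
  exact (Nat.prime_dvd_prime_iff_eq hs c.card_K).1 ((hs.dvd_mul.1 hsN).resolve_right h1)

/-- a prime dividing `|K*|` lies in `σ(N)`. -/
theorem mem_sigma_of_dvd_star (c : Ctx M N K U Ns x₁ p) {s : ℕ} (hs : s.Prime)
    (hd : s ∣ Nat.card ↥(sigmaCore N ⊓ Subgroup.centralizer (K : Set G))) : s ∈ sigma N :=
  Cfsg.Agent.Lib.H20.BGS.sigmaCore_isPiCard N s hs (hd.trans (Subgroup.card_dvd_of_le inf_le_left))

/-- a prime of `κ(N*)` lies in `σ(N)`. -/
theorem mem_sigma_of_mem_kappa_Ns (c : Ctx M N K U Ns x₁ p) {s : ℕ} (hsκ : s ∈ kappa Ns) :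
    s ∈ sigma N := by
  have hs := hsκ.1
  have h1 : ¬ s ∣ (sigmaCore N ⊓ Subgroup.centralizer (K : Set G)).relIndex Ns :=
    c.hKstH.2.2 s hs hsκ
  have h2 : s ∣ Nat.card Ns := hsκ.2.1
  rw [← Cfsg.Agent.Lib.H19.card_mul_relIndex c.hKstH.1] at h2
  exact c.mem_sigma_of_dvd_star hs ((hs.dvd_mul.1 h2).resolve_right h1)

/-- the primes of `N ∩ N*`. -/
theorem prime_inf_Ns (c : Ctx M N K U Ns x₁ p) {s : ℕ} (hs : s.Prime)
    (hd : s ∣ Nat.card ↥(N ⊓ Ns)) : s = Nat.card K ∨ s ∈ sigma N := by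
  have h68 := (Cfsg.Agent.S1368.result c.hG N c.hN K U c.hKU c.hK1 Ns c.hNs c.hKst c.hKstH).1
  rw [h68] at hd
  have hnorm : K ≤ Subgroup.normalizer
      ((sigmaCore N ⊓ Subgroup.centralizer (K : Set G) : Subgroup G) : Set G) := by
    apply Cfsg.Agent.Lib.H19.BG13.le_normalizer_inf'
      (c.K_le_N.trans (Cfsg.Agent.Lib.H20.BGS.le_normalizer_sigmaCore N))
    intro y hy
    rw [Subgroup.mem_normalizer_iff]
    intro z
    have hyn : y ∈ Subgroup.normalizer (K : Set G) := Subgroup.le_normalizer hy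
    constructor
    · intro hz
      rw [Subgroup.mem_centralizer_iff] at hz ⊢
      intro w hw
      have hw' : y⁻¹ * w * y ∈ K := by
        have := (Subgroup.mem_normalizer_iff.1 (Subgroup.inv_mem _ hyn) w).1 hw
        simpa using this
      have := hz _ hw'
      calc w * (y * z * y⁻¹) = y * ((y⁻¹ * w * y) * z) * y⁻¹ := by group
        _ = y * (z * (y⁻¹ * w * y)) * y⁻¹ := by rw [this]
        _ = y * z * y⁻¹ * w := by group
    · intro hz
      rw [Subgroup.mem_centralizer_iff] at hz ⊢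
      intro w hw
      have hw' : y * w * y⁻¹ ∈ K := (Subgroup.mem_normalizer_iff.1 hyn w).1 hw
      have := hz _ hw'
      calc w * z = y⁻¹ * ((y * w * y⁻¹) * (y * z * y⁻¹)) * y := by group
        _ = y⁻¹ * ((y * z * y⁻¹) * (y * w * y⁻¹)) * y := by rw [this]
        _ = z * w := by group
  have h1 := Cfsg.Agent.Lib.H19.card_sup_dvd_mul_of_le_normalizer hnorm
  rcases hs.dvd_mul.1 (hd.trans h1) with h | h
  · exact Or.inl ((Nat.prime_dvd_prime_iff_eq hs c.card_K).1 h)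
  · exact Or.inr (c.mem_sigma_of_dvd_star hs h)

end Ctx

end Cfsg.Agent.Lib.H20.BGR
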