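import Mathlib
import Cfsg.Agent.Lib.H20.BGR3

/-!
# BG Corollary 15.9 (helper20), part R4: `U ≤ M_σ`
-/

set_option autoImplicit false
set_option linter.style.haveILetI false
set_option linter.unusedSectionVars false
set_option linter.unusedVariables false
set_option maxHeartbeats 800000

open Cfsg
open Cfsg.Agent.Lib.H16.BG
open Cfsg.Agent.Lib.H7.BG7
open Cfsg.Agent.Lib.H7.BG10
open Cfsg.Agent.Lib.H19 (IsPiCard)
open Cfsg.Agent.Lib.H10.BG144 (Cfg)

namespace Cfsg.Agent.Lib.H20.BGR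

universe u
variable {G : Type u} [Group G] [Finite G]

local notation:max "cj(" g ", " X ")" => Subgroup.map (MulEquiv.toMonoidHom (MulAut.conj g)) X

namespace Ctx

variable {M N K U Ns : Subgroup G} {x₁ : G} {p : ℕ}

theorem coprime_K_pow (c : Ctx M N K U Ns x₁ p) {s n : ℕ} (hs : s.Prime) (hsk : s ≠ Nat.card K) :
    (Nat.card K).Coprime (s ^ n) :=
  Nat.Coprime.pow_right _ ((Nat.coprime_primes c.card_K hs).2 (Ne.symm hsk))

/-- `K` has a non-identity fixed point on a normal elementary abelian subgroup `B` of order `s²`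
of a complement `E ⊇ K`, `s ∈ τ₂(M)`, `s ≠ k`. -/
theorem exists_fixed (c : Ctx M N K U Ns x₁ p) {E B : Subgroup G}
    (hE : IsComplIn E (sigmaCore M) M) (hKE : K ≤ E) {s : ℕ} [hsF : Fact s.Prime]
    (hs2 : s ∈ tau2 M) (hBE : B ≤ E) (hBe : IsElementaryAbelian s B) (hBc : Nat.card B = s ^ 2)
    (hsk : s ≠ Nat.card K) :
    ∃ b ∈ B, b ≠ 1 ∧ b ∈ Subgroup.centralizer (K : Set G) := by
  by_contra hno
  push Not at hno
  have hs := hsF.out
  have hBM : B ≤ M := hBE.trans hE.1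
  have h18 := Cfsg.Agent.S1418.result c.hG M c.hM E hE s hs2 B ⟨hBE, hBe, hBc⟩
  have h17 := Cfsg.Agent.S1417.result c.hG M c.hM s hs2 B ⟨hBM, hBe, hBc⟩
  have hB1 : B ≠ ⊥ := by
    intro h
    rw [h, Subgroup.card_bot] at hBc
    have : 1 < s ^ 2 := Nat.one_lt_pow (by norm_num) hs.one_lt
    omega
  have hfix : B ⊓ Subgroup.centralizer (K : Set G) = ⊥ := by
    rw [eq_bot_iff]
    intro b hb
    rw [Subgroup.mem_bot]
    by_contra hb1
    exact hno b hb.1 hb1 hb.2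
  have hcent := c.core_le_centralizer hBM hB1 (hKE.trans h18.1.1)
    (by rw [hBc]; exact c.coprime_K_pow hs hsk)
    (by
      intro q hq hd
      rw [hBc] at hd
      rw [(Nat.prime_dvd_prime_iff_eq hq hs).1 (hq.dvd_of_dvd_pow hd)]
      exact hs2.2.1) hfix
  have h1 : sigmaCore M ≤ sigmaCore M ⊓ Subgroup.centralizer (B : Set G) := le_inf le_rfl hcent
  rw [h17.2.2.2.1] at h1
  exact Cfsg.Agent.Lib.H8.BG12.sigmaCore_ne_bot' c.hG c.hM (le_bot_iff.1 h1)

/-- **`U ≤ M_σ`**. -/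
theorem U_le_sigmaCore (c : Ctx M N K U Ns x₁ p) : U ≤ sigmaCore M := by
  apply le_sigmaCore_of c.hG c.hM c.U_le_M
  intro s hs hsU
  by_contra hsσ
  haveI hsF : Fact s.Prime := ⟨hs⟩
  obtain ⟨hsσN, hsk⟩ := c.prime_U hs hsU
  have hnilU := Cfsg.Agent.Lib.H21.BGP2.isNilpotent_U c.hG c.hN c.hKU c.hK1
  set V := piCoreOf {s} U with hV
  have hV1 : V ≠ ⊥ := piCoreOf_singleton_ne_bot hnilU hsU
  have hVp : IsPGroup s V := isPGroup_piCoreOf_singleton s U
  have hVU : V ≤ U := piCoreOf_le _ _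
  have hVM : V ≤ M := hVU.trans c.U_le_M
  have hKV : K ≤ Subgroup.normalizer (V : Set G) :=
    c.hKU.normal.trans (normalizer_le_normalizer_piCoreOf {s} U)
  obtain ⟨n, hn⟩ := IsPGroup.iff_card.1 hVp
  have hVπ : ∀ q : ℕ, q.Prime → q ∣ Nat.card V → q = s := by
    intro q hq hd
    rw [hn] at hd
    exact (Nat.prime_dvd_prime_iff_eq hq hs).1 (hq.dvd_of_dvd_pow hd)
  have hfixV : V ⊓ Subgroup.centralizer (K : Set G) = ⊥ := by
    obtain ⟨y, hy1⟩ := (Subgroup.ne_bot_iff_exists_ne_one.1 c.hK1)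
    have hy1' : (y : G) ≠ 1 := fun h => hy1 (Subtype.ext h)
    have h53 := Cfsg.Agent.S1353.result c.hG N c.hN K U c.hKU y y.2 hy1'
    rw [eq_bot_iff, ← h53, c.centralizer_singleton_eq y.2 hy1']
    exact inf_le_inf_right _ hVU
  have hcent := c.core_le_centralizer hVM hV1 hKV (by rw [hn]; exact c.coprime_K_pow hs hsk)
    (fun q hq hd => by rw [hVπ q hq hd]; exact hsσ) hfixV
  -- an element of order `s` of `V`
  have hsV : s ∣ Nat.card V := by
    rw [hn]
    have hn0 : n ≠ 0 := by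
      intro h0
      rw [h0, pow_zero] at hn
      exact hV1 (Subgroup.card_eq_one.1 hn)
    exact dvd_pow_self s hn0
  obtain ⟨v, hv⟩ := exists_prime_orderOf_dvd_card' s hsV
  have hvo : orderOf (v : G) = s := by rw [Subgroup.orderOf_coe]; exact hv
  have hv1 : (v : G) ≠ 1 := by
    intro h
    rw [h, orderOf_one] at hvo
    exact hs.one_lt.ne hvo
  -- `s ∈ τ₂(M)`
  have hs2 : s ∈ tau2 M := by
    have hvx : (v : G) ∈ M ⊓ Subgroup.centralizer ({x₁} : Set G) := by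
      have h0 : (v : G) ∈ Subgroup.centralizer ({x₁} : Set G) := by
        rw [Subgroup.mem_centralizer_singleton_iff]
        have := Subgroup.mem_centralizer_iff.1 (hcent c.cfg.hx₁) (v : G) v.2
        exact this
      exact ⟨hVM v.2, h0⟩
    rcases Cfsg.Agent.S1432.result c.hG M c.hM x₁ c.cfg.hx₁ c.x₁_ne_one v hvx hv1
      (by
        intro q hq hd
        rw [hvo] at hd
        rw [(Nat.prime_dvd_prime_iff_eq hq hs).1 hd]
        exact hsσ) with ⟨h1, -⟩ | ⟨h2, -⟩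
    · have := h1 s hs (by rw [hvo])
      rw [c.kappa_M] at this
      exact absurd this (Set.notMem_empty _)
    · exact h2 s hs (by rw [hvo])
  -- a complement `E ⊇ V K`
  have hVK : V ⊔ K ≤ M := sup_le hVM c.K_le_M
  obtain ⟨E, hE, hVKE⟩ := Cfsg.Agent.Lib.H19.BG13.exists_compl_ge c.hG c.hM hVK (by
    intro q hq hd
    have h1 : Nat.card (V ⊔ K : Subgroup G) ∣ Nat.card K * Nat.card V := by
      rw [sup_comm]
      exact Cfsg.Agent.Lib.H19.card_sup_dvd_mul_of_le_normalizer hKV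
    rcases hq.dvd_mul.1 (hd.trans h1) with h | h
    · rw [(Nat.prime_dvd_prime_iff_eq hq c.card_K).1 h]
      exact c.k_not_sigma
    · rw [hVπ q hq h]; exact hsσ)
  have hKE : K ≤ E := le_sup_right.trans hVKE
  obtain ⟨B, hBE, hBe, hBc⟩ := Cfsg.Agent.Lib.H16.BGCent.exists_elemAb_sq_le_compl c.hG c.hM hE hs2
  have h18 := Cfsg.Agent.S1418.result c.hG M c.hM E hE s hs2 B ⟨hBE, hBe, hBc⟩
  have hvB : (v : G) ∈ B := by
    have hZE : Subgroup.zpowers (v : G) ≤ E :=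
      Subgroup.zpowers_le.2 (hVKE (Subgroup.mem_sup_left v.2))
    exact h18.1.2 _ hZE (by rw [Nat.card_zpowers, hvo]) (Subgroup.mem_zpowers _)
  obtain ⟨b₁, hb₁B, hb₁1, hb₁K⟩ := c.exists_fixed hE hKE hs2 hBE hBe hBc hsk
  have hb₁Ns : b₁ ∈ Ns := c.centralizer_K_le hb₁K
  have hb₁o : orderOf b₁ = s := orderOf_eq_prime (hBe.2 b₁ hb₁B) hb₁1
  obtain ⟨y, hy1⟩ := (Subgroup.ne_bot_iff_exists_ne_one.1 c.hK1)
  have hy1' : (y : G) ≠ 1 := fun h => hy1 (Subtype.ext h)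
  have hyσ : (y : G) ∈ sigmaCore Ns := c.K_le_sigmaCore_Ns y.2
  have hb₁y : b₁ ∈ Ns ⊓ Subgroup.centralizer ({(y : G)} : Set G) := by
    have h0 : b₁ ∈ Subgroup.centralizer ({(y : G)} : Set G) := by
      rw [c.centralizer_singleton_eq y.2 hy1']; exact hb₁K
    exact ⟨hb₁Ns, h0⟩
  have hsN : s ∣ Nat.card N := hsU.trans (Subgroup.card_dvd_of_le c.U_le_N)
  by_cases hsσNs : s ∈ sigma Ns
  · exact hsk (c.eq_of_mem_sigma_Ns hs hsσNs hsN)
  · rcases Cfsg.Agent.S1432.result c.hG Ns c.hNs y hyσ hy1' b₁ hb₁y hb₁1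
      (by
        intro q hq hd
        rw [hb₁o] at hd
        rw [(Nat.prime_dvd_prime_iff_eq hq hs).1 hd]
        exact hsσNs) with ⟨h1, -⟩ | ⟨-, -, h3, -⟩
    · exact hsσN (c.mem_sigma_of_mem_kappa_Ns (h1 s hs (by rw [hb₁o])))
    · have hvNs : (v : G) ∈ Ns := by
        apply h3
        rw [Subgroup.mem_centralizer_singleton_iff]
        exact Cfsg.Agent.Lib.H8.BG12.comm_of_mem hBe.1 hvB hb₁B
      have hvNN : (v : G) ∈ N ⊓ Ns := ⟨c.U_le_N (hVU v.2), hvNs⟩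
      have hd : s ∣ Nat.card ↥(N ⊓ Ns) := by
        rw [← hvo]
        have := orderOf_dvd_natCard (⟨(v : G), hvNN⟩ : ↥(N ⊓ Ns))
        rwa [Subgroup.orderOf_mk] at this
      rcases c.prime_inf_Ns hs hd with h | h
      · exact hsk h
      · exact hsσN h

end Ctx

end Cfsg.Agent.Lib.H20.BGR
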