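import Mathlib
import Cfsg.Agent.Lib.H20.BGR4
import Cfsg.Agent.Lib.H16.WielandtFormula
import Cfsg.Agent.Lib.H15.NormComm
import Cfsg.Agent.S1364
import Cfsg.Agent.S1431

/-!
# BG Corollary 15.9 (helper20), part R5: consequences of `U ≤ M_σ`
-/

set_option autoImplicit false
set_option linter.style.haveILetI false
set_option linter.unusedSectionVars false
set_option linter.unusedVariables false
set_option maxHeartbeats 800000

open Cfsg
open Cfsg.Agent.Lib.H16.BG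
open Cfsg.Agent.Lib.H7.BG7
open Cfsg.Agent.Lib.H7.BG10
open Cfsg.Agent.Lib.H19 (IsPiCard)
open Cfsg.Agent.Lib.H10.BG144 (Cfg)
open scoped commutatorElement

namespace Cfsg.Agent.Lib.H20.BGR

universe u
variable {G : Type u} [Group G] [Finite G]

local notation:max "cj(" g ", " X ")" => Subgroup.map (MulEquiv.toMonoidHom (MulAut.conj g)) X

/-- an elementary abelian group of order `s²` acting coprimely on a nontrivial group has a
non-identity element with a non-identity fixed point (Wielandt's formula). -/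
theorem exists_nonfpf {s : ℕ} [hs : Fact s.Prime] {A H : Subgroup G}
    (hA : Cfsg.Agent.Lib.H16.IsEpp s A) (hH : ¬ s ∣ Nat.card H)
    (hAH : A ≤ Subgroup.normalizer (H : Set G)) (hH1 : H ≠ ⊥) :
    ∃ a ∈ A, a ≠ 1 ∧ H ⊓ Subgroup.centralizer ({a} : Set G) ≠ ⊥ := by
  classical
  by_contra hno
  push Not at hno
  have hf := Cfsg.Agent.Lib.H16.wielandt_formula hA H hH hAH
  have h1 : ∏ a ∈ Cfsg.Agent.Lib.H16.nz A,
      Nat.card (H ⊓ Subgroup.centralizer {a} : Subgroup G) = 1 := by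
    apply Finset.prod_eq_one
    intro a ha
    rw [Cfsg.Agent.Lib.H16.mem_nz] at ha
    rw [hno a ha.2 ha.1, Subgroup.card_bot]
  rw [h1] at hf
  have h2 : Nat.card H ^ (s - 1) = 1 := Nat.eq_one_of_mul_eq_one_right hf
  have h3 : s - 1 ≠ 0 := by have := hs.out.two_le; omega
  have h4 : Nat.card H = 1 := (pow_eq_one_iff.1 h2).resolve_right h3
  exact hH1 (Subgroup.card_eq_one.1 h4)

namespace Ctx

variable {M N K U Ns : Subgroup G} {x₁ : G} {p : ℕ}

/-- `x₁ ∈ N`. -/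
theorem x₁_mem_N (c : Ctx M N K U Ns x₁ p) : x₁ ∈ N :=
  c.cfg.hCN (Subgroup.mem_centralizer_singleton_iff.2 rfl)

/-- no non-identity element of a complement of `M_σ` in `M` centralizes `x₁`. -/
theorem compl_inf_centralizer (c : Ctx M N K U Ns x₁ p) {E : Subgroup G}
    (hE : IsComplIn E (sigmaCore M) M) :
    E ⊓ Subgroup.centralizer ({x₁} : Set G) = ⊥ := by
  by_contra hne
  obtain ⟨r, hr, Y, hYD, hYc⟩ := Cfsg.Agent.Lib.H7.BG14u.exists_le_card_prime hne
  haveI : Fact r.Prime := ⟨hr⟩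
  obtain ⟨d, hd⟩ := exists_prime_orderOf_dvd_card' r (by rw [hYc])
  have hdo : orderOf (d : G) = r := by rw [Subgroup.orderOf_coe]; exact hd
  have hd1 : (d : G) ≠ 1 := by
    intro h
    rw [h, orderOf_one] at hdo
    exact hr.one_lt.ne hdo
  have hdE : (d : G) ∈ E := (hYD d.2).1
  have hdC : (d : G) ∈ Subgroup.centralizer ({x₁} : Set G) := (hYD d.2).2
  have hHall := Cfsg.Agent.Lib.H10.BG144.isPiHallOf_compl c.hG c.hM hE
  have hrσ : r ∉ sigma M := by
    apply hHall.2.1 r hr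
    rw [← hdo]
    have := orderOf_dvd_natCard (⟨(d : G), hdE⟩ : E)
    rwa [Subgroup.orderOf_mk] at this
  have hdM : (d : G) ∈ M := hE.1 hdE
  have hdN : (d : G) ∈ N := c.cfg.hCN hdC
  rcases Cfsg.Agent.S1432.result c.hG M c.hM x₁ c.cfg.hx₁ c.x₁_ne_one d ⟨hdM, hdC⟩ hd1
    (by
      intro q hq hqd
      rw [hdo] at hqd
      rw [(Nat.prime_dvd_prime_iff_eq hq hr).1 hqd]
      exact hrσ) with ⟨h1, -⟩ | ⟨-, -, -, huniq⟩
  · have := h1 r hr (by rw [hdo])
    rw [c.kappa_M] at this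
    exact absurd this (Set.notMem_empty _)
  -- `r = k`
  have hdKU : (d : G) ∈ K ⊔ U := by rw [c.hsup]; exact ⟨hdM, hdN⟩
  have hrd : r ∣ Nat.card ↥(K ⊔ U : Subgroup G) := by
    rw [← hdo]
    have := orderOf_dvd_natCard (⟨(d : G), hdKU⟩ : ↥(K ⊔ U : Subgroup G))
    rwa [Subgroup.orderOf_mk] at this
  have hrk : r = Nat.card K := by
    rcases hr.dvd_mul.1 (hrd.trans (Cfsg.Agent.Lib.H20.BGZ.card_sup_dvd c.hKU)) with h | h
    · exact (Nat.prime_dvd_prime_iff_eq hr c.card_K).1 h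
    · exfalso
      apply hrσ
      exact Cfsg.Agent.Lib.H20.BGS.sigmaCore_isPiCard M r hr
        (h.trans (Subgroup.card_dvd_of_le c.U_le_sigmaCore))
  -- `⟨d⟩` is conjugate to `K` in `N`
  haveI : Group.IsSolvable ↥N := solvable_of_coatom c.hG c.hN
  have hπ : IsPiCard (kappa N) (Nat.card (Subgroup.zpowers (d : G))) := by
    intro q hq hqd
    rw [Nat.card_zpowers, hdo, hrk] at hqd
    rw [(Nat.prime_dvd_prime_iff_eq hq c.card_K).1 hqd]
    exact c.k_mem_kappa_N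
  obtain ⟨H₁, hH₁, hdH₁⟩ :=
    Cfsg.Agent.Lib.H19.exists_isPiHallOf_ge (Subgroup.zpowers_le.2 hdN) hπ
  obtain ⟨n, hn, hconj⟩ := Cfsg.Agent.Lib.H19.isPiHallOf_exists_conj c.hKU.hall hH₁
  rw [← Cfsg.Agent.Lib.H20.map_conj_eq_smul] at hconj
  have hdmem : (d : G) ∈ cj(n, K) := by
    rw [hconj]; exact hdH₁ (Subgroup.mem_zpowers _)
  rw [mem_cj_iff] at hdmem
  set y := n⁻¹ * (d : G) * n with hy
  have hy1 : y ≠ 1 := by
    intro h
    apply hd1
    have : (d : G) = n * y * n⁻¹ := by rw [hy]; group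
    rw [this, h]; group
  have hle : Subgroup.centralizer ({(d : G)} : Set G) ≤ cj(n, Ns) := by
    intro z hz
    rw [mem_cj_iff]
    apply c.centralizer_K_le
    rw [← c.centralizer_singleton_eq hdmem hy1, Subgroup.mem_centralizer_singleton_iff]
    have hz' : z * (d : G) = (d : G) * z := Subgroup.mem_centralizer_singleton_iff.1 hz
    calc n⁻¹ * z * n * y = n⁻¹ * (z * (d : G)) * n := by rw [hy]; group
      _ = n⁻¹ * ((d : G) * z) * n := by rw [hz']
      _ = y * (n⁻¹ * z * n) := by rw [hy]; group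
  have hM' := huniq _ (isCoatom_map_conj c.hNs n) hle
  apply c.Ns_nconj n⁻¹
  rw [← hM', cj_inv_cj]

/-- `K` centralizes a normal elementary abelian subgroup `B` of order `s²` (`s ∈ τ₂(M)`, `s ≠ k`)
of a complement `E ⊇ K`. -/
theorem B_le_centralizer (c : Ctx M N K U Ns x₁ p) {E B : Subgroup G}
    (hE : IsComplIn E (sigmaCore M) M) (hKE : K ≤ E) {s : ℕ} [hsF : Fact s.Prime]
    (hs2 : s ∈ tau2 M) (hBE : B ≤ E) (hBe : IsElementaryAbelian s B) (hBc : Nat.card B = s ^ 2)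
    (hsk : s ≠ Nat.card K) :
    B ≤ Subgroup.centralizer (K : Set G) := by
  have hs := hsF.out
  have h18 := Cfsg.Agent.S1418.result c.hG M c.hM E hE s hs2 B ⟨hBE, hBe, hBc⟩
  have hKB : K ≤ Subgroup.normalizer (B : Set G) := hKE.trans h18.1.1
  have hcop : (Nat.card K).Coprime (Nat.card B) := by
    rw [hBc]; exact c.coprime_K_pow hs hsk
  have hact : Cfsg.Agent.Lib.H1.CoprimeAction K B :=
    ⟨hKB, hcop, Or.inl (solvable_of_le_ne_top c.hG c.hM.1 c.K_le_M)⟩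
  by_cases hℓ : ⁅B, K⁆ = ⊥
  · exact le_centralizer_of_commutator_eq_bot hℓ
  exfalso
  have hℓB : ⁅B, K⁆ ≤ B := hact.commutator_le
  have hℓM : ⁅B, K⁆ ≤ M := hℓB.trans (hBE.trans hE.1)
  have hKℓ : K ≤ Subgroup.normalizer ((⁅B, K⁆ : Subgroup G) : Set G) :=
    Cfsg.Agent.Lib.H15.le_normalizer_commutator hKB Subgroup.le_normalizer
  have hdvd : Nat.card ↥⁅B, K⁆ ∣ s ^ 2 := by
    rw [← hBc]; exact Subgroup.card_dvd_of_le hℓB
  have hcent := c.core_le_centralizer hℓM hℓ hKℓ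
    (Nat.Coprime.coprime_dvd_right hdvd (c.coprime_K_pow hs hsk))
    (by
      intro q hq hd
      rw [(Nat.prime_dvd_prime_iff_eq hq hs).1 (hq.dvd_of_dvd_pow (hd.trans hdvd))]
      exact hs2.2.1)
    (Cfsg.Agent.Lib.H19.BG13.commutator_inf_centralizer_eq_bot hact hBe.1)
  have hle : ⁅B, K⁆ ≤ E ⊓ Subgroup.centralizer ({x₁} : Set G) := by
    intro z hz
    have h0 : z ∈ Subgroup.centralizer ({x₁} : Set G) := by
      rw [Subgroup.mem_centralizer_singleton_iff]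
      exact Subgroup.mem_centralizer_iff.1 (hcent c.cfg.hx₁) z hz
    exact ⟨hBE (hℓB hz), h0⟩
  rw [c.compl_inf_centralizer hE] at hle
  exact hℓ (le_bot_iff.1 hle)

/-- the normal Sylow `k`-subgroup `Q` of `N*`. -/
theorem exists_Q (c : Ctx M N K U Ns x₁ p) :
    ∃ Q : Subgroup G, K ≤ Q ∧ Q ≤ sigmaCore Ns ∧ IsPGroup (Nat.card K) Q ∧
      Ns ≤ Subgroup.normalizer (Q : Set G) ∧
      (∀ L : Subgroup G, IsCoatom L → Q ≤ L → L = Ns) ∧
      ∀ X : Subgroup G, X ≤ Ns → IsPGroup (Nat.card K) X → X ≤ Q := by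
  haveI hkF : Fact (Nat.card K).Prime := ⟨c.card_K⟩
  obtain ⟨Us, hUs⟩ := c.exists_Ustar
  have hKF : K ≤ fittingHallOf Ns := by
    have h64 := (Cfsg.Agent.S1364.result c.hG Ns c.hNs _ Us hUs c.star_ne).2.2.1
    rwa [← c.hKst] at h64
  set F := fittingHallOf Ns with hF
  have hFN : F ≤ Ns := Cfsg.Agent.Lib.H8.fittingHallOf_le Ns
  have hNF := Cfsg.Agent.Lib.H8.le_normalizer_fittingHallOf Ns
  have hnil := Cfsg.Agent.Lib.H8.fittingHallOf_isNilpotent Ns
  have hcop := Cfsg.Agent.Lib.H10.BG144.card_fittingHallOf_coprime Ns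
  have hFσ : F ≤ sigmaCore Ns := Cfsg.Agent.Lib.H10.BG144.fittingHallOf_le_sigmaCore c.hG c.hNs
  have hkd : Nat.card K ∣ Nat.card F := Subgroup.card_dvd_of_le hKF
  set Q := piCoreOf {Nat.card K} F with hQ
  have hQp : IsPGroup (Nat.card K) Q := isPGroup_piCoreOf_singleton _ F
  have hQF : Q ≤ F := piCoreOf_le _ _
  have hKQ : K ≤ Q := by
    apply le_piCoreOf_of_nilpotent hnil hKF
    intro q hq hd
    exact (Nat.prime_dvd_prime_iff_eq hq c.card_K).1 hd
  obtain ⟨Q', hQ', hle⟩ := SylIn.exists_ge hQp hQF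
  have hQ'le : Q' ≤ Q :=
    le_piCoreOf_of_nilpotent hnil hQ'.le
      (isPiCard_of_isPGroup c.card_K (Set.mem_singleton _) hQ'.isPGroup)
  have hQeq : Q' = Q := le_antisymm hQ'le hle
  rw [hQeq] at hQ'
  have hQσ : SylIn (Nat.card K) Q (sigmaCore Ns) := by
    refine ⟨hQF.trans hFσ, hQp, ?_⟩
    intro hd
    have h1 : Q.relIndex (sigmaCore Ns) ∣ Q.relIndex Ns := by
      rw [← Subgroup.relIndex_mul_relIndex Q (sigmaCore Ns) Ns (hQF.trans hFσ)
        (Cfsg.Agent.Lib.H20.BGS.sigmaCore_le Ns)]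
      exact dvd_mul_right _ _
    have h2 := hd.trans h1
    rw [← Subgroup.relIndex_mul_relIndex _ F Ns hQF hFN] at h2
    rcases (Nat.Prime.dvd_mul c.card_K).1 h2 with h | h
    · exact hQ'.2.2 h
    · exact (Nat.Prime.coprime_iff_not_dvd c.card_K).1
        (Nat.Coprime.coprime_dvd_left hkd hcop) h
  obtain ⟨S, hS⟩ := hQσ.exists_sylow
  have h31 := (Cfsg.Agent.S1431.result c.hG Ns c.hNs _ c.hKstH c.star_ne).2.2.1 (Nat.card K)
    c.card_K (by rw [← c.hKst]) S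
  rw [hS] at h31
  have hQn : Ns ≤ Subgroup.normalizer (Q : Set G) :=
    hNF.trans (normalizer_le_normalizer_piCoreOf _ F)
  refine ⟨Q, hKQ, hQF.trans hFσ, hQp, hQn, ?_, ?_⟩
  · intro L hL hQL
    obtain ⟨L₀, hL₀, huniq⟩ := h31.1
    rw [huniq L ⟨hL, hQL⟩, huniq Ns ⟨c.hNs, h31.2.1⟩]
  · intro X hXNs hXp
    have hQN : SylIn (Nat.card K) Q Ns := by
      refine ⟨hQF.trans hFN, hQp, ?_⟩
      rw [← Subgroup.relIndex_mul_relIndex _ F Ns hQF hFN]
      intro hd
      rcases (Nat.Prime.dvd_mul c.card_K).1 hd with h | h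
      · exact hQ'.2.2 h
      · exact (Nat.Prime.coprime_iff_not_dvd c.card_K).1
          (Nat.Coprime.coprime_dvd_left hkd hcop) h
    obtain ⟨m, hm, hle⟩ := hQN.exists_conj_le hXp hXNs
    have h1 : X ≤ cj(m⁻¹, Q) := (cj_le_iff m).1 hle
    rwa [cj_eq_self_of_mem_normalizer (hQn (Ns.inv_mem hm))] at h1

end Ctx

end Cfsg.Agent.Lib.H20.BGR
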