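import Mathlib
import Cfsg.Agent.Lib.H20.BGR5
import Cfsg.Agent.Lib.H16.BGu
import Cfsg.Agent.Lib.H1.CoprimeSylow
import Cfsg.Agent.S1430

/-!
# BG Corollary 15.9 (helper20), part R6: an element of `C_{N*_σ}(K)` of prime order `s ≠ k`
centralizes the normal Sylow `k`-subgroup of `N*`
-/

set_option autoImplicit false
set_option linter.style.haveILetI false
set_option linter.unusedSectionVars false
set_option linter.unusedVariables false
set_option maxHeartbeats 800000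

open Cfsg
open Cfsg.Agent.Lib.H16.BG
open Cfsg.Agent.Lib.H7.BG7
open Cfsg.Agent.Lib.H7.BG10
open Cfsg.Agent.Lib.H19 (IsPiCard)
open Cfsg.Agent.Lib.H10.BG144 (Cfg)
open scoped commutatorElement

namespace Cfsg.Agent.Lib.H20.BGR

universe u
variable {G : Type u} [Group G] [Finite G]

local notation:max "cj(" g ", " X ")" => Subgroup.map (MulEquiv.toMonoidHom (MulAut.conj g)) X

namespace Ctx

variable {M N K U Ns : Subgroup G} {x₁ : G} {p : ℕ}

/-- `C_{N*_σ}(e) = K` for `e ∈ K*#`. -/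
theorem sigmaCore_Ns_inf_centralizer (c : Ctx M N K U Ns x₁ p) {e : G}
    (he : e ∈ sigmaCore N ⊓ Subgroup.centralizer (K : Set G)) (he1 : e ≠ 1) :
    sigmaCore Ns ⊓ Subgroup.centralizer ({e} : Set G) = K := by
  rw [(Cfsg.Agent.S1430.result c.hG Ns c.hNs _ c.hKstH c.star_ne).1 e he he1]
  exact c.hKst.symm

theorem Q_le_centralizer (c : Ctx M N K U Ns x₁ p) {Q : Subgroup G} (hKQ : K ≤ Q)
    (hQσ : Q ≤ sigmaCore Ns) (hQp : IsPGroup (Nat.card K) Q)
    (hQn : Ns ≤ Subgroup.normalizer (Q : Set G)) {b : G} {s : ℕ} [hsF : Fact s.Prime]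
    (hbσ : b ∈ sigmaCore Ns) (hbK : b ∈ Subgroup.centralizer (K : Set G)) (hbo : orderOf b = s)
    (hsk : s ≠ Nat.card K) :
    Q ≤ Subgroup.centralizer ({b} : Set G) := by
  have hs := hsF.out
  have hk := c.card_K
  haveI hkF : Fact (Nat.card K).Prime := ⟨hk⟩
  obtain ⟨r, hr, Y, hYKs, hYc⟩ := Cfsg.Agent.Lib.H7.BG14u.exists_le_card_prime c.star_ne
  haveI : Fact r.Prime := ⟨hr⟩
  have hrκ : r ∈ kappa Ns := c.hKstH.2.1 r hr (by rw [← hYc]; exact Subgroup.card_dvd_of_le hYKs)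
  have hrσ : r ∉ sigma Ns := hrκ.2.2.1
  have hYNs : Y ≤ Ns := hYKs.trans c.hKstH.1
  have hYK : Y ≤ Subgroup.centralizer (K : Set G) := hYKs.trans inf_le_right
  have hσNs : sigmaCore Ns ≤ Ns := Cfsg.Agent.Lib.H20.BGS.sigmaCore_le Ns
  have hsσ : s ∈ sigma Ns := by
    apply Cfsg.Agent.Lib.H20.BGS.sigmaCore_isPiCard Ns s hs
    rw [← hbo]
    have := orderOf_dvd_natCard (⟨b, hbσ⟩ : ↥(sigmaCore Ns))
    rwa [Subgroup.orderOf_mk] at this
  have hkσ : Nat.card K ∈ sigma Ns := c.k_mem_sigma_Ns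
  have hsr : s ≠ r := fun e => hrσ (e ▸ hsσ)
  have hkr : Nat.card K ≠ r := fun e => hrσ (e ▸ hkσ)
  have hY1 : Y ≠ ⊥ := by
    intro h
    rw [h, Subgroup.card_bot] at hYc
    exact hr.one_lt.ne hYc
  obtain ⟨e, he1⟩ := (Subgroup.ne_bot_iff_exists_ne_one.1 hY1)
  have he1' : (e : G) ≠ 1 := fun h => he1 (Subtype.ext h)
  have heKs := hYKs e.2
  -- the centralizer `C₀` of `K` in `N*_σ`
  set C₀ := sigmaCore Ns ⊓ Subgroup.centralizer (K : Set G) with hC₀
  have hC₀Ns : C₀ ≤ Ns := inf_le_left.trans hσNs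
  have hYC₀ : Y ≤ Subgroup.normalizer (C₀ : Set G) :=
    Cfsg.Agent.Lib.H19.BG13.le_normalizer_inf'
      (hYNs.trans (Cfsg.Agent.Lib.H20.BGS.le_normalizer_sigmaCore Ns))
      (Cfsg.Agent.Lib.H19.BG13.le_normalizer_centralizer
        (hYK.trans (Subgroup.centralizer_le_normalizer _)))
  have hcopY : (Nat.card Y).Coprime (Nat.card C₀) := by
    rw [hYc]
    apply (Nat.Prime.coprime_iff_not_dvd hr).2
    intro hd
    exact hrσ (Cfsg.Agent.Lib.H20.BGS.sigmaCore_isPiCard Ns r hr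
      (hd.trans (Subgroup.card_dvd_of_le inf_le_left)))
  have hact : Cfsg.Agent.Lib.H1.CoprimeAction Y C₀ :=
    ⟨hYC₀, hcopY, Or.inr (solvable_of_le_ne_top c.hG c.hNs.1 hC₀Ns)⟩
  obtain ⟨S₁, hS₁, hYS₁⟩ := Cfsg.Agent.Lib.H1.coprime_exists_invariant_sylow hact s
  have hS₁' : SylIn s S₁ C₀ := sylIn_of_isSylowOf hS₁
  have hbC₀ : b ∈ C₀ := ⟨hbσ, hbK⟩
  have hZp : IsPGroup s (Subgroup.zpowers b) :=
    IsPGroup.of_card (n := 1) (by rw [Nat.card_zpowers, hbo, pow_one])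
  obtain ⟨m, hm, hmle⟩ := hS₁'.exists_conj_le hZp (Subgroup.zpowers_le.2 hbC₀)
  have hb' : m * b * m⁻¹ ∈ S₁ := hmle (conj_mem_cj (Subgroup.mem_zpowers b))
  have hb1 : b ≠ 1 := by
    intro h
    rw [h, orderOf_one] at hbo
    exact hs.one_lt.ne hbo
  have hS₁1 : S₁ ≠ ⊥ := by
    intro h
    rw [h, Subgroup.mem_bot] at hb'
    apply hb1
    have : b = m⁻¹ * (m * b * m⁻¹) * m := by group
    rw [this, hb']; group
  obtain ⟨a, ha⟩ := IsPGroup.iff_card.1 hS₁'.isPGroup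
  obtain ⟨d, hd⟩ := IsPGroup.iff_card.1 hQp
  have hS₁C₀ : S₁ ≤ C₀ := hS₁'.le
  have hcardsup : Nat.card (S₁ ⊔ Y : Subgroup G) ∣ Nat.card Y * Nat.card S₁ := by
    rw [sup_comm]
    exact Cfsg.Agent.Lib.H19.card_sup_dvd_mul_of_le_normalizer hYS₁
  have hcopQ : (Nat.card Q).Coprime (Nat.card (S₁ ⊔ Y : Subgroup G)) := by
    apply Nat.Coprime.coprime_dvd_right hcardsup
    rw [hd, hYc, ha]
    apply Nat.Coprime.pow_left
    apply Nat.Coprime.mul_right
    · exact (Nat.coprime_primes hk hr).2 hkr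
    · exact Nat.Coprime.pow_right _ ((Nat.coprime_primes hk hs).2 (Ne.symm hsk))
  have hF : Cfsg.Agent.Lib.H8.FrobAct S₁ Y Q :=
    { hU1 := hS₁1
      hE1 := hY1
      hUE := by
        apply (Subgroup.disjoint_of_coprime_natCard _).eq_bot
        rw [ha, hYc]
        exact Nat.Coprime.pow_left _ ((Nat.coprime_primes hs hr).2 hsr)
      hUn := fun e he u hu => (Subgroup.mem_normalizer_iff.1 (hYS₁ he) u).1 hu
      hfpf := by
        intro e' he' he'1 u hu hc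
        have h1 : u ∈ sigmaCore Ns ⊓ Subgroup.centralizer ({e'} : Set G) :=
          ⟨(hS₁C₀ hu).1, Subgroup.mem_centralizer_singleton_iff.2 hc.symm⟩
        rw [c.sigmaCore_Ns_inf_centralizer (hYKs he') he'1] at h1
        have h2 : u ∈ K ⊓ S₁ := ⟨h1, hu⟩
        have h3 : K ⊓ S₁ = ⊥ := by
          apply (Subgroup.disjoint_of_coprime_natCard _).eq_bot
          rw [ha]
          exact Nat.Coprime.pow_right _ ((Nat.coprime_primes hk hs).2 (Ne.symm hsk))
        rw [h3] at h2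
        exact Subgroup.mem_bot.1 h2
      hHn := by
        intro x hx h hh
        have hxNs : x ∈ Ns := (sup_le (hS₁C₀.trans hC₀Ns) hYNs) hx
        exact (Subgroup.mem_normalizer_iff.1 (hQn hxNs) h).1 hh
      hdisj := (Subgroup.disjoint_of_coprime_natCard hcopQ).eq_bot
      hsolv := solvable_of_le_ne_top c.hG c.hNs.1 (hQσ.trans hσNs)
      hcop := hcopQ }
  have hcent : Q ≤ Subgroup.centralizer (S₁ : Set G) := by
    apply le_centralizer_of_frobAct hF
    intro z hz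
    have h1 : z ∈ sigmaCore Ns ⊓ Subgroup.centralizer ({(e : G)} : Set G) := by
      have h0 : z ∈ Subgroup.centralizer ({(e : G)} : Set G) := by
        rw [Subgroup.mem_centralizer_singleton_iff]
        exact (Subgroup.mem_centralizer_iff.1 hz.2 (e : G) e.2).symm
      exact ⟨hQσ hz.1, h0⟩
    rw [c.sigmaCore_Ns_inf_centralizer heKs he1'] at h1
    rw [Subgroup.mem_centralizer_iff]
    intro u hu
    exact (Subgroup.mem_centralizer_iff.1 (hS₁C₀ hu).2 z h1).symm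
  intro q hq
  rw [Subgroup.mem_centralizer_singleton_iff]
  have hmNs : m ∈ Ns := hC₀Ns hm
  have hq' : m * q * m⁻¹ ∈ Q := (Subgroup.mem_normalizer_iff.1 (hQn hmNs) q).1 hq
  have h1 := Subgroup.mem_centralizer_iff.1 (hcent hq') _ hb'
  calc q * b = m⁻¹ * ((m * q * m⁻¹) * (m * b * m⁻¹)) * m := by group
    _ = m⁻¹ * ((m * b * m⁻¹) * (m * q * m⁻¹)) * m := by rw [h1]
    _ = b * q := by group

end Ctx

end Cfsg.Agent.Lib.H20.BGR
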