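import Mathlib
import Cfsg.Agent.Lib.H20.BGR6
import Cfsg.Agent.Lib.H19.NilCoverSylow
import Cfsg.Agent.S1419

/-!
# BG Corollary 15.9 (helper20), part R7: `τ₂(M) = ∅`
-/

set_option autoImplicit false
set_option linter.style.haveILetI false
set_option linter.unusedSectionVars false
set_option linter.unusedVariables false
set_option maxHeartbeats 800000

open Cfsg
open Cfsg.Agent.Lib.H16.BG
open Cfsg.Agent.Lib.H7.BG7
open Cfsg.Agent.Lib.H7.BG10
open Cfsg.Agent.Lib.H19 (IsPiCard)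
open Cfsg.Agent.Lib.H10.BG144 (Cfg)
open scoped commutatorElement

namespace Cfsg.Agent.Lib.H20.BGR

universe u
variable {G : Type u} [Group G] [Finite G]

local notation:max "cj(" g ", " X ")" => Subgroup.map (MulEquiv.toMonoidHom (MulAut.conj g)) X

namespace Ctx

variable {M N K U Ns : Subgroup G} {x₁ : G} {p : ℕ}

/-- a complement of `M_σ` in `M` containing `K`. -/
theorem exists_compl (c : Ctx M N K U Ns x₁ p) :
    ∃ E : Subgroup G, IsComplIn E (sigmaCore M) M ∧ K ≤ E := by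
  apply Cfsg.Agent.Lib.H19.BG13.exists_compl_ge c.hG c.hM c.K_le_M
  intro q hq hd
  rw [(Nat.prime_dvd_prime_iff_eq hq c.card_K).1 hd]
  exact c.k_not_sigma

/-- **`τ₂(M) = ∅`**. -/
theorem tau2_M (c : Ctx M N K U Ns x₁ p) : tau2 M = ∅ := by
  by_contra hne
  obtain ⟨s, hs2⟩ := Set.nonempty_iff_ne_empty.2 hne
  have hs := hs2.1
  haveI hsF : Fact s.Prime := ⟨hs⟩
  obtain ⟨E, hE, hKE⟩ := c.exists_compl
  obtain ⟨B, hBE, hBe, hBc⟩ := Cfsg.Agent.Lib.H16.BGCent.exists_elemAb_sq_le_compl c.hG c.hM hE hs2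
  have h18 := Cfsg.Agent.S1418.result c.hG M c.hM E hE s hs2 B ⟨hBE, hBe, hBc⟩
  have hBM : B ≤ M := hBE.trans hE.1
  have hBK : B ≤ Subgroup.centralizer (K : Set G) := by
    by_cases hsk : s = Nat.card K
    · have hKB : K ≤ B := h18.1.2 K hKE hsk.symm
      intro b hb
      rw [Subgroup.mem_centralizer_iff]
      intro y hy
      exact Cfsg.Agent.Lib.H8.BG12.comm_of_mem hBe.1 (hKB hy) hb
    · exact c.B_le_centralizer hE hKE hs2 hBE hBe hBc hsk
  have hBNs : B ≤ Ns := hBK.trans c.centralizer_K_le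
  -- an element of `B` with fixed points on `M_σ`
  have hEpp : Cfsg.Agent.Lib.H16.IsEpp s B :=
    ⟨fun a ha b hb => Cfsg.Agent.Lib.H8.BG12.comm_of_mem hBe.1 ha hb, hBe.2, hBc⟩
  obtain ⟨b, hbB, hb1, hbfix⟩ := exists_nonfpf hEpp
    (fun hd => hs2.2.1 (Cfsg.Agent.Lib.H20.BGS.sigmaCore_isPiCard M s hs hd))
    (hBM.trans (Cfsg.Agent.Lib.H20.BGS.le_normalizer_sigmaCore M))
    (Cfsg.Agent.Lib.H8.BG12.sigmaCore_ne_bot' c.hG c.hM)
  have hbo : orderOf b = s := orderOf_eq_prime (hBe.2 b hbB) hb1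
  have hZB : Subgroup.zpowers b ≤ B := Subgroup.zpowers_le.2 hbB
  have hZc : Nat.card (Subgroup.zpowers b) = s := by rw [Nat.card_zpowers, hbo]
  have hZp : IsPGroup s (Subgroup.zpowers b) := IsPGroup.of_card (n := 1) (by rw [hZc, pow_one])
  have huniq := h18.2.2 (Subgroup.zpowers b) hZB hZc (by rw [centralizer_zpowers_eq]; exact hbfix)
  rw [centralizer_zpowers_eq] at huniq
  obtain ⟨y, hy1⟩ := (Subgroup.ne_bot_iff_exists_ne_one.1 c.hK1)
  have hy1' : (y : G) ≠ 1 := fun h => hy1 (Subtype.ext h)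
  have hyσ : (y : G) ∈ sigmaCore Ns := c.K_le_sigmaCore_Ns y.2
  have hbNs : b ∈ Ns := hBNs hbB
  have hby : b ∈ Ns ⊓ Subgroup.centralizer ({(y : G)} : Set G) := by
    have h0 : b ∈ Subgroup.centralizer ({(y : G)} : Set G) := by
      rw [c.centralizer_singleton_eq y.2 hy1']; exact hBK hbB
    exact ⟨hbNs, h0⟩
  by_cases hsσ : s ∈ sigma Ns
  · have hbσ : b ∈ sigmaCore Ns :=
      isPGroup_le_sigmaCore c.hG c.hNs hsσ (Subgroup.zpowers_le.2 hbNs) hZp
        (Subgroup.mem_zpowers b)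
    obtain ⟨Q, hKQ, hQσ, hQp, hQn, hQu, hQall⟩ := c.exists_Q
    by_cases hsk : s = Nat.card K
    · by_cases hab : ∀ S : Sylow s G, ¬ IsMulCommutative (S : Subgroup G)
      · have h19 := (Cfsg.Agent.S1419.result c.hG M c.hM E hE s hs2 hab B ⟨hBE, hBe, hBc⟩).2.1.1
        have hne1 : B ⊓ Subgroup.centralizer ((sigmaCore M : Subgroup G) : Set G) ≠ ⊥ := by
          intro h
          rw [h, Subgroup.card_bot] at h19
          exact hs.one_lt.ne h19
        obtain ⟨a, ha1⟩ := (Subgroup.ne_bot_iff_exists_ne_one.1 hne1)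
        have ha1' : (a : G) ≠ 1 := fun h => ha1 (Subtype.ext h)
        have hmem : (a : G) ∈ E ⊓ Subgroup.centralizer ({x₁} : Set G) := by
          have h0 : (a : G) ∈ Subgroup.centralizer ({x₁} : Set G) := by
            rw [Subgroup.mem_centralizer_singleton_iff]
            exact (Subgroup.mem_centralizer_iff.1 a.2.2 x₁ c.cfg.hx₁).symm
          exact ⟨hBE a.2.1, h0⟩
        rw [c.compl_inf_centralizer hE] at hmem
        exact ha1' (Subgroup.mem_bot.1 hmem)
      · push Not at hab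
        obtain ⟨S, hS⟩ := hab
        have hQp' : IsPGroup s Q := by rw [hsk]; exact hQp
        have hbQ : b ∈ Q := by
          apply hQall (Subgroup.zpowers b) (Subgroup.zpowers_le.2 hbNs) _ (Subgroup.mem_zpowers b)
          rw [← hsk]; exact hZp
        have hQM : Q ≤ M := by
          refine le_trans ?_ huniq.1
          intro q hq
          rw [Subgroup.mem_centralizer_singleton_iff]
          exact Cfsg.Agent.Lib.H19.NilCoverSylow.commute_of_pgroup S hS hQp' hq hbQ
        exact c.Ns_ne (hQu M c.hM hQM).symm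
    · have hQb := c.Q_le_centralizer hKQ hQσ hQp hQn hbσ (hBK hbB) hbo hsk
      exact c.Ns_ne (hQu M c.hM (hQb.trans huniq.1)).symm
  · rcases Cfsg.Agent.S1432.result c.hG Ns c.hNs y hyσ hy1' b hby hb1
      (by
        intro q hq hd
        rw [hbo] at hd
        rw [(Nat.prime_dvd_prime_iff_eq hq hs).1 hd]
        exact hsσ) with ⟨h1, -⟩ | ⟨-, -, h3⟩
    · -- `s ∈ κ(N*)`: cyclic Sylow subgroups
      have hsκ : s ∈ kappa Ns := h1 s hs (by rw [hbo])
      have hBp : IsPGroup s B := IsPGroup.of_card hBc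
      obtain ⟨T, hT, hBT⟩ := SylIn.exists_ge hBp hBNs
      obtain ⟨T', hT'⟩ := hT.exists_sylow
      have hTc : IsCyclic (T' : Subgroup Ns) := (hsκ.2.2.2 T').1
      have hTc' : IsCyclic T := by
        rw [← hT']
        exact isCyclic_of_surjective
          (Subgroup.equivMapOfInjective (T' : Subgroup Ns) Ns.subtype Ns.subtype_injective)
          (Subgroup.equivMapOfInjective (T' : Subgroup Ns) Ns.subtype
            Ns.subtype_injective).surjective
      have hBc' : IsCyclic B :=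
        isCyclic_of_injective (Subgroup.inclusion hBT) (Subgroup.inclusion_injective hBT)
      exact not_isCyclic_of_elemAb hs hBe (le_of_eq hBc.symm) hBc'
    · exact c.Ns_ne (huniq.2 Ns c.hNs h3.1)

end Ctx

end Cfsg.Agent.Lib.H20.BGR
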