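import Mathlib
import Cfsg.Agent.Lib.H20.BGR7
import Cfsg.Agent.Lib.H20.BGP4
import Cfsg.Agent.S1449

/-!
# BG Corollary 15.9 (helper20), part R8: the cyclic Frobenius complement
-/

set_option autoImplicit false
set_option linter.style.haveILetI false
set_option linter.unusedSectionVars false
set_option linter.unusedVariables false
set_option maxHeartbeats 800000

open Cfsg
open Cfsg.Agent.Lib.H16.BG
open Cfsg.Agent.Lib.H7.BG7
open Cfsg.Agent.Lib.H7.BG10
open Cfsg.Agent.Lib.H19 (IsPiCard)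
open Cfsg.Agent.Lib.H10.BG144 (Cfg)
open scoped commutatorElement Pointwise

namespace Cfsg.Agent.Lib.H20.BGR

universe u
variable {G : Type u} [Group G] [Finite G]

local notation:max "cj(" g ", " X ")" => Subgroup.map (MulEquiv.toMonoidHom (MulAut.conj g)) X

/-- a complement `E` of the normal subgroup `S` of `M` acting without fixed points on `S`,
`1 < E < M`, is a Frobenius complement of `M`. -/
theorem isFrobeniusComplement_subgroupOf {M E S : Subgroup G} (hE : IsComplIn E S M)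
    (hSn : M ≤ Subgroup.normalizer (S : Set G)) (hE1 : E ≠ ⊥) (hS1 : S ≠ ⊥)
    (hfpf : ∀ e ∈ E, e ≠ 1 → S ⊓ Subgroup.centralizer ({e} : Set G) = ⊥) :
    IsFrobeniusComplement (E.subgroupOf M) := by
  obtain ⟨hEM, hSM, hES, hprod⟩ := hE
  refine ⟨?_, ?_, ?_⟩
  · intro h
    apply hE1
    rw [Subgroup.subgroupOf_eq_bot] at h
    rw [eq_bot_iff]
    intro e he
    have : e ∈ E ⊓ M := ⟨he, hEM he⟩
    rw [disjoint_iff.1 h] at this
    exact this
  · intro h
    rw [Subgroup.subgroupOf_eq_top] at h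
    apply hS1
    rw [eq_bot_iff, ← hES]
    exact le_inf (hSM.trans h) le_rfl
  · intro g hg
    rw [eq_bot_iff]
    rintro z ⟨hz1', hz2'⟩
    rw [Subgroup.mem_bot]
    have hz1 : z ∈ E.subgroupOf M := hz1'
    have hz2 : z ∈ MulAut.conj g • E.subgroupOf M := hz2'
    rw [Subgroup.mem_subgroupOf] at hz1 hg
    rw [Subgroup.mem_pointwise_smul_iff_inv_smul_mem] at hz2
    rw [Subgroup.mem_subgroupOf] at hz2
    have hw : (g : G)⁻¹ * (z : G) * (g : G) ∈ E := by
      simpa [MulAut.smul_def, mul_assoc] using hz2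
    obtain ⟨e₀, he₀, m₀, hm₀, hgem⟩ := hprod (g : G) g.2
    have hm₀1 : m₀ ≠ 1 := by
      intro h
      apply hg
      rw [hgem, h, mul_one]; exact he₀
    set w := (g : G)⁻¹ * (z : G) * (g : G) with hwdef
    set w' := e₀ * w * e₀⁻¹ with hw'def
    set m₁ := e₀ * m₀ * e₀⁻¹ with hm₁def
    have hw' : w' ∈ E := E.mul_mem (E.mul_mem he₀ hw) (E.inv_mem he₀)
    have hm₁ : m₁ ∈ S := (Subgroup.mem_normalizer_iff.1 (hSn (hEM he₀)) m₀).1 hm₀
    have hm₁1 : m₁ ≠ 1 := by
      intro h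
      apply hm₀1
      have : m₀ = e₀⁻¹ * m₁ * e₀ := by rw [hm₁def]; group
      rw [this, h]; group
    have hz : (z : G) = m₁ * w' * m₁⁻¹ := by
      rw [hm₁def, hw'def, hwdef, hgem]; group
    -- `z w'⁻¹ ∈ E ∩ S`
    have h1 : (z : G) * w'⁻¹ ∈ E := E.mul_mem hz1 (E.inv_mem hw')
    have h2 : (z : G) * w'⁻¹ ∈ S := by
      have h3 : w' * m₁⁻¹ * w'⁻¹ ∈ S :=
        (Subgroup.mem_normalizer_iff.1 (hSn (hEM hw')) m₁⁻¹).1 (S.inv_mem hm₁)
      have h4 : (z : G) * w'⁻¹ = m₁ * (w' * m₁⁻¹ * w'⁻¹) := by rw [hz]; group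
      rw [h4]; exact S.mul_mem hm₁ h3
    have h5 : (z : G) * w'⁻¹ ∈ E ⊓ S := ⟨h1, h2⟩
    rw [hES, Subgroup.mem_bot] at h5
    have hzw : (z : G) = w' := by
      have : (z : G) = (z : G) * w'⁻¹ * w' := by group
      rw [this, h5, one_mul]
    -- `m₁` centralizes `w'`
    have hcomm : m₁ * w' = w' * m₁ := by
      have : m₁ * w' = (m₁ * w' * m₁⁻¹) * m₁ := by group
      rw [this, ← hz, hzw]
    by_contra hz1'
    have hw'1 : w' ≠ 1 := by
      intro h
      apply hz1'
      apply Subtype.ext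
      rw [hzw, h]; rfl
    have hmem : m₁ ∈ S ⊓ Subgroup.centralizer ({w'} : Set G) := by
      have h0 : m₁ ∈ Subgroup.centralizer ({w'} : Set G) := by
        rw [Subgroup.mem_centralizer_singleton_iff]; exact hcomm
      exact ⟨hm₁, h0⟩
    rw [hfpf w' hw' hw'1] at hmem
    exact hm₁1 (Subgroup.mem_bot.1 hmem)

namespace Ctx

variable {M N K U Ns : Subgroup G} {x₁ : G} {p : ℕ}

/-- a complement of `M_σ` acts without fixed points on `M_σ`. -/
theorem fpf_E (c : Ctx M N K U Ns x₁ p) {E : Subgroup G} (hE : IsComplIn E (sigmaCore M) M)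
    {e : G} (he : e ∈ E) (he1 : e ≠ 1) :
    sigmaCore M ⊓ Subgroup.centralizer ({e} : Set G) = ⊥ := by
  rw [eq_bot_iff]
  intro m hm
  rw [Subgroup.mem_bot]
  by_contra hm1
  have hHall := Cfsg.Agent.Lib.H10.BG144.isPiHallOf_compl c.hG c.hM hE
  have heo : orderOf e ≠ 1 := fun h => he1 (orderOf_eq_one_iff.1 h)
  obtain ⟨q, hq, hqd⟩ := Nat.exists_prime_and_dvd heo
  have hσ : ∀ r : ℕ, r.Prime → r ∣ orderOf e → r ∉ sigma M := by
    intro r hr hd
    apply hHall.2.1 r hr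
    have := orderOf_dvd_natCard (⟨e, he⟩ : E)
    rw [Subgroup.orderOf_mk] at this
    exact hd.trans this
  have hem : e ∈ M ⊓ Subgroup.centralizer ({m} : Set G) := by
    have h0 : e ∈ Subgroup.centralizer ({m} : Set G) := by
      rw [Subgroup.mem_centralizer_singleton_iff]
      exact (Subgroup.mem_centralizer_singleton_iff.1 hm.2).symm
    exact ⟨hE.1 he, h0⟩
  rcases Cfsg.Agent.S1432.result c.hG M c.hM m hm.1 hm1 e hem he1 hσ with ⟨h1, -⟩ | ⟨h2, -⟩
  · have := h1 q hq hqd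
    rw [c.kappa_M] at this
    exact this
  · have := h2 q hq hqd
    rw [c.tau2_M] at this
    exact this

/-- a complement of `M_σ` is abelian. -/
theorem comm_E (c : Ctx M N K U Ns x₁ p) {E : Subgroup G} (hE : IsComplIn E (sigmaCore M) M) :
    ∀ a ∈ E, ∀ b ∈ E, a * b = b * a := by
  have hp := c.cfg.tau2.1
  haveI hpF : Fact p.Prime := ⟨hp⟩
  have hnil := c.nil
  set P := piCoreOf {p} (sigmaCore M) with hP
  have hPp : IsPGroup p P := isPGroup_piCoreOf_singleton p _
  have hPσ : P ≤ sigmaCore M := piCoreOf_le _ _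
  have hx₁P : x₁ ∈ P := by
    have hZ : Subgroup.zpowers x₁ ≤ sigmaCore M := Subgroup.zpowers_le.2 c.cfg.hx₁
    have hZp : IsPGroup p (Subgroup.zpowers x₁) :=
      IsPGroup.of_card (n := 1) (by rw [Nat.card_zpowers, c.cfg.ord, pow_one])
    exact le_piCoreOf_of_nilpotent hnil hZ
      (isPiCard_of_isPGroup hp (Set.mem_singleton p) hZp) (Subgroup.mem_zpowers x₁)
  have hP1 : P ≠ ⊥ := by
    intro h
    rw [h, Subgroup.mem_bot] at hx₁P
    exact c.x₁_ne_one hx₁P
  set R := P ⊓ Subgroup.centralizer (P : Set G) with hR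
  have hR1 : R ≠ ⊥ := inf_centralizer_self_ne_bot hPp hP1
  have hRp : IsPGroup p R := hPp.to_le inf_le_left
  have hMP : M ≤ Subgroup.normalizer (P : Set G) :=
    (Cfsg.Agent.Lib.H20.BGS.le_normalizer_sigmaCore M).trans
      (normalizer_le_normalizer_piCoreOf {p} _)
  have hMR : M ≤ Subgroup.normalizer (R : Set G) :=
    Cfsg.Agent.Lib.H19.BG13.le_normalizer_inf' hMP
      (Cfsg.Agent.Lib.H19.BG13.le_normalizer_centralizer hMP)
  have hRN : R ≤ N := by
    intro z hz
    apply c.cfg.hCN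
    rw [Subgroup.mem_centralizer_singleton_iff]
    exact (Subgroup.mem_centralizer_iff.1 hz.2 x₁ hx₁P).symm
  have hRr : PRankLE p 2 ↥R := pRankLE_of_le hRN c.cfg.tau2.2.2.1
  have hpM : p ∣ Nat.card M := c.p_mem_sigma.2.1
  have hp2 : p ≠ 2 := prime_ne_two_of_dvd_card c.hG hpM
  have hfaith : E ⊓ Subgroup.centralizer (R : Set G) = ⊥ := by
    rw [eq_bot_iff]
    intro e he
    rw [Subgroup.mem_bot]
    by_contra he1
    obtain ⟨z, hz1⟩ := (Subgroup.ne_bot_iff_exists_ne_one.1 hR1)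
    have hz1' : (z : G) ≠ 1 := fun h => hz1 (Subtype.ext h)
    have hmem : (z : G) ∈ sigmaCore M ⊓ Subgroup.centralizer ({e} : Set G) := by
      have h0 : (z : G) ∈ Subgroup.centralizer ({e} : Set G) := by
        rw [Subgroup.mem_centralizer_singleton_iff]
        exact (Subgroup.mem_centralizer_iff.1 he.2 (z : G) z.2)
      exact ⟨hPσ z.2.1, h0⟩
    rw [c.fpf_E hE he.1 he1] at hmem
    exact hz1' (Subgroup.mem_bot.1 hmem)
  have h49 := Cfsg.Agent.S1449.result p hp2 R E hRp hRr (hE.1.trans hMR)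
    (solvable_of_le_ne_top c.hG c.hM.1 hE.1) (odd_card_subgroup c.hG E) hfaith
  -- `[E, E]` is a `p`-group of order prime to `p`
  have hHall := Cfsg.Agent.Lib.H10.BG144.isPiHallOf_compl c.hG c.hM hE
  have hcomm1 : ⁅E, E⁆ = ⊥ := by
    rw [← Subgroup.card_eq_one]
    obtain ⟨n, hn⟩ := IsPGroup.iff_card.1 h49
    by_contra hne
    have hn0 : n ≠ 0 := by
      intro h0
      rw [h0, pow_zero] at hn
      exact hne hn
    have hpd : p ∣ Nat.card ↥⁅E, E⁆ := by rw [hn]; exact dvd_pow_self p hn0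
    have hle : ⁅E, E⁆ ≤ E := by
      rw [Subgroup.commutator_le]
      intro a ha b hb
      rw [commutatorElement_def]
      exact E.mul_mem (E.mul_mem (E.mul_mem ha hb) (E.inv_mem ha)) (E.inv_mem hb)
    exact hHall.2.1 p hp (hpd.trans (Subgroup.card_dvd_of_le hle)) c.p_mem_sigma
  intro a ha b hb
  have h1 : E ≤ Subgroup.centralizer (E : Set G) := le_centralizer_of_commutator_eq_bot hcomm1
  exact (Subgroup.mem_centralizer_iff.1 (h1 hb) a ha)

end Ctx

end Cfsg.Agent.Lib.H20.BGR
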