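import Mathlib
import Cfsg.Agent.Lib.H20.BGR8

/-!
# BG Corollary 15.9 (helper20), part R9: the statement
-/

set_option autoImplicit false
set_option linter.style.haveILetI false
set_option linter.unusedSectionVars false
set_option linter.unusedVariables false
set_option maxHeartbeats 800000

open Cfsg
open Cfsg.Agent.Lib.H16.BG
open Cfsg.Agent.Lib.H7.BG7
open Cfsg.Agent.Lib.H7.BG10
open Cfsg.Agent.Lib.H19 (IsPiCard)
open Cfsg.Agent.Lib.H10.BG144 (Cfg)

namespace Cfsg.Agent.Lib.H20.BGR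

universe u
variable {G : Type u} [Group G] [Finite G]

local notation:max "cj(" g ", " X ")" => Subgroup.map (MulEquiv.toMonoidHom (MulAut.conj g)) X

namespace Ctx

variable {M N K U Ns : Subgroup G} {x₁ : G} {p : ℕ}

/-- a complement of `M_σ` is cyclic. -/
theorem cyclic_E (c : Ctx M N K U Ns x₁ p) {E : Subgroup G} (hE : IsComplIn E (sigmaCore M) M) :
    IsCyclic ↥E := by
  have hU := Cfsg.Agent.Lib.H20.BGT.uniq3 c.hG
  have hHall := Cfsg.Agent.Lib.H10.BG144.isPiHallOf_compl c.hG c.hM hE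
  apply Cfsg.Agent.Lib.H20.BGP.isCyclic_of_comm_of_sylow_cyclic E (c.comm_E hE)
  intro r hrF T hT
  by_cases hT1 : T = ⊥
  · subst hT1
    exact isCyclic_of_subsingleton
  have hr : r.Prime := hrF.out
  have hrE : r ∣ Nat.card E := by
    obtain ⟨n, hn⟩ := IsPGroup.iff_card.1 hT.isPGroup
    have hn0 : n ≠ 0 := by
      intro h0
      rw [h0, pow_zero] at hn
      exact hT1 (Subgroup.card_eq_one.1 hn)
    have h1 : r ∣ Nat.card T := by rw [hn]; exact dvd_pow_self r hn0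
    exact h1.trans (Subgroup.card_dvd_of_le hT.le)
  have hrσ : r ∉ sigma M := hHall.2.1 r hr hrE
  have hr2 : PRankLE r 2 ↥M := by
    by_contra h
    exact hrσ (alpha_subset_sigma c.hG hU c.hM ⟨hr, h⟩)
  have hr1 : PRankLE r 1 ↥M := by
    by_contra h
    have h2 : r ∈ tau2 M := ⟨hr, hrσ, hr2, h⟩
    rw [c.tau2_M] at h2
    exact h2
  exact Cfsg.Agent.Lib.H7.BG14.isCyclic_of_pRankLE_one c.hG (hT.le.trans hE.1) hT.isPGroup hr1

/-- **BG Corollary 15.9**. -/
theorem main (c : Ctx M N K U Ns x₁ p) :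
    kappa M = ∅ ∧ (∃ E : Subgroup ↥M, IsFrobeniusComplement E ∧ IsCyclic E) ∧
      ¬ IsTISubset (fittingHallOf M : Set G) := by
  obtain ⟨E, hE, hKE⟩ := c.exists_compl
  refine ⟨c.kappa_M, ⟨E.subgroupOf M, ?_, ?_⟩, c.not_TI⟩
  · exact isFrobeniusComplement_subgroupOf hE (Cfsg.Agent.Lib.H20.BGS.le_normalizer_sigmaCore M)
      (_root_.ne_bot_of_le_ne_bot c.hK1 hKE) (Cfsg.Agent.Lib.H8.BG12.sigmaCore_ne_bot' c.hG c.hM)
      (fun e he he1 => c.fpf_E hE he he1)
  · haveI := c.cyclic_E hE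
    exact isCyclic_of_surjective (Subgroup.subgroupOfEquivOfLe hE.1).symm
      (Subgroup.subgroupOfEquivOfLe hE.1).symm.surjective

end Ctx

end Cfsg.Agent.Lib.H20.BGR
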