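import Mathlib
import Cfsg.Agent.Lib.H20.BGR9
import Cfsg.Agent.Lib.H21.BGP2b
import Cfsg.Agent.Lib.H19.BG13a
import Cfsg.Agent.Lib.H16.BGCentA
import Cfsg.Agent.Lib.H20.BGT2
import Cfsg.Agent.Lib.H7.BG14v
import Cfsg.Agent.S1408
import Cfsg.Agent.S1423
import Cfsg.Agent.S1430
import Cfsg.Agent.S1432

/-!
# BG Theorem 15.8/15.9 (helper20), part R10: general lemmas for `S1436(a)`
-/

set_option autoImplicit false
set_option linter.style.haveILetI false
set_option linter.unusedSectionVars false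
set_option linter.unusedVariables false
set_option maxHeartbeats 800000

open Cfsg
open Cfsg.Agent.Lib.H16.BG
open Cfsg.Agent.Lib.H7.BG7
open Cfsg.Agent.Lib.H7.BG10
open Cfsg.Agent.Lib.H19 (IsPiCard)
open Cfsg.Agent.Lib.H10.BG144 (Cfg)

namespace Cfsg.Agent.Lib.H20.BGR

universe u
variable {G : Type u} [Group G] [Finite G]

local notation:max "cj(" g ", " X ")" => Subgroup.map (MulEquiv.toMonoidHom (MulAut.conj g)) X

/-- a non-identity element of a subgroup of prime order has that order. -/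
theorem orderOf_of_mem_of_card_prime {Y : Subgroup G} {r : ℕ} (hr : r.Prime)
    (hYc : Nat.card Y = r) {y : G} (hy : y ∈ Y) (hy1 : y ≠ 1) : orderOf y = r := by
  have h1 : orderOf y ∣ r := by
    rw [← hYc]
    exact Subgroup.orderOf_dvd_natCard Y hy
  rcases (Nat.dvd_prime hr).1 h1 with h | h
  · exact absurd (orderOf_eq_one_iff.1 h) hy1
  · exact h

/-- a subgroup of prime order is generated by each of its non-identity elements. -/
theorem zpowers_eq_of_card_prime {Y : Subgroup G} {r : ℕ} (hr : r.Prime)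
    (hYc : Nat.card Y = r) {y : G} (hy : y ∈ Y) (hy1 : y ≠ 1) : Subgroup.zpowers y = Y := by
  apply Subgroup.eq_of_le_of_card_ge (Subgroup.zpowers_le.2 hy)
  rw [Nat.card_zpowers, orderOf_of_mem_of_card_prime hr hYc hy hy1, hYc]

theorem centralizer_singleton_eq_of_card_prime {Y : Subgroup G} {r : ℕ} (hr : r.Prime)
    (hYc : Nat.card Y = r) {y : G} (hy : y ∈ Y) (hy1 : y ≠ 1) :
    Subgroup.centralizer ({y} : Set G) = Subgroup.centralizer (Y : Set G) := by
  rw [← centralizer_zpowers_eq, zpowers_eq_of_card_prime hr hYc hy hy1]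

/-- **the Frobenius lemma for a subgroup of prime order**: `Y ≤ M` of prime order `r ∉ σ(M)` acting
without fixed points on `M_σ` and on the `Y`-invariant `σ(M)'`-subgroup `R ≠ 1` of `M` of order prime
to `r`: then `R` centralizes `M_σ`. -/
theorem core_le_centralizer_of_prime (hG : IsMinSimpleOddOrder G) {M : Subgroup G}
    (hM : IsCoatom M) {Y R : Subgroup G} {r : ℕ} (hr : r.Prime) (hYc : Nat.card Y = r)
    (hYM : Y ≤ M) (hrσ : r ∉ sigma M) (hRM : R ≤ M)
    (hR1 : R ≠ ⊥) (hYR : Y ≤ Subgroup.normalizer (R : Set G))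
    (hcop : (Nat.card Y).Coprime (Nat.card R))
    (hσ : ∀ q : ℕ, q.Prime → q ∣ Nat.card R → q ∉ sigma M)
    (hfix : R ⊓ Subgroup.centralizer (Y : Set G) = ⊥)
    (hfpf : sigmaCore M ⊓ Subgroup.centralizer (Y : Set G) = ⊥) :
    sigmaCore M ≤ Subgroup.centralizer (R : Set G) := by
  have hsupM : R ⊔ Y ≤ M := sup_le hRM hYM
  have hY1 : Y ≠ ⊥ := by
    intro h
    rw [h, Subgroup.card_bot] at hYc
    exact hr.one_lt.ne hYc
  have hcard : Nat.card (R ⊔ Y : Subgroup G) ∣ Nat.card Y * Nat.card R := by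
    rw [sup_comm]
    exact Cfsg.Agent.Lib.H19.card_sup_dvd_mul_of_le_normalizer hYR
  have hcop2 : (Nat.card (sigmaCore M)).Coprime (Nat.card (R ⊔ Y : Subgroup G)) := by
    apply Nat.coprime_of_dvd
    intro q hq h1 h2
    have hqσ : q ∈ sigma M := Cfsg.Agent.Lib.H20.BGS.sigmaCore_isPiCard M q hq h1
    rcases hq.dvd_mul.1 (h2.trans hcard) with h | h
    · rw [hYc] at h
      rw [(Nat.prime_dvd_prime_iff_eq hq hr).1 h] at hqσ
      exact hrσ hqσ
    · exact hσ q hq h hqσ
  have hF : Cfsg.Agent.Lib.H8.FrobAct R Y (sigmaCore M) :=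
    { hU1 := hR1
      hE1 := hY1
      hUE := (Subgroup.disjoint_of_coprime_natCard hcop.symm).eq_bot
      hUn := fun e he u hu => (Subgroup.mem_normalizer_iff.1 (hYR he) u).1 hu
      hfpf := by
        intro e he he1 u hu hc
        have h1 : u ∈ Subgroup.centralizer ({e} : Set G) :=
          Subgroup.mem_centralizer_singleton_iff.2 hc.symm
        rw [centralizer_singleton_eq_of_card_prime hr hYc he he1] at h1
        have : u ∈ R ⊓ Subgroup.centralizer (Y : Set G) := ⟨hu, h1⟩
        rw [hfix] at this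
        exact Subgroup.mem_bot.1 this
      hHn := fun x hx h hh =>
        (Subgroup.mem_normalizer_iff.1
          (Cfsg.Agent.Lib.H20.BGS.le_normalizer_sigmaCore M (hsupM hx)) h).1 hh
      hdisj := (Subgroup.disjoint_of_coprime_natCard hcop2).eq_bot
      hsolv := solvable_of_le_ne_top hG hM.1 (Cfsg.Agent.Lib.H20.BGS.sigmaCore_le M)
      hcop := hcop2 }
  apply le_centralizer_of_frobAct hF
  rw [hfpf]
  exact bot_le

end Cfsg.Agent.Lib.H20.BGR
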