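import Mathlib
import Cfsg.Agent.Lib.H20.BGR10
import Cfsg.Agent.Lib.H16.BGCovD
import Cfsg.Agent.Lib.H10.BG152j

/-!
# BG Theorem 15.8/15.9 (helper20), part R11: `κ(M) = ∅` when `κ(N) = ∅`
-/

set_option autoImplicit false
set_option linter.style.haveILetI false
set_option linter.unusedSectionVars false
set_option linter.unusedVariables false
set_option maxHeartbeats 800000

open Cfsg
open Cfsg.Agent.Lib.H16.BG
open Cfsg.Agent.Lib.H7.BG7
open Cfsg.Agent.Lib.H7.BG10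
open Cfsg.Agent.Lib.H19 (IsPiCard)
open Cfsg.Agent.Lib.H10.BG144 (Cfg)

namespace Cfsg.Agent.Lib.H20.BGR

universe u
variable {G : Type u} [Group G] [Finite G]

local notation:max "cj(" g ", " X ")" => Subgroup.map (MulEquiv.toMonoidHom (MulAut.conj g)) X

/-- a prime of `σ(N)` is not in `σ(M)`. -/
theorem Cfg_not_sigma (hG : IsMinSimpleOddOrder G) {M N : Subgroup G} {x₁ : G} {p : ℕ}
    (h : Cfg M N x₁ p) {r : ℕ} (hrσ : r ∈ sigma N) : r ∉ sigma M := by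
  intro hh
  obtain ⟨g, hg⟩ := Cfsg.Agent.Lib.H7.BG14v.sigma_partition' hG h.hM h.hN hh hrσ
  exact h.nconj g hg

/-- **`κ(M) = ∅`** when `κ(N) = ∅` and a prime of `σ(N)` divides `|M|`. -/
theorem kappa_M_of_kappa_N_empty (hG : IsMinSimpleOddOrder G) {M N : Subgroup G} {x₁ : G} {p : ℕ}
    (h : Cfg M N x₁ p) (hC : ¬ Subgroup.centralizer ({x₁} : Set G) ≤ M) (hκN : kappa N = ∅)
    {r : ℕ} (hrσ : r ∈ sigma N) (hrM : r ∣ Nat.card M) : kappa M = ∅ := by
  by_contra hne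
  have hne' : (kappa M).Nonempty := Set.nonempty_iff_ne_empty.2 hne
  have hM := h.hM
  have hN := h.hN
  haveI : Fact p.Prime := ⟨h.tau2.1⟩
  have hr : r.Prime := hrσ.1
  haveI : Fact r.Prime := ⟨hr⟩
  have hrσM : r ∉ sigma M := Cfg_not_sigma hG h hrσ
  obtain ⟨K, U, hKU⟩ := Cfsg.Agent.Lib.H10.BG152.exists_isSigmaDecomposition hG hM
  have hK1 : K ≠ ⊥ := by
    intro hb
    obtain ⟨q, hq⟩ := hne'
    have h1 := hKU.hall.2.2 q hq.1 hq
    rw [hb, Subgroup.relIndex_bot_left] at h1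
    exact h1 hq.2.1
  by_cases hU1 : U = ⊥
  swap
  · exact hC (Cfsg.Agent.Lib.H21.BGP2.centralizer_le_of_P2 hG hM hKU hK1 hU1 h.hx₁ h.ord)
  -- `M = K M_σ`
  have hc := Cfsg.Agent.Lib.H20.BGZ.isComplIn_sup hG hM hKU
  rw [hU1, sup_bot_eq] at hc
  have hH := Cfsg.Agent.Lib.H10.BG144.isPiHallOf_compl hG hM hc
  have hrK : r ∣ Nat.card K := by
    have h1 : ¬ r ∣ K.relIndex M := hH.2.2 r hr hrσM
    rw [← Cfsg.Agent.Lib.H19.card_mul_relIndex hH.1] at hrM
    exact (hr.dvd_mul.1 hrM).resolve_right h1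
  -- an element `y` of order `r` of `K`
  obtain ⟨⟨y, hyK⟩, hyo⟩ := exists_prime_orderOf_dvd_card' (G := ↥K) r hrK
  rw [Subgroup.orderOf_mk] at hyo
  have hYK : Subgroup.zpowers y ≤ K := Subgroup.zpowers_le.2 hyK
  have hYc : Nat.card (Subgroup.zpowers y) = r := by rw [Nat.card_zpowers, hyo]
  have hYc' : (Nat.card (Subgroup.zpowers y)).Prime := by rw [hYc]; exact hr
  have hYp : IsPGroup r (Subgroup.zpowers y) := IsPGroup.of_card (n := 1) (by rw [hYc, pow_one])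
  have hY1 : Subgroup.zpowers y ≠ ⊥ := by
    intro hb
    rw [hb, Subgroup.card_bot] at hYc
    exact hr.one_lt.ne hYc
  -- the partner `M*`
  obtain ⟨Ms, ⟨hMs, hKst, hKstH⟩, -⟩ := Cfsg.Agent.S1366.result hG M hM K U hKU hK1
  have h67 := (Cfsg.Agent.S1367.result hG M hM K U hKU hK1 Ms hMs hKst hKstH).2 _ hYK hYc'
  obtain ⟨L, hL, hNL⟩ := exists_coatom_ge (normalizer_ne_top_of_isPGroup hG hYp hY1)
  have hCN : Subgroup.centralizer ((Subgroup.zpowers y : Subgroup G) : Set G) ≤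
      Subgroup.normalizer ((Subgroup.zpowers y : Subgroup G) : Set G) :=
    Subgroup.centralizer_le_normalizer _
  have hLMs : L = Ms := h67.2 L hL (hCN.trans hNL)
  subst hLMs
  have hYσ : Subgroup.zpowers y ≤ sigmaCore L :=
    ((Cfsg.Agent.S1430.result hG M hM K hKU.hall hK1).2.2 _ hYK hYc').2.2 L hL hNL
  have hrσL : r ∈ sigma L := by
    apply Cfsg.Agent.Lib.H20.BGS.sigmaCore_isPiCard L r hr
    rw [← hYc]
    exact Subgroup.card_dvd_of_le hYσ
  obtain ⟨g, hg⟩ := Cfsg.Agent.Lib.H7.BG14v.sigma_partition' hG hN hL hrσ hrσL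
  have hκL : kappa L = ∅ := by
    rw [hg, Cfsg.Agent.Lib.H16.BGCov.kappa_cj hG hN g, hκN]
  -- but `K* ≠ 1` is a Hall `κ(M*)`-subgroup
  have hst := (Cfsg.Agent.S1354.result hG M hM K hKU.cyclic hKU.hall).1
  have hc1 : Nat.card ↥(sigmaCore M ⊓ Subgroup.centralizer (K : Set G)) ≠ 1 := by
    intro h1
    exact hst (Subgroup.card_eq_one.1 h1)
  obtain ⟨q, hq, hqd⟩ := Nat.exists_prime_and_dvd hc1
  have := hKstH.2.1 q hq hqd
  rw [hκL] at this
  exact this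

end Cfsg.Agent.Lib.H20.BGR
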