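import Mathlib
import Cfsg.Agent.Lib.H20.BGR11

/-!
# BG Theorem 15.8/15.9 (helper20), part R12: `τ₂(M) = ∅` when `κ(N) = ∅`
-/

set_option autoImplicit false
set_option linter.style.haveILetI false
set_option linter.unusedSectionVars false
set_option linter.unusedVariables false
set_option maxHeartbeats 800000

open Cfsg
open Cfsg.Agent.Lib.H16.BG
open Cfsg.Agent.Lib.H7.BG7
open Cfsg.Agent.Lib.H7.BG10
open Cfsg.Agent.Lib.H19 (IsPiCard)
open Cfsg.Agent.Lib.H10.BG144 (Cfg)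

namespace Cfsg.Agent.Lib.H20.BGR

universe u
variable {G : Type u} [Group G] [Finite G]

local notation:max "cj(" g ", " X ")" => Subgroup.map (MulEquiv.toMonoidHom (MulAut.conj g)) X

/-- **`τ₂(M) = ∅`** when `κ(N) = ∅ = κ(M)` and a prime of `σ(N)` divides `|M|`. -/
theorem tau2_M_of_kappa_N_empty (hG : IsMinSimpleOddOrder G) {M N : Subgroup G} {x₁ : G} {p : ℕ}
    (h : Cfg M N x₁ p) (hκN : kappa N = ∅) (hκM : kappa M = ∅)
    {r : ℕ} (hrσ : r ∈ sigma N) (hrM : r ∣ Nat.card M) : tau2 M = ∅ := by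
  by_contra hne
  obtain ⟨s, hs2⟩ := Set.nonempty_iff_ne_empty.2 hne
  have hM := h.hM
  have hN := h.hN
  have hr : r.Prime := hrσ.1
  haveI : Fact r.Prime := ⟨hr⟩
  have hs : s.Prime := hs2.1
  haveI : Fact s.Prime := ⟨hs⟩
  have hrσM : r ∉ sigma M := Cfg_not_sigma hG h hrσ
  have hrβ : r ∈ beta N := Cfg.mem_beta_of_dvd hG h hr hrM hrσ
  -- `r ∉ τ₂(M)`
  have hr2 : r ∉ tau2 M := by
    intro hh
    exact (Cfsg.Agent.S1408.result hG M hM r hrσM hh.2.2.1 hh.2.2.2).1 hrβ.2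
  have hsr : s ≠ r := by
    rintro rfl
    exact hr2 hs2
  -- `y` of order `r`
  obtain ⟨⟨y, hyM⟩, hyo⟩ := exists_prime_orderOf_dvd_card' (G := ↥M) r hrM
  rw [Subgroup.orderOf_mk] at hyo
  have hYM : Subgroup.zpowers y ≤ M := Subgroup.zpowers_le.2 hyM
  have hYc : Nat.card (Subgroup.zpowers y) = r := by rw [Nat.card_zpowers, hyo]
  have hYp : IsPGroup r (Subgroup.zpowers y) := IsPGroup.of_card (n := 1) (by rw [hYc, pow_one])
  have hy1 : y ≠ 1 := by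
    intro hh
    rw [hh, orderOf_one] at hyo
    exact hr.one_lt.ne hyo
  have hqr : ∀ q : ℕ, q.Prime → q ∣ r → q ∉ sigma M := by
    intro q hq hd
    rw [(Nat.prime_dvd_prime_iff_eq hq hr).1 hd]
    exact hrσM
  -- the complement `E ⊇ Y`
  obtain ⟨E, hE, hYE⟩ := Cfsg.Agent.Lib.H19.BG13.exists_compl_ge hG hM hYM (by
    intro q hq hd
    rw [hYc] at hd
    exact hqr q hq hd)
  obtain ⟨B, hBE, hBe, hBc⟩ := Cfsg.Agent.Lib.H16.BGCent.exists_elemAb_sq_le_compl hG hM hE hs2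
  have hBM : B ≤ M := hBE.trans hE.1
  have h18 := Cfsg.Agent.S1418.result hG M hM E hE s hs2 B ⟨hBE, hBe, hBc⟩
  have h17 := Cfsg.Agent.S1417.result hG M hM s hs2 B ⟨hBM, hBe, hBc⟩
  have hEB : E ≤ Subgroup.normalizer (B : Set G) := h18.1.1
  have hσB : sigmaCore M ⊓ Subgroup.centralizer (B : Set G) = ⊥ := h17.2.2.2.1
  -- `Y` acts without fixed points on `M_σ`
  have hfpf : sigmaCore M ⊓ Subgroup.centralizer ((Subgroup.zpowers y : Subgroup G) : Set G) = ⊥ := by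
    by_contra hb
    obtain ⟨⟨u, hu⟩, hu1'⟩ := Subgroup.ne_bot_iff_exists_ne_one.1 hb
    have hu1 : u ≠ 1 := fun h0 => hu1' (Subtype.ext h0)
    have hyu : y ∈ M ⊓ Subgroup.centralizer ({u} : Set G) := by
      have h0 : y ∈ Subgroup.centralizer ({u} : Set G) := by
        rw [Subgroup.mem_centralizer_singleton_iff]
        exact (Subgroup.mem_centralizer_iff.1 hu.2 y (Subgroup.mem_zpowers y))
      exact ⟨hyM, h0⟩
    rcases Cfsg.Agent.S1432.result hG M hM u hu.1 hu1 y hyu hy1 (by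
      intro q hq hd
      rw [hyo] at hd
      exact hqr q hq hd) with h1 | h1
    · have := h1.1 r hr (by rw [hyo])
      rw [hκM] at this
      exact this
    · exact hr2 (h1.1 r hr (by rw [hyo]))
  have hB1 : B ≠ ⊥ := by
    intro hb
    rw [hb, Subgroup.card_bot] at hBc
    have : 1 < s ^ 2 := Nat.one_lt_pow (by norm_num) hs.one_lt
    omega
  -- `C_B(Y) ≠ 1`
  have hBY : B ⊓ Subgroup.centralizer ((Subgroup.zpowers y : Subgroup G) : Set G) ≠ ⊥ := by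
    intro hfix
    have hcop : (Nat.card (Subgroup.zpowers y)).Coprime (Nat.card B) := by
      rw [hYc, hBc]
      exact Nat.Coprime.pow_right 2 ((Nat.coprime_primes hr hs).2 (Ne.symm hsr))
    have hσq : ∀ q : ℕ, q.Prime → q ∣ Nat.card B → q ∉ sigma M := by
      intro q hq hd
      rw [hBc] at hd
      rw [(Nat.prime_dvd_prime_iff_eq hq hs).1 (hq.dvd_of_dvd_pow hd)]
      exact hs2.2.1
    have hle := core_le_centralizer_of_prime hG hM hr hYc hYM hrσM hBM hB1 (hYE.trans hEB) hcop hσq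
      hfix hfpf
    have : sigmaCore M = ⊥ := by
      rw [← hσB]
      exact (inf_eq_left.2 hle).symm
    exact Cfsg.Agent.Lib.H8.BG12.sigmaCore_ne_bot' hG hM this
  obtain ⟨⟨b₁, hb₁⟩, hb1'⟩ := Subgroup.ne_bot_iff_exists_ne_one.1 hBY
  have hb₁1 : b₁ ≠ 1 := fun h0 => hb1' (Subtype.ext h0)
  -- the conjugate `N₁` of `N` over `C(Y)`
  obtain ⟨T, hT⟩ := SylIn.exists_sylIn r N
  obtain ⟨hNT, hTG⟩ := Cfsg.Agent.Lib.H20.BGT.normalizer_le_of_sylIn_sigma hrσ hT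
  obtain ⟨m, -, hmY⟩ := hTG.exists_conj_le hYp le_top
  have hY'N : cj(m, Subgroup.zpowers y) ≤ N := hmY.trans hT.le
  have hcard' : Nat.card ↥cj(m, Subgroup.zpowers y) = r := by rw [card_cj, hYc]
  obtain ⟨P⟩ : Nonempty (Sylow r ↥(sigmaCore N)) := inferInstance
  have h23 := (Cfsg.Agent.S1423.result hG N hN r hrσ cj(m, Subgroup.zpowers y) hY'N hcard' P
    (Or.inl hrβ)).1.1
  have hN₁ : IsCoatom cj(m⁻¹, N) := isCoatom_map_conj hN m⁻¹
  have hCY : Subgroup.centralizer ((Subgroup.zpowers y : Subgroup G) : Set G) ≤ cj(m⁻¹, N) := by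
    intro z hz
    rw [mem_cj_iff]
    apply h23
    rw [Subgroup.mem_centralizer_iff]
    rintro _ ⟨w, hw, rfl⟩
    have hzw : w * z = z * w := Subgroup.mem_centralizer_iff.1 hz w hw
    simp only [MulEquiv.coe_toMonoidHom, MulAut.conj_apply, inv_inv]
    calc m * w * m⁻¹ * (m * z * m⁻¹) = m * (w * z) * m⁻¹ := by group
      _ = m * (z * w) * m⁻¹ := by rw [hzw]
      _ = m * z * m⁻¹ * (m * w * m⁻¹) := by group
  have hyN₁ : y ∈ cj(m⁻¹, N) := by
    apply hCY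
    rw [centralizer_zpowers_eq, Subgroup.mem_centralizer_singleton_iff]
  have hYN₁ : Subgroup.zpowers y ≤ cj(m⁻¹, N) := Subgroup.zpowers_le.2 hyN₁
  have hσN₁ : sigma cj(m⁻¹, N) = sigma N := sigma_cj m⁻¹ N
  have hκN₁ : kappa cj(m⁻¹, N) = ∅ := by
    rw [Cfsg.Agent.Lib.H16.BGCov.kappa_cj hG hN m⁻¹, hκN]
  have hrσN₁ : r ∈ sigma cj(m⁻¹, N) := by rw [hσN₁]; exact hrσ
  have hne₁ : M ≠ cj(m⁻¹, N) := by
    intro he
    apply h.nconj m
    rw [he, cj_cj_inv]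
  have hyσ : y ∈ sigmaCore cj(m⁻¹, N) :=
    isPGroup_le_sigmaCore hG hN₁ hrσN₁ hYN₁ hYp (Subgroup.mem_zpowers y)
  have hb₁N₁ : b₁ ∈ cj(m⁻¹, N) ⊓ Subgroup.centralizer ({y} : Set G) := by
    have h0 : b₁ ∈ Subgroup.centralizer ({y} : Set G) := by
      rw [← centralizer_zpowers_eq]
      exact hb₁.2
    exact ⟨hCY hb₁.2, h0⟩
  -- the order of `b₁` is `s`
  have hb₁o : orderOf b₁ = s := by
    have h1 : orderOf b₁ ∣ s := orderOf_dvd_of_pow_eq_one (hBe.2 b₁ hb₁.1)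
    rcases (Nat.dvd_prime hs).1 h1 with h0 | h0
    · exact absurd (orderOf_eq_one_iff.1 h0) hb₁1
    · exact h0
  have hsM : s ∣ Nat.card M := by
    have : Nat.card B ∣ Nat.card M := Subgroup.card_dvd_of_le hBM
    rw [hBc] at this
    exact (dvd_pow_self s (by norm_num)).trans this
  by_cases hsσ : s ∈ sigma N
  · have hsβ := Cfg.mem_beta_of_dvd hG h hs hsM hsσ
    exact (Cfsg.Agent.S1408.result hG M hM s hs2.2.1 hs2.2.2.1 hs2.2.2.2).1 hsβ.2
  · have hsσ₁ : ∀ q : ℕ, q.Prime → q ∣ orderOf b₁ → q ∉ sigma cj(m⁻¹, N) := by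
      intro q hq hd
      rw [hb₁o] at hd
      rw [(Nat.prime_dvd_prime_iff_eq hq hs).1 hd, hσN₁]
      exact hsσ
    rcases Cfsg.Agent.S1432.result hG _ hN₁ y hyσ hy1 b₁ hb₁N₁ hb₁1 hsσ₁ with h1 | h1
    · have := h1.1 s hs (by rw [hb₁o])
      rw [hκN₁] at this
      exact this
    · have hs2' : s ∈ tau2 cj(m⁻¹, N) := h1.1 s hs (by rw [hb₁o])
      have hCb : Subgroup.centralizer ({b₁} : Set G) ≤ cj(m⁻¹, N) := h1.2.2.1
      have hBN₁ : B ≤ cj(m⁻¹, N) := by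
        intro b hb
        apply hCb
        rw [Subgroup.mem_centralizer_singleton_iff]
        exact Cfsg.Agent.Lib.H8.BG12.comm_of_mem hBe.1 hb hb₁.1
      have h17' := (Cfsg.Agent.S1417.result hG _ hN₁ s hs2' B ⟨hBN₁, hBe, hBc⟩).2.2.2.2.1 M hM
        hne₁ hBM
      have : y ∈ sigmaCore cj(m⁻¹, N) ⊓ M := ⟨hyσ, hyM⟩
      rw [h17'] at this
      exact hy1 (Subgroup.mem_bot.1 this)

end Cfsg.Agent.Lib.H20.BGR
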