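import Mathlib
import Cfsg.Agent.Lib.H20.BGX1
import Cfsg.Agent.Lib.H16.BG11c
import Cfsg.Agent.Lib.H16.BG11j
import Cfsg.Agent.S1408

/-! # BG §12 helper (helper20, for helper16): the `O_p` step of Theorem 12.5

If `p ∈ τ₂(M)`, `A ≤ M` elementary abelian of order `p²` and `O_p(M) ≠ 1`, then some line `X ≤ A`
has `N_G(X) ≤ M`. -/

set_option autoImplicit false
set_option linter.unusedSectionVars false
set_option linter.unusedVariables false
set_option linter.style.haveILetI false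

namespace Cfsg.Agent.Lib.H20.BGX

open Cfsg Cfsg.Agent.Lib.H16.BG Cfsg.Agent.Lib.H7.BG7

universe u
variable {G : Type u} [Group G] [Finite G]

/-- **BG 12.5, `O_p` step**: `p ∈ τ₂(M)`, `O_p(M) ≠ 1` gives a line of `A` whose normalizer lies
in `M`. -/
theorem exists_line_of_piCoreOf_ne_bot (hG : IsMinSimpleOddOrder G) {M : Subgroup G}
    (hM : IsCoatom M) {p : ℕ} [hp : Fact p.Prime] (hp2 : p ∈ tau2 M) {A : Subgroup G}
    (hAM : A ≤ M) (hAe : IsElementaryAbelian p A) (hAc : Nat.card A = p ^ 2)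
    (hO : piCoreOf ({p} : Set ℕ) M ≠ ⊥) :
    ∃ X : Subgroup G, X ≤ A ∧ Nat.card X = p ∧ Subgroup.normalizer (X : Set G) ≤ M := by
  obtain ⟨-, B₀, Ar, hB0U, hMB0, hExc⟩ := exc_of_piCoreOf_ne_bot hG hM hp2.2.1 hO
  have hB0c : Nat.card B₀ = p := hExc.card₀
  have hB0M : B₀ ≤ M := hB0U.trans (piCoreOf_le _ _)
  have hB01 : B₀ ≠ ⊥ := by
    intro h
    rw [h, Subgroup.card_bot] at hB0c
    exact hp.out.one_lt.ne hB0c
  have hAp : IsPGroup p ↥A := by
    intro a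
    refine ⟨1, ?_⟩
    rw [pow_one]
    exact Subtype.ext (hAe.2 a.1 a.2)
  have hAB : A ≤ Subgroup.centralizer (B₀ : Set G) :=
    le_centralizer_of_isPGroup_of_card_prime hAp hB0c (hAM.trans hMB0)
  have hB0e : IsElementaryAbelian p B₀ := by
    haveI : IsCyclic ↥B₀ := isCyclic_of_prime_card hB0c
    refine ⟨⟨⟨fun a b => ?_⟩⟩, ?_⟩
    · exact IsCyclic.commGroup.mul_comm a b
    · intro x hx
      have h := orderOf_dvd_natCard (⟨x, hx⟩ : ↥B₀)
      rw [hB0c] at h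
      have h2 := orderOf_dvd_iff_pow_eq_one.1 h
      exact congrArg Subtype.val h2
  have hsup : IsElementaryAbelian p (A ⊔ B₀ : Subgroup G) :=
    Cfsg.Agent.Lib.H16.BG.isElementaryAbelian_sup hAe hB0e hAB
  have hmax := (Cfsg.Agent.S1408.result hG M hM p hp2.2.1 hp2.2.2.1 hp2.2.2.2).2 A hAM hAe hAc
    (A ⊔ B₀) hsup le_sup_left
  have hB0A : B₀ ≤ A := by
    rw [← hmax]
    exact le_sup_right
  refine ⟨B₀, hB0A, hB0c, ?_⟩
  rw [normalizer_eq_of_le hG hM hB01 hB0M hMB0]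

end Cfsg.Agent.Lib.H20.BGX
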