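import Mathlib

set_option autoImplicit false

/-!
# Difference-invariant sets (Schur ring style arguments without Schur rings)

`A` is an additive commutative group and `𝒢` a group of permutations of `A` containing all
translations.  A set `W ⊆ A` is *difference invariant* if `σ (x + w) - σ x ∈ W` for all `σ ∈ 𝒢`,
`x : A`, `w ∈ W`.  These are exactly the unions of orbits of the stabilizer of `0`
(the "basic sets" of the transitivity module of Schur).
-/

namespace Cfsg.Agent.Lib.H20.BS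

open MulAction

variable {A : Type*} [AddCommGroup A] (𝒢 : Subgroup (Equiv.Perm A))

/-- `𝒢` contains all translations. -/
def Trans : Prop := ∀ a : A, Equiv.addRight a ∈ 𝒢

/-- Difference-invariant sets. -/
def DISet (W : Set A) : Prop := ∀ σ ∈ 𝒢, ∀ x w : A, w ∈ W → σ (x + w) - σ x ∈ W

/-- Difference-invariant functions. -/
def DIFun {R : Type*} (f : A → R) : Prop := ∀ σ ∈ 𝒢, ∀ x h : A, f (σ (x + h) - σ x) = f h

variable {𝒢}

theorem perm_inv_apply_self {α : Type*} (σ : Equiv.Perm α) (x : α) : σ⁻¹ (σ x) = x :=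
  σ.symm_apply_apply x

theorem perm_apply_inv_self {α : Type*} (σ : Equiv.Perm α) (x : α) : σ (σ⁻¹ x) = x :=
  σ.apply_symm_apply x

theorem DISet.mem_iff {W : Set A} (hW : DISet 𝒢 W) {σ : Equiv.Perm A} (hσ : σ ∈ 𝒢) (x w : A) :
    σ (x + w) - σ x ∈ W ↔ w ∈ W := by
  refine ⟨fun h => ?_, hW σ hσ x w⟩
  have h1 := hW σ⁻¹ (𝒢.inv_mem hσ) (σ x) _ h
  have h2 : σ x + (σ (x + w) - σ x) = σ (x + w) := by abel
  rw [h2, perm_inv_apply_self, perm_inv_apply_self] at h1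
  have h3 : x + w - x = w := by abel
  rwa [h3] at h1

theorem DISet.compl {W : Set A} (hW : DISet 𝒢 W) : DISet 𝒢 Wᶜ := by
  intro σ hσ x w hw h
  exact hw ((hW.mem_iff hσ x w).mp h)

theorem DISet.union {W V : Set A} (hW : DISet 𝒢 W) (hV : DISet 𝒢 V) : DISet 𝒢 (W ∪ V) := by
  intro σ hσ x w hw
  rcases hw with hw | hw
  · exact Or.inl (hW σ hσ x w hw)
  · exact Or.inr (hV σ hσ x w hw)

theorem DISet.inter {W V : Set A} (hW : DISet 𝒢 W) (hV : DISet 𝒢 V) : DISet 𝒢 (W ∩ V) := by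
  intro σ hσ x w hw
  exact ⟨hW σ hσ x w hw.1, hV σ hσ x w hw.2⟩

theorem DISet.neg {W : Set A} (hW : DISet 𝒢 W) : DISet 𝒢 (-W) := by
  intro σ hσ x w hw
  rw [Set.mem_neg] at hw ⊢
  have h1 := hW σ hσ (x + w) (-w) hw
  have h2 : x + w + -w = x := by abel
  rw [h2] at h1
  have h3 : -(σ (x + w) - σ x) = σ x - σ (x + w) := by abel
  rw [h3]; exact h1

theorem DIFun.setOf {R : Type*} {f : A → R} (hf : DIFun 𝒢 f) (P : R → Prop) :
    DISet 𝒢 {h | P (f h)} := by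
  intro σ hσ x w hw
  rw [Set.mem_ofPred_eq] at hw ⊢
  rw [hf σ hσ x w]; exact hw

/-- Stabilizer-invariant sets are difference invariant. -/
theorem DISet.of_stab (hT : Trans 𝒢) {W : Set A}
    (h : ∀ σ ∈ 𝒢, σ 0 = 0 → ∀ w ∈ W, σ w ∈ W) : DISet 𝒢 W := by
  intro σ hσ x w hw
  set δ : Equiv.Perm A := Equiv.addRight (-(σ x)) * σ * Equiv.addRight x with hδ
  have hδG : δ ∈ 𝒢 := 𝒢.mul_mem (𝒢.mul_mem (hT _) hσ) (hT _)
  have hδa : ∀ k : A, δ k = σ (x + k) - σ x := by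
    intro k
    rw [hδ, Equiv.Perm.mul_apply, Equiv.Perm.mul_apply, Equiv.coe_addRight, Equiv.coe_addRight]
    change σ (k + x) + -(σ x) = σ (x + k) - σ x
    rw [add_comm k x, sub_eq_add_neg]
  have hδ0 : δ 0 = 0 := by rw [hδa, add_zero, sub_self]
  have := h δ hδG hδ0 w hw
  rwa [hδa] at this

theorem DISet.stab {W : Set A} (hW : DISet 𝒢 W) {σ : Equiv.Perm A} (hσ : σ ∈ 𝒢) (h0 : σ 0 = 0)
    {w : A} (hw : w ∈ W) : σ w ∈ W := by
  have := hW σ hσ 0 w hw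
  rwa [zero_add, h0, sub_zero] at this

/-- The orbit of `a` under the stabilizer of `0`. -/
def orb (𝒢 : Subgroup (Equiv.Perm A)) (a : A) : Set A := {b | ∃ σ ∈ 𝒢, σ 0 = 0 ∧ σ a = b}

theorem mem_orb_self (a : A) : a ∈ orb 𝒢 a := ⟨1, 𝒢.one_mem, rfl, rfl⟩

theorem orb_diSet (hT : Trans 𝒢) (a : A) : DISet 𝒢 (orb 𝒢 a) := by
  apply DISet.of_stab hT
  rintro σ hσ h0 _ ⟨τ, hτ, hτ0, rfl⟩
  refine ⟨σ * τ, 𝒢.mul_mem hσ hτ, ?_, rfl⟩
  rw [Equiv.Perm.mul_apply, hτ0, h0]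

theorem zero_notMem_orb {a : A} (ha : a ≠ 0) : (0 : A) ∉ orb 𝒢 a := by
  rintro ⟨σ, -, h0, h1⟩
  apply ha
  apply σ.injective
  rw [h0, h1]

theorem orb_eq_of_mem {a b : A} (h : b ∈ orb 𝒢 a) : orb 𝒢 b = orb 𝒢 a := by
  obtain ⟨σ, hσ, h0, rfl⟩ := h
  ext c
  constructor
  · rintro ⟨τ, hτ, hτ0, rfl⟩
    refine ⟨τ * σ, 𝒢.mul_mem hτ hσ, ?_, rfl⟩
    rw [Equiv.Perm.mul_apply, h0, hτ0]
  · rintro ⟨τ, hτ, hτ0, rfl⟩
    refine ⟨τ * σ⁻¹, 𝒢.mul_mem hτ (𝒢.inv_mem hσ), ?_, ?_⟩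
    · rw [Equiv.Perm.mul_apply]
      have : σ⁻¹ 0 = 0 := by
        rw [Equiv.Perm.inv_eq_iff_eq]; exact h0.symm
      rw [this, hτ0]
    · rw [Equiv.Perm.mul_apply, perm_inv_apply_self]

theorem orb_disjoint {a b : A} (h : b ∉ orb 𝒢 a) : Disjoint (orb 𝒢 a) (orb 𝒢 b) := by
  rw [Set.disjoint_left]
  intro c hca hcb
  apply h
  rw [← orb_eq_of_mem hca, orb_eq_of_mem hcb]
  exact mem_orb_self b

/-- The subgroup generated by a difference-invariant set is difference invariant. -/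
theorem DISet.closure {W : Set A} (hW : DISet 𝒢 W) :
    DISet 𝒢 (AddSubgroup.closure W : Set A) := by
  intro σ hσ x w hw
  rw [SetLike.mem_coe] at hw ⊢
  revert σ x
  induction hw using AddSubgroup.closure_induction with
  | mem w hw =>
    intro σ hσ x
    exact AddSubgroup.subset_closure (hW σ hσ x w hw)
  | zero =>
    intro σ hσ x
    rw [add_zero, sub_self]; exact AddSubgroup.zero_mem _
  | add a b _ _ iha ihb =>
    intro σ hσ x
    have h1 : σ (x + (a + b)) - σ x = (σ ((x + a) + b) - σ (x + a)) + (σ (x + a) - σ x) := by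
      rw [add_assoc]; abel
    rw [h1]
    exact AddSubgroup.add_mem _ (ihb σ hσ (x + a)) (iha σ hσ x)
  | neg a _ iha =>
    intro σ hσ x
    have h1 : σ (x + -a) - σ x = -(σ ((x + -a) + a) - σ (x + -a)) := by
      have : x + -a + a = x := by abel
      rw [this]; abel
    rw [h1]
    exact AddSubgroup.neg_mem _ (iha σ hσ (x + -a))

/-- A difference-invariant subgroup is a block. -/
theorem DISet.isBlock {U : AddSubgroup A} (hU : DISet 𝒢 (U : Set A)) :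
    IsBlock ↥𝒢 (U : Set A) := by
  rw [isBlock_iff_smul_eq_of_mem]
  have key : ∀ (σ : Equiv.Perm A), σ ∈ 𝒢 → ∀ a : A, a ∈ U → σ a ∈ U → ∀ u ∈ U, σ u ∈ U := by
    intro σ hσ a ha hσa u hu
    have h1 := hU σ hσ a (u - a) (U.sub_mem hu ha)
    have h2 : a + (u - a) = u := by abel
    rw [h2] at h1
    have h3 : σ u = (σ u - σ a) + σ a := by abel
    rw [h3]
    exact U.add_mem h1 hσa
  rintro ⟨σ, hσ⟩ a ha hσa
  have hσa' : σ a ∈ U := hσa
  apply Set.Subset.antisymm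
  · rintro _ ⟨u, hu, rfl⟩
    exact key σ hσ a ha hσa' u hu
  · intro u hu
    refine ⟨σ⁻¹ u, ?_, ?_⟩
    · have h4 : σ⁻¹ (σ a) ∈ U := by rw [perm_inv_apply_self]; exact ha
      exact key σ⁻¹ (𝒢.inv_mem hσ) (σ a) hσa' h4 u hu
    · change σ (σ⁻¹ u) = u
      rw [perm_apply_inv_self]

/-- In a primitive group, difference-invariant subgroups are trivial. -/
theorem DISet.eq_bot_or_eq_top [IsPreprimitive ↥𝒢 A] {U : AddSubgroup A}
    (hU : DISet 𝒢 (U : Set A)) : U = ⊥ ∨ U = ⊤ := by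
  rcases IsPreprimitive.isTrivialBlock_of_isBlock hU.isBlock with h | h
  · left
    rw [eq_bot_iff]
    intro u hu
    rw [AddSubgroup.mem_bot]
    exact h hu U.zero_mem
  · right
    rw [eq_top_iff]
    intro u _
    have : u ∈ (U : Set A) := by rw [h]; exact Set.mem_univ u
    exact this

end Cfsg.Agent.Lib.H20.BS
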