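import Mathlib
import Cfsg.Agent.Lib.H20.BurnsideSchur1

set_option autoImplicit false

/-!
# Difference-invariant elements of the group algebra and the Frobenius map
-/

namespace Cfsg.Agent.Lib.H20.BS

variable {A : Type*} [AddCommGroup A] [Fintype A] {𝒢 : Subgroup (Equiv.Perm A)}

/-- The bijection `b ↦ σ (x + b) - σ x`. -/
def diffEquiv (σ : Equiv.Perm A) (x : A) : A ≃ A :=
  (Equiv.addLeft x).trans (σ.trans (Equiv.subRight (σ x)))

theorem diffEquiv_apply (σ : Equiv.Perm A) (x b : A) : diffEquiv σ x b = σ (x + b) - σ x := rfl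

theorem DIFun.mul {R : Type*} [Semiring R] {f f' : AddMonoidAlgebra R A}
    (hf : DIFun 𝒢 (fun h => f.coeff h)) (hf' : DIFun 𝒢 (fun h => f'.coeff h)) :
    DIFun 𝒢 (fun h => (f * f').coeff h) := by
  intro σ hσ x h
  beta_reduce
  rw [AddMonoidAlgebra.coeff_mul_apply_left, AddMonoidAlgebra.coeff_mul_apply_left,
    Finsupp.sum_fintype _ _ (fun i => by simp), Finsupp.sum_fintype _ _ (fun i => by simp)]
  rw [← Equiv.sum_comp (diffEquiv σ x)]
  apply Finset.sum_congr rfl
  intro b _
  rw [diffEquiv_apply]
  have h1 : f.coeff (σ (x + b) - σ x) = f.coeff b := hf σ hσ x b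
  have h2 : -(σ (x + b) - σ x) + (σ (x + h) - σ x) = σ ((x + b) + (-b + h)) - σ (x + b) := by
    have : x + b + (-b + h) = x + h := by abel
    rw [this]; abel
  have h3 : f'.coeff (σ ((x + b) + (-b + h)) - σ (x + b)) = f'.coeff (-b + h) :=
    hf' σ hσ (x + b) (-b + h)
  rw [h1, h2, h3]

theorem DIFun.one {R : Type*} [Semiring R] :
    DIFun 𝒢 (fun h => (1 : AddMonoidAlgebra R A).coeff h) := by
  classical
  intro σ hσ x h
  beta_reduce
  rw [AddMonoidAlgebra.one_def, AddMonoidAlgebra.coeff_single, Finsupp.single_apply,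
    Finsupp.single_apply]
  have : (0 = σ (x + h) - σ x) ↔ (0 = h) := by
    constructor
    · intro h1
      have h2 : σ (x + h) = σ x := by
        rw [eq_comm, sub_eq_zero] at h1; exact h1
      have h3 := σ.injective h2
      have : h = 0 := by
        have : x + h = x + 0 := by rw [h3, add_zero]
        exact add_left_cancel this
      exact this.symm
    · intro h1
      rw [← h1, add_zero, sub_self]
  simp only [this]

theorem DIFun.pow {R : Type*} [Semiring R] {f : AddMonoidAlgebra R A}
    (hf : DIFun 𝒢 (fun h => f.coeff h)) (n : ℕ) : DIFun 𝒢 (fun h => (f ^ n).coeff h) := by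
  induction n with
  | zero => rw [pow_zero]; exact DIFun.one
  | succ n ih => rw [pow_succ]; exact ih.mul hf

open Classical in
/-- The indicator element of a set. -/
noncomputable def ind (R : Type*) [Semiring R] (W : Set A) : AddMonoidAlgebra R A :=
  ∑ w ∈ Finset.univ.filter (· ∈ W), AddMonoidAlgebra.single w 1

open Classical in
theorem ind_coeff (R : Type*) [Semiring R] (W : Set A) (h : A) :
    (ind R W).coeff h = if h ∈ W then 1 else 0 := by
  unfold ind
  rw [AddMonoidAlgebra.coeff_sum, Finsupp.finset_sum_apply]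
  simp only [AddMonoidAlgebra.coeff_single, Finsupp.single_apply]
  rw [Finset.sum_ite_eq']
  simp

theorem ind_di (R : Type*) [Semiring R] {W : Set A} (hW : DISet 𝒢 W) :
    DIFun 𝒢 (fun h => (ind R W).coeff h) := by
  classical
  intro σ hσ x h
  beta_reduce
  rw [ind_coeff, ind_coeff]
  simp only [hW.mem_iff hσ x h]

instance charP_addMonoidAlgebra (p : ℕ) [Fact p.Prime] :
    CharP (AddMonoidAlgebra (ZMod p) A) p := by
  apply charP_of_injective_algebraMap (R := ZMod p)
  intro a b h
  have h1 := congrArg (fun f => f.coeff 0) h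
  simpa [AddMonoidAlgebra.coe_algebraMap, AddMonoidAlgebra.coeff_single] using h1

open Classical in
theorem ind_pow_coeff (p : ℕ) [Fact p.Prime] (W : Set A) (h : A) :
    ((ind (ZMod p) W) ^ p).coeff h =
      ((Finset.univ.filter (fun w : A => w ∈ W ∧ p • w = h)).card : ZMod p) := by
  unfold ind
  rw [sum_pow_char p, AddMonoidAlgebra.coeff_sum, Finsupp.finset_sum_apply]
  simp only [AddMonoidAlgebra.single_pow, one_pow, AddMonoidAlgebra.coeff_single,
    Finsupp.single_apply]
  rw [Finset.sum_boole, Finset.filter_filter]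

open Classical in
/-- The Frobenius argument: for a difference-invariant set `W`, the number of `w ∈ W` with
`p • w = h`, taken modulo `p`, is a difference-invariant function of `h`. -/
theorem frob_di (p : ℕ) [Fact p.Prime] {W : Set A} (hW : DISet 𝒢 W) :
    DIFun 𝒢 (fun h : A =>
      ((Finset.univ.filter (fun w : A => w ∈ W ∧ p • w = h)).card : ZMod p)) := by
  have h1 := (ind_di (ZMod p) hW).pow p
  intro σ hσ x h
  have h2 := h1 σ hσ x h
  beta_reduce at h2 ⊢
  rw [ind_pow_coeff, ind_pow_coeff] at h2
  exact h2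

end Cfsg.Agent.Lib.H20.BS
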