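import Mathlib
import Cfsg.Agent.Lib.H20.BurnsideSchur2

set_option autoImplicit false

/-!
# Burnside's theorem on primitive groups containing a regular cyclic subgroup of order `p ^ m`

Abstract form: `A` a finite abelian group which is "cyclic of order `p ^ m`, `m ≥ 2`" in the sense of
`CycP`, and `𝒢` a primitive permutation group of `A` containing the translations.  Then the
stabilizer of `0` is transitive on `A \ {0}`.
-/

namespace Cfsg.Agent.Lib.H20.BS

open MulAction

open scoped Classical in
/-- The properties of a cyclic group of order `p ^ m`, `m ≥ 2`, that the proof uses. -/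
structure CycP (A : Type*) [AddCommGroup A] [Fintype A] (p : ℕ) : Prop where
  card_ker : (Finset.univ.filter (fun x : A => p • x = 0)).card = p
  gen : ∀ x : A, (∀ y : A, p • y ≠ x) → ∀ S : Set A, S.Nonempty → (∀ s ∈ S, s - x ∈ S) →
    S = Set.univ
  ne_zero : ∀ x : A, (∀ y : A, p • y ≠ x) → p • x ≠ 0
  exists_gen : ∃ x : A, ∀ y : A, p • y ≠ x

variable {A : Type*} [AddCommGroup A] [Fintype A] {𝒢 : Subgroup (Equiv.Perm A)}
  {p : ℕ} [hp : Fact p.Prime]

/-- Difference-invariant sets consisting of multiples of `p` are trivial. -/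
theorem subset_zero_of_diSet (hA : CycP A p) [IsPreprimitive ↥𝒢 A] {W : Set A} (hW : DISet 𝒢 W)
    (hWR : ∀ w ∈ W, ∃ y : A, p • y = w) : ∀ w ∈ W, w = 0 := by
  have hle : AddSubgroup.closure W ≤ (nsmulAddMonoidHom p : A →+ A).range := by
    rw [AddSubgroup.closure_le]
    intro w hw
    obtain ⟨y, hy⟩ := hWR w hw
    exact ⟨y, hy⟩
  rcases hW.closure.eq_bot_or_eq_top with h | h
  · intro w hw
    have : w ∈ AddSubgroup.closure W := AddSubgroup.subset_closure hw
    rw [h, AddSubgroup.mem_bot] at this
    exact this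
  · exfalso
    obtain ⟨x, hx⟩ := hA.exists_gen
    have : x ∈ AddSubgroup.closure W := by rw [h]; exact AddSubgroup.mem_top x
    obtain ⟨y, hy⟩ := hle this
    exact hx y hy

open scoped Classical in
/-- Step 1: a difference-invariant set contains, with each `t` such that `p • t ≠ 0`, the whole
coset `t + ker p`. -/
theorem coset_mem (hA : CycP A p) [IsPreprimitive ↥𝒢 A] {W : Set A} (hW : DISet 𝒢 W)
    {t z : A} (ht : t ∈ W) (hpt : p • t ≠ 0) (hz : p • z = 0) : t + z ∈ W := by
  set c : A → ZMod p := fun h =>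
    ((Finset.univ.filter (fun w : A => w ∈ W ∧ p • w = h)).card : ZMod p) with hc
  have hcdi : DIFun 𝒢 c := frob_di p hW
  have hV : DISet 𝒢 {h | c h ≠ 0} := hcdi.setOf (fun r => r ≠ 0)
  have hV0 := subset_zero_of_diSet hA hV (by
    intro h hh
    rw [Set.mem_ofPred_eq] at hh
    by_contra hcon
    push_neg at hcon
    apply hh
    rw [hc]
    beta_reduce
    have : Finset.univ.filter (fun w : A => w ∈ W ∧ p • w = h) = ∅ := by
      rw [Finset.filter_eq_empty_iff]
      intro w _ hw
      exact hcon w hw.2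
    rw [this, Finset.card_empty, Nat.cast_zero])
  set h := p • t with hh
  have hch : c h = 0 := by
    by_contra hcon
    exact hpt (hV0 h hcon)
  set F := Finset.univ.filter (fun w : A => w ∈ W ∧ p • w = h) with hF
  set Fib := Finset.univ.filter (fun w : A => p • w = h) with hFib
  have hFsub : F ⊆ Fib := by
    intro w hw
    rw [hF, Finset.mem_filter] at hw
    rw [hFib, Finset.mem_filter]
    exact ⟨Finset.mem_univ _, hw.2.2⟩
  have hFibcard : Fib.card = p := by
    rw [← hA.card_ker]
    apply Finset.card_bij (fun w _ => w - t)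
    · intro w hw
      rw [hFib, Finset.mem_filter] at hw
      rw [Finset.mem_filter]
      refine ⟨Finset.mem_univ _, ?_⟩
      rw [smul_sub, hw.2, hh, sub_self]
    · intro w₁ _ w₂ _ h12
      exact sub_left_injective h12
    · intro x hx
      rw [Finset.mem_filter] at hx
      refine ⟨x + t, ?_, by abel⟩
      rw [hFib, Finset.mem_filter]
      refine ⟨Finset.mem_univ _, ?_⟩
      rw [smul_add, hx.2, zero_add]
  have htF : t ∈ F := by
    rw [hF, Finset.mem_filter]
    exact ⟨Finset.mem_univ _, ht, rfl⟩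
  have hFpos : 0 < F.card := Finset.card_pos.mpr ⟨t, htF⟩
  have hFdvd : p ∣ F.card := by
    have : ((F.card : ℕ) : ZMod p) = 0 := hch
    exact (ZMod.natCast_eq_zero_iff _ _).mp this
  have hFle : F.card ≤ p := by
    rw [← hFibcard]; exact Finset.card_le_card hFsub
  have hFcard : F.card = p := le_antisymm hFle (Nat.le_of_dvd hFpos hFdvd)
  have hFeq : F = Fib := Finset.eq_of_subset_of_card_le hFsub (by rw [hFcard, hFibcard])
  have : t + z ∈ Fib := by
    rw [hFib, Finset.mem_filter]
    refine ⟨Finset.mem_univ _, ?_⟩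
    rw [smul_add, hz, add_zero]
  rw [← hFeq, hF, Finset.mem_filter] at this
  exact this.2.1

/-- Step 2: every nonzero element is mapped to a non-multiple of `p` by the stabilizer. -/
theorem exists_gen_mem_orb (hA : CycP A p) (hT : Trans 𝒢) [IsPreprimitive ↥𝒢 A] {x : A}
    (hx : x ≠ 0) : ∃ y ∈ orb 𝒢 x, ∀ u : A, p • u ≠ y := by
  by_contra hcon
  push_neg at hcon
  set W : Set A := {x | ∀ y ∈ orb 𝒢 x, ∃ u : A, p • u = y} with hWdef
  have hW : DISet 𝒢 W := by
    apply DISet.of_stab hT
    intro σ hσ h0 w hw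
    rw [hWdef, Set.mem_ofPred_eq] at hw ⊢
    have : σ w ∈ orb 𝒢 w := ⟨σ, hσ, h0, rfl⟩
    rw [orb_eq_of_mem this]
    exact hw
  have := subset_zero_of_diSet hA hW (fun w hw => hw w (mem_orb_self w)) x hcon
  exact hx this

end Cfsg.Agent.Lib.H20.BS
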