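import Mathlib
import Cfsg.Agent.Lib.H20.BurnsideSchur3

set_option autoImplicit false

/-!
# Burnside's theorem, abstract form: the counting argument
-/

namespace Cfsg.Agent.Lib.H20.BS

open MulAction

variable {A : Type*} [AddCommGroup A] [Fintype A] {𝒢 : Subgroup (Equiv.Perm A)}
  {p : ℕ} [hp : Fact p.Prime]

open scoped Classical in
/-- The key counting lemma: a nontrivial orbit of the stabilizer of `0` contains more than
`(p - 1) / 2` elements of `ker p`. -/
theorem key (hA : CycP A p) (hT : Trans 𝒢) [IsPreprimitive ↥𝒢 A] {a : A} (ha : a ≠ 0) :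
    p ≤ 2 * (Finset.univ.filter (fun x : A => x ∈ orb 𝒢 a ∧ p • x = 0)).card := by
  set T : Set A := orb 𝒢 a with hTdef
  have hTdi : DISet 𝒢 T := orb_diSet hT a
  have h0T : (0 : A) ∉ T := zero_notMem_orb ha
  set D := Finset.univ.filter (fun x : A => x ∈ T ∧ p • x = 0) with hD
  set Tt := Finset.univ.filter (fun x : A => x ∈ T ∧ p • x ≠ 0) with hTt
  set Tf := Finset.univ.filter (fun x : A => x ∈ T) with hTf
  -- `Tt` is invariant under `ker p`
  have hinv : ∀ t ∈ Tt, ∀ z : A, p • z = 0 → t + z ∈ Tt := by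
    intro t ht z hz
    rw [hTt, Finset.mem_filter] at ht ⊢
    refine ⟨Finset.mem_univ _, coset_mem hA hTdi ht.2.1 ht.2.2 hz, ?_⟩
    rw [smul_add, hz, add_zero]
    exact ht.2.2
  -- `Tt` is nonempty
  obtain ⟨y, hyT, hygen⟩ := exists_gen_mem_orb (𝒢 := 𝒢) hA hT ha
  have hyTt : y ∈ Tt := by
    rw [hTt, Finset.mem_filter]
    exact ⟨Finset.mem_univ _, hyT, hA.ne_zero y hygen⟩
  -- the partition of `T`
  have hcardT : Tf.card = Tt.card + D.card := by
    have := Finset.card_filter_add_card_filter_not (s := Tf) (fun x : A => p • x ≠ 0)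
    rw [← this]
    congr 1
    · congr 1
      rw [hTt, hTf, Finset.filter_filter]
    · congr 1
      rw [hD, hTf, Finset.filter_filter]
      apply Finset.filter_congr
      intro x _
      rw [not_not]
  -- a nonzero element of `ker p`
  have hker2 : 1 < (Finset.univ.filter (fun x : A => p • x = 0)).card := by
    rw [hA.card_ker]; exact hp.out.one_lt
  obtain ⟨z, hz, hz0⟩ := Finset.exists_mem_ne hker2 (0 : A)
  rw [Finset.mem_filter] at hz
  have hpz : p • z = 0 := hz.2
  have hpnz : p • (-z) = 0 := by rw [smul_neg, hpz, neg_zero]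
  -- move it to a generator
  obtain ⟨h', hh'orb, hh'gen⟩ := exists_gen_mem_orb (𝒢 := 𝒢) hA hT hz0
  obtain ⟨σ, hσ, hσ0, hσz⟩ := hh'orb
  -- the counting function
  set cnt : A → ℕ := fun h => (Finset.univ.filter (fun x : A => x ∈ T ∧ x - h ∈ T)).card with hcnt
  have hcntz : Tt.card ≤ cnt z := by
    rw [hcnt]
    apply Finset.card_le_card
    intro x hx
    have h1 := hinv x hx (-z) hpnz
    rw [hTt, Finset.mem_filter] at hx h1
    rw [Finset.mem_filter]
    refine ⟨Finset.mem_univ _, hx.2.1, ?_⟩
    rw [sub_eq_add_neg]; exact h1.2.1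
  have hcnth : cnt z ≤ cnt h' := by
    rw [hcnt]
    apply Finset.card_le_card_of_injOn (fun x => σ x)
    · intro x hx
      rw [Finset.coe_filter, Set.mem_ofPred_eq] at hx
      rw [Finset.coe_filter, Set.mem_ofPred_eq]
      refine ⟨Finset.mem_univ _, hTdi.stab hσ hσ0 hx.2.1, ?_⟩
      have h1 := hTdi σ hσ z (x - z) hx.2.2
      have h2 : z + (x - z) = x := by abel
      rw [h2, hσz] at h1
      exact h1
    · intro x₁ _ x₂ _ h12
      exact σ.injective h12
  -- the boundary
  set Bd := Finset.univ.filter (fun x : A => x ∈ Tt ∧ x - h' ∉ Tt) with hBd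
  have hBdne : Bd.Nonempty := by
    by_contra hcon
    rw [Finset.not_nonempty_iff_eq_empty, hBd, Finset.filter_eq_empty_iff] at hcon
    have h1 : ∀ s ∈ (Tt : Set A), s - h' ∈ (Tt : Set A) := by
      intro s hs
      by_contra h2
      exact hcon (Finset.mem_univ s) ⟨hs, h2⟩
    have h2 := hA.gen h' hh'gen (Tt : Set A) ⟨y, hyTt⟩ h1
    have h3 : (0 : A) ∈ (Tt : Set A) := by rw [h2]; exact Set.mem_univ _
    rw [Finset.mem_coe, hTt, Finset.mem_filter] at h3
    exact h0T h3.2.1
  obtain ⟨x₀, hx₀⟩ := hBdne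
  have hBdge : p ≤ Bd.card := by
    rw [← hA.card_ker]
    apply Finset.card_le_card_of_injOn (fun z => x₀ + z)
    · intro z hz
      rw [Finset.coe_filter, Set.mem_ofPred_eq] at hz
      rw [hBd, Finset.mem_filter] at hx₀
      rw [hBd, Finset.coe_filter, Set.mem_ofPred_eq]
      refine ⟨Finset.mem_univ _, hinv x₀ hx₀.2.1 z hz.2, ?_⟩
      intro hcon
      apply hx₀.2.2
      have := hinv _ hcon (-z) (by rw [smul_neg, hz.2, neg_zero])
      have h2 : x₀ + z - h' + -z = x₀ - h' := by abel
      rwa [h2] at this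
    · intro z₁ _ z₂ _ h12
      exact add_left_cancel h12
  have hBdle : Bd.card ≤ (Tf.card - cnt h') + D.card := by
    have hsub : Bd ⊆ (Tf.filter (fun x : A => ¬ (x - h' ∈ T))) ∪ D.image (fun d => d + h') := by
      intro x hx
      rw [hBd, Finset.mem_filter] at hx
      have hxT : x ∈ T := by
        have := hx.2.1
        rw [hTt, Finset.mem_filter] at this
        exact this.2.1
      rw [Finset.mem_union]
      by_cases hxh : x - h' ∈ T
      · right
        rw [Finset.mem_image]
        refine ⟨x - h', ?_, by abel⟩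
        rw [hD, Finset.mem_filter]
        refine ⟨Finset.mem_univ _, hxh, ?_⟩
        by_contra hne
        apply hx.2.2
        rw [hTt, Finset.mem_filter]
        exact ⟨Finset.mem_univ _, hxh, hne⟩
      · left
        rw [Finset.mem_filter, hTf, Finset.mem_filter]
        exact ⟨⟨Finset.mem_univ _, hxT⟩, hxh⟩
    have h1 := Finset.card_le_card hsub
    have h2 := Finset.card_union_le (Tf.filter (fun x : A => ¬ (x - h' ∈ T)))
      (D.image (fun d => d + h'))
    have h3 : (D.image (fun d => d + h')).card ≤ D.card := Finset.card_image_le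
    have h4 : (Tf.filter (fun x : A => ¬ (x - h' ∈ T))).card = Tf.card - cnt h' := by
      have := Finset.card_filter_add_card_filter_not (s := Tf) (fun x : A => x - h' ∈ T)
      have h5 : (Tf.filter (fun x : A => x - h' ∈ T)).card = cnt h' := by
        rw [hcnt, hTf, Finset.filter_filter]
      omega
    omega
  omega

/-- **Burnside's theorem** (abstract form). -/
theorem burnside_abstract (hA : CycP A p) (hT : Trans 𝒢) [IsPreprimitive ↥𝒢 A] {a b : A}
    (ha : a ≠ 0) (hb : b ≠ 0) : b ∈ orb 𝒢 a := by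
  classical
  by_contra hcon
  have hdisj := orb_disjoint hcon
  have h1 := key hA hT (𝒢 := 𝒢) ha
  have h2 := key hA hT (𝒢 := 𝒢) hb
  set Da := Finset.univ.filter (fun x : A => x ∈ orb 𝒢 a ∧ p • x = 0) with hDa
  set Db := Finset.univ.filter (fun x : A => x ∈ orb 𝒢 b ∧ p • x = 0) with hDb
  have hd : Disjoint Da Db := by
    rw [Finset.disjoint_left]
    intro x hxa hxb
    rw [hDa, Finset.mem_filter] at hxa
    rw [hDb, Finset.mem_filter] at hxb
    exact (Set.disjoint_left.mp hdisj) hxa.2.1 hxb.2.1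
  have hsub : Da ∪ Db ⊆ (Finset.univ.filter (fun x : A => p • x = 0)).erase 0 := by
    intro x hx
    rw [Finset.mem_union] at hx
    rw [Finset.mem_erase, Finset.mem_filter]
    rcases hx with hx | hx
    · rw [hDa, Finset.mem_filter] at hx
      refine ⟨?_, Finset.mem_univ _, hx.2.2⟩
      rintro rfl
      exact zero_notMem_orb ha hx.2.1
    · rw [hDb, Finset.mem_filter] at hx
      refine ⟨?_, Finset.mem_univ _, hx.2.2⟩
      rintro rfl
      exact zero_notMem_orb hb hx.2.1
  have h3 := Finset.card_le_card hsub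
  rw [Finset.card_union_of_disjoint hd, Finset.card_erase_of_mem (by
    rw [Finset.mem_filter]; exact ⟨Finset.mem_univ _, smul_zero p⟩), hA.card_ker] at h3
  have := hp.out.two_le
  omega

end Cfsg.Agent.Lib.H20.BS
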