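import Mathlib
import Cfsg.Agent.Lib.H20.BurnsideSchur4

set_option autoImplicit false

/-!
# `ZMod (p ^ m)` satisfies `CycP` for `m ≥ 2`
-/

namespace Cfsg.Agent.Lib.H20.BS

variable (p m : ℕ) [hp : Fact p.Prime]

theorem zmod_isUnit_of_not_mul [NeZero (p ^ m)] (x : ZMod (p ^ m))
    (hx : ∀ y : ZMod (p ^ m), p • y ≠ x) : IsUnit x := by
  have h1 : x = ((x.val : ℕ) : ZMod (p ^ m)) := (ZMod.natCast_zmod_val x).symm
  rw [h1, ZMod.isUnit_iff_coprime]
  apply Nat.Coprime.pow_right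
  rw [Nat.coprime_comm, Nat.Prime.coprime_iff_not_dvd hp.out]
  rintro ⟨k, hk⟩
  apply hx ((k : ℕ) : ZMod (p ^ m))
  rw [nsmul_eq_mul, ← Nat.cast_mul, ← hk]
  exact h1.symm

theorem card_ker_zmod (hm : 2 ≤ m) [NeZero (p ^ m)]
    [DecidablePred (fun x : ZMod (p ^ m) => p • x = 0)] :
    (Finset.univ.filter (fun x : ZMod (p ^ m) => p • x = 0)).card = p := by
  have hppos : 0 < p := hp.out.pos
  have hm1 : m = (m - 1) + 1 := by omega
  have hpm : p ^ m = p * p ^ (m - 1) := by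
    conv_lhs => rw [hm1, pow_succ']
  have himg : Finset.univ.filter (fun x : ZMod (p ^ m) => p • x = 0) =
      (Finset.range p).image (fun k : ℕ => ((k * p ^ (m - 1) : ℕ) : ZMod (p ^ m))) := by
    ext x
    rw [Finset.mem_filter, Finset.mem_image]
    constructor
    · rintro ⟨-, hx⟩
      have h1 : x = ((x.val : ℕ) : ZMod (p ^ m)) := (ZMod.natCast_zmod_val x).symm
      rw [nsmul_eq_mul, h1, ← Nat.cast_mul, ZMod.natCast_eq_zero_iff] at hx
      have hx' : p * p ^ (m - 1) ∣ p * x.val := by rw [← hpm]; exact hx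
      have h2 : p ^ (m - 1) ∣ x.val := Nat.dvd_of_mul_dvd_mul_left hppos hx'
      obtain ⟨k, hk⟩ := h2
      refine ⟨k, ?_, ?_⟩
      · rw [Finset.mem_range]
        have h3 : x.val < p ^ m := ZMod.val_lt x
        have h4 : p ^ (m - 1) * k < p ^ (m - 1) * p := by
          rw [← hk, mul_comm _ p, ← hpm]; exact h3
        exact Nat.lt_of_mul_lt_mul_left h4
      · rw [mul_comm, ← hk]; exact h1.symm
    · rintro ⟨k, -, rfl⟩
      refine ⟨Finset.mem_univ _, ?_⟩
      rw [nsmul_eq_mul, ← Nat.cast_mul, ZMod.natCast_eq_zero_iff, hpm]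
      exact ⟨k, by ring⟩
  rw [himg, Finset.card_image_of_injOn, Finset.card_range]
  intro k₁ hk₁ k₂ hk₂ h12
  rw [Finset.coe_range, Set.mem_Iio] at hk₁ hk₂
  beta_reduce at h12
  have hlt : ∀ k, k < p → k * p ^ (m - 1) < p ^ m := by
    intro k hk
    rw [hpm]
    exact Nat.mul_lt_mul_of_lt_of_le hk le_rfl (pow_pos hppos _)
  have h3 := congrArg ZMod.val h12
  rw [ZMod.val_natCast_of_lt (hlt k₁ hk₁), ZMod.val_natCast_of_lt (hlt k₂ hk₂)] at h3
  exact Nat.eq_of_mul_eq_mul_right (pow_pos hppos _) h3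

theorem cycP_zmod (hm : 2 ≤ m) [NeZero (p ^ m)] : CycP (ZMod (p ^ m)) p := by
  classical
  have hppos : 0 < p := hp.out.pos
  refine ⟨?_, ?_, ?_, ?_⟩
  · convert card_ker_zmod p m hm
  · -- generation
    intro x hx S hS hSx
    obtain ⟨u, hu⟩ := (zmod_isUnit_of_not_mul p m x hx).exists_right_inv
    obtain ⟨s₀, hs₀⟩ := hS
    have hk : ∀ k : ℕ, s₀ - k • x ∈ S := by
      intro k
      induction k with
      | zero => rw [zero_smul, sub_zero]; exact hs₀
      | succ k ih =>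
        have := hSx _ ih
        have h2 : s₀ - k • x - x = s₀ - (k + 1) • x := by rw [succ_nsmul]; abel
        rwa [h2] at this
    rw [Set.eq_univ_iff_forall]
    intro y
    have := hk (((s₀ - y) * u).val)
    rw [nsmul_eq_mul, ZMod.natCast_zmod_val] at this
    have h2 : s₀ - (s₀ - y) * u * x = y := by
      rw [mul_assoc, mul_comm u x, hu, mul_one]; abel
    rwa [h2] at this
  · -- non-multiples of `p` are not killed by `p`
    intro x hx hpx
    obtain ⟨u, hu⟩ := (zmod_isUnit_of_not_mul p m x hx).exists_right_inv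
    rw [nsmul_eq_mul] at hpx
    have h1 : (p : ZMod (p ^ m)) = 0 := by
      calc (p : ZMod (p ^ m)) = p * (x * u) := by rw [hu, mul_one]
        _ = (p * x) * u := by ring
        _ = 0 := by rw [hpx, zero_mul]
    rw [ZMod.natCast_eq_zero_iff] at h1
    have h2 : p ^ m ≤ p := Nat.le_of_dvd hppos h1
    have h3 : p ^ 2 ≤ p ^ m := Nat.pow_le_pow_right hppos hm
    have h4 : 2 ≤ p := hp.out.two_le
    nlinarith
  · -- `1` is not a multiple of `p`
    refine ⟨1, fun y hy => ?_⟩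
    rw [nsmul_eq_mul] at hy
    have h1 : IsUnit ((p : ℕ) : ZMod (p ^ m)) := IsUnit.of_mul_eq_one _ hy
    rw [ZMod.isUnit_iff_coprime] at h1
    have h2 : p ∣ Nat.gcd p (p ^ m) := Nat.dvd_gcd dvd_rfl (dvd_pow_self p (by omega))
    rw [h1] at h2
    exact hp.out.one_lt.ne' (Nat.dvd_one.mp h2)

end Cfsg.Agent.Lib.H20.BS
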