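import Mathlib
import Cfsg.Agent.Lib.H20.BurnsideSchur5
import Cfsg.Agent.Lib.H20.Cyclic
import Cfsg.Agent.Lib.H18.PermTransport

set_option autoImplicit false

/-!
# Burnside's theorem on transitive groups of degree `p ^ m` containing a full cycle
-/

namespace Cfsg.Agent.Lib.H20.BS

open MulAction Pointwise Cfsg.Agent.Lib.H18

theorem trans_of_addRight_one {n : ℕ} [NeZero n] (𝒢 : Subgroup (Equiv.Perm (ZMod n)))
    (h1 : Equiv.addRight (1 : ZMod n) ∈ 𝒢) : Trans 𝒢 := by
  intro a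
  have : Equiv.addRight a = (Equiv.addRight (1 : ZMod n)) ^ a.val := by
    rw [Equiv.nsmul_addRight, nsmul_eq_mul, mul_one, ZMod.natCast_zmod_val]
  rw [this]; exact 𝒢.pow_mem h1 _

theorem two_trans_of_orb {A : Type*} [AddCommGroup A] {𝒢 : Subgroup (Equiv.Perm A)}
    (hT : Trans 𝒢) (h : ∀ a b : A, a ≠ 0 → b ≠ 0 → b ∈ orb 𝒢 a) :
    IsMultiplyPretransitive ↥𝒢 A 2 := by
  rw [is_two_pretransitive_iff]
  intro a b c d hab hcd
  obtain ⟨σ', hσ', h0, h1⟩ := h (b - a) (d - c) (sub_ne_zero.mpr (Ne.symm hab))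
    (sub_ne_zero.mpr (Ne.symm hcd))
  refine ⟨⟨Equiv.addRight c * σ' * Equiv.addRight (-a),
    𝒢.mul_mem (𝒢.mul_mem (hT c) hσ') (hT _)⟩, ?_, ?_⟩
  · change (Equiv.addRight c * σ' * Equiv.addRight (-a)) a = c
    rw [Equiv.Perm.mul_apply, Equiv.Perm.mul_apply, Equiv.coe_addRight, Equiv.coe_addRight]
    change σ' (a + -a) + c = c
    rw [add_neg_cancel, h0, zero_add]
  · change (Equiv.addRight c * σ' * Equiv.addRight (-a)) b = d
    rw [Equiv.Perm.mul_apply, Equiv.Perm.mul_apply, Equiv.coe_addRight, Equiv.coe_addRight]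
    change σ' (b + -a) + c = d
    rw [← sub_eq_add_neg, h1]; abel

variable {Ω : Type*} [Fintype Ω] [DecidableEq Ω]

/-- A permutation of order `p ^ m` on `p ^ m` points is a full cycle: the points can be labelled
by `ZMod (p ^ m)` so that the permutation becomes `i ↦ i + 1`. -/
theorem exists_labelling (p m : ℕ) [hp : Fact p.Prime] (hm : 1 ≤ m) [NeZero (p ^ m)]
    (hΩ : Fintype.card Ω = p ^ m) (σ : Equiv.Perm Ω) (hσ : orderOf σ = p ^ m) :
    ∃ e : ZMod (p ^ m) ≃ Ω, ∀ i, e (i + 1) = σ (e i) := by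
  have hm1 : m = (m - 1) + 1 := by omega
  -- a point of full period
  have hex : ∃ ω₀ : Ω, ¬ Function.IsPeriodicPt σ (p ^ (m - 1)) ω₀ := by
    by_contra hcon
    push_neg at hcon
    have h1 : σ ^ (p ^ (m - 1)) = 1 := by
      ext ω
      have := hcon ω
      rw [Function.IsPeriodicPt, Function.IsFixedPt, Equiv.Perm.iterate_eq_pow] at this
      rw [this, Equiv.Perm.one_apply]
    have h2 := orderOf_dvd_of_pow_eq_one h1
    rw [hσ] at h2
    have h3 := Nat.le_of_dvd (pow_pos hp.out.pos _) h2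
    have h4 : p ^ (m - 1) < p ^ m := Nat.pow_lt_pow_right hp.out.one_lt (by omega)
    omega
  obtain ⟨ω₀, hω₀⟩ := hex
  have hper : Function.IsPeriodicPt σ (p ^ ((m - 1) + 1)) ω₀ := by
    rw [← hm1, Function.IsPeriodicPt, Function.IsFixedPt, Equiv.Perm.iterate_eq_pow, ← hσ,
      pow_orderOf_eq_one, Equiv.Perm.one_apply]
  have hmin : Function.minimalPeriod σ ω₀ = p ^ m := by
    have := Function.minimalPeriod_eq_prime_pow hω₀ hper
    rwa [← hm1] at this
  set f : ZMod (p ^ m) → Ω := fun k => (σ ^ k.val) ω₀ with hf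
  have hinj : Function.Injective f := by
    intro a b hab
    apply ZMod.val_injective
    apply Function.iterate_injOn_Iio_minimalPeriod (f := σ) (x := ω₀)
    · rw [Set.mem_Iio, hmin]; exact ZMod.val_lt a
    · rw [Set.mem_Iio, hmin]; exact ZMod.val_lt b
    · beta_reduce
      rw [Equiv.Perm.iterate_eq_pow, Equiv.Perm.iterate_eq_pow]
      exact hab
  have hbij : Function.Bijective f :=
    (Fintype.bijective_iff_injective_and_card f).mpr ⟨hinj, by rw [ZMod.card, hΩ]⟩
  refine ⟨Equiv.ofBijective f hbij, fun i => ?_⟩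
  rw [Equiv.ofBijective_apply, Equiv.ofBijective_apply, hf]
  beta_reduce
  rw [← Equiv.Perm.mul_apply, ← pow_succ']
  have : σ ^ (i + 1).val = σ ^ (i.val + 1) := by
    rw [pow_eq_pow_iff_modEq, hσ, ← ZMod.natCast_eq_natCast_iff, ZMod.natCast_zmod_val,
      Nat.cast_add, ZMod.natCast_zmod_val, Nat.cast_one]
  rw [this]

/-- **Burnside.** A primitive group of degree `p ^ m`, `m ≥ 2`, containing a permutation of order
`p ^ m`, is doubly transitive. -/
theorem two_transitive_of_primitive (p m : ℕ) [hp : Fact p.Prime] (hm : 2 ≤ m)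
    (hΩ : Fintype.card Ω = p ^ m) (G : Subgroup (Equiv.Perm Ω)) (hprim : IsPreprimitive ↥G Ω)
    (g : Equiv.Perm Ω) (hgG : g ∈ G) (hg : orderOf g = p ^ m) :
    IsMultiplyPretransitive ↥G Ω 2 := by
  haveI : NeZero (p ^ m) := ⟨pow_ne_zero _ hp.out.ne_zero⟩
  obtain ⟨e, he⟩ := exists_labelling p m (by omega) hΩ g hg
  set 𝒢 : Subgroup (Equiv.Perm (ZMod (p ^ m))) := mapPerm e.symm G with h𝒢
  have h1 : Equiv.addRight (1 : ZMod (p ^ m)) ∈ 𝒢 := by
    rw [h𝒢, mem_mapPerm]
    refine ⟨g, hgG, ?_⟩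
    ext a
    rw [permCongrHom_apply_apply, Equiv.symm_symm, ← he, Equiv.symm_apply_apply,
      Equiv.coe_addRight]
  have hT : Trans 𝒢 := trans_of_addRight_one 𝒢 h1
  haveI : IsPreprimitive ↥𝒢 (ZMod (p ^ m)) := mapPerm_isPreprimitive e.symm hprim
  have h2 : IsMultiplyPretransitive ↥𝒢 (ZMod (p ^ m)) 2 :=
    two_trans_of_orb hT (fun a b ha hb => burnside_abstract (cycP_zmod p m hm) hT ha hb)
  exact mapPerm_two_pretransitive e.symm h2

/-- In a transitive imprimitive group of degree `p ^ m` containing an element `g` of order `p ^ m`,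
the normal closure of `g ^ (p ^ (m - 1))` is intransitive. -/
theorem normalClosure_not_transitive (p m : ℕ) [hp : Fact p.Prime] (hm : 1 ≤ m)
    (hΩ : Fintype.card Ω = p ^ m) (G : Subgroup (Equiv.Perm Ω)) (htr : IsPretransitive ↥G Ω)
    (hnp : ¬ IsPreprimitive ↥G Ω) (g : ↥G) (hg : orderOf g = p ^ m) :
    ¬ IsPretransitive ↥(Subgroup.normalClosure ({g ^ (p ^ (m - 1))} : Set ↥G)) Ω := by
  haveI : NeZero (p ^ m) := ⟨pow_ne_zero _ hp.out.ne_zero⟩
  have hm1 : m = (m - 1) + 1 := by omega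
  have hgo : orderOf (g : Equiv.Perm Ω) = p ^ m := by rw [Subgroup.orderOf_coe]; exact hg
  obtain ⟨e, he⟩ := exists_labelling p m hm hΩ (g : Equiv.Perm Ω) hgo
  -- powers of `g` are transitive
  have hpow : ∀ (k : ℕ) (i : ZMod (p ^ m)), e (i + k) = (g ^ k) • e i := by
    intro k
    induction k with
    | zero => intro i; rw [Nat.cast_zero, add_zero, pow_zero, one_smul]
    | succ k ih =>
      intro i
      rw [Nat.cast_succ, ← add_assoc, he, ih, pow_succ', mul_smul]
      rfl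
  have htrans : ∀ ω ω' : Ω, ∃ j : ℕ, (g ^ j) • ω = ω' := by
    intro ω ω'
    refine ⟨(e.symm ω' - e.symm ω).val, ?_⟩
    have := hpow (e.symm ω' - e.symm ω).val (e.symm ω)
    rw [ZMod.natCast_zmod_val, Equiv.apply_symm_apply] at this
    rw [← this]
    have h2 : e.symm ω + (e.symm ω' - e.symm ω) = e.symm ω' := by abel
    rw [h2, Equiv.apply_symm_apply]
  -- a nontrivial block
  obtain ⟨B, hB, hBnt⟩ : ∃ B : Set Ω, IsBlock ↥G B ∧ ¬ IsTrivialBlock B := by
    by_contra hcon
    push_neg at hcon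
    exact hnp { toIsPretransitive := htr, isTrivialBlock_of_isBlock := fun {B} hB => hcon B hB }
  set c : ↥G := g ^ (p ^ (m - 1)) with hc
  have hco : orderOf c = p := by
    rw [hc, orderOf_pow_of_dvd (pow_ne_zero _ hp.out.ne_zero) (by rw [hg]; exact pow_dvd_pow p (by omega)),
      hg]
    conv_lhs => rw [hm1, pow_succ]
    exact Nat.mul_div_cancel_left _ (pow_pos hp.out.pos _)
  -- `c` stabilizes every nontrivial block
  have claim : ∀ B' : Set Ω, IsBlock ↥G B' → ¬ B'.Subsingleton → c • B' = B' := by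
    intro B' hB' hns
    rw [Set.not_subsingleton_iff] at hns
    obtain ⟨ω, hω, ω', hω', hne⟩ := hns
    obtain ⟨j, hj⟩ := htrans ω ω'
    set h : ↥G := g ^ j with hh
    have hh1 : h ≠ 1 := by
      intro h1
      rw [h1, one_smul] at hj
      exact hne hj
    have hhB : h ∈ stabilizer ↥G B' := by
      rw [mem_stabilizer_iff]
      exact (isBlock_iff_smul_eq_of_mem.mp hB') hω (by rw [hj]; exact hω')
    have hhdvd : orderOf h ∣ p ^ m := by rw [← hg]; exact orderOf_pow_dvd j
    obtain ⟨i, -, hi⟩ := (Nat.dvd_prime_pow hp.out).mp hhdvd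
    have hi0 : i ≠ 0 := by
      rintro rfl
      rw [pow_zero, orderOf_eq_one_iff] at hi
      exact hh1 hi
    have hi1 : i = (i - 1) + 1 := by omega
    set h' : ↥G := h ^ (p ^ (i - 1)) with hh'
    have hh'o : orderOf h' = p := by
      rw [hh', orderOf_pow_of_dvd (pow_ne_zero _ hp.out.ne_zero)
        (by rw [hi]; exact pow_dvd_pow p (by omega)), hi]
      conv_lhs => rw [hi1, pow_succ]
      exact Nat.mul_div_cancel_left _ (pow_pos hp.out.pos _)
    have hh'B : h' ∈ stabilizer ↥G B' := Subgroup.pow_mem _ hhB _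
    -- both `c` and `h'` lie in the cyclic group generated by `g`
    have hcC : c ∈ Subgroup.zpowers g := Subgroup.pow_mem _ (Subgroup.mem_zpowers g) _
    have hh'C : h' ∈ Subgroup.zpowers g :=
      Subgroup.pow_mem _ (Subgroup.pow_mem _ (Subgroup.mem_zpowers g) _) _
    have e1 : orderOf (⟨c, hcC⟩ : ↥(Subgroup.zpowers g)) = orderOf c := Subgroup.orderOf_mk c hcC
    have e2 : orderOf (⟨h', hh'C⟩ : ↥(Subgroup.zpowers g)) = orderOf h' :=
      Subgroup.orderOf_mk h' hh'C
    have hmem := Cfsg.Agent.Lib.H20.mem_zpowers_of_orderOf_dvd_of_isCyclic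
      (C := ↥(Subgroup.zpowers g)) (x := ⟨c, hcC⟩) (y := ⟨h', hh'C⟩)
      (by rw [e1, e2, hco, hh'o])
    obtain ⟨t, ht⟩ := Subgroup.mem_zpowers_iff.mp hmem
    have hct : c = h' ^ t := by
      have := congrArg Subtype.val ht
      simpa using this.symm
    have hcB : c ∈ stabilizer ↥G B' := by rw [hct]; exact Subgroup.zpow_mem _ hh'B t
    exact mem_stabilizer_iff.mp hcB
  have hBns : ¬ B.Subsingleton := fun h => hBnt (Or.inl h)
  have hBuniv : B ≠ Set.univ := fun h => hBnt (Or.inr h)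
  -- the normal core of the stabilizer of `B` contains `c`
  have hcore : c ∈ (stabilizer ↥G B).normalCore := by
    intro b
    rw [mem_stabilizer_iff, mul_smul, mul_smul]
    have h1 : ¬ (b⁻¹ • B).Subsingleton := by
      intro hs
      apply hBns
      intro x hx y hy
      have := hs (Set.smul_mem_smul_set (a := b⁻¹) hx) (Set.smul_mem_smul_set (a := b⁻¹) hy)
      exact smul_left_cancel _ this
    rw [claim (b⁻¹ • B) (hB.translate b⁻¹) h1, smul_inv_smul]
  haveI := Subgroup.normalCore_normal (stabilizer ↥G B)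
  have hle : Subgroup.normalClosure ({c} : Set ↥G) ≤ stabilizer ↥G B :=
    (Subgroup.normalClosure_le_normal (N := (stabilizer ↥G B).normalCore)
      (by rw [Set.singleton_subset_iff]; exact hcore)).trans (Subgroup.normalCore_le _)
  intro htrK
  have hBne : B.Nonempty := by
    by_contra h
    rw [Set.not_nonempty_iff_eq_empty] at h
    exact hBns (by rw [h]; exact Set.subsingleton_empty)
  obtain ⟨x, hx⟩ := hBne
  obtain ⟨y, hy⟩ : ∃ y, y ∉ B := by
    by_contra h
    push_neg at h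
    exact hBuniv (Set.eq_univ_iff_forall.mpr h)
  obtain ⟨k, hk⟩ := htrK.exists_smul_eq x y
  have hkB : (k : ↥G) ∈ stabilizer ↥G B := hle k.2
  rw [mem_stabilizer_iff] at hkB
  apply hy
  rw [← hk, ← hkB]
  exact Set.smul_mem_smul_set hx

end Cfsg.Agent.Lib.H20.BS
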