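import Mathlib
import Cfsg.Agent.Lib.H20.BurnsideSchur4

set_option autoImplicit false

/-!
# Schur's theorem on primitive groups containing a regular cyclic subgroup whose order is not a
prime power (abstract form)
-/

namespace Cfsg.Agent.Lib.H20.BS

open MulAction

open scoped Classical in
/-- The properties of the prime `p` in a cyclic group `A` of order divisible by `p`. -/
structure KerP (A : Type*) [AddCommGroup A] [Fintype A] (p : ℕ) : Prop where
  card_ker : (Finset.univ.filter (fun x : A => p • x = 0)).card = p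
  exists_gen : ∃ x : A, ∀ y : A, p • y ≠ x

variable {A : Type*} [AddCommGroup A] [Fintype A] {𝒢 : Subgroup (Equiv.Perm A)}
  {p : ℕ} [hp : Fact p.Prime]

theorem KerP.subset_zero (hA : KerP A p) [IsPreprimitive ↥𝒢 A] {W : Set A} (hW : DISet 𝒢 W)
    (hWR : ∀ w ∈ W, ∃ y : A, p • y = w) : ∀ w ∈ W, w = 0 := by
  have hle : AddSubgroup.closure W ≤ (nsmulAddMonoidHom p : A →+ A).range := by
    rw [AddSubgroup.closure_le]
    intro w hw
    obtain ⟨y, hy⟩ := hWR w hw
    exact ⟨y, hy⟩
  rcases hW.closure.eq_bot_or_eq_top with h | h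
  · intro w hw
    have : w ∈ AddSubgroup.closure W := AddSubgroup.subset_closure hw
    rw [h, AddSubgroup.mem_bot] at this
    exact this
  · exfalso
    obtain ⟨x, hx⟩ := hA.exists_gen
    have : x ∈ AddSubgroup.closure W := by rw [h]; exact AddSubgroup.mem_top x
    obtain ⟨y, hy⟩ := hle this
    exact hx y hy

open scoped Classical in
theorem KerP.coset_mem (hA : KerP A p) [IsPreprimitive ↥𝒢 A] {W : Set A} (hW : DISet 𝒢 W)
    {t z : A} (ht : t ∈ W) (hpt : p • t ≠ 0) (hz : p • z = 0) : t + z ∈ W := by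
  set c : A → ZMod p := fun h =>
    ((Finset.univ.filter (fun w : A => w ∈ W ∧ p • w = h)).card : ZMod p) with hc
  have hcdi : DIFun 𝒢 c := frob_di p hW
  have hV : DISet 𝒢 {h | c h ≠ 0} := hcdi.setOf (fun r => r ≠ 0)
  have hV0 := hA.subset_zero hV (by
    intro h hh
    rw [Set.mem_ofPred_eq] at hh
    by_contra hcon
    push_neg at hcon
    apply hh
    rw [hc]
    beta_reduce
    have : Finset.univ.filter (fun w : A => w ∈ W ∧ p • w = h) = ∅ := by
      rw [Finset.filter_eq_empty_iff]
      intro w _ hw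
      exact hcon w hw.2
    rw [this, Finset.card_empty, Nat.cast_zero])
  set h := p • t with hh
  have hch : c h = 0 := by
    by_contra hcon
    exact hpt (hV0 h hcon)
  set F := Finset.univ.filter (fun w : A => w ∈ W ∧ p • w = h) with hF
  set Fib := Finset.univ.filter (fun w : A => p • w = h) with hFib
  have hFsub : F ⊆ Fib := by
    intro w hw
    rw [hF, Finset.mem_filter] at hw
    rw [hFib, Finset.mem_filter]
    exact ⟨Finset.mem_univ _, hw.2.2⟩
  have hFibcard : Fib.card = p := by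
    rw [← hA.card_ker]
    apply Finset.card_bij (fun w _ => w - t)
    · intro w hw
      rw [hFib, Finset.mem_filter] at hw
      rw [Finset.mem_filter]
      refine ⟨Finset.mem_univ _, ?_⟩
      rw [smul_sub, hw.2, hh, sub_self]
    · intro w₁ _ w₂ _ h12
      exact sub_left_injective h12
    · intro x hx
      rw [Finset.mem_filter] at hx
      refine ⟨x + t, ?_, by abel⟩
      rw [hFib, Finset.mem_filter]
      refine ⟨Finset.mem_univ _, ?_⟩
      rw [smul_add, hx.2, zero_add]
  have htF : t ∈ F := by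
    rw [hF, Finset.mem_filter]
    exact ⟨Finset.mem_univ _, ht, rfl⟩
  have hFpos : 0 < F.card := Finset.card_pos.mpr ⟨t, htF⟩
  have hFdvd : p ∣ F.card := by
    have : ((F.card : ℕ) : ZMod p) = 0 := hch
    exact (ZMod.natCast_eq_zero_iff _ _).mp this
  have hFle : F.card ≤ p := by
    rw [← hFibcard]; exact Finset.card_le_card hFsub
  have hFcard : F.card = p := le_antisymm hFle (Nat.le_of_dvd hFpos hFdvd)
  have hFeq : F = Fib := Finset.eq_of_subset_of_card_le hFsub (by rw [hFcard, hFibcard])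
  have : t + z ∈ Fib := by
    rw [hFib, Finset.mem_filter]
    refine ⟨Finset.mem_univ _, ?_⟩
    rw [smul_add, hz, add_zero]
  rw [← hFeq, hF, Finset.mem_filter] at this
  exact this.2.1

/-- The translation stabilizer of a set. -/
def transStab (T : Set A) : AddSubgroup A where
  carrier := {h | ∀ w, w - h ∈ T ↔ w ∈ T}
  zero_mem' := by intro w; rw [sub_zero]
  add_mem' := by
    intro a b ha hb w
    rw [Set.mem_ofPred_eq] at ha hb
    rw [← sub_sub, hb, ha]
  neg_mem' := by
    intro a ha w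
    rw [Set.mem_ofPred_eq] at ha
    rw [← ha (w - -a)]
    have : w - -a - a = w := by abel
    rw [this]

theorem mem_transStab {T : Set A} {h : A} : h ∈ transStab T ↔ ∀ w, w - h ∈ T ↔ w ∈ T := Iff.rfl

omit [Fintype A] in
/-- Points with the same out-neighbourhood are mapped to such points. -/
theorem DISet.nbr {T : Set A} (hT : DISet 𝒢 T) {σ : Equiv.Perm A} (hσ : σ ∈ 𝒢) {x x' : A}
    (h : ∀ w, w - x ∈ T ↔ w - x' ∈ T) : ∀ w, w - σ x ∈ T ↔ w - σ x' ∈ T := by
  have key : ∀ (y w : A), w - σ y ∈ T ↔ σ⁻¹ w - y ∈ T := by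
    intro y w
    have h1 := hT.mem_iff (𝒢.inv_mem hσ) (σ y) (w - σ y)
    have h2 : σ y + (w - σ y) = w := by abel
    rw [h2, perm_inv_apply_self] at h1
    exact h1.symm
  intro w
  rw [key x w, key x' w]
  exact h (σ⁻¹ w)

theorem transStab_diSet {T : Set A} (hT : DISet 𝒢 T) : DISet 𝒢 (transStab T : Set A) := by
  intro σ hσ u h hh
  rw [SetLike.mem_coe, mem_transStab] at hh ⊢
  have h1 : ∀ w, w - u ∈ T ↔ w - (u + h) ∈ T := by
    intro w
    have := hh (w - u)
    rw [sub_sub] at this
    exact this.symm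
  have h2 := hT.nbr hσ h1
  intro w
  have h3 := h2 (w + σ u)
  have e1 : w + σ u - σ u = w := by abel
  have e2 : w + σ u - σ (u + h) = w - (σ (u + h) - σ u) := by abel
  rw [e1, e2] at h3
  exact h3.symm

open scoped Classical in
/-- Every nontrivial orbit of the stabilizer meets the kernel of `p`. -/
theorem KerP.orb_meets (hA : KerP A p) (hT : Trans 𝒢) [IsPreprimitive ↥𝒢 A] {a : A} (ha : a ≠ 0) :
    ∃ t ∈ orb 𝒢 a, p • t = 0 := by
  by_contra hcon
  push_neg at hcon
  have hTdi : DISet 𝒢 (orb 𝒢 a) := orb_diSet hT a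
  have hker : ∀ z : A, p • z = 0 → z ∈ transStab (orb 𝒢 a) := by
    intro z hz
    have hnz : p • (-z) = 0 := by rw [smul_neg, hz, neg_zero]
    rw [mem_transStab]
    intro w
    constructor
    · intro hw
      have := hA.coset_mem hTdi hw (hcon _ hw) hz
      have e : w - z + z = w := by abel
      rwa [e] at this
    · intro hw
      have := hA.coset_mem hTdi hw (hcon _ hw) hnz
      rwa [← sub_eq_add_neg] at this
  have hker2 : 1 < (Finset.univ.filter (fun x : A => p • x = 0)).card := by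
    rw [hA.card_ker]; exact hp.out.one_lt
  obtain ⟨z, hz, hz0⟩ := Finset.exists_mem_ne hker2 (0 : A)
  rw [Finset.mem_filter] at hz
  rcases (transStab_diSet hTdi).eq_bot_or_eq_top with h | h
  · have := hker z hz.2
    rw [h, AddSubgroup.mem_bot] at this
    exact hz0 this
  · have h1 : -a ∈ transStab (orb 𝒢 a) := by rw [h]; exact AddSubgroup.mem_top _
    rw [mem_transStab] at h1
    have h2 := (h1 0).mpr
    have : (0 : A) ∈ orb 𝒢 a := by
      have h3 := (h1 0)
      rw [zero_sub, neg_neg] at h3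
      exact h3.mp (mem_orb_self a)
    exact zero_notMem_orb ha this

omit [Fintype A] in
theorem smul_ne_zero_of_coprime {p q : ℕ} (hpq : Nat.Coprime p q) {x : A} (hx : x ≠ 0)
    (hpx : p • x = 0) : q • x ≠ 0 := by
  intro hqx
  apply hx
  have h1 : addOrderOf x ∣ p := addOrderOf_dvd_of_nsmul_eq_zero hpx
  have h2 : addOrderOf x ∣ q := addOrderOf_dvd_of_nsmul_eq_zero hqx
  have h3 : addOrderOf x ∣ 1 := by
    have := Nat.dvd_gcd h1 h2
    rwa [hpq] at this
  exact AddMonoid.addOrderOf_eq_one_iff.mp (Nat.dvd_one.mp h3)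

/-- **Schur's theorem** (abstract form, two distinct primes). -/
theorem schur_abstract {q : ℕ} [hq : Fact q.Prime] (hpq : p ≠ q) (hAp : KerP A p) (hAq : KerP A q)
    (hT : Trans 𝒢) [IsPreprimitive ↥𝒢 A] {a b : A} (ha : a ≠ 0) (hb : b ≠ 0) : b ∈ orb 𝒢 a := by
  classical
  have hcop : Nat.Coprime p q := (Nat.coprime_primes hp.out hq.out).mpr hpq
  -- a nonzero element of the kernel of `p`
  have hker2 : 1 < (Finset.univ.filter (fun x : A => p • x = 0)).card := by
    rw [hAp.card_ker]; exact hp.out.one_lt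
  obtain ⟨x₀, hx₀, hx₀0⟩ := Finset.exists_mem_ne hker2 (0 : A)
  rw [Finset.mem_filter] at hx₀
  have hpx₀ : p • x₀ = 0 := hx₀.2
  -- the orbit of any nonzero `x` in the kernel of `p` contains all nonzero elements of that kernel
  have main : ∀ x : A, x ≠ 0 → p • x = 0 → ∀ w : A, w ≠ 0 → p • w = 0 → w ∈ orb 𝒢 x := by
    intro x hx0 hpx w hw0 hpw
    have hTdi : DISet 𝒢 (orb 𝒢 x) := orb_diSet hT x
    obtain ⟨y, hyT, hqy⟩ := hAq.orb_meets hT (𝒢 := 𝒢) hx0
    have hy0 : y ≠ 0 := by
      rintro rfl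
      exact zero_notMem_orb hx0 hyT
    -- `y + w ∈ T`, then subtract `y`
    have h1 : y + w ∈ orb 𝒢 x :=
      hAp.coset_mem hTdi hyT (smul_ne_zero_of_coprime hcop.symm hy0 hqy) hpw
    have h2 : q • (y + w) ≠ 0 := by
      rw [smul_add, hqy, zero_add]
      exact smul_ne_zero_of_coprime hcop hw0 hpw
    have h3 := hAq.coset_mem hTdi h1 h2 (z := -y) (by rw [smul_neg, hqy, neg_zero])
    have e : y + w + -y = w := by abel
    rwa [e] at h3
  -- every nontrivial orbit is the orbit of `x₀`
  have all : ∀ c : A, c ≠ 0 → orb 𝒢 c = orb 𝒢 x₀ := by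
    intro c hc
    obtain ⟨t, htc, hpt⟩ := hAp.orb_meets hT (𝒢 := 𝒢) hc
    have ht0 : t ≠ 0 := by
      rintro rfl
      exact zero_notMem_orb hc htc
    have h1 : t ∈ orb 𝒢 x₀ := main x₀ hx₀0 hpx₀ t ht0 hpt
    rw [← orb_eq_of_mem htc, orb_eq_of_mem h1]
  rw [all a ha, ← all b hb]
  exact mem_orb_self b

end Cfsg.Agent.Lib.H20.BS
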