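import Mathlib
import Cfsg.Agent.Lib.H20.BurnsideSchur6
import Cfsg.Agent.Lib.H20.BurnsideSchur7

set_option autoImplicit false

/-!
# Schur's theorem: transitive groups with a regular cyclic subgroup of non-prime-power order
-/

namespace Cfsg.Agent.Lib.H20.BS

open MulAction Cfsg.Agent.Lib.H18

theorem card_ker_zmod' (n p : ℕ) [hp : Fact p.Prime] [NeZero n] (hpn : p ∣ n)
    [DecidablePred (fun x : ZMod n => p • x = 0)] :
    (Finset.univ.filter (fun x : ZMod n => p • x = 0)).card = p := by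
  have hppos : 0 < p := hp.out.pos
  obtain ⟨d, hn⟩ := hpn
  have hnpos : 0 < n := Nat.pos_of_ne_zero (NeZero.ne n)
  have hdpos : 0 < d := by
    rcases Nat.eq_zero_or_pos d with h | h
    · rw [h, mul_zero] at hn; omega
    · exact h
  have himg : Finset.univ.filter (fun x : ZMod n => p • x = 0) =
      (Finset.range p).image (fun k : ℕ => ((k * d : ℕ) : ZMod n)) := by
    ext x
    rw [Finset.mem_filter, Finset.mem_image]
    constructor
    · rintro ⟨-, hx⟩
      have h1 : x = ((x.val : ℕ) : ZMod n) := (ZMod.natCast_zmod_val x).symm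
      rw [nsmul_eq_mul, h1, ← Nat.cast_mul, ZMod.natCast_eq_zero_iff] at hx
      have hx' : p * d ∣ p * x.val := by rw [← hn]; exact hx
      have h2 : d ∣ x.val := Nat.dvd_of_mul_dvd_mul_left hppos hx'
      obtain ⟨k, hk⟩ := h2
      refine ⟨k, ?_, ?_⟩
      · rw [Finset.mem_range]
        have h3 : x.val < n := ZMod.val_lt x
        have h4 : d * k < d * p := by
          rw [← hk, mul_comm d p, ← hn]; exact h3
        exact Nat.lt_of_mul_lt_mul_left h4
      · rw [mul_comm, ← hk]; exact h1.symm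
    · rintro ⟨k, -, rfl⟩
      refine ⟨Finset.mem_univ _, ?_⟩
      rw [nsmul_eq_mul, ← Nat.cast_mul, ZMod.natCast_eq_zero_iff]
      exact ⟨k, by rw [hn]; ring⟩
  rw [himg, Finset.card_image_of_injOn, Finset.card_range]
  intro k₁ hk₁ k₂ hk₂ h12
  rw [Finset.coe_range, Set.mem_Iio] at hk₁ hk₂
  beta_reduce at h12
  have hlt : ∀ k, k < p → k * d < n := by
    intro k hk
    rw [hn]
    exact Nat.mul_lt_mul_of_lt_of_le hk le_rfl hdpos
  have h3 := congrArg ZMod.val h12
  rw [ZMod.val_natCast_of_lt (hlt k₁ hk₁), ZMod.val_natCast_of_lt (hlt k₂ hk₂)] at h3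
  exact Nat.eq_of_mul_eq_mul_right hdpos h3

theorem kerP_zmod (n p : ℕ) [hp : Fact p.Prime] [NeZero n] (hpn : p ∣ n) : KerP (ZMod n) p := by
  classical
  refine ⟨?_, ?_⟩
  · convert card_ker_zmod' n p hpn
  · refine ⟨1, fun y hy => ?_⟩
    rw [nsmul_eq_mul] at hy
    have h1 : IsUnit ((p : ℕ) : ZMod n) := IsUnit.of_mul_eq_one _ hy
    rw [ZMod.isUnit_iff_coprime] at h1
    have h2 : p ∣ Nat.gcd p n := Nat.dvd_gcd dvd_rfl hpn
    rw [h1] at h2
    exact hp.out.one_lt.ne' (Nat.dvd_one.mp h2)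

/-- **Schur.** A primitive group containing a regular cyclic subgroup whose order is not a prime
power is doubly transitive. -/
theorem schur_two_transitive {G Ω : Type*} [Group G] [MulAction G Ω] [Finite Ω]
    (hprim : IsPreprimitive G Ω) (hn : 2 ≤ Nat.card Ω) (hnp : ¬ IsPrimePow (Nat.card Ω))
    (C : Subgroup G) (hcyc : IsCyclic ↥C)
    (hC : IsPretransitive ↥C Ω ∧ ∀ a : Ω, stabilizer ↥C a = ⊥) :
    IsMultiplyPretransitive G Ω 2 := by
  classical
  haveI : Fintype Ω := Fintype.ofFinite Ω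
  set n := Nat.card Ω with hndef
  haveI : NeZero n := ⟨by omega⟩
  obtain ⟨hCtr, hCfree⟩ := hC
  haveI := hCtr
  haveI : Nonempty Ω := by
    rw [← Finite.card_pos_iff]; omega
  obtain ⟨ω₀⟩ := ‹Nonempty Ω›
  -- the order of `C`
  have hcardC : Nat.card ↥C = n := by
    have := index_stabilizer_of_transitive ↥C ω₀
    rwa [hCfree ω₀, Subgroup.index_bot] at this
  obtain ⟨c, hc⟩ := hcyc.exists_generator
  have hco : orderOf c = n := by rw [orderOf_eq_card_of_forall_mem_zpowers hc, hcardC]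
  -- the labelling
  set f : ZMod n → Ω := fun k => (c ^ k.val) • ω₀ with hf
  have hinj : Function.Injective f := by
    intro a b hab
    have h1 : ((c ^ b.val)⁻¹ * c ^ a.val) ∈ stabilizer ↥C ω₀ := by
      rw [mem_stabilizer_iff, mul_smul]
      have : c ^ a.val • ω₀ = c ^ b.val • ω₀ := hab
      rw [this, inv_smul_smul]
    rw [hCfree ω₀, Subgroup.mem_bot, inv_mul_eq_one] at h1
    have h2' : a.val ≡ b.val [MOD orderOf c] := pow_eq_pow_iff_modEq.mp h1.symm
    have h2 : a.val % n = b.val % n := by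
      have h2'' := h2'
      unfold Nat.ModEq at h2''
      rw [hco] at h2''
      exact h2''
    apply ZMod.val_injective
    rw [Nat.mod_eq_of_lt (ZMod.val_lt a), Nat.mod_eq_of_lt (ZMod.val_lt b)] at h2
    exact h2
  have hbij : Function.Bijective f :=
    (Fintype.bijective_iff_injective_and_card f).mpr
      ⟨hinj, by rw [ZMod.card, hndef, Nat.card_eq_fintype_card]⟩
  set e : ZMod n ≃ Ω := Equiv.ofBijective f hbij with he
  have hstep : ∀ i : ZMod n, e (i + 1) = (c : G) • e i := by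
    intro i
    rw [he, Equiv.ofBijective_apply, Equiv.ofBijective_apply, hf]
    beta_reduce
    have : c ^ (i + 1).val = c ^ (i.val + 1) := by
      rw [pow_eq_pow_iff_modEq, hco, ← ZMod.natCast_eq_natCast_iff, ZMod.natCast_zmod_val,
        Nat.cast_add, ZMod.natCast_zmod_val, Nat.cast_one]
    rw [this, pow_succ', mul_smul]
    rfl
  -- the permutation group on `ZMod n`
  set R : Subgroup (Equiv.Perm Ω) := (toPermHom G Ω).range with hR
  set 𝒢 : Subgroup (Equiv.Perm (ZMod n)) := mapPerm e.symm R with h𝒢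
  have hprimR : IsPreprimitive ↥R Ω := by
    let φ : G → ↥R := fun g => ⟨toPermHom G Ω g, ⟨g, rfl⟩⟩
    let ι : Ω →ₑ[φ] Ω :=
      { toFun := id
        map_smul' := fun g a => rfl }
    haveI := hprim
    exact IsPreprimitive.of_surjective (f := ι) Function.surjective_id
  have h1 : Equiv.addRight (1 : ZMod n) ∈ 𝒢 := by
    rw [h𝒢, mem_mapPerm]
    refine ⟨toPermHom G Ω (c : G), ⟨(c : G), rfl⟩, ?_⟩
    ext a
    rw [permCongrHom_apply_apply, Equiv.symm_symm, toPermHom_apply, toPerm_apply, ← hstep,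
      Equiv.symm_apply_apply, Equiv.coe_addRight]
  have hT : Trans 𝒢 := trans_of_addRight_one 𝒢 h1
  haveI : IsPreprimitive ↥𝒢 (ZMod n) := mapPerm_isPreprimitive e.symm hprimR
  -- two distinct primes dividing `n`
  obtain ⟨p, hp, hpn⟩ := Nat.exists_prime_and_dvd (show n ≠ 1 by omega)
  have hex : ∃ q : ℕ, q.Prime ∧ q ∣ n ∧ p ≠ q := by
    by_contra hcon
    push_neg at hcon
    apply hnp
    rw [isPrimePow_iff_unique_prime_dvd]
    refine ⟨p, ⟨hp, hpn⟩, ?_⟩
    rintro q ⟨hq, hqn⟩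
    exact (hcon q hq hqn).symm
  obtain ⟨q, hq, hqn, hpq⟩ := hex
  haveI : Fact p.Prime := ⟨hp⟩
  haveI : Fact q.Prime := ⟨hq⟩
  have h2 : IsMultiplyPretransitive ↥𝒢 (ZMod n) 2 :=
    two_trans_of_orb hT (fun a b ha hb =>
      schur_abstract hpq (kerP_zmod n p hpn) (kerP_zmod n q hqn) hT ha hb)
  have h3 : IsMultiplyPretransitive ↥R Ω 2 := mapPerm_two_pretransitive e.symm h2
  rw [is_two_pretransitive_iff] at h3 ⊢
  intro a b c' d hab hcd
  obtain ⟨⟨τ, hτ⟩, h4, h5⟩ := h3 hab hcd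
  obtain ⟨g, rfl⟩ := hτ
  exact ⟨g, h4, h5⟩

end Cfsg.Agent.Lib.H20.BS
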