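import Mathlib

/-!
# Gauss periods are not constant (helper20; S1950 piece GAUSS)

`p` prime, `ψ` a primitive additive character of `ZMod p` with values in `ℂ`, `E` a set of `e` nonzero
residues with `1 ≤ e < p - 1`, `η x = ∑_{t ∈ E} ψ (t * x)`.  Then for every `k ≠ 0` the function
`a ↦ η (k * a)` is not constant on the nonzero residues.
(From `∑_{a} η(ka) = 0` and `∑_a |η(ka)|² = e p`.)
-/

set_option autoImplicit false

namespace Cfsg.Agent.Lib.H20.CY

open scoped ComplexConjugate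

variable {p : ℕ} [Fact p.Prime]

/-- the period sum -/
noncomputable def eta (ψ : AddChar (ZMod p) ℂ) (E : Finset (ZMod p)) (x : ZMod p) : ℂ :=
  ∑ t ∈ E, ψ (t * x)

theorem eta_zero (ψ : AddChar (ZMod p) ℂ) (E : Finset (ZMod p)) : eta ψ E 0 = (E.card : ℂ) := by
  simp [eta]

/-- `∑_a η(k a) = 0`. -/
theorem sum_eta (ψ : AddChar (ZMod p) ℂ) (hψ : ψ.IsPrimitive) (E : Finset (ZMod p))
    (hE0 : (0 : ZMod p) ∉ E) (k : ZMod p) (hk : k ≠ 0) :
    ∑ a : ZMod p, eta ψ E (k * a) = 0 := by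
  classical
  unfold eta
  rw [Finset.sum_comm]
  refine Finset.sum_eq_zero (fun t ht => ?_)
  have htk : t * k ≠ 0 := mul_ne_zero (fun h => hE0 (h ▸ ht)) hk
  have h := AddChar.sum_mulShift (t * k) hψ
  rw [if_neg htk, Nat.cast_zero] at h
  rw [← h]
  refine Finset.sum_congr rfl (fun a _ => ?_)
  congr 1
  ring

/-- `∑_a |η(k a)|² = e p`. -/
theorem sum_eta_sq (ψ : AddChar (ZMod p) ℂ) (hψ : ψ.IsPrimitive) (E : Finset (ZMod p))
    (k : ZMod p) (hk : k ≠ 0) :
    ∑ a : ZMod p, eta ψ E (k * a) * conj (eta ψ E (k * a)) = (E.card : ℂ) * (p : ℂ) := by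
  classical
  unfold eta
  have e1 : ∀ a : ZMod p, (∑ t ∈ E, ψ (t * (k * a))) * conj (∑ t ∈ E, ψ (t * (k * a))) =
      ∑ t ∈ E, ∑ s ∈ E, ψ (a * ((t - s) * k)) := by
    intro a
    rw [map_sum, Finset.sum_mul]
    refine Finset.sum_congr rfl (fun t _ => ?_)
    rw [Finset.mul_sum]
    refine Finset.sum_congr rfl (fun s _ => ?_)
    rw [← AddChar.map_neg_eq_conj, ← AddChar.map_add_eq_mul]
    congr 1
    ring
  rw [Finset.sum_congr rfl (fun a _ => e1 a), Finset.sum_comm]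
  have e2 : ∀ t ∈ E, ∑ a : ZMod p, ∑ s ∈ E, ψ (a * ((t - s) * k)) = (p : ℂ) := by
    intro t ht
    rw [Finset.sum_comm]
    have e3 : ∀ s ∈ E, ∑ a : ZMod p, ψ (a * ((t - s) * k)) = if s = t then (p : ℂ) else 0 := by
      intro s _
      have h := AddChar.sum_mulShift ((t - s) * k) hψ
      rw [h]
      by_cases hst : s = t
      · subst hst
        simp [ZMod.card]
      · have : (t - s) * k ≠ 0 := mul_ne_zero (sub_ne_zero.2 (Ne.symm hst)) hk
        rw [if_neg this, if_neg hst, Nat.cast_zero]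
    rw [Finset.sum_congr rfl e3, Finset.sum_ite_eq' E t, if_pos ht]
  rw [Finset.sum_congr rfl e2, Finset.sum_const, nsmul_eq_mul]

/-- **GAUSS**: the periods `η(k a)`, `a ≠ 0`, are not all equal when `1 ≤ e < p - 1`. -/
theorem eta_not_const (ψ : AddChar (ZMod p) ℂ) (hψ : ψ.IsPrimitive) (E : Finset (ZMod p))
    (hE0 : (0 : ZMod p) ∉ E) (he1 : 1 ≤ E.card) (he : E.card < p - 1)
    (k : ZMod p) (hk : k ≠ 0) :
    ∃ a c : ZMod p, a ≠ 0 ∧ c ≠ 0 ∧ eta ψ E (k * a) ≠ eta ψ E (k * c) := by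
  classical
  by_contra hcon
  push Not at hcon
  have hp : p.Prime := Fact.out
  set C : ℂ := eta ψ E (k * 1) with hC
  have hconst : ∀ a : ZMod p, a ≠ 0 → eta ψ E (k * a) = C := fun a ha =>
    hcon a 1 ha one_ne_zero
  -- split the sums at `a = 0`
  have hsplit : ∀ F : ZMod p → ℂ, ∑ a : ZMod p, F a = F 0 + ∑ a ∈ Finset.univ.erase (0 : ZMod p), F a := by
    intro F
    rw [← Finset.add_sum_erase _ _ (Finset.mem_univ (0 : ZMod p))]
  have hcardE : (Finset.univ.erase (0 : ZMod p)).card = p - 1 := by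
    rw [Finset.card_erase_of_mem (Finset.mem_univ _), Finset.card_univ, ZMod.card]
  have h1 := sum_eta ψ hψ E hE0 k hk
  rw [hsplit, mul_zero, eta_zero] at h1
  have h1' : ∑ a ∈ Finset.univ.erase (0 : ZMod p), eta ψ E (k * a) = ((p - 1 : ℕ) : ℂ) * C := by
    rw [Finset.sum_congr rfl (fun a ha => hconst a (Finset.ne_of_mem_erase ha)), Finset.sum_const,
      hcardE, nsmul_eq_mul]
  rw [h1'] at h1
  have h2 := sum_eta_sq ψ hψ E k hk
  rw [hsplit, mul_zero, eta_zero] at h2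
  have h2' : ∑ a ∈ Finset.univ.erase (0 : ZMod p), eta ψ E (k * a) * conj (eta ψ E (k * a)) =
      ((p - 1 : ℕ) : ℂ) * (C * conj C) := by
    rw [Finset.sum_congr rfl (fun a ha => by rw [hconst a (Finset.ne_of_mem_erase ha)]),
      Finset.sum_const, hcardE, nsmul_eq_mul]
  rw [h2'] at h2
  -- arithmetic: with `e = |E|`, `m = p - 1`: `m C = -e`, `e² + m |C|² = e p`
  set e : ℕ := E.card with he_def
  set m : ℕ := p - 1 with hm
  have hm1 : 1 ≤ m := by
    have := hp.two_le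
    omega
  have hpm : (p : ℂ) = (m : ℂ) + 1 := by
    have : p = m + 1 := by omega
    rw [this]; push_cast; ring
  have hmne : (m : ℂ) ≠ 0 := by
    have : m ≠ 0 := by omega
    exact_mod_cast this
  have hCval : C = -(e : ℂ) / (m : ℂ) := by
    field_simp
    linear_combination h1
  have hconjC : conj C = -(e : ℂ) / (m : ℂ) := by
    rw [hCval, map_div₀, map_neg, Complex.conj_natCast, Complex.conj_natCast]
  rw [map_natCast] at h2
  rw [hconjC, hCval, hpm] at h2
  -- `e² + m * (e/m)² = e (m+1)`, i.e. `e² = e m`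
  have h3 : (e : ℂ) * (e : ℂ) = (e : ℂ) * (m : ℂ) := by
    field_simp at h2
    linear_combination h2
  have h4 : e * e = e * m := by
    have : ((e * e : ℕ) : ℂ) = ((e * m : ℕ) : ℂ) := by
      push_cast
      exact h3
    exact_mod_cast this
  have h5 : e = m := Nat.eq_of_mul_eq_mul_left he1 h4
  omega

end Cfsg.Agent.Lib.H20.CY
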