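import Mathlib
import Cfsg.Agent.Lib.H23.AbSylD
import Cfsg.Agent.Lib.H20.Cyclic

/-!
# S1950, END3 route A (helper20): pieces ORB `orbit_card_le` and ORBZ `rel_apply_eq_one`
in the exact signatures of `tools/blueprints/S1950_sigs_h12.lean`.
-/

set_option autoImplicit false

namespace Cfsg.Agent.Lib.H20.CY

open Cfsg

universe u

variable {G : Type*} [Group G] [Finite G] {p : ℕ} [Fact p.Prime]

/-- ORB.  The `N_G(P)`-orbit of `ψ` has at most `|N_G(P) : C_G(P)|` elements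
(`H23.AbSyl.rel_iff`, `twist_of_mem_centralizer`). -/
theorem orbit_card_le (P : Sylow p G) (ψ : ↥(P : Subgroup G) →* ℂˣ) :
    Nat.card {ψ' : ↥(P : Subgroup G) →* ℂˣ // Cfsg.Agent.Lib.H23.AbSyl.Rel (P : Subgroup G) ψ ψ'} ≤
      (Subgroup.centralizer ((P : Subgroup G) : Set G)).relIndex
        (Subgroup.normalizer ((P : Subgroup G) : Set G)) := by
  set N := Subgroup.normalizer ((P : Subgroup G) : Set G) with hN
  set C := Subgroup.centralizer ((P : Subgroup G) : Set G) with hC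
  let f : ↥N → (↥(P : Subgroup G) →* ℂˣ) := fun y =>
    Cfsg.Agent.Lib.H23.AbSyl.twist (P : Subgroup G) y ψ
  have hf : ∀ a b : ↥N, QuotientGroup.leftRel (C.subgroupOf N) a b → f a = f b := by
    intro a b hab
    rw [QuotientGroup.leftRel_apply] at hab
    have hc : ((a⁻¹ * b : ↥N) : G) ∈ C := Subgroup.mem_subgroupOf.1 hab
    have hb : b = a * (a⁻¹ * b) := by group
    show Cfsg.Agent.Lib.H23.AbSyl.twist (P : Subgroup G) a ψ =
      Cfsg.Agent.Lib.H23.AbSyl.twist (P : Subgroup G) b ψ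
    rw [hb, ← Cfsg.Agent.Lib.H23.AbSyl.twist_twist,
      Cfsg.Agent.Lib.H23.AbSyl.twist_of_mem_centralizer _ _ hc]
  let fbar : (↥N ⧸ C.subgroupOf N) → (↥(P : Subgroup G) →* ℂˣ) :=
    Quotient.lift (s := QuotientGroup.leftRel (C.subgroupOf N)) f (fun a b hab => hf a b hab)
  have hsub : {ψ' : ↥(P : Subgroup G) →* ℂˣ | Cfsg.Agent.Lib.H23.AbSyl.Rel (P : Subgroup G) ψ ψ'} ⊆
      Set.range fbar := by
    intro ψ' hψ'
    obtain ⟨x, hx⟩ := (Cfsg.Agent.Lib.H23.AbSyl.rel_iff (P : Subgroup G) ψ ψ').1 hψ'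
    refine ⟨(QuotientGroup.mk x⁻¹ : ↥N ⧸ C.subgroupOf N), ?_⟩
    show Cfsg.Agent.Lib.H23.AbSyl.twist (P : Subgroup G) x⁻¹ ψ = ψ'
    rw [← hx, Cfsg.Agent.Lib.H23.AbSyl.twist_twist, mul_inv_cancel,
      Cfsg.Agent.Lib.H23.AbSyl.twist_one]
  have h1 : Nat.card {ψ' : ↥(P : Subgroup G) →* ℂˣ //
      Cfsg.Agent.Lib.H23.AbSyl.Rel (P : Subgroup G) ψ ψ'} ≤ Nat.card ↥(Set.range fbar) :=
    Nat.card_mono (Set.finite_range fbar) hsub
  have h2 : Nat.card ↥(Set.range fbar) ≤ Nat.card (↥N ⧸ C.subgroupOf N) := Finite.card_range_le fbar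
  exact h1.trans h2

/-- ORBZ.  `N_G(P)`-conjugates of a character trivial at `z` are trivial at `z` (`n⁻¹ z n ∈ ⟨z⟩`: a cyclic group has
only one subgroup of order `p`). -/
theorem rel_apply_eq_one (P : Sylow p G) (hP : IsCyclic ↥(P : Subgroup G)) {z : G} (hzP : z ∈ (P : Subgroup G))
    (hz : orderOf z = p) {ψ ψ' : ↥(P : Subgroup G) →* ℂˣ}
    (h : Cfsg.Agent.Lib.H23.AbSyl.Rel (P : Subgroup G) ψ ψ') (hψ : ψ ⟨z, hzP⟩ = 1) : ψ' ⟨z, hzP⟩ = 1 := by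
  obtain ⟨n, hn, hrel⟩ := h
  have hn' : n⁻¹ ∈ Subgroup.normalizer ((P : Subgroup G) : Set G) := Subgroup.inv_mem _ hn
  have hwP : n⁻¹ * z * n ∈ (P : Subgroup G) := by
    have := (Subgroup.mem_normalizer_iff.1 hn' z).1 hzP
    rwa [inv_inv] at this
  have h1 : ψ' ⟨z, hzP⟩ = ψ ⟨n⁻¹ * z * n, hwP⟩ :=
    hrel ⟨n⁻¹ * z * n, hwP⟩ ⟨z, hzP⟩ (by
      show z = n * (n⁻¹ * z * n) * n⁻¹
      group)
  rw [h1]
  have hmem : (⟨n⁻¹ * z * n, hwP⟩ : ↥(P : Subgroup G)) ∈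
      Subgroup.zpowers (⟨z, hzP⟩ : ↥(P : Subgroup G)) := by
    apply Cfsg.Agent.Lib.H20.mem_zpowers_of_orderOf_dvd_of_isCyclic
    rw [Subgroup.orderOf_mk, Subgroup.orderOf_mk]
    have h2 : n⁻¹ * z * n = MulAut.conj n⁻¹ z := by simp [MulAut.conj_apply]
    rw [h2, MulEquiv.orderOf_eq]
  obtain ⟨k, hk⟩ := Subgroup.mem_zpowers_iff.1 hmem
  rw [← hk, map_zpow, hψ, one_zpow]

end Cfsg.Agent.Lib.H20.CY
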