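import Mathlib

/-!
# Rank-one rigidity of a nonnegative combination of rank-one Hermitian forms (helper20; S1950 piece RANK)

If `∑ i, w i • (f i)(f i)^* = κ • h h^*` with all `w i ≥ 0`, then every `f i` with `w i > 0` is
proportional to `h`: `f i a * h c = f i c * h a`.
-/

set_option autoImplicit false

namespace Cfsg.Agent.Lib.H20.CY

open scoped ComplexConjugate

theorem rank_one_rigidity {I J : Type*} [Fintype I] (w : I → ℝ) (hw : ∀ i, 0 ≤ w i)
    (f : I → J → ℂ) (h : J → ℂ) (κ : ℂ)
    (hid : ∀ a c, ∑ i, (w i : ℂ) * f i a * conj (f i c) = κ * h a * conj (h c)) :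
    ∀ i, 0 < w i → ∀ a c, f i a * h c = f i c * h a := by
  intro i₀ hi₀ a c
  set D : I → ℂ := fun i => f i a * h c - f i c * h a with hD
  have key : ∑ i, (w i : ℂ) * (D i * conj (D i)) = 0 := by
    have e : ∀ i, (w i : ℂ) * (D i * conj (D i)) =
        (h c * conj (h c)) * ((w i : ℂ) * f i a * conj (f i a))
        - (h c * conj (h a)) * ((w i : ℂ) * f i a * conj (f i c))
        - (h a * conj (h c)) * ((w i : ℂ) * f i c * conj (f i a))
        + (h a * conj (h a)) * ((w i : ℂ) * f i c * conj (f i c)) := by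
      intro i
      simp only [hD, map_sub, map_mul]
      ring
    rw [Finset.sum_congr rfl (fun i _ => e i), Finset.sum_add_distrib, Finset.sum_sub_distrib,
      Finset.sum_sub_distrib, ← Finset.mul_sum, ← Finset.mul_sum, ← Finset.mul_sum,
      ← Finset.mul_sum, hid a a, hid a c, hid c a, hid c c]
    ring
  have key2 : ∑ i, w i * Complex.normSq (D i) = 0 := by
    have : ((∑ i, w i * Complex.normSq (D i) : ℝ) : ℂ) = 0 := by
      rw [← key]
      push_cast
      refine Finset.sum_congr rfl (fun i _ => ?_)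
      rw [Complex.mul_conj]
    exact_mod_cast this
  have hnn : ∀ i ∈ (Finset.univ : Finset I), 0 ≤ w i * Complex.normSq (D i) :=
    fun i _ => mul_nonneg (hw i) (Complex.normSq_nonneg _)
  have h0 := (Finset.sum_eq_zero_iff_of_nonneg hnn).1 key2 i₀ (Finset.mem_univ _)
  have h1 : Complex.normSq (D i₀) = 0 := by
    rcases mul_eq_zero.1 h0 with h | h
    · exact absurd h hi₀.ne'
    · exact h
  have h2 : D i₀ = 0 := Complex.normSq_eq_zero.1 h1
  exact sub_eq_zero.1 h2

end Cfsg.Agent.Lib.H20.CY
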