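import Mathlib
import Cfsg.Agent.S4089

set_option autoImplicit false

/-!
# Casolo's formula for the subnormalizer of a `p`-subgroup, part 1

For subgroups `V ≤ K` of a finite group `G` with `V` a `p`-group, `sset p K V` is the set of
`g ∈ K` normalizing some `p`-subgroup `R` with `V ≤ R ≤ K` (the subnormalizer of `V` in `K`).
We prove `|sset p K V| = ∑_{Q} |N_K(Q)|`, the sum over the Sylow `p`-subgroups `Q` of `K`
containing `V`, by Möbius inversion over the interval `[V, N_K(V)]` of the subgroup lattice and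
induction on `K`.
-/

namespace Cfsg.Agent.Lib.H20.Casolo

open scoped Classical
open Finset IncidenceAlgebra

variable {G : Type*} [Group G] [Finite G]

noncomputable local instance instFintypeSubgroupCasolo : Fintype (Subgroup G) := Fintype.ofFinite _
noncomputable local instance instFintypeCasolo : Fintype G := Fintype.ofFinite _
noncomputable local instance instLFOCasolo : LocallyFiniteOrder (Subgroup G) :=
  Fintype.toLocallyFiniteOrder

/-- Normalizers grow in `p`-groups (relative form). -/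
theorem lt_inf_normalizer {p : ℕ} [Fact p.Prime] {V M : Subgroup G} (hM : IsPGroup p M)
    (hVM : V < M) : V < M ⊓ Subgroup.normalizer (V : Set G) := by
  have hnil : Group.IsNilpotent ↥M := hM.isNilpotent
  have hnc : NormalizerCondition ↥M := Group.normalizerCondition_of_isNilpotent
  have hlt : V.subgroupOf M < ⊤ := by
    rw [lt_top_iff_ne_top]
    intro h
    rw [Subgroup.subgroupOf_eq_top] at h
    exact hVM.ne (le_antisymm hVM.le h)
  have h2 := hnc _ hlt
  obtain ⟨x, hxN, hxV⟩ := SetLike.exists_of_lt h2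
  refine lt_of_le_of_ne (le_inf hVM.le Subgroup.le_normalizer) ?_
  intro heq
  apply hxV
  rw [Subgroup.mem_subgroupOf]
  have : (x : G) ∈ M ⊓ Subgroup.normalizer (V : Set G) := by
    refine ⟨x.2, ?_⟩
    apply Cfsg.Agent.Lib.H15.mem_normalizer_of_cj_le
    rintro _ ⟨v, hv, rfl⟩
    have hvM : v ∈ M := hVM.le hv
    have h3 := (Subgroup.mem_normalizer_iff.mp hxN ⟨v, hvM⟩).mp (Subgroup.mem_subgroupOf.mpr hv)
    exact Subgroup.mem_subgroupOf.mp h3
  rw [← heq] at this
  exact this

omit [Finite G] in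
theorem mem_normalizer_inf {g : G} {A B : Subgroup G} (hA : g ∈ Subgroup.normalizer (A : Set G))
    (hB : g ∈ Subgroup.normalizer (B : Set G)) : g ∈ Subgroup.normalizer ((A ⊓ B : Subgroup G) : Set G) := by
  rw [Subgroup.mem_normalizer_iff] at hA hB ⊢
  intro h
  rw [Subgroup.mem_inf, Subgroup.mem_inf, hA h, hB h]

omit [Finite G] in
theorem mem_normalizer_sInf {g : G} {S : Set (Subgroup G)}
    (h : ∀ A ∈ S, g ∈ Subgroup.normalizer (A : Set G)) :
    g ∈ Subgroup.normalizer ((sInf S : Subgroup G) : Set G) := by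
  rw [Subgroup.mem_normalizer_iff]
  intro x
  rw [Subgroup.mem_sInf, Subgroup.mem_sInf]
  constructor
  · intro hx A hA
    exact (Subgroup.mem_normalizer_iff.mp (h A hA) x).mp (hx A hA)
  · intro hx A hA
    exact (Subgroup.mem_normalizer_iff.mp (h A hA) x).mpr (hx A hA)

variable (p : ℕ)

/-- The subnormalizer of `V` in `K` (for `p`-subgroups `V`): the elements of `K` normalizing some
`p`-subgroup `R` with `V ≤ R ≤ K`. -/
def sset (K V : Subgroup G) : Set G :=
  {g | g ∈ K ∧ ∃ R : Subgroup G, IsPGroup p R ∧ V ≤ R ∧ R ≤ K ∧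
    g ∈ Subgroup.normalizer (R : Set G)}

/-- `Q` is a Sylow `p`-subgroup of `K`. -/
def IsSyl (K Q : Subgroup G) : Prop :=
  Q ≤ K ∧ IsPGroup p Q ∧ ∀ R : Subgroup G, IsPGroup p R → Q ≤ R → R ≤ K → R = Q

/-- Indicator of the subnormalizer. -/
noncomputable def ind (K W : Subgroup G) (g : G) : ℤ := if g ∈ sset p K W then 1 else 0

/-- The number of elements of the subnormalizer. -/
noncomputable def s (K V : Subgroup G) : ℤ := ∑ g : G, ind p K V g

/-- `|N_K(Q)|`. -/
noncomputable def nrm (K Q : Subgroup G) : ℤ :=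
  (Nat.card ↥(K ⊓ Subgroup.normalizer (Q : Set G)) : ℤ)

/-- `∑ |N_K(Q)|` over the Sylow `p`-subgroups `Q` of `K` containing `V`. -/
noncomputable def t (K V : Subgroup G) : ℤ :=
  ∑ Q ∈ univ.filter (fun Q : Subgroup G => IsSyl p K Q ∧ V ≤ Q), nrm K Q

/-- The `p`-subgroups in the interval `[V, N_K(V)]`. -/
noncomputable def D (K V : Subgroup G) : Finset (Subgroup G) :=
  (Icc V (K ⊓ Subgroup.normalizer (V : Set G))).filter (fun W => IsPGroup p W)

theorem s_eq_ncard (K V : Subgroup G) : s p K V = ((sset p K V).ncard : ℤ) := by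
  unfold s ind
  rw [Finset.sum_boole]
  congr 1
  rw [Set.ncard_eq_toFinset_card']
  congr 1
  ext g
  simp

theorem mem_D {K V W : Subgroup G} : W ∈ D p K V ↔
    V ≤ W ∧ W ≤ K ∧ W ≤ Subgroup.normalizer (V : Set G) ∧ IsPGroup p W := by
  unfold D
  rw [mem_filter, mem_Icc, le_inf_iff]
  tauto

theorem self_mem_D {K V : Subgroup G} (hVK : V ≤ K) (hV : IsPGroup p V) : V ∈ D p K V :=
  (mem_D p).mpr ⟨le_rfl, hVK, Subgroup.le_normalizer, hV⟩

theorem D_inf_normalizer (K V : Subgroup G) :
    D p (K ⊓ Subgroup.normalizer (V : Set G)) V = D p K V := by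
  ext W
  rw [mem_D, mem_D, le_inf_iff]
  tauto

/-- (Z): the Möbius function sums to zero below a strictly larger `p`-subgroup. -/
theorem sum_mu_le [Fact p.Prime] {K V M : Subgroup G} (hVM : V < M) (hM : IsPGroup p M)
    (hMK : M ≤ K) : ∑ W ∈ (D p K V).filter (fun W => W ≤ M), mu ℤ V W = 0 := by
  have h1 : (D p K V).filter (fun W => W ≤ M) =
      Icc V (M ⊓ Subgroup.normalizer (V : Set G)) := by
    ext W
    rw [mem_filter, mem_D, mem_Icc, le_inf_iff]
    constructor
    · rintro ⟨⟨h1, _, h3, _⟩, h5⟩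
      exact ⟨h1, h5, h3⟩
    · rintro ⟨h1, h2, h3⟩
      exact ⟨⟨h1, h2.trans hMK, h3, hM.to_le h2⟩, h2⟩
  rw [h1, sum_Icc_mu_right, if_neg]
  exact (lt_inf_normalizer hM hVM).ne

/-- (I1): Möbius sum of `t` vanishes for a non-Sylow `V`. -/
theorem sum_mu_t [Fact p.Prime] {K V : Subgroup G} (hns : ¬ IsSyl p K V) :
    ∑ W ∈ D p K V, mu ℤ V W * t p K W = 0 := by
  have h1 : ∀ W ∈ D p K V, mu ℤ V W * t p K W =
      ∑ Q ∈ univ.filter (fun Q : Subgroup G => IsSyl p K Q),
        (if W ≤ Q then mu ℤ V W * nrm K Q else 0) := by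
    intro W _
    unfold t
    rw [Finset.mul_sum, ← Finset.sum_filter, Finset.filter_filter]
  rw [Finset.sum_congr rfl h1, Finset.sum_comm]
  apply Finset.sum_eq_zero
  intro Q hQ
  rw [mem_filter] at hQ
  rw [← Finset.sum_filter, ← Finset.sum_mul]
  by_cases hVQ : V ≤ Q
  · have hlt : V < Q := by
      refine lt_of_le_of_ne hVQ ?_
      intro h
      apply hns
      rw [h]
      exact hQ.2
    rw [sum_mu_le p hlt hQ.2.2.1 hQ.2.1, zero_mul]
  · rw [Finset.sum_eq_zero, zero_mul]
    intro W hW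
    rw [mem_filter, mem_D] at hW
    exact absurd (hW.1.1.trans hW.2) hVQ

end Cfsg.Agent.Lib.H20.Casolo
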