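import Mathlib
import Cfsg.Agent.Lib.H20.Casolo1

set_option autoImplicit false

/-!
# Casolo's formula, part 2: the Möbius sum of the subnormalizer counts
-/

namespace Cfsg.Agent.Lib.H20.Casolo

open scoped Classical
open Finset IncidenceAlgebra

variable {G : Type*} [Group G] [Finite G]

noncomputable local instance instFintypeSubgroupCasolo2 : Fintype (Subgroup G) := Fintype.ofFinite _
noncomputable local instance instFintypeCasolo2 : Fintype G := Fintype.ofFinite _
noncomputable local instance instLFOCasolo2 : LocallyFiniteOrder (Subgroup G) :=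
  Fintype.toLocallyFiniteOrder

variable (p : ℕ)

/-- The `g`-invariant `p`-subgroups of `K` containing `V`. -/
noncomputable def Iset (K V : Subgroup G) (g : G) : Finset (Subgroup G) :=
  univ.filter (fun M => IsPGroup p M ∧ V ≤ M ∧ M ≤ K ∧ g ∈ Subgroup.normalizer (M : Set G))

theorem mem_Iset {K V M : Subgroup G} {g : G} : M ∈ Iset p K V g ↔
    IsPGroup p M ∧ V ≤ M ∧ M ≤ K ∧ g ∈ Subgroup.normalizer (M : Set G) := by
  unfold Iset
  rw [mem_filter]
  simp

/-- The smallest member of `Iset` above `W`. -/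
noncomputable def cl (K V : Subgroup G) (g : G) (W : Subgroup G) : Subgroup G :=
  sInf {M | M ∈ Iset p K V g ∧ W ≤ M}

theorem le_cl (K V : Subgroup G) (g : G) (W : Subgroup G) : W ≤ cl p K V g W :=
  le_sInf (fun _ hM => hM.2)

theorem cl_le {K V M W : Subgroup G} {g : G} (hM : M ∈ Iset p K V g) (hWM : W ≤ M) :
    cl p K V g W ≤ M := sInf_le ⟨hM, hWM⟩

theorem cl_mem {K V W : Subgroup G} {g : G} (hVW : V ≤ W)
    (h : ∃ M ∈ Iset p K V g, W ≤ M) : cl p K V g W ∈ Iset p K V g := by
  obtain ⟨M, hM, hWM⟩ := h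
  have hle : cl p K V g W ≤ M := cl_le p hM hWM
  rw [mem_Iset] at hM ⊢
  refine ⟨hM.1.to_le hle, hVW.trans (le_cl p K V g W), hle.trans hM.2.2.1, ?_⟩
  apply mem_normalizer_sInf
  intro A hA
  exact ((mem_Iset p).mp hA.1).2.2.2

theorem mem_sset_iff_exists {K V W : Subgroup G} {g : G} (hg : g ∈ K) (hVW : V ≤ W) :
    g ∈ sset p K W ↔ ∃ M ∈ Iset p K V g, W ≤ M := by
  constructor
  · rintro ⟨_, R, hR, hWR, hRK, hgR⟩
    exact ⟨R, (mem_Iset p).mpr ⟨hR, hVW.trans hWR, hRK, hgR⟩, hWR⟩
  · rintro ⟨M, hM, hWM⟩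
    rw [mem_Iset] at hM
    exact ⟨hg, M, hM.1, hWM, hM.2.2.1, hM.2.2.2⟩

/-- The fibre sums of the closure map. -/
noncomputable def Afib (K V : Subgroup G) (g : G) (M : Subgroup G) : ℤ :=
  ∑ W ∈ (D p K V).filter (fun W => (∃ M' ∈ Iset p K V g, W ≤ M') ∧ cl p K V g W = M), mu ℤ V W

theorem Afib_eq_zero [Fact p.Prime] {K V : Subgroup G} {g : G}
    (hg : g ∉ Subgroup.normalizer (V : Set G)) :
    ∀ M : Subgroup G, M ∈ Iset p K V g → Afib p K V g M = 0 := by
  intro M
  induction M using WellFoundedLT.induction with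
  | ind M ih =>
    intro hM
    have hM' := (mem_Iset p).mp hM
    have hVM : V < M := by
      refine lt_of_le_of_ne hM'.2.1 ?_
      intro h
      apply hg
      rw [h]
      exact hM'.2.2.2
    have h0 := sum_mu_le p hVM hM'.1 hM'.2.2.1
    have hmaps : ∀ W ∈ (D p K V).filter (fun W => W ≤ M),
        cl p K V g W ∈ (Iset p K V g).filter (fun M' => M' ≤ M) := by
      intro W hW
      rw [mem_filter] at hW ⊢
      have hVW : V ≤ W := ((mem_D p).mp hW.1).1
      exact ⟨cl_mem p hVW ⟨M, hM, hW.2⟩, cl_le p hM hW.2⟩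
    rw [← Finset.sum_fiberwise_of_maps_to hmaps] at h0
    have h1 : ∀ M' ∈ (Iset p K V g).filter (fun M' => M' ≤ M),
        (∑ W ∈ (D p K V).filter (fun W => W ≤ M) with cl p K V g W = M', mu ℤ V W) =
          Afib p K V g M' := by
      intro M' hM'
      rw [mem_filter] at hM'
      unfold Afib
      apply Finset.sum_congr _ (fun _ _ => rfl)
      ext W
      simp only [mem_filter]
      constructor
      · rintro ⟨⟨hWD, hWM⟩, hcl⟩
        exact ⟨hWD, ⟨M, hM, hWM⟩, hcl⟩
      · rintro ⟨hWD, _, hcl⟩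
        refine ⟨⟨hWD, ?_⟩, hcl⟩
        rw [← hcl] at hM'
        exact (le_cl p K V g W).trans hM'.2
    rw [Finset.sum_congr rfl h1] at h0
    have hMmem : M ∈ (Iset p K V g).filter (fun M' => M' ≤ M) := mem_filter.mpr ⟨hM, le_rfl⟩
    rw [← Finset.add_sum_erase _ _ hMmem] at h0
    have h2 : ∑ M' ∈ ((Iset p K V g).filter (fun M' => M' ≤ M)).erase M, Afib p K V g M' = 0 := by
      apply Finset.sum_eq_zero
      intro M' hM'
      rw [mem_erase, mem_filter] at hM'
      exact ih M' (lt_of_le_of_ne hM'.2.2 hM'.1) hM'.2.1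
    rw [h2, add_zero] at h0
    exact h0

/-- For `g ∈ K` not normalizing `V`, the Möbius sum of the indicators vanishes. -/
theorem sum_mu_ind_of_not_mem [Fact p.Prime] {K V : Subgroup G} {g : G} (hgK : g ∈ K)
    (hg : g ∉ Subgroup.normalizer (V : Set G)) :
    ∑ W ∈ D p K V, mu ℤ V W * ind p K W g = 0 := by
  have h1 : ∀ W ∈ D p K V, mu ℤ V W * ind p K W g =
      if (∃ M' ∈ Iset p K V g, W ≤ M') then mu ℤ V W else 0 := by
    intro W hW
    have hVW : V ≤ W := ((mem_D p).mp hW).1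
    unfold ind
    rw [mem_sset_iff_exists p hgK hVW]
    split_ifs <;> simp
  rw [Finset.sum_congr rfl h1, ← Finset.sum_filter]
  have hmaps : ∀ W ∈ (D p K V).filter (fun W => ∃ M' ∈ Iset p K V g, W ≤ M'),
      cl p K V g W ∈ Iset p K V g := by
    intro W hW
    rw [mem_filter] at hW
    exact cl_mem p ((mem_D p).mp hW.1).1 hW.2
  rw [← Finset.sum_fiberwise_of_maps_to hmaps]
  apply Finset.sum_eq_zero
  intro M hM
  have := Afib_eq_zero p hg M hM
  unfold Afib at this
  rw [← this]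
  apply Finset.sum_congr _ (fun _ _ => rfl)
  ext W
  simp only [mem_filter]
  tauto

/-- For `g` normalizing `V`, the subnormalizer condition can be tested in `N_K(V)`. -/
theorem ind_eq_of_mem_normalizer {K V W : Subgroup G} (hW : W ∈ D p K V) {g : G} (hgK : g ∈ K)
    (hg : g ∈ Subgroup.normalizer (V : Set G)) :
    ind p K W g = ind p (K ⊓ Subgroup.normalizer (V : Set G)) W g := by
  unfold ind
  have hW' := (mem_D p).mp hW
  have hiff : g ∈ sset p K W ↔ g ∈ sset p (K ⊓ Subgroup.normalizer (V : Set G)) W := by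
    constructor
    · rintro ⟨_, R, hR, hWR, hRK, hgR⟩
      refine ⟨⟨hgK, hg⟩, R ⊓ Subgroup.normalizer (V : Set G), hR.to_le inf_le_left,
        le_inf hWR hW'.2.2.1, inf_le_inf_right _ hRK, ?_⟩
      exact mem_normalizer_inf hgR (Subgroup.le_normalizer hg)
    · rintro ⟨_, R, hR, hWR, hRK, hgR⟩
      exact ⟨hgK, R, hR, hWR, hRK.trans inf_le_left, hgR⟩
  simp only [hiff]

theorem ind_eq_zero_of_not_mem {K W : Subgroup G} {g : G} (hg : g ∉ K) : ind p K W g = 0 := by
  unfold ind
  rw [if_neg]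
  rintro ⟨h, _⟩
  exact hg h

/-- (I2): the Möbius sum of the subnormalizer counts in `K` equals that in `N_K(V)`. -/
theorem sum_mu_s [Fact p.Prime] (K V : Subgroup G) :
    ∑ W ∈ D p K V, mu ℤ V W * s p K W =
      ∑ W ∈ D p K V, mu ℤ V W * s p (K ⊓ Subgroup.normalizer (V : Set G)) W := by
  unfold s
  simp only [Finset.mul_sum]
  rw [Finset.sum_comm]
  conv_rhs => rw [Finset.sum_comm]
  apply Finset.sum_congr rfl
  intro g _
  by_cases hgK : g ∈ K
  · by_cases hg : g ∈ Subgroup.normalizer (V : Set G)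
    · apply Finset.sum_congr rfl
      intro W hW
      rw [ind_eq_of_mem_normalizer p hW hgK hg]
    · rw [sum_mu_ind_of_not_mem p hgK hg]
      symm
      apply Finset.sum_eq_zero
      intro W _
      rw [ind_eq_zero_of_not_mem p (K := K ⊓ Subgroup.normalizer (V : Set G)) (fun h => hg (Subgroup.mem_inf.mp h).2), mul_zero]
  · rw [Finset.sum_eq_zero, Finset.sum_eq_zero]
    · intro W _
      rw [ind_eq_zero_of_not_mem p (K := K ⊓ Subgroup.normalizer (V : Set G)) (fun h => hgK (Subgroup.mem_inf.mp h).1), mul_zero]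
    · intro W _
      rw [ind_eq_zero_of_not_mem p hgK, mul_zero]

end Cfsg.Agent.Lib.H20.Casolo
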