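import Mathlib
import Cfsg.Agent.Lib.H20.Casolo2

set_option autoImplicit false

/-!
# Casolo's formula, part 3: the Sylow case, the normal case and the main induction
-/

namespace Cfsg.Agent.Lib.H20.Casolo

open scoped Classical
open Finset IncidenceAlgebra

variable {G : Type*} [Group G] [Finite G]

noncomputable local instance instFintypeSubgroupCasolo3 : Fintype (Subgroup G) := Fintype.ofFinite _
noncomputable local instance instFintypeCasolo3 : Fintype G := Fintype.ofFinite _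
noncomputable local instance instLFOCasolo3 : LocallyFiniteOrder (Subgroup G) :=
  Fintype.toLocallyFiniteOrder

variable (p : ℕ)

theorem sset_of_isSyl {K Q : Subgroup G} (hQ : IsSyl p K Q) :
    sset p K Q = ((K ⊓ Subgroup.normalizer (Q : Set G) : Subgroup G) : Set G) := by
  ext g
  constructor
  · rintro ⟨hgK, R, hR, hQR, hRK, hgR⟩
    have := hQ.2.2 R hR hQR hRK
    rw [this] at hgR
    exact ⟨hgK, hgR⟩
  · rintro ⟨hgK, hgN⟩
    exact ⟨hgK, Q, hQ.2.1, le_rfl, hQ.1, hgN⟩

theorem s_of_isSyl {K Q : Subgroup G} (hQ : IsSyl p K Q) : s p K Q = nrm K Q := by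
  rw [s_eq_ncard, sset_of_isSyl p hQ]
  unfold nrm
  rw [← Nat.card_coe_set_eq]
  rfl

theorem t_of_isSyl {K Q : Subgroup G} (hQ : IsSyl p K Q) : t p K Q = nrm K Q := by
  unfold t
  have : univ.filter (fun Q' : Subgroup G => IsSyl p K Q' ∧ Q ≤ Q') = {Q} := by
    ext Q'
    rw [mem_filter, mem_singleton]
    constructor
    · rintro ⟨_, hQ', hle⟩
      exact hQ.2.2 Q' hQ'.2.1 hle hQ'.1
    · rintro rfl
      exact ⟨mem_univ _, hQ, le_rfl⟩
  rw [this, sum_singleton]

theorem sset_of_normal {K V : Subgroup G} (hVK : V ≤ K) (hV : IsPGroup p V)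
    (hn : K ≤ Subgroup.normalizer (V : Set G)) : sset p K V = (K : Set G) := by
  ext g
  constructor
  · rintro ⟨hgK, _⟩
    exact hgK
  · intro hgK
    exact ⟨hgK, V, hV, le_rfl, hVK, hn hgK⟩

theorem s_of_normal {K V : Subgroup G} (hVK : V ≤ K) (hV : IsPGroup p V)
    (hn : K ≤ Subgroup.normalizer (V : Set G)) : s p K V = (Nat.card K : ℤ) := by
  rw [s_eq_ncard, sset_of_normal p hVK hV hn, ← Nat.card_coe_set_eq]
  rfl

section sylow

variable [Fact p.Prime]

theorem isSyl_map (K : Subgroup G) (S : Sylow p ↥K) :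
    IsSyl p K ((S : Subgroup ↥K).map K.subtype) := by
  refine ⟨Subgroup.map_subtype_le _, S.isPGroup'.map _, ?_⟩
  intro R hR hle hRK
  have h1 : (S : Subgroup ↥K) ≤ R.subgroupOf K := by
    intro x hx
    rw [Subgroup.mem_subgroupOf]
    exact hle ⟨x, hx, rfl⟩
  have h2 : IsPGroup p ↥(R.subgroupOf K) := hR.comap_subtype
  have h3 := S.is_maximal' h2 h1
  rw [← h3, Subgroup.map_subgroupOf_eq_of_le hRK]

theorem exists_sylow_of_isSyl {K Q : Subgroup G} (hQ : IsSyl p K Q) :
    ∃ S : Sylow p ↥K, (S : Subgroup ↥K).map K.subtype = Q := by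
  have h2 : IsPGroup p ↥(Q.subgroupOf K) := hQ.2.1.comap_subtype
  obtain ⟨S, hS⟩ := h2.exists_le_sylow
  refine ⟨S, ?_⟩
  apply hQ.2.2 _ (S.isPGroup'.map _) _ (Subgroup.map_subtype_le _)
  intro x hx
  exact ⟨⟨x, hQ.1 hx⟩, hS (Subgroup.mem_subgroupOf.mpr hx), rfl⟩

theorem nrm_map (K : Subgroup G) (S : Sylow p ↥K) :
    nrm K ((S : Subgroup ↥K).map K.subtype) =
      (Nat.card ↥(Subgroup.normalizer ((S : Subgroup ↥K) : Set ↥K)) : ℤ) := by
  unfold nrm
  congr 1
  have h1 : (Subgroup.normalizer (((S : Subgroup ↥K).map K.subtype : Subgroup G) : Set G)).subgroupOf K =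
      Subgroup.normalizer ((S : Subgroup ↥K) : Set ↥K) := by
    rw [Subgroup.subgroupOf_normalizer_eq (Subgroup.map_subtype_le _)]
    congr 2
    exact Subgroup.comap_map_eq_self_of_injective K.subtype_injective _
  rw [← h1, ← Subgroup.card_map_of_injective K.subtype_injective, Subgroup.subgroupOf_map_subtype,
    inf_comm]

/-- Sylow's theorem in the form `∑_Q |N_K(Q)| = |K|`. -/
theorem sum_nrm (K : Subgroup G) :
    ∑ Q ∈ univ.filter (fun Q : Subgroup G => IsSyl p K Q), nrm K Q = (Nat.card K : ℤ) := by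
  haveI : Fintype (Sylow p ↥K) := Fintype.ofFinite _
  obtain ⟨f, hf⟩ : ∃ f : Sylow p ↥K → Subgroup G,
      ∀ S : Sylow p ↥K, f S = (S : Subgroup ↥K).map K.subtype := ⟨_, fun _ => rfl⟩
  have hinj : Function.Injective f := by
    intro S T h
    rw [hf, hf] at h
    apply Sylow.ext
    exact Subgroup.map_injective K.subtype_injective h
  have h1 : univ.filter (fun Q : Subgroup G => IsSyl p K Q) =
      (univ : Finset (Sylow p ↥K)).image f := by
    ext Q
    rw [mem_filter, mem_image]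
    constructor
    · rintro ⟨_, hQ⟩
      obtain ⟨S, hS⟩ := exists_sylow_of_isSyl p hQ
      exact ⟨S, mem_univ _, by rw [hf]; exact hS⟩
    · rintro ⟨S, _, rfl⟩
      rw [hf]
      exact ⟨mem_univ _, isSyl_map p K S⟩
  rw [h1, Finset.sum_image (fun S _ T _ h => hinj h)]
  obtain ⟨S0⟩ : Nonempty (Sylow p ↥K) := inferInstance
  have h2 : ∀ S : Sylow p ↥K, nrm K (f S) =
      (Nat.card ↥(Subgroup.normalizer ((S0 : Subgroup ↥K) : Set ↥K)) : ℤ) := by
    intro S
    rw [hf, nrm_map]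
    congr 1
    have e1 : Nat.card (Sylow p ↥K) =
        (Subgroup.normalizer ((S : Subgroup ↥K) : Set ↥K)).index := S.card_eq_index_normalizer
    have e2 : Nat.card (Sylow p ↥K) =
        (Subgroup.normalizer ((S0 : Subgroup ↥K) : Set ↥K)).index := S0.card_eq_index_normalizer
    have e3 := (Subgroup.normalizer ((S : Subgroup ↥K) : Set ↥K)).card_mul_index
    have e4 := (Subgroup.normalizer ((S0 : Subgroup ↥K) : Set ↥K)).card_mul_index
    rw [← e1] at e3
    rw [← e2, ← e3] at e4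
    have hpos : 0 < Nat.card (Sylow p ↥K) := Nat.card_pos
    exact (Nat.eq_of_mul_eq_mul_right hpos e4).symm
  rw [Finset.sum_congr rfl (fun S _ => h2 S), Finset.sum_const, Finset.card_univ, nsmul_eq_mul]
  have e2 : Nat.card (Sylow p ↥K) =
      (Subgroup.normalizer ((S0 : Subgroup ↥K) : Set ↥K)).index := S0.card_eq_index_normalizer
  have e4 := (Subgroup.normalizer ((S0 : Subgroup ↥K) : Set ↥K)).card_mul_index
  rw [← Nat.card_eq_fintype_card, e2, ← e4]
  push_cast
  ring

theorem t_of_normal {K V : Subgroup G} (hVK : V ≤ K) (hV : IsPGroup p V)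
    (hn : K ≤ Subgroup.normalizer (V : Set G)) : t p K V = (Nat.card K : ℤ) := by
  rw [← sum_nrm p K]
  unfold t
  apply Finset.sum_congr _ (fun _ _ => rfl)
  ext Q
  rw [mem_filter, mem_filter]
  constructor
  · rintro ⟨h1, h2, _⟩
    exact ⟨h1, h2⟩
  · rintro ⟨h1, h2⟩
    refine ⟨h1, h2, ?_⟩
    have h3 : IsPGroup p ↥(Q ⊔ V) := h2.2.1.to_sup_of_normal_right' hV (h2.1.trans hn)
    have h4 := h2.2.2 _ h3 le_sup_left (sup_le h2.1 hVK)
    rw [← h4]
    exact le_sup_right

end sylow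

end Cfsg.Agent.Lib.H20.Casolo
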