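import Mathlib
import Cfsg.Agent.Lib.H20.Casolo3

set_option autoImplicit false

/-!
# Casolo's formula, part 4: the main induction
-/

namespace Cfsg.Agent.Lib.H20.Casolo

open scoped Classical
open Finset IncidenceAlgebra

variable {G : Type*} [Group G] [Finite G]

noncomputable local instance instFintypeSubgroupCasolo4 : Fintype (Subgroup G) := Fintype.ofFinite _
noncomputable local instance instFintypeCasolo4 : Fintype G := Fintype.ofFinite _
noncomputable local instance instLFOCasolo4 : LocallyFiniteOrder (Subgroup G) :=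
  Fintype.toLocallyFiniteOrder

variable (p : ℕ) [Fact p.Prime]

theorem not_isSyl_inf_normalizer {K V : Subgroup G} (hVK : V ≤ K) (hV : IsPGroup p V)
    (hns : ¬ IsSyl p K V) : ¬ IsSyl p (K ⊓ Subgroup.normalizer (V : Set G)) V := by
  intro h
  apply hns
  refine ⟨hVK, hV, ?_⟩
  intro R hR hVR hRK
  by_contra hne
  have hlt : V < R := lt_of_le_of_ne hVR (Ne.symm hne)
  have h1 := lt_inf_normalizer hR hlt
  have h2 := h.2.2 (R ⊓ Subgroup.normalizer (V : Set G)) (hR.to_le inf_le_left) h1.le
    (inf_le_inf_right _ hRK)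
  exact h1.ne h2.symm

theorem main_aux : ∀ n : ℕ, ∀ K : Subgroup G, Nat.card K = n → ∀ V : Subgroup G, V ≤ K →
    IsPGroup p V → s p K V = t p K V := by
  intro n
  induction n using Nat.strong_induction_on with
  | _ n ihn =>
    intro K hKn V
    induction V using WellFoundedGT.induction with
    | ind V ihV =>
      intro hVK hV
      by_cases hsyl : IsSyl p K V
      · rw [s_of_isSyl p hsyl, t_of_isSyl p hsyl]
      by_cases hn : K ≤ Subgroup.normalizer (V : Set G)
      · rw [s_of_normal p hVK hV hn, t_of_normal p hVK hV hn]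
      -- the general case
      obtain ⟨KV, hKV⟩ : ∃ KV, KV = K ⊓ Subgroup.normalizer (V : Set G) := ⟨_, rfl⟩
      have hlt : KV < K := by
        rw [hKV]
        refine lt_of_le_of_ne inf_le_left ?_
        intro h
        apply hn
        rw [← h]
        exact inf_le_right
      have hcard : Nat.card KV < n := by
        rw [← hKn]
        have := Set.ncard_lt_ncard (show (KV : Set G) ⊂ (K : Set G) from hlt) (Set.toFinite _)
        rwa [← Nat.card_coe_set_eq, ← Nat.card_coe_set_eq] at this
      have e1 := sum_mu_t p hsyl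
      have e2 := sum_mu_t p (not_isSyl_inf_normalizer p hVK hV hsyl)
      rw [D_inf_normalizer, ← hKV] at e2
      have e3 := sum_mu_s p K V
      rw [← hKV] at e3
      have e4 : ∑ W ∈ D p K V, mu ℤ V W * s p KV W = ∑ W ∈ D p K V, mu ℤ V W * t p KV W := by
        apply Finset.sum_congr rfl
        intro W hW
        rw [mem_D] at hW
        rw [ihn _ hcard KV rfl W (by rw [hKV]; exact le_inf hW.2.1 hW.2.2.1) hW.2.2.2]
      have hmem := self_mem_D p hVK hV
      rw [e4, e2, ← Finset.add_sum_erase _ _ hmem, mu_self, one_mul] at e3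
      rw [← Finset.add_sum_erase _ _ hmem, mu_self, one_mul] at e1
      have e5 : ∑ W ∈ (D p K V).erase V, mu ℤ V W * s p K W =
          ∑ W ∈ (D p K V).erase V, mu ℤ V W * t p K W := by
        apply Finset.sum_congr rfl
        intro W hW
        rw [mem_erase, mem_D] at hW
        rw [ihV W (lt_of_le_of_ne hW.2.1 (Ne.symm hW.1)) hW.2.2.1 hW.2.2.2.2]
      rw [e5] at e3
      linarith

theorem main {K V : Subgroup G} (hVK : V ≤ K) (hV : IsPGroup p V) : s p K V = t p K V :=
  main_aux p _ K rfl V hVK hV

end Cfsg.Agent.Lib.H20.Casolo
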