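import Mathlib
import Cfsg.Agent.Lib.H20.Casolo4

set_option autoImplicit false

/-!
# Casolo's formula, part 5: the final assembly in the whole group
-/

namespace Cfsg.Agent.Lib.H20.Casolo

open scoped Classical
open Finset IncidenceAlgebra
open Cfsg.Agent.Lib.H15

/-- A fibre-counting lemma: if the fibres of `f : G → Ω` are the left cosets of `S`, then the
preimage of `T` has `|T ∩ range f| * |S|` elements. -/
theorem card_preimage_eq {G Ω : Type*} [Group G] [Finite G] (f : G → Ω) (S : Subgroup G)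
    (hf : ∀ g g', f g = f g' ↔ g⁻¹ * g' ∈ S) (T : Set Ω) :
    Nat.card {g : G // f g ∈ T} =
      Nat.card {b : Ω // b ∈ T ∧ ∃ g, f g = b} * Nat.card S := by
  rw [← Nat.card_prod]
  have hex : ∀ b : {b : Ω // b ∈ T ∧ ∃ g, f g = b}, ∃ g, f g = b.1 := fun b => b.2.2
  choose σ hσ using hex
  have key : ∀ (g : G) (s : S), f (g * s) = f g := by
    intro g s
    rw [hf, mul_inv_rev, inv_mul_cancel_right]
    exact S.inv_mem s.2
  symm
  apply Nat.card_congr
  refine Equiv.ofBijective (fun x => ⟨σ x.1 * x.2.1, ?_⟩) ⟨?_, ?_⟩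
  · show f (σ x.1 * x.2.1) ∈ T
    rw [key, hσ]
    exact x.1.2.1
  · rintro ⟨b, s⟩ ⟨b', s'⟩ h
    have h1 : σ b * s.1 = σ b' * s'.1 := congrArg Subtype.val h
    have h2 : b = b' := by
      apply Subtype.ext
      rw [← hσ b, ← hσ b', ← key (σ b) s, ← key (σ b') s', h1]
    subst h2
    have h3 : s = s' := Subtype.ext (mul_left_cancel h1)
    rw [h3]
  · rintro ⟨g, hg⟩
    obtain ⟨b, hb⟩ : ∃ b : {b : Ω // b ∈ T ∧ ∃ g, f g = b}, b.1 = f g :=
      ⟨⟨f g, hg, g, rfl⟩, rfl⟩
    have hs : (σ b)⁻¹ * g ∈ S := by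
      rw [← hf, hσ, hb]
    refine ⟨(b, ⟨(σ b)⁻¹ * g, hs⟩), ?_⟩
    apply Subtype.ext
    show σ b * ((σ b)⁻¹ * g) = g
    rw [mul_inv_cancel_left]

variable {G : Type*} [Group G] [Finite G]

noncomputable local instance instFintypeSubgroupCasolo5 : Fintype (Subgroup G) := Fintype.ofFinite _
noncomputable local instance instFintypeCasolo5 : Fintype G := Fintype.ofFinite _
noncomputable local instance instLFOCasolo5 : LocallyFiniteOrder (Subgroup G) :=
  Fintype.toLocallyFiniteOrder

variable (p : ℕ) [Fact p.Prime]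

theorem subn_iff {H : Subgroup G} (hH : IsPGroup p H) (g : G) :
    (H.subgroupOf (H ⊔ Subgroup.zpowers g)).IsSubnormal ↔ g ∈ sset p ⊤ H := by
  constructor
  · intro h
    obtain ⟨R, hHR, hrad, hg⟩ := Cfsg.Agent.S4089.radical_of_subn hH g h
    refine ⟨Subgroup.mem_top g, R, ?_, hHR, le_top, hg⟩
    rw [← hrad]
    exact pcoreOf_isPGroup p _
  · rintro ⟨_, R, hR, hHR, _, hg⟩
    apply Cfsg.Agent.S4089.subn_of_le_normalizer hHR hR le_sup_left
    apply sup_le (hHR.trans Subgroup.le_normalizer)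
    rw [Subgroup.zpowers_le]
    exact hg

theorem card_subn {H : Subgroup G} (hH : IsPGroup p H) :
    (Nat.card {g : G // (H.subgroupOf (H ⊔ Subgroup.zpowers g)).IsSubnormal} : ℤ) =
      s p ⊤ H := by
  rw [s_eq_ncard, ← Nat.card_coe_set_eq]
  congr 1
  exact Nat.card_congr (Equiv.subtypeEquivRight (subn_iff p hH))

theorem isSyl_top_iff {Q : Subgroup G} : IsSyl p ⊤ Q ↔ ∃ S : Sylow p G, (S : Subgroup G) = Q := by
  constructor
  · intro h
    obtain ⟨S, hS⟩ := h.2.1.exists_le_sylow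
    exact ⟨S, h.2.2 _ S.isPGroup' hS le_top⟩
  · rintro ⟨S, rfl⟩
    refine ⟨le_top, S.isPGroup', ?_⟩
    intro R hR hle _
    exact S.is_maximal' hR hle

theorem card_normalizer_sylow (S P : Sylow p G) :
    Nat.card ↥(Subgroup.normalizer ((S : Subgroup G) : Set G)) =
      Nat.card ↥(Subgroup.normalizer ((P : Subgroup G) : Set G)) := by
  have e1 : Nat.card (Sylow p G) =
      (Subgroup.normalizer ((S : Subgroup G) : Set G)).index := S.card_eq_index_normalizer
  have e2 : Nat.card (Sylow p G) =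
      (Subgroup.normalizer ((P : Subgroup G) : Set G)).index := P.card_eq_index_normalizer
  have e3 := (Subgroup.normalizer ((S : Subgroup G) : Set G)).card_mul_index
  have e4 := (Subgroup.normalizer ((P : Subgroup G) : Set G)).card_mul_index
  rw [← e1] at e3
  rw [← e2, ← e3] at e4
  have hpos : 0 < Nat.card (Sylow p G) := Nat.card_pos
  exact (Nat.eq_of_mul_eq_mul_right hpos e4).symm

theorem t_top (H : Subgroup G) (P : Sylow p G) :
    t p ⊤ H = (Nat.card {Q : Sylow p G // H ≤ (Q : Subgroup G)} : ℤ) *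
      (Nat.card ↥(Subgroup.normalizer ((P : Subgroup G) : Set G)) : ℤ) := by
  haveI : Fintype {Q : Sylow p G // H ≤ (Q : Subgroup G)} := Fintype.ofFinite _
  obtain ⟨f, hf⟩ : ∃ f : {Q : Sylow p G // H ≤ (Q : Subgroup G)} → Subgroup G,
      ∀ Q, f Q = (Q.1 : Subgroup G) := ⟨_, fun _ => rfl⟩
  have hinj : Function.Injective f := by
    intro S T h
    rw [hf, hf] at h
    exact Subtype.ext (Sylow.ext h)
  have h1 : univ.filter (fun Q : Subgroup G => IsSyl p ⊤ Q ∧ H ≤ Q) =
      (univ : Finset {Q : Sylow p G // H ≤ (Q : Subgroup G)}).image f := by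
    ext Q
    rw [mem_filter, mem_image]
    constructor
    · rintro ⟨_, hQ, hHQ⟩
      obtain ⟨S, hS⟩ := (isSyl_top_iff p).mp hQ
      refine ⟨⟨S, by rw [hS]; exact hHQ⟩, mem_univ _, ?_⟩
      rw [hf]
      exact hS
    · rintro ⟨S, _, rfl⟩
      rw [hf]
      exact ⟨mem_univ _, (isSyl_top_iff p).mpr ⟨S.1, rfl⟩, S.2⟩
  unfold t
  rw [h1, Finset.sum_image (fun S _ T _ h => hinj h)]
  have h2 : ∀ S : {Q : Sylow p G // H ≤ (Q : Subgroup G)}, nrm ⊤ (f S) =
      (Nat.card ↥(Subgroup.normalizer ((P : Subgroup G) : Set G)) : ℤ) := by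
    intro S
    rw [hf]
    unfold nrm
    rw [top_inf_eq, card_normalizer_sylow p S.1 P]
  rw [Finset.sum_congr rfl (fun S _ => h2 S), Finset.sum_const, Finset.card_univ, nsmul_eq_mul,
    ← Nat.card_eq_fintype_card]

/-- Casolo's first formula. -/
theorem casolo_first {H : Subgroup G} (hH : IsPGroup p H) (P : Sylow p G) :
    Nat.card {g : G // (H.subgroupOf (H ⊔ Subgroup.zpowers g)).IsSubnormal} =
      Nat.card {Q : Sylow p G // H ≤ (Q : Subgroup G)} *
        Nat.card ↥(Subgroup.normalizer ((P : Subgroup G) : Set G)) := by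
  have h1 := card_subn p hH
  rw [main p le_top hH, t_top p H P] at h1
  exact_mod_cast h1

theorem cj_eq_cj_iff (H : Subgroup G) (g g' : G) :
    cj g H = cj g' H ↔ g⁻¹ * g' ∈ Subgroup.normalizer (H : Set G) := by
  rw [mem_normalizer_iff_cj_eq]
  constructor
  · intro h
    have := congrArg (cj g⁻¹) h
    rw [cj_inv_cj, cj_cj] at this
    exact this.symm
  · intro h
    have := congrArg (cj g) h
    rw [cj_cj, mul_inv_cancel_left] at this
    exact this.symm

theorem smul_sylow_eq_iff (P : Sylow p G) (g g' : G) :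
    g • P = g' • P ↔ g⁻¹ * g' ∈ Subgroup.normalizer ((P : Subgroup G) : Set G) := by
  have h : (g⁻¹ * g') • P = P ↔ g⁻¹ * g' ∈ Subgroup.normalizer ((P : Subgroup G) : Set G) :=
    Sylow.smul_eq_iff_mem_normalizer
  rw [← h, mul_smul, eq_comm, inv_smul_eq_iff]

theorem coe_smul_sylow (P : Sylow p G) (g : G) : ((g • P : Sylow p G) : Subgroup G) = cj g P := by
  rw [Sylow.coe_subgroup_smul]
  rfl

/-- Casolo's second formula: double counting of `{g | H^g ≤ P}`. -/
theorem casolo_second (H : Subgroup G) (P : Sylow p G) :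
    Nat.card {Q : Sylow p G // H ≤ (Q : Subgroup G)} *
        Nat.card ↥(Subgroup.normalizer ((P : Subgroup G) : Set G)) =
      Nat.card {K : Subgroup G // K ≤ (P : Subgroup G) ∧
          ∃ g : G, K = H.map (MulAut.conj g).toMonoidHom} *
        Nat.card ↥(Subgroup.normalizer (H : Set G)) := by
  have ha := card_preimage_eq (fun g : G => cj g H) (Subgroup.normalizer (H : Set G))
    (cj_eq_cj_iff H) {K | K ≤ (P : Subgroup G)}
  have hb := card_preimage_eq (fun g : G => g • P) (Subgroup.normalizer ((P : Subgroup G) : Set G))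
    (smul_sylow_eq_iff p P) {Q | H ≤ (Q : Subgroup G)}
  have hc : Nat.card {g : G // (fun g : G => cj g H) g ∈ {K | K ≤ (P : Subgroup G)}} =
      Nat.card {g : G // (fun g : G => g • P) g ∈ {Q : Sylow p G | H ≤ (Q : Subgroup G)}} := by
    apply Nat.card_congr
    refine Equiv.subtypeEquiv (Equiv.inv G) ?_
    intro g
    show cj g H ≤ (P : Subgroup G) ↔ H ≤ ((g⁻¹ • P : Sylow p G) : Subgroup G)
    rw [coe_smul_sylow, cj_le_iff]
  have hd : Nat.card {b : Sylow p G // b ∈ {Q : Sylow p G | H ≤ (Q : Subgroup G)} ∧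
      ∃ g : G, (fun g : G => g • P) g = b} = Nat.card {Q : Sylow p G // H ≤ (Q : Subgroup G)} := by
    apply Nat.card_congr
    apply Equiv.subtypeEquivRight
    intro Q
    constructor
    · rintro ⟨h, _⟩
      exact h
    · intro h
      exact ⟨h, MulAction.exists_smul_eq G P Q⟩
  have he : Nat.card {b : Subgroup G // b ∈ {K | K ≤ (P : Subgroup G)} ∧
      ∃ g : G, (fun g : G => cj g H) g = b} =
      Nat.card {K : Subgroup G // K ≤ (P : Subgroup G) ∧
          ∃ g : G, K = H.map (MulAut.conj g).toMonoidHom} := by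
    apply Nat.card_congr
    apply Equiv.subtypeEquivRight
    intro K
    constructor
    · rintro ⟨h, g, hg⟩
      exact ⟨h, g, hg.symm⟩
    · rintro ⟨h, g, hg⟩
      exact ⟨h, g, hg.symm⟩
  rw [← hd, ← hb, ← hc, ha, he]

end Cfsg.Agent.Lib.H20.Casolo
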