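import Mathlib
import Cfsg.Agent.Lib.H20.Casolo5

set_option autoImplicit false

/-!
# Casolo's formula, part 6: behaviour of the subnormalizer count under quotients

For a surjective homomorphism `φ : G → G'` of finite groups and a `p`-subgroup `H` of `G`:
* if `ker φ` is a `p`-group then `|S_G(H)| = |ker φ| * |S_{G'}(φ H)|`;
* if `ker φ` is a `p'`-group then `|S_G(H)| = |S_{G'}(φ H)| * |C_{ker φ}(H)|`.
-/

namespace Cfsg.Agent.Lib.H20.Casolo

open scoped Classical
open Cfsg.Agent.Lib.H15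

section general

variable {G : Type*} [Group G] {G' : Type*} [Group G']

theorem map_cj (φ : G →* G') (g : G) (H : Subgroup G) :
    (cj g H).map φ = cj (φ g) (H.map φ) := by
  unfold cj
  rw [Subgroup.map_map, Subgroup.map_map]
  congr 1
  ext x
  simp

theorem card_eq_card_map_mul [Finite G] (φ : G →* G') (K : Subgroup G) :
    Nat.card K = Nat.card (K.map φ) * Nat.card ↥(φ.ker ⊓ K) := by
  have h1 := (φ.ker.subgroupOf K).card_mul_index
  have h2 : (φ.ker.subgroupOf K).index = Nat.card (K.map φ) := Subgroup.relIndex_ker K φ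
  have h3 : Nat.card ↥(φ.ker.subgroupOf K) = Nat.card ↥(φ.ker ⊓ K) := by
    rw [← Subgroup.card_map_of_injective K.subtype_injective, Subgroup.subgroupOf_map_subtype]
  rw [← h1, h2, h3, mul_comm]

theorem card_preimage_hom [Finite G] (φ : G →* G') (hφ : Function.Surjective φ) (T : Set G') :
    Nat.card {g : G // φ g ∈ T} = Nat.card φ.ker * Nat.card T := by
  have h := card_preimage_eq (fun g : G => φ g) φ.ker (by
    intro g g'
    rw [MonoidHom.mem_ker, map_mul, map_inv, inv_mul_eq_one]) T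
  rw [h, mul_comm]
  congr 1
  apply Nat.card_congr
  apply Equiv.subtypeEquivRight
  intro b
  constructor
  · rintro ⟨hb, _⟩
    exact hb
  · intro hb
    exact ⟨hb, hφ b⟩

end general

variable {G : Type*} [Group G] [Finite G] {G' : Type*} [Group G'] [Finite G']

variable (p : ℕ) [Fact p.Prime]

/-- a `p`-subgroup meets a subgroup of order prime to `p` trivially. -/
theorem inf_eq_bot_of_isPGroup_of_coprime {R N : Subgroup G} (hR : IsPGroup p R)
    (hN : (Nat.card N).Coprime p) : R ⊓ N = ⊥ := by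
  apply Subgroup.inf_eq_bot_of_coprime
  obtain ⟨k, hk⟩ := IsPGroup.iff_card.mp hR
  rw [hk]
  exact (Nat.Coprime.pow_right k hN).symm

/-- In `Q N` (with `N` a normal `p'`-subgroup and `Q` a `p`-group), `Q` is a maximal
`p`-subgroup. -/
theorem eq_of_le_sup_of_isPGroup {N Q R : Subgroup G} [N.Normal] (hN : (Nat.card N).Coprime p)
    (hR : IsPGroup p R) (hQR : Q ≤ R) (hRL : R ≤ Q ⊔ N) : R = Q := by
  apply le_antisymm _ hQR
  intro r hr
  obtain ⟨q, hq, n, hn, rfl⟩ := Subgroup.mem_sup_of_normal_right.mp (hRL hr)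
  have hnR : n ∈ R := by
    have := R.mul_mem (R.inv_mem (hQR hq)) hr
    rwa [inv_mul_cancel_left] at this
  have h1 : n ∈ R ⊓ N := ⟨hnR, hn⟩
  rw [inf_eq_bot_of_isPGroup_of_coprime p hR hN, Subgroup.mem_bot] at h1
  rw [h1, mul_one]
  exact hq

/-- Sylow conjugacy in `Q N`. -/
theorem exists_le_cj_of_le_sup {N Q T : Subgroup G} [N.Normal] (hN : (Nat.card N).Coprime p)
    (hQ : IsPGroup p Q) (hT : IsPGroup p T) (hTL : T ≤ Q ⊔ N) :
    ∃ n ∈ N, T ≤ cj n Q := by
  obtain ⟨L, hL⟩ : ∃ L, L = Q ⊔ N := ⟨_, rfl⟩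
  have hQL : Q ≤ L := by rw [hL]; exact le_sup_left
  rw [← hL] at hTL
  let S₁ : Sylow p ↥L :=
    { toSubgroup := Q.subgroupOf L
      isPGroup' := hQ.comap_subtype
      is_maximal' := by
        intro R' hR' hle
        have h1 : Q ≤ R'.map L.subtype := by
          intro q hq
          exact ⟨⟨q, hQL hq⟩, hle (Subgroup.mem_subgroupOf.mpr hq), rfl⟩
        have h2 : R'.map L.subtype ≤ Q ⊔ N := by
          rw [← hL]
          exact Subgroup.map_subtype_le _
        have h3 := eq_of_le_sup_of_isPGroup p hN (hR'.map _) h1 h2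
        rw [← h3]
        exact (Subgroup.comap_map_eq_self_of_injective L.subtype_injective R').symm }
  obtain ⟨S₂, hS₂⟩ := (hT.comap_subtype (H := T) (K := L)).exists_le_sylow
  obtain ⟨m, hm⟩ := MulAction.exists_smul_eq ↥L S₁ S₂
  have hmL : (m : G) ∈ N ⊔ Q := by
    rw [sup_comm, ← hL]
    exact m.2
  obtain ⟨n, hn, q, hq, hnq⟩ := Subgroup.mem_sup_of_normal_left.mp hmL
  refine ⟨n, hn, ?_⟩
  intro t ht
  have h1 : (⟨t, hTL ht⟩ : ↥L) ∈ (S₂ : Subgroup ↥L) := hS₂ (Subgroup.mem_subgroupOf.mpr ht)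
  rw [← hm, Sylow.coe_subgroup_smul, Subgroup.mem_pointwise_smul_iff_inv_smul_mem] at h1
  have h2 : (m : G)⁻¹ * t * (m : G) ∈ Q := by
    have := Subgroup.mem_subgroupOf.mp h1
    simpa [MulAut.smul_def] using this
  have h3 : t ∈ cj (n * q) Q := by
    rw [mem_cj_iff, hnq]
    exact h2
  rw [← cj_cj, cj_eq_self_of_mem hq] at h3
  exact h3

section coprime

variable (φ : G →* G') (hφ : Function.Surjective φ) (hN : (Nat.card φ.ker).Coprime p)

include hφ hN

/-- Frattini: normalizers of `p`-subgroups map onto normalizers modulo a normal `p'`-subgroup. -/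
theorem map_normalizer_eq {H : Subgroup G} (hH : IsPGroup p H) :
    (Subgroup.normalizer (H : Set G)).map φ = Subgroup.normalizer ((H.map φ : Subgroup G') : Set G') := by
  apply le_antisymm (Subgroup.le_normalizer_map φ)
  intro y' hy'
  obtain ⟨y, rfl⟩ := hφ y'
  have h1 : cj y H ≤ H ⊔ φ.ker := by
    rintro _ ⟨h, hh, rfl⟩
    have h2 : φ y * φ h * (φ y)⁻¹ ∈ H.map φ :=
      (Subgroup.mem_normalizer_iff.mp hy' (φ h)).mp ⟨h, hh, rfl⟩
    obtain ⟨h₁, hh₁, he⟩ := h2
    have h3 : h₁⁻¹ * (y * h * y⁻¹) ∈ φ.ker := by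
      rw [MonoidHom.mem_ker, map_mul, map_inv, he, map_mul, map_mul, map_inv, inv_mul_cancel]
    have h4 := Subgroup.mul_mem_sup hh₁ h3
    rw [mul_inv_cancel_left] at h4
    exact h4
  obtain ⟨n, hn, hle⟩ := exists_le_cj_of_le_sup p hN hH (hH.map _) h1
  have h5 : cj (n⁻¹ * y) H ≤ H := by
    rw [← cj_cj, cj_le_iff, inv_inv]
    exact hle
  refine ⟨n⁻¹ * y, mem_normalizer_of_cj_le h5, ?_⟩
  rw [map_mul, map_inv, MonoidHom.mem_ker.mp hn, inv_one, one_mul]

theorem normalizer_inf_ker {H : Subgroup G} (hH : IsPGroup p H) :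
    φ.ker ⊓ Subgroup.normalizer (H : Set G) = φ.ker ⊓ Subgroup.centralizer (H : Set G) := by
  apply le_antisymm
  · intro n hx
    obtain ⟨hn, hnH⟩ := Subgroup.mem_inf.mp hx
    refine Subgroup.mem_inf.mpr ⟨hn, ?_⟩
    rw [Subgroup.mem_centralizer_iff]
    intro h hh
    have h1 : n * h * n⁻¹ ∈ H := (Subgroup.mem_normalizer_iff.mp hnH h).mp hh
    have h2 : n * h * n⁻¹ * h⁻¹ ∈ H ⊓ φ.ker := by
      refine Subgroup.mem_inf.mpr ⟨H.mul_mem h1 (H.inv_mem hh), ?_⟩
      have : n * h * n⁻¹ * h⁻¹ = n * (h * n⁻¹ * h⁻¹) := by group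
      rw [this]
      exact φ.ker.mul_mem hn (Subgroup.Normal.conj_mem inferInstance _ (φ.ker.inv_mem hn) h)
    rw [inf_eq_bot_of_isPGroup_of_coprime p hH hN, Subgroup.mem_bot] at h2
    have h3 : n * h * n⁻¹ = h := by
      rw [mul_inv_eq_one] at h2
      exact h2
    calc h * n = (n * h * n⁻¹) * n := by rw [h3]
      _ = n * h := by group
  · exact inf_le_inf_left _ (Subgroup.centralizer_le_normalizer _)

theorem card_normalizer_eq {H : Subgroup G} (hH : IsPGroup p H) :
    Nat.card ↥(Subgroup.normalizer (H : Set G)) =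
      Nat.card ↥(Subgroup.normalizer ((H.map φ : Subgroup G') : Set G')) *
        Nat.card ↥(φ.ker ⊓ Subgroup.centralizer (H : Set G)) := by
  rw [card_eq_card_map_mul φ, map_normalizer_eq p φ hφ hN hH, normalizer_inf_ker p φ hφ hN hH]

/-- the conjugates of `H` inside `P` correspond to the conjugates of `φ H` inside `φ P`. -/
theorem card_conj_le_eq (H : Subgroup G) (hH : IsPGroup p H) (P : Subgroup G) (hP : IsPGroup p P) :
    Nat.card {K : Subgroup G // K ≤ P ∧ ∃ g : G, K = H.map (MulAut.conj g).toMonoidHom} =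
      Nat.card {K : Subgroup G' // K ≤ P.map φ ∧
        ∃ g : G', K = (H.map φ).map (MulAut.conj g).toMonoidHom} := by
  apply Nat.card_congr
  refine Equiv.ofBijective (fun K => ⟨K.1.map φ, Subgroup.map_mono K.2.1, ?_⟩) ⟨?_, ?_⟩
  · obtain ⟨g, hg⟩ := K.2.2
    refine ⟨φ g, ?_⟩
    rw [hg]
    exact map_cj φ g H
  · rintro ⟨K₁, hK₁, hc₁⟩ ⟨K₂, hK₂, hc₂⟩ h
    have h0 : K₁.map φ = K₂.map φ := congrArg Subtype.val h
    apply Subtype.ext
    show K₁ = K₂
    have key : ∀ A B : Subgroup G, A ≤ P → B ≤ P → A.map φ = B.map φ → A ≤ B := by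
      intro A B hA hB hAB k hk
      have h1 : φ k ∈ B.map φ := by
        rw [← hAB]
        exact ⟨k, hk, rfl⟩
      obtain ⟨k₂, hk₂, he⟩ := h1
      have h2 : k * k₂⁻¹ ∈ P ⊓ φ.ker := by
        refine Subgroup.mem_inf.mpr ⟨P.mul_mem (hA hk) (P.inv_mem (hB hk₂)), ?_⟩
        rw [MonoidHom.mem_ker, map_mul, map_inv, he, mul_inv_cancel]
      rw [inf_eq_bot_of_isPGroup_of_coprime p hP hN, Subgroup.mem_bot, mul_inv_eq_one] at h2
      rw [h2]
      exact hk₂
    exact le_antisymm (key K₁ K₂ hK₁ hK₂ h0) (key K₂ K₁ hK₂ hK₁ h0.symm)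
  · rintro ⟨K', hK', g', hg'⟩
    obtain ⟨g, rfl⟩ := hφ g'
    have h1 : cj g H ≤ P ⊔ φ.ker := by
      intro x hx
      have h2 : φ x ∈ P.map φ := by
        apply hK'
        rw [hg']
        have := Subgroup.mem_map_of_mem φ hx
        rwa [map_cj] at this
      obtain ⟨x₁, hx₁, he⟩ := h2
      have h3 : x₁⁻¹ * x ∈ φ.ker := by
        rw [MonoidHom.mem_ker, map_mul, map_inv, he, inv_mul_cancel]
      have h4 := Subgroup.mul_mem_sup hx₁ h3
      rw [mul_inv_cancel_left] at h4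
      exact h4
    obtain ⟨n, hn, hle⟩ := exists_le_cj_of_le_sup p hN hP (hH.map _) h1
    have h5 : cj (n⁻¹ * g) H ≤ P := by
      rw [← cj_cj, cj_le_iff, inv_inv]
      exact hle
    refine ⟨⟨cj (n⁻¹ * g) H, h5, n⁻¹ * g, rfl⟩, ?_⟩
    apply Subtype.ext
    show (cj (n⁻¹ * g) H).map φ = K'
    rw [map_cj, hg', map_mul, map_inv, MonoidHom.mem_ker.mp hn, inv_one, one_mul]

/-- The `p'`-step. -/
theorem step_coprime {H : Subgroup G} (hH : IsPGroup p H) :
    Nat.card {g : G // (H.subgroupOf (H ⊔ Subgroup.zpowers g)).IsSubnormal} =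
      Nat.card {g : G' // ((H.map φ).subgroupOf (H.map φ ⊔ Subgroup.zpowers g)).IsSubnormal} *
        Nat.card ↥(φ.ker ⊓ Subgroup.centralizer (H : Set G)) := by
  obtain ⟨P, hHP⟩ := hH.exists_le_sylow
  have e1 := (casolo_first p hH P).trans (casolo_second p H P)
  have e2 := (casolo_first p (hH.map φ) (P.mapSurjective hφ)).trans
    (casolo_second p (H.map φ) (P.mapSurjective hφ))
  rw [Sylow.coe_mapSurjective] at e2
  rw [e1, e2, card_conj_le_eq p φ hφ hN H hH P P.isPGroup', card_normalizer_eq p φ hφ hN hH,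
    mul_assoc]

end coprime

/-- The `p`-step. -/
theorem step_pgroup (φ : G →* G') (hφ : Function.Surjective φ) (hN : IsPGroup p φ.ker)
    {H : Subgroup G} (hH : IsPGroup p H) :
    Nat.card {g : G // (H.subgroupOf (H ⊔ Subgroup.zpowers g)).IsSubnormal} =
      Nat.card φ.ker *
      Nat.card {g : G' // ((H.map φ).subgroupOf (H.map φ ⊔ Subgroup.zpowers g)).IsSubnormal} := by
  have h1 : ∀ g : G, (H.subgroupOf (H ⊔ Subgroup.zpowers g)).IsSubnormal ↔
      φ g ∈ {g' : G' | ((H.map φ).subgroupOf (H.map φ ⊔ Subgroup.zpowers g')).IsSubnormal} := by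
    intro g
    rw [Set.mem_ofPred_eq, subn_iff p hH, subn_iff p (hH.map φ)]
    constructor
    · rintro ⟨_, R, hR, hHR, _, hg⟩
      exact ⟨Subgroup.mem_top _, R.map φ, hR.map φ, Subgroup.map_mono hHR, le_top,
        Subgroup.le_normalizer_map φ ⟨g, hg, rfl⟩⟩
    · rintro ⟨_, R', hR', hHR', _, hg⟩
      refine ⟨Subgroup.mem_top _, R'.comap φ, hR'.comap_of_ker_isPGroup φ hN,
        Subgroup.map_le_iff_le_comap.mp hHR', le_top, ?_⟩
      exact Subgroup.le_normalizer_comap φ hg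
  rw [Nat.card_congr (Equiv.subtypeEquivRight h1), card_preimage_hom φ hφ]
  rfl

end Cfsg.Agent.Lib.H20.Casolo
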