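import Mathlib
import Cfsg.Agent.Lib.H20.Casolo6

set_option autoImplicit false

/-!
# Casolo's formula, part 7: the subnormalizer count along a normal series
-/

namespace Cfsg.Agent.Lib.H20.Casolo

open scoped Classical
open Cfsg.Agent.Lib.H15

variable {G : Type*} [Group G] [Finite G]

/-- The number of elements of the subnormalizer of `H M / M` in `G / M`. -/
noncomputable def snq (H M : Subgroup G) [M.Normal] : ℕ :=
  Nat.card {g : G ⧸ M // ((H.map (QuotientGroup.mk' M)).subgroupOf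
    (H.map (QuotientGroup.mk' M) ⊔ Subgroup.zpowers g)).IsSubnormal}

/-- The map `G / M → G / M'` for `M ≤ M'`. -/
noncomputable def qmap (M M' : Subgroup G) [M.Normal] [M'.Normal] (hle : M ≤ M') :
    G ⧸ M →* G ⧸ M' :=
  QuotientGroup.map M M' (MonoidHom.id G) (by rw [Subgroup.comap_id]; exact hle)

omit [Finite G] in
theorem qmap_mk (M M' : Subgroup G) [M.Normal] [M'.Normal] (hle : M ≤ M') (x : G) :
    qmap M M' hle (QuotientGroup.mk' M x) = QuotientGroup.mk' M' x := by
  unfold qmap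
  rw [QuotientGroup.map_mk']
  rfl

omit [Finite G] in
theorem qmap_surjective (M M' : Subgroup G) [M.Normal] [M'.Normal] (hle : M ≤ M') :
    Function.Surjective (qmap M M' hle) := by
  intro y
  obtain ⟨x, rfl⟩ := QuotientGroup.mk'_surjective M' y
  exact ⟨QuotientGroup.mk' M x, qmap_mk M M' hle x⟩

omit [Finite G] in
theorem qmap_ker (M M' : Subgroup G) [M.Normal] [M'.Normal] (hle : M ≤ M') :
    (qmap M M' hle).ker = M'.map (QuotientGroup.mk' M) := by
  unfold qmap
  rw [QuotientGroup.ker_map, Subgroup.comap_id]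

omit [Finite G] in
theorem card_qmap_ker (M M' : Subgroup G) [M.Normal] [M'.Normal] (hle : M ≤ M') :
    Nat.card (qmap M M' hle).ker = M.relIndex M' := by
  rw [qmap_ker]
  have := Subgroup.relIndex_ker M' (QuotientGroup.mk' M)
  rw [QuotientGroup.ker_mk'] at this
  exact this.symm

omit [Finite G] in
theorem map_qmap (H M M' : Subgroup G) [M.Normal] [M'.Normal] (hle : M ≤ M') :
    (H.map (QuotientGroup.mk' M)).map (qmap M M' hle) = H.map (QuotientGroup.mk' M') := by
  rw [Subgroup.map_map]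
  congr 1

variable (p : ℕ) [Fact p.Prime]

theorem one_mem_sset_top {H : Subgroup G} (hH : IsPGroup p H) : (1 : G) ∈ sset p ⊤ H :=
  ⟨Subgroup.mem_top _, H, hH, le_rfl, le_top, Subgroup.one_mem _⟩

theorem snq_of_eq_top {H : Subgroup G} (hH : IsPGroup p H) (M : Subgroup G) [M.Normal]
    (hM : M = ⊤) : snq H M = 1 := by
  subst hM
  unfold snq
  rw [Nat.card_eq_one_iff_unique]
  haveI : Subsingleton (G ⧸ (⊤ : Subgroup G)) := QuotientGroup.subsingleton_quotient_top
  refine ⟨inferInstance, ⟨⟨1, ?_⟩⟩⟩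
  rw [subn_iff p (hH.map _)]
  exact one_mem_sset_top p (hH.map _)

theorem snq_of_eq_bot {H : Subgroup G} (hH : IsPGroup p H) (M : Subgroup G) [M.Normal]
    (hM : M = ⊥) :
    Nat.card {g : G // (H.subgroupOf (H ⊔ Subgroup.zpowers g)).IsSubnormal} = snq H M := by
  have h1 : (QuotientGroup.mk' M).ker = ⊥ := by rw [QuotientGroup.ker_mk', hM]
  have h2 := step_pgroup p (QuotientGroup.mk' M) (QuotientGroup.mk'_surjective M)
    (by rw [h1]; exact IsPGroup.of_bot) hH
  rw [h1, Subgroup.card_bot, one_mul] at h2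
  exact h2

/-- the `p`-step along the series. -/
theorem snq_step_pgroup {H : Subgroup G} (hH : IsPGroup p H) (M M' : Subgroup G) [M.Normal]
    [M'.Normal] (hle : M ≤ M') {m : ℕ} (hm : M.relIndex M' = p ^ m) :
    snq H M = M.relIndex M' * snq H M' := by
  have h1 := step_pgroup p (qmap M M' hle) (qmap_surjective M M' hle)
    (IsPGroup.of_card (n := m) (by rw [card_qmap_ker, hm])) (hH.map (QuotientGroup.mk' M))
  rw [card_qmap_ker] at h1
  unfold snq
  rw [h1]
  congr 2
  rw [map_qmap]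

omit [Finite G] in
theorem mem_map_mk_iff (M M' : Subgroup G) [M.Normal] (hle : M ≤ M') (u : G) :
    QuotientGroup.mk' M u ∈ M'.map (QuotientGroup.mk' M) ↔ u ∈ M' := by
  constructor
  · rintro ⟨m', hm', he⟩
    have h1 : m'⁻¹ * u ∈ M := by
      rw [← QuotientGroup.eq_one_iff (N := M)]
      have : ((m'⁻¹ * u : G) : G ⧸ M) = (QuotientGroup.mk' M m')⁻¹ * QuotientGroup.mk' M u := rfl
      rw [this, he, inv_mul_cancel]
    have := M'.mul_mem hm' (hle h1)
    rwa [mul_inv_cancel_left] at this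
  · intro hu
    exact ⟨u, hu, rfl⟩

omit [Finite G] in
theorem mk_mem_centralizer_iff (H M : Subgroup G) [M.Normal] (u : G) :
    QuotientGroup.mk' M u ∈ Subgroup.centralizer ((H.map (QuotientGroup.mk' M) : Subgroup (G ⧸ M)) : Set (G ⧸ M)) ↔
      ∀ h ∈ H, h * u * h⁻¹ * u⁻¹ ∈ M := by
  rw [Subgroup.mem_centralizer_iff]
  constructor
  · intro hc h hh
    have h1 := hc (QuotientGroup.mk' M h) ⟨h, hh, rfl⟩
    rw [← QuotientGroup.eq_one_iff (N := M)]
    have : ((h * u * h⁻¹ * u⁻¹ : G) : G ⧸ M) =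
        QuotientGroup.mk' M h * QuotientGroup.mk' M u * (QuotientGroup.mk' M h)⁻¹ *
          (QuotientGroup.mk' M u)⁻¹ := rfl
    rw [this, h1]
    group
  · rintro hc _ ⟨h, hh, rfl⟩
    have h1 := (QuotientGroup.eq_one_iff (N := M) _).mpr (hc h hh)
    have : ((h * u * h⁻¹ * u⁻¹ : G) : G ⧸ M) =
        QuotientGroup.mk' M h * QuotientGroup.mk' M u * (QuotientGroup.mk' M h)⁻¹ *
          (QuotientGroup.mk' M u)⁻¹ := rfl
    rw [this, mul_inv_eq_one, mul_inv_eq_iff_eq_mul] at h1
    exact h1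

/-- the centralizer of `H` in the factor `M' / M`, counted upstairs. -/
theorem card_cset (H M M' : Subgroup G) [M.Normal] [M'.Normal] (hle : M ≤ M') :
    Nat.card {u : G // u ∈ M' ∧ ∀ h ∈ H, h * u * h⁻¹ * u⁻¹ ∈ M} =
      Nat.card M * Nat.card ↥((qmap M M' hle).ker ⊓
        Subgroup.centralizer ((H.map (QuotientGroup.mk' M) : Subgroup (G ⧸ M)) : Set (G ⧸ M))) := by
  have h1 := card_preimage_hom (QuotientGroup.mk' M) (QuotientGroup.mk'_surjective M)
    (((qmap M M' hle).ker ⊓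
      Subgroup.centralizer ((H.map (QuotientGroup.mk' M) : Subgroup (G ⧸ M)) : Set (G ⧸ M)) :
        Subgroup (G ⧸ M)) : Set (G ⧸ M))
  rw [QuotientGroup.ker_mk'] at h1
  have h2 : Nat.card {g : G // QuotientGroup.mk' M g ∈ (((qmap M M' hle).ker ⊓
      Subgroup.centralizer ((H.map (QuotientGroup.mk' M) : Subgroup (G ⧸ M)) : Set (G ⧸ M)) :
        Subgroup (G ⧸ M)) : Set (G ⧸ M))} = Nat.card M * Nat.card ↥((qmap M M' hle).ker ⊓
        Subgroup.centralizer ((H.map (QuotientGroup.mk' M) : Subgroup (G ⧸ M)) : Set (G ⧸ M))) :=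
    h1
  rw [← h2]
  apply Nat.card_congr
  apply Equiv.subtypeEquivRight
  intro u
  rw [SetLike.mem_coe, Subgroup.mem_inf, qmap_ker, mem_map_mk_iff M M' hle, mk_mem_centralizer_iff]

/-- the `p'`-step along the series. -/
theorem snq_step_coprime {H : Subgroup G} (hH : IsPGroup p H) (M M' : Subgroup G) [M.Normal]
    [M'.Normal] (hle : M ≤ M') (hm : (M.relIndex M').Coprime p) :
    snq H M = (Nat.card {u : G // u ∈ M' ∧ ∀ h ∈ H, h * u * h⁻¹ * u⁻¹ ∈ M} / Nat.card M) *
      snq H M' := by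
  have h1 := step_coprime p (qmap M M' hle) (qmap_surjective M M' hle)
    (by rw [card_qmap_ker]; exact hm) (hH.map (QuotientGroup.mk' M))
  rw [card_cset H M M' hle, Nat.mul_div_cancel_left _ Nat.card_pos]
  unfold snq
  rw [h1, mul_comm]
  congr 2
  rw [map_qmap]

end Cfsg.Agent.Lib.H20.Casolo
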