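import Mathlib

/-!
# Casolo's counting argument (for S4149)  (helper20)

If `P` is a Sylow `p`-subgroup with `N(P) ≰ C(P)` (Burnside: no normal `p`-complement), then at most half
of the elements of `G` have class size prime to `p`: they lie in the conjugates of `C(P)`, and there are at most
`|G : N(P)|` of these.
-/

set_option autoImplicit false

namespace Cfsg.Agent.Lib.H20.Casolo

open Subgroup

variable {G : Type*} [Group G]

/-- If `p` does not divide the class size of `x`, a conjugate of `x` centralizes the Sylow `p`-subgroup `P`. -/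
theorem exists_conj_mem_centralizer [Finite G] {p : ℕ} [Fact p.Prime] (P : Sylow p G) (x : G)
    (h : ¬ p ∣ (centralizer ({x} : Set G)).index) :
    ∃ g : G, g * x * g⁻¹ ∈ centralizer ((P : Subgroup G) : Set G) := by
  set C : Subgroup G := centralizer ({x} : Set G) with hC
  have hfix := P.2.nonempty_fixed_point_of_prime_not_dvd_card (G ⧸ C)
    (by rw [← Subgroup.index_eq_card]; exact h)
  obtain ⟨q, hq⟩ := hfix
  induction q using QuotientGroup.induction_on with | _ g =>
  refine ⟨g, ?_⟩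
  rw [Subgroup.mem_centralizer_iff]
  intro a ha
  -- `a⁻¹ ∈ P` fixes the coset `g C`
  have h1 : (⟨a⁻¹, (P : Subgroup G).inv_mem ha⟩ : (P : Subgroup G)) • (g : G ⧸ C) = (g : G ⧸ C) := hq _
  have h2 : ((a⁻¹ * g : G) : G ⧸ C) = (g : G ⧸ C) := h1
  rw [QuotientGroup.eq] at h2
  -- `(a⁻¹ g)⁻¹ g = g⁻¹ a g ∈ C`
  have h3 : g⁻¹ * a * g ∈ C := by
    have : (a⁻¹ * g)⁻¹ * g = g⁻¹ * a * g := by group
    rw [this] at h2
    exact h2
  rw [hC, Subgroup.mem_centralizer_iff] at h3
  have h4 := h3 x (Set.mem_singleton x)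
  -- h4 : x * (g⁻¹ * a * g) = g⁻¹ * a * g * x
  calc a * (g * x * g⁻¹) = g * ((g⁻¹ * a * g) * x) * g⁻¹ := by group
    _ = g * (x * (g⁻¹ * a * g)) * g⁻¹ := by rw [h4]
    _ = g * x * g⁻¹ * a := by group

/-- The counting: if `N(P) ≰ C(P)`, at most half of the elements have class size prime to `p`. -/
theorem two_mul_card_not_dvd_le [Finite G] {p : ℕ} [Fact p.Prime] (P : Sylow p G)
    (hNC : ¬ (normalizer ((P : Subgroup G) : Set G) ≤ centralizer ((P : Subgroup G) : Set G))) :
    2 * Nat.card {x : G // ¬ p ∣ (centralizer ({x} : Set G)).index} ≤ Nat.card G := by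
  set N : Subgroup G := normalizer ((P : Subgroup G) : Set G) with hN
  set C : Subgroup G := centralizer ((P : Subgroup G) : Set G) with hC
  have hCN : C ≤ N := by
    intro c hc
    rw [hN, Subgroup.mem_normalizer_iff]
    intro a
    rw [hC, Subgroup.mem_centralizer_iff] at hc
    constructor
    · intro ha
      have : c * a * c⁻¹ = a := by rw [← hc a ha, mul_inv_cancel_right]
      rw [this]; exact ha
    · intro ha
      have hc' : c⁻¹ ∈ centralizer ((P : Subgroup G) : Set G) :=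
        (centralizer ((P : Subgroup G) : Set G)).inv_mem (Subgroup.mem_centralizer_iff.mpr hc)
      have h5 := Subgroup.mem_centralizer_iff.mp hc' _ ha
      -- h5 : (c a c⁻¹) * c⁻¹ = c⁻¹ * (c a c⁻¹)
      have : a = c⁻¹ * (c * a * c⁻¹) * c := by group
      rw [this, ← h5]
      simpa using ha
  -- `N` normalizes `C`
  have hNnorm : ∀ n ∈ N, ∀ c ∈ C, n⁻¹ * c * n ∈ C := by
    intro n hn c hc
    rw [hC, Subgroup.mem_centralizer_iff] at hc ⊢
    intro a ha
    have hn' : n * a * n⁻¹ ∈ (P : Subgroup G) := by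
      rw [hN, Subgroup.mem_normalizer_iff] at hn
      exact (hn a).mp ha
    have h6 := hc _ hn'
    -- h6 : (n a n⁻¹) * c = c * (n a n⁻¹)
    calc a * (n⁻¹ * c * n) = n⁻¹ * ((n * a * n⁻¹) * c) * n := by group
      _ = n⁻¹ * (c * (n * a * n⁻¹)) * n := by rw [h6]
      _ = n⁻¹ * c * n * a := by group
  -- 2 |C| ≤ |N|
  have h2C : 2 * Nat.card C ≤ Nat.card N := by
    obtain ⟨k, hk⟩ := Subgroup.card_dvd_of_le hCN
    have hCpos : 0 < Nat.card C := Nat.card_pos
    have hNpos : 0 < Nat.card N := Nat.card_pos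
    have hk1 : k ≠ 1 := by
      intro h1
      rw [h1, mul_one] at hk
      exact hNC (Subgroup.eq_of_le_of_card_ge hCN hk.le).ge
    have hk0 : k ≠ 0 := by
      intro h0
      rw [h0, mul_zero] at hk
      omega
    have hk2 : 2 ≤ k := by omega
    rw [hk]
    calc 2 * Nat.card C = Nat.card C * 2 := mul_comm _ _
      _ ≤ Nat.card C * k := Nat.mul_le_mul_left _ hk2
  -- the injection
  let F : (G ⧸ N) × C → G := fun qc => qc.1.out * (qc.2 : G) * (qc.1.out)⁻¹
  have hsurj : ∀ x : {x : G // ¬ p ∣ (centralizer ({x} : Set G)).index}, ∃ qc : (G ⧸ N) × C, F qc = x.1 := by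
    rintro ⟨x, hx⟩
    obtain ⟨g, hg⟩ := exists_conj_mem_centralizer P x hx
    obtain ⟨n, hn⟩ := QuotientGroup.mk_out_eq_mul N g⁻¹
    -- hn : (↑g⁻¹).out = g⁻¹ * n
    refine ⟨(((g⁻¹ : G) : G ⧸ N), ⟨(n : G)⁻¹ * (g * x * g⁻¹) * (n : G), hNnorm n n.2 _ hg⟩), ?_⟩
    show ((g⁻¹ : G) : G ⧸ N).out * ((n : G)⁻¹ * (g * x * g⁻¹) * (n : G)) * (((g⁻¹ : G) : G ⧸ N).out)⁻¹ = x
    rw [hn]
    group
  choose sel hsel using hsurj
  have hinj : Function.Injective sel := by
    intro a b hab
    apply Subtype.ext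
    rw [← hsel a, ← hsel b, hab]
  have hcard := Nat.card_le_card_of_injective sel hinj
  rw [Nat.card_prod] at hcard
  have hidx : Nat.card (G ⧸ N) = N.index := (Subgroup.index_eq_card N).symm
  rw [hidx] at hcard
  calc 2 * Nat.card {x : G // ¬ p ∣ (centralizer ({x} : Set G)).index}
      ≤ 2 * (N.index * Nat.card C) := Nat.mul_le_mul_left _ hcard
    _ = N.index * (2 * Nat.card C) := by ring
    _ ≤ N.index * Nat.card N := Nat.mul_le_mul_left _ h2C
    _ = Nat.card G := Subgroup.index_mul_card N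

end Cfsg.Agent.Lib.H20.Casolo
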