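import Mathlib

/-!
# Coprime action on a finite abelian group (helper20 library)

Averaging arguments: vanishing of `H¹` (`exists_coboundary`) and `C_M(A) ∩ [M, A] = 1`
(`eq_one_of_fixed_of_mem_closure`) for a finite group `A` acting on a finite commutative group `M`
of coprime order.
-/

set_option autoImplicit false

namespace Cfsg.Agent.Lib.H20

open Finset

section

variable {A M : Type*} [Group A] [Finite A] [CommGroup M] [Finite M] [MulDistribMulAction A M]

theorem pow_card_injective (hcop : (Nat.card M).Coprime (Nat.card A)) {x y : M}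
    (h : x ^ Nat.card A = y ^ Nat.card A) : x = y :=
  (powCoprime hcop).injective h

/-- Every 1-cocycle is a coboundary. -/
theorem exists_coboundary (hcop : (Nat.card M).Coprime (Nat.card A)) (c : A → M)
    (hc : ∀ a b : A, c (a * b) = c a * a • c b) : ∃ d : M, ∀ a : A, c a = d * (a • d)⁻¹ := by
  classical
  haveI : Fintype A := Fintype.ofFinite A
  set n : M := ∏ b : A, c b with hn
  obtain ⟨d, hd⟩ := (powCoprime hcop).surjective n
  have hd' : d ^ Nat.card A = n := hd
  refine ⟨d, fun a => ?_⟩
  apply pow_card_injective hcop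
  have h1 : ∏ b : A, c (a * b) = n := by
    rw [hn]
    exact Fintype.prod_equiv (Equiv.mulLeft a) _ _ (fun b => rfl)
  have h2 : ∏ b : A, c (a * b) = c a ^ Nat.card A * a • n := by
    simp_rw [hc a]
    rw [Finset.prod_mul_distrib, Finset.prod_const, Finset.card_univ, ← Nat.card_eq_fintype_card,
      hn, Finset.smul_prod']
  have h3 : c a ^ Nat.card A = n * (a • n)⁻¹ := eq_mul_inv_of_mul_eq (h2.symm.trans h1)
  rw [h3, mul_pow, inv_pow, ← smul_pow', hd']

/-- A fixed point lying in `[M, A]` is trivial. -/
theorem eq_one_of_fixed_of_mem_closure (hcop : (Nat.card M).Coprime (Nat.card A)) (e : M)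
    (he : ∀ a : A, a • e = e)
    (hmem : e ∈ Subgroup.closure {y : M | ∃ (b : A) (k : M), y = k⁻¹ * b • k}) : e = 1 := by
  classical
  haveI : Fintype A := Fintype.ofFinite A
  let ν : M →* M :=
    { toFun := fun k => ∏ a : A, a • k
      map_one' := by simp
      map_mul' := fun k l => by simp [Finset.prod_mul_distrib] }
  have hker : Subgroup.closure {y : M | ∃ (b : A) (k : M), y = k⁻¹ * b • k} ≤ ν.ker := by
    rw [Subgroup.closure_le]
    rintro y ⟨b, k, rfl⟩
    rw [SetLike.mem_coe, MonoidHom.mem_ker, map_mul, map_inv]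
    have : ν (b • k) = ν k := by
      show ∏ a : A, a • b • k = ∏ a : A, a • k
      simp_rw [smul_smul]
      exact Fintype.prod_equiv (Equiv.mulRight b) _ _ (fun a => rfl)
    rw [this, inv_mul_cancel]
  have h1 : ν e = 1 := MonoidHom.mem_ker.mp (hker hmem)
  have h2 : ν e = e ^ Nat.card A := by
    show ∏ a : A, a • e = e ^ Nat.card A
    simp_rw [he]
    rw [Finset.prod_const, Finset.card_univ, Nat.card_eq_fintype_card]
  apply pow_card_injective hcop
  rw [← h2, h1, one_pow]

end

end Cfsg.Agent.Lib.H20
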