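import Mathlib
import Cfsg.Agent.Lib.H26.Basic

set_option autoImplicit false

namespace Cfsg.Agent.Lib.H20

open scoped Pointwise

/-- If `h x h⁻¹ ∈ ⟨x⟩` in a finite group then `h` normalizes `⟨x⟩`. -/
theorem mem_normalizer_zpowers_of_conj_mem {G : Type*} [Group G] [Finite G] (x h : G)
    (hx : h * x * h⁻¹ ∈ Subgroup.zpowers x) :
    h ∈ Subgroup.normalizer ((Subgroup.zpowers x : Subgroup G) : Set G) := by
  apply Subgroup.mem_normalizer_fintype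
  intro n hn
  obtain ⟨k, rfl⟩ := Subgroup.mem_zpowers_iff.mp hn
  have : h * x ^ k * h⁻¹ = (h * x * h⁻¹) ^ k := by
    have h1 : h * x ^ k * h⁻¹ = MulAut.conj h (x ^ k) := by simp [MulAut.conj_apply]
    have h2 : h * x * h⁻¹ = MulAut.conj h x := by simp [MulAut.conj_apply]
    rw [h1, h2, map_zpow]
  rw [SetLike.mem_coe, this]
  exact Subgroup.zpow_mem _ hx k

/-- Sylow-type conjugacy in `N Q` with `N` a normal `p'`-subgroup and `Q` a `p`-subgroup: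
every `p`-element of `N Q` is `N`-conjugate into `Q`. -/
theorem exists_conj_mem_of_coprime {G : Type*} [Group G] [Finite G] (N Q : Subgroup G) [N.Normal]
    (p : ℕ) [Fact p.Prime] (hQ : IsPGroup p Q) (hN : (Nat.card N).Coprime p) (z : G)
    (hzK : z ∈ N ⊔ Q) (hz : ∃ k : ℕ, orderOf z = p ^ k) :
    ∃ n ∈ N, n * z * n⁻¹ ∈ Q := by
  have hp : p.Prime := Fact.out
  have hNK : N ≤ N ⊔ Q := le_sup_left
  have hQK : Q ≤ N ⊔ Q := le_sup_right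
  have hsup : N.subgroupOf (N ⊔ Q) ⊔ Q.subgroupOf (N ⊔ Q) = ⊤ := by
    rw [← Subgroup.subgroupOf_sup hNK hQK, Subgroup.subgroupOf_self]
  have hcardN : Nat.card (N.subgroupOf (N ⊔ Q)) = Nat.card N :=
    Nat.card_congr (Subgroup.subgroupOfEquivOfLe hNK).toEquiv
  have hQ' : IsPGroup p (Q.subgroupOf (N ⊔ Q)) := hQ.comap_subtype
  have hdisj : Disjoint (N.subgroupOf (N ⊔ Q)) (Q.subgroupOf (N ⊔ Q)) := by
    apply Subgroup.disjoint_of_coprime_natCard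
    obtain ⟨k, hk⟩ := hQ'.exists_card_eq
    rw [hcardN, hk]
    exact Nat.Coprime.pow_right k hN
  have hmul : ((N.subgroupOf (N ⊔ Q) : Subgroup ↥(N ⊔ Q)) : Set ↥(N ⊔ Q)) *
      ((Q.subgroupOf (N ⊔ Q) : Subgroup ↥(N ⊔ Q)) : Set ↥(N ⊔ Q)) = Set.univ := by
    rw [← Subgroup.normal_mul, hsup, Subgroup.coe_top]
  have hcompl : Subgroup.IsComplement' (N.subgroupOf (N ⊔ Q)) (Q.subgroupOf (N ⊔ Q)) :=
    Subgroup.isComplement'_of_disjoint_and_mul_eq_univ hdisj hmul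
  have hidx : (Q.subgroupOf (N ⊔ Q)).index = Nat.card N := by
    have h1 := hcompl.card_mul_card
    have h2 := Subgroup.card_mul_index (Q.subgroupOf (N ⊔ Q))
    rw [← h1, hcardN, mul_comm] at h2
    exact Nat.eq_of_mul_eq_mul_right Nat.card_pos h2
  have hnd : ¬ p ∣ (Q.subgroupOf (N ⊔ Q)).index := by
    rw [hidx]
    intro h
    have : p ∣ Nat.gcd (Nat.card N) p := Nat.dvd_gcd h dvd_rfl
    rw [hN] at this
    exact hp.one_lt.ne' (Nat.dvd_one.mp this)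
  obtain ⟨k, hk⟩ := hz
  have hzp : IsPGroup p (Subgroup.zpowers (⟨z, hzK⟩ : ↥(N ⊔ Q))) := by
    rw [IsPGroup.iff_card]
    refine ⟨k, ?_⟩
    rw [Nat.card_zpowers, Subgroup.orderOf_mk, hk]
  obtain ⟨c, hc⟩ := Cfsg.Agent.Lib.H26.exists_conj_mem_sylow (hQ'.toSylow hnd) _ hzp
  have hcz := hc _ (Subgroup.mem_zpowers _)
  rw [IsPGroup.mem_toSylow] at hcz
  -- decompose c = u * n
  have hsup' : Q.subgroupOf (N ⊔ Q) ⊔ N.subgroupOf (N ⊔ Q) = ⊤ := by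
    rw [sup_comm (Q.subgroupOf (N ⊔ Q)) (N.subgroupOf (N ⊔ Q))]; exact hsup
  have hc' : c ∈ ((Q.subgroupOf (N ⊔ Q) ⊔ N.subgroupOf (N ⊔ Q) : Subgroup ↥(N ⊔ Q)) : Set ↥(N ⊔ Q)) := by
    rw [hsup']; trivial
  rw [Subgroup.mul_normal] at hc'
  obtain ⟨u, hu, n, hn, rfl⟩ := Set.mem_mul.mp hc'
  refine ⟨n.1, Subgroup.mem_subgroupOf.mp hn, ?_⟩
  have h3 : u⁻¹ * (u * n * ⟨z, hzK⟩ * (u * n)⁻¹) * u ∈ Q.subgroupOf (N ⊔ Q) :=
    Subgroup.mul_mem _ (Subgroup.mul_mem _ (Subgroup.inv_mem _ hu) hcz) hu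
  have e : u⁻¹ * (u * n * ⟨z, hzK⟩ * (u * n)⁻¹) * u = n * ⟨z, hzK⟩ * n⁻¹ := by group
  rw [e] at h3
  exact Subgroup.mem_subgroupOf.mp h3

end Cfsg.Agent.Lib.H20
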