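import Mathlib

set_option autoImplicit false

namespace Cfsg.Agent.Lib.H20

/-- iterate of conjugation on a power relation -/
theorem conj_pow_iterate {G : Type*} [Group G] (x h : G) (i : ℕ) (hi : h * x * h⁻¹ = x ^ i)
    (j : ℕ) : h ^ j * x * (h ^ j)⁻¹ = x ^ (i ^ j) := by
  induction j with
  | zero => simp
  | succ j ih =>
    have h1 : h ^ (j + 1) * x * (h ^ (j + 1))⁻¹ = h * (h ^ j * x * (h ^ j)⁻¹) * h⁻¹ := by
      rw [pow_succ']; group
    rw [h1, ih]
    have h2 : h * x ^ (i ^ j) * h⁻¹ = (h * x * h⁻¹) ^ (i ^ j) := by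
      have e1 : h * x ^ (i ^ j) * h⁻¹ = MulAut.conj h (x ^ (i ^ j)) := by simp [MulAut.conj_apply]
      have e2 : h * x * h⁻¹ = MulAut.conj h x := by simp [MulAut.conj_apply]
      rw [e1, e2, map_pow]
    rw [h2, hi, ← pow_mul, pow_succ']

/-- If `h` normalizes `⟨x⟩`, `h ^ m` centralizes `x` and `m` is coprime to `φ(o(x))`,
then `h` centralizes `x`. -/
theorem commute_of_conj_mem_zpowers_of_coprime_totient {G : Type*} [Group G] (x h : G)
    (hx : IsOfFinOrder x) (hn : h * x * h⁻¹ ∈ Subgroup.zpowers x) (m : ℕ)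
    (hm : h ^ m * x = x * h ^ m) (hcop : m.Coprime (Nat.totient (orderOf x))) :
    h * x = x * h := by
  have hn0 : 0 < orderOf x := orderOf_pos_iff.mpr hx
  rw [← hx.mem_powers_iff_mem_zpowers] at hn
  obtain ⟨i, hi⟩ := (Submonoid.mem_powers_iff _ _).mp hn
  have hi' : h * x * h⁻¹ = x ^ i := hi.symm
  -- i is coprime to the order
  have hcopi : i.Coprime (orderOf x) := by
    have h1 : orderOf (x ^ i) = orderOf x := by
      rw [← hi']
      have : h * x * h⁻¹ = MulAut.conj h x := by simp [MulAut.conj_apply]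
      rw [this, MulEquiv.orderOf_eq]
    rw [hx.orderOf_pow] at h1
    have h2 : (orderOf x).gcd i = 1 := by
      have h3 := Nat.div_mul_cancel (Nat.gcd_dvd_left (orderOf x) i)
      rw [h1] at h3
      have : orderOf x * (orderOf x).gcd i = orderOf x * 1 := by rw [h3, mul_one]
      exact Nat.eq_of_mul_eq_mul_left hn0 this
    rw [Nat.coprime_comm]; exact h2
  have h1 := conj_pow_iterate x h i hi' m
  have h2 : h ^ m * x * (h ^ m)⁻¹ = x := by rw [hm]; group
  rw [h2] at h1
  have h3 : x ^ 1 = x ^ (i ^ m) := by rw [pow_one]; exact h1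
  rw [pow_eq_pow_iff_modEq] at h3
  have h4 : ((i : ZMod (orderOf x))) ^ m = 1 := by
    have := (ZMod.natCast_eq_natCast_iff _ _ _).mpr h3
    push_cast at this
    exact this.symm
  have h5 : ((i : ZMod (orderOf x))) ^ (Nat.totient (orderOf x)) = 1 := by
    have := (ZMod.natCast_eq_natCast_iff _ _ _).mpr (Nat.ModEq.pow_totient hcopi)
    push_cast at this
    exact this
  have h6 : orderOf (i : ZMod (orderOf x)) ∣ 1 := by
    have := Nat.dvd_gcd (orderOf_dvd_of_pow_eq_one h4) (orderOf_dvd_of_pow_eq_one h5)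
    rwa [hcop] at this
  have h7 : (i : ZMod (orderOf x)) = 1 := orderOf_eq_one_iff.mp (Nat.dvd_one.mp h6)
  have h8 : i ≡ 1 [MOD orderOf x] := by
    rw [← ZMod.natCast_eq_natCast_iff]
    push_cast
    exact h7
  have h9 : x ^ i = x ^ 1 := pow_eq_pow_iff_modEq.mpr h8
  rw [pow_one] at h9
  rw [h9] at hi'
  calc h * x = (h * x * h⁻¹) * h := by group
    _ = x * h := by rw [hi']

end Cfsg.Agent.Lib.H20
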