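import Mathlib

/-!
# S4025 piece LC (helper20, twin): number of subgroups of order `p²` of an elementary abelian
`p`-group of order `p^n`:  `#{H : |H| = p²} · (p²-1)(p²-p) = (p^n-1)(p^n-p)`.
Double count of the pairs `(v, w)` with `v ≠ 0`, `w ∉ ⟨v⟩`.
-/

set_option autoImplicit false

namespace Cfsg.Agent.Lib.H20.EOC

section core

variable {p : ℕ} [hp : Fact p.Prime]

theorem lc_card_zmultiples {W : Type*} [AddCommGroup W] (hexp : ∀ v : W, p • v = 0) {v : W}
    (hv : v ≠ 0) : Nat.card (AddSubgroup.zmultiples v) = p := by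
  rw [Nat.card_zmultiples]
  exact addOrderOf_eq_prime (hexp v) hv

theorem lc_inf_eq_bot {W : Type*} [AddCommGroup W] (hexp : ∀ v : W, p • v = 0) {v w : W}
    (hw : w ∉ AddSubgroup.zmultiples v) :
    AddSubgroup.zmultiples v ⊓ AddSubgroup.zmultiples w = ⊥ := by
  rw [eq_bot_iff]
  intro x hx
  rw [AddSubgroup.mem_bot]
  by_contra hx0
  have hw0 : w ≠ 0 := by
    rintro rfl
    exact hw (zero_mem _)
  have h1 : AddSubgroup.zmultiples x ≤ AddSubgroup.zmultiples w :=
    AddSubgroup.zmultiples_le_of_mem hx.2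
  have h2 : AddSubgroup.zmultiples x = AddSubgroup.zmultiples w := by
    haveI : Finite (AddSubgroup.zmultiples w) :=
      Nat.finite_of_card_ne_zero (by rw [lc_card_zmultiples hexp hw0]; exact hp.out.ne_zero)
    apply AddSubgroup.eq_of_le_of_card_ge h1
    rw [lc_card_zmultiples hexp hw0, lc_card_zmultiples hexp hx0]
  apply hw
  have h3 : w ∈ AddSubgroup.zmultiples x := by
    rw [h2]; exact AddSubgroup.mem_zmultiples w
  exact AddSubgroup.zmultiples_le_of_mem hx.1 h3

theorem lc_card_sup {W : Type*} [AddCommGroup W] (hexp : ∀ v : W, p • v = 0) {v w : W}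
    (hv : v ≠ 0) (hw : w ∉ AddSubgroup.zmultiples v) :
    Nat.card ↥(AddSubgroup.zmultiples v ⊔ AddSubgroup.zmultiples w) = p ^ 2 := by
  have hw0 : w ≠ 0 := by
    rintro rfl
    exact hw (zero_mem _)
  have h1 := AddSubgroup.relIndex_mul_relIndex (⊥ : AddSubgroup W) (AddSubgroup.zmultiples v)
    (AddSubgroup.zmultiples v ⊔ AddSubgroup.zmultiples w) bot_le le_sup_left
  rw [AddSubgroup.relIndex_bot_left, AddSubgroup.relIndex_bot_left, AddSubgroup.relIndex_sup_left,
    ← AddSubgroup.inf_relIndex_right, lc_inf_eq_bot hexp hw, AddSubgroup.relIndex_bot_left] at h1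
  rw [← h1, lc_card_zmultiples hexp hv, lc_card_zmultiples hexp hw0, sq]

/-- The pairs `(v, w)` with `v ≠ 0` and `w ∉ ⟨v⟩`. -/
abbrev LCP (W : Type*) [AddCommGroup W] : Type _ :=
  {x : W × W // x.1 ≠ 0 ∧ x.2 ∉ AddSubgroup.zmultiples x.1}

theorem lc_card_pairs {W : Type*} [AddCommGroup W] [Finite W] (hexp : ∀ v : W, p • v = 0) :
    Nat.card (LCP W) = (Nat.card W - 1) * (Nat.card W - p) := by
  classical
  haveI := Fintype.ofFinite W
  let e : LCP W ≃ Σ v : {v : W // v ≠ 0}, {w : W // w ∉ AddSubgroup.zmultiples v.1} :=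
    { toFun := fun x => ⟨⟨x.1.1, x.2.1⟩, ⟨x.1.2, x.2.2⟩⟩
      invFun := fun y => ⟨(y.1.1, y.2.1), y.1.2, y.2.2⟩
      left_inv := fun x => rfl
      right_inv := fun y => rfl }
  rw [Nat.card_congr e, Nat.card_sigma]
  have h1 : ∀ v : {v : W // v ≠ 0},
      Nat.card {w : W // w ∉ AddSubgroup.zmultiples v.1} = Nat.card W - p := by
    intro v
    have h2 := lc_card_zmultiples hexp v.2
    rw [Nat.card_eq_fintype_card, Fintype.card_subtype_compl, ← Nat.card_eq_fintype_card,
      ← Nat.card_eq_fintype_card]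
    rw [← h2]
  have h3 : Fintype.card {v : W // v ≠ 0} = Nat.card W - 1 := by
    have : Fintype.card {v : W // ¬ v = 0} = Fintype.card W - Fintype.card {v : W // v = 0} :=
      Fintype.card_subtype_compl _
    rw [Fintype.card_subtype_eq] at this
    rw [Nat.card_eq_fintype_card]
    exact this
  simp only [h1, Finset.sum_const, Finset.card_univ, smul_eq_mul, h3]

end core

theorem lc_add {V : Type*} [AddCommGroup V] [Finite V] {p : ℕ} [Fact p.Prime] (n : ℕ)
    (hcard : Nat.card V = p ^ n) (hexp : ∀ v : V, p • v = 0) :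
    Nat.card {H : AddSubgroup V // Nat.card H = p ^ 2} * ((p ^ 2 - 1) * (p ^ 2 - p)) =
      (p ^ n - 1) * (p ^ n - p) := by
  classical
  rw [← hcard, ← lc_card_pairs hexp]
  let f : LCP V → {H : AddSubgroup V // Nat.card H = p ^ 2} := fun x =>
    ⟨AddSubgroup.zmultiples x.1.1 ⊔ AddSubgroup.zmultiples x.1.2, lc_card_sup hexp x.2.1 x.2.2⟩
  letI : Fintype {H : AddSubgroup V // Nat.card H = p ^ 2} := Fintype.ofFinite _
  rw [← Nat.card_congr (Equiv.sigmaFiberEquiv f), Nat.card_sigma]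
  have hfib : ∀ H : {H : AddSubgroup V // Nat.card H = p ^ 2},
      Nat.card {x : LCP V // f x = H} = (p ^ 2 - 1) * (p ^ 2 - p) := by
    intro H
    have hexpH : ∀ v : H.1, p • v = 0 := fun v => Subtype.ext (by simpa using hexp v.1)
    have hH := lc_card_pairs (W := H.1) hexpH
    rw [H.2] at hH
    rw [← hH]
    have hsup : ∀ x : {x : LCP V // f x = H},
        AddSubgroup.zmultiples x.1.1.1 ⊔ AddSubgroup.zmultiples x.1.1.2 = H.1 :=
      fun x => congrArg Subtype.val x.2
    have hm1 : ∀ x : {x : LCP V // f x = H}, x.1.1.1 ∈ H.1 := fun x => by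
      rw [← hsup x]
      exact (le_sup_left : AddSubgroup.zmultiples x.1.1.1 ≤ _) (AddSubgroup.mem_zmultiples _)
    have hm2 : ∀ x : {x : LCP V // f x = H}, x.1.1.2 ∈ H.1 := fun x => by
      rw [← hsup x]
      exact (le_sup_right : AddSubgroup.zmultiples x.1.1.2 ≤ _) (AddSubgroup.mem_zmultiples _)
    let g : {x : LCP V // f x = H} → LCP H.1 := fun x =>
      ⟨(⟨x.1.1.1, hm1 x⟩, ⟨x.1.1.2, hm2 x⟩), by
        refine ⟨fun h0 => x.1.2.1 (congrArg Subtype.val h0), fun hmem => x.1.2.2 ?_⟩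
        obtain ⟨k, hk⟩ := AddSubgroup.mem_zmultiples_iff.mp hmem
        exact AddSubgroup.mem_zmultiples_iff.mpr ⟨k, by simpa using congrArg Subtype.val hk⟩⟩
    apply Nat.card_eq_of_bijective g
    constructor
    · intro x y hxy
      have h1 : x.1.1.1 = y.1.1.1 := congrArg (fun z : LCP H.1 => (z.1.1 : V)) hxy
      have h2 : x.1.1.2 = y.1.1.2 := congrArg (fun z : LCP H.1 => (z.1.2 : V)) hxy
      exact Subtype.ext (Subtype.ext (Prod.ext h1 h2))
    · intro y
      have hy1 : (y.1.1 : V) ≠ 0 := fun h0 => y.2.1 (Subtype.ext h0)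
      have hy2 : (y.1.2 : V) ∉ AddSubgroup.zmultiples (y.1.1 : V) := by
        intro hmem
        apply y.2.2
        obtain ⟨k, hk⟩ := AddSubgroup.mem_zmultiples_iff.mp hmem
        exact AddSubgroup.mem_zmultiples_iff.mpr ⟨k, Subtype.ext (by simpa using hk)⟩
      have hle : AddSubgroup.zmultiples (y.1.1 : V) ⊔ AddSubgroup.zmultiples (y.1.2 : V) ≤ H.1 :=
        sup_le (AddSubgroup.zmultiples_le_of_mem y.1.1.2) (AddSubgroup.zmultiples_le_of_mem y.1.2.2)
      have heq : AddSubgroup.zmultiples (y.1.1 : V) ⊔ AddSubgroup.zmultiples (y.1.2 : V) = H.1 := by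
        apply AddSubgroup.eq_of_le_of_card_ge hle
        rw [H.2, lc_card_sup hexp hy1 hy2]
      refine ⟨⟨⟨((y.1.1 : V), (y.1.2 : V)), hy1, hy2⟩, Subtype.ext heq⟩, ?_⟩
      exact Subtype.ext (Prod.ext (Subtype.ext rfl) (Subtype.ext rfl))
  simp only [hfib, Finset.sum_const, Finset.card_univ, smul_eq_mul, Nat.card_eq_fintype_card]


/-- multiplicative form for a commutative group. -/
theorem lc_mul {W : Type*} [CommGroup W] [Finite W] {p : ℕ} [Fact p.Prime] (n : ℕ)
    (hcard : Nat.card W = p ^ n) (hexp : ∀ a : W, a ^ p = 1) :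
    Nat.card {B : Subgroup W // Nat.card B = p ^ 2} * ((p ^ 2 - 1) * (p ^ 2 - p)) =
      (p ^ n - 1) * (p ^ n - p) := by
  have hexp' : ∀ v : Additive W, p • v = 0 := fun v => by
    show Additive.ofMul ((Additive.toMul v) ^ p) = 0
    rw [hexp]; rfl
  have hcard' : Nat.card (Additive W) = p ^ n := hcard
  rw [← lc_add n hcard' hexp']
  congr 1
  have hc : ∀ B : Subgroup W, Nat.card ↥(Subgroup.toAddSubgroup B) = Nat.card ↥B := fun B =>
    Nat.card_congr
      { toFun := fun x => ⟨Additive.toMul x.1, x.2⟩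
        invFun := fun y => ⟨Additive.ofMul y.1, y.2⟩
        left_inv := fun _ => rfl
        right_inv := fun _ => rfl }
  exact Nat.card_congr (Equiv.subtypeEquiv Subgroup.toAddSubgroup.toEquiv
    (fun B => by
      show Nat.card ↥B = p ^ 2 ↔ Nat.card ↥(Subgroup.toAddSubgroup B) = p ^ 2
      rw [hc B]))

theorem lc_sub {X : Type*} [Group X] [Finite X] {p : ℕ} [Fact p.Prime] (n : ℕ) (Q : Subgroup X)
    (hQcard : Nat.card Q = p ^ n) (hQab : ∀ a ∈ Q, ∀ b ∈ Q, a * b = b * a)
    (hQexp : ∀ a ∈ Q, a ^ p = 1) :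
    Nat.card {A : Subgroup X // A ≤ Q ∧ Nat.card A = p ^ 2} * ((p ^ 2 - 1) * (p ^ 2 - p)) =
      (p ^ n - 1) * (p ^ n - p) := by
  letI : CommGroup ↥Q :=
    { (inferInstance : Group ↥Q) with
      mul_comm := fun a b => Subtype.ext (hQab a.1 a.2 b.1 b.2) }
  have hexp : ∀ a : ↥Q, a ^ p = 1 := fun a => Subtype.ext (by simpa using hQexp a.1 a.2)
  rw [← lc_mul (W := ↥Q) n hQcard hexp]
  congr 1
  refine Nat.card_congr
    { toFun := fun A => ⟨A.1.subgroupOf Q, ?_⟩
      invFun := fun B => ⟨B.1.map Q.subtype, ?_, ?_⟩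
      left_inv := fun A => ?_
      right_inv := fun B => ?_ }
  · exact (Nat.card_congr (Subgroup.subgroupOfEquivOfLe A.2.1).toEquiv).trans A.2.2
  · exact Subgroup.map_subtype_le B.1
  · exact (Nat.card_congr (B.1.equivMapOfInjective Q.subtype Q.subtype_injective).toEquiv).symm.trans B.2
  · exact Subtype.ext (Subgroup.map_subgroupOf_eq_of_le A.2.1)
  · exact Subtype.ext (Subgroup.comap_map_eq_self_of_injective Q.subtype_injective B.1)

end Cfsg.Agent.Lib.H20.EOC
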