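import Mathlib
import Cfsg.Agent.Lib.H9.ExtSpDefs
import Cfsg.Agent.Lib.H18.ExtSpTR

/-!
# S5664 piece P2a: the torus twist (helper20)

Property `(*)` for one non-zero functional `θ` gives `(*)` for every functional `θ'`:
`θ = lam(· t)`, `θ' = lam(· t')`, `k₀ = t / t'`, `g ∈ M` `K`-linear with `g w₀ = k₀ • w₀`, `u' = g u g⁻¹`.
-/

set_option autoImplicit false

namespace Cfsg.Agent.Lib.H20.ExtSp

open Module Cfsg.Agent.Lib.H9.ExtSp

variable {F K V : Type*} [Field F] [Field K] [Algebra F K] [AddCommGroup V] [Module F V]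
  [Module K V] [IsScalarTower F K V]
  {B : LinearMap.BilinForm K V} {lam : K →ₗ[F] F} {M : Subgroup (V ≃ₗ[F] V)}

/-- every `F`-linear functional on `K` is `lam (· * t)` -/
theorem exists_repr [FiniteDimensional F K] (hlam : lam ≠ 0) (θ : K →ₗ[F] F) :
    ∃ t : K, ∀ k : K, θ k = lam (k * t) := by
  -- the map `t ↦ lam (· * t)` is injective, hence surjective
  let Φ : K →ₗ[F] (K →ₗ[F] F) :=
    { toFun := fun t => lam.comp (LinearMap.mulRight F t)
      map_add' := by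
        intro a b
        ext k
        simp [mul_add]
      map_smul' := by
        intro a b
        ext k
        simp }
  have hΦ : ∀ t k, Φ t k = lam (k * t) := fun t k => rfl
  have hinj : Function.Injective Φ := by
    rw [← LinearMap.ker_eq_bot, LinearMap.ker_eq_bot']
    intro t ht
    by_contra h0
    apply hlam
    ext c
    have h1 := congrArg (fun φ : K →ₗ[F] F => φ (c * t⁻¹)) ht
    simp only [hΦ, LinearMap.zero_apply] at h1
    rw [mul_assoc, inv_mul_cancel₀ h0, mul_one] at h1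
    exact h1
  have hsurj : Function.Surjective Φ := by
    apply (LinearMap.injective_iff_surjective_of_finrank_eq_finrank ?_).1 hinj
    exact (Subspace.dual_finrank_eq (K := F) (V := K)).symm
  obtain ⟨t, ht⟩ := hsurj θ
  exact ⟨t, fun k => by rw [← ht, hΦ]⟩

/-- **P2a** (torus twist: (*) for one non-zero functional gives (*) for all functionals). -/
theorem star_all [FiniteDimensional F K] (S : Setup B lam M) {w₀ : V} {θ : K →ₗ[F] F}
    (hw : w₀ ≠ 0) (hθ : θ ≠ 0) (hstar : Star M w₀ θ) (θ' : K →ₗ[F] F) : Star M w₀ θ' := by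
  by_cases hθ' : θ' = 0
  · intro c _
    refine ⟨1, M.one_mem, fun k => ?_⟩
    rw [hθ', LinearMap.zero_apply, zero_smul, add_zero]
    rfl
  obtain ⟨t, ht⟩ := exists_repr S.lam_ne θ
  obtain ⟨t', ht'⟩ := exists_repr S.lam_ne θ'
  have ht0 : t ≠ 0 := by
    intro h
    apply hθ
    ext k
    rw [ht, h, mul_zero, map_zero, LinearMap.zero_apply]
  have ht'0 : t' ≠ 0 := by
    intro h
    apply hθ'
    ext k
    rw [ht', h, mul_zero, map_zero, LinearMap.zero_apply]
  set k₀ : K := t * t'⁻¹ with hk₀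
  have hk₀0 : k₀ ≠ 0 := mul_ne_zero ht0 (inv_ne_zero ht'0)
  have hk₀w : k₀ • w₀ ≠ 0 := smul_ne_zero hk₀0 hw
  obtain ⟨g, hgM, hgK, hgw⟩ := Cfsg.Agent.Lib.H18.ExtSp.exists_klin_map S hw hk₀w
  -- `θ (k k₀⁻¹) = θ' k`
  have hθθ' : ∀ k : K, θ (k * k₀⁻¹) = θ' k := by
    intro k
    rw [ht, ht', hk₀, mul_inv, inv_inv, mul_assoc]
    congr 2
    rw [mul_comm t⁻¹ t', mul_assoc, inv_mul_cancel₀ ht0, mul_one]
  -- action of `g`, `g⁻¹` on the `K`-point
  have hg1 : ∀ k : K, g (k • w₀) = (k * k₀) • w₀ := by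
    intro k
    rw [hgK, hgw, smul_smul]
  have hg2 : ∀ k : K, g.symm (k • w₀) = (k * k₀⁻¹) • w₀ := by
    intro k
    rw [LinearEquiv.symm_apply_eq, hg1, mul_assoc, inv_mul_cancel₀ hk₀0, mul_one]
  intro c' hc'
  have hc : θ (c' * k₀⁻¹) = 0 := by rw [hθθ', hc']
  obtain ⟨u, huM, hu⟩ := hstar (c' * k₀⁻¹) hc
  refine ⟨g * u * g⁻¹, M.mul_mem (M.mul_mem hgM huM) (M.inv_mem hgM), fun k => ?_⟩
  have h1 : (g * u * g⁻¹) (k • w₀) = g (u (g.symm (k • w₀))) := rfl
  rw [h1, hg2, hu, hg1, hθθ']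
  congr 1
  rw [add_mul, mul_assoc, inv_mul_cancel₀ hk₀0, mul_one, smul_mul_assoc, mul_assoc,
    inv_mul_cancel₀ hk₀0, mul_one]

end Cfsg.Agent.Lib.H20.ExtSp
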