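import Cfsg.Agent.Lib.H10.FG19EA
import Cfsg.Agent.Lib.H24.FG19SC2

set_option autoImplicit false

/-! S4404 piece CASEB7 (helper20): assembly of BLOCK7, EA, SC2 + Sylow.  `caseB7_aux` takes BLOCK7 as a
hypothesis; `caseB7` (exact sig) is in `FG19CASEB7b.lean` once BLOCK7 is landed. -/

namespace Cfsg.Agent.Lib.H20.FG19

open Cfsg Cfsg.Agent.Lib.H1.FG19
open scoped IsMulCommutative Pointwise

variable {S : Type*} [Group S] (M : Subgroup S) [M.Normal]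

theorem caseB7_aux [Finite S] [IsMulCommutative ↥M]
    (hblock : ∀ (P F : Subgroup (MulAut ↥M)), IsPGroup 7 P → F ≤ P →
      (∀ z ∈ P, ∀ f ∈ F, z * f * z⁻¹ ∈ F) → (∀ f ∈ F, ∀ g ∈ F, f * g = g * f) →
      ∀ B : MulAut ↥M, B ∈ P → B ^ 7 = 1 → Nat.card (cm B) = 8 → ∀ Φ ∈ F,
        (cm B).map Φ.toMonoidHom = cm B)
    (H : Subgroup S) (b : S)
    (hbH : b ∈ H) (hb : ∃ k : ℕ, b ^ 7 ^ k = 1) (hb7 : (MulAut.conjNormal b : MulAut ↥M) ^ 7 = 1)
    (hcb : Nat.card (cm (MulAut.conjNormal b : MulAut ↥M)) = 8) (V : Subgroup S)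
    (hV : V ≤ (cm (MulAut.conjNormal b : MulAut ↥M)).map M.subtype) (E : Subgroup S) (hEH : E ≤ H)
    (hE : IsElementaryAbelian 7 E) (hEc : Nat.card E = 7 ^ 3) :
    ∃ F : Subgroup S, IsElementaryAbelian 7 F ∧ Nat.card F = 7 ^ 3 ∧
      7 ^ 2 ≤ Nat.card ↥(F ⊓ Subgroup.centralizer (V : Set S)) := by
  classical
  haveI : Fact (Nat.Prime 7) := ⟨by norm_num⟩
  -- a Sylow 7-subgroup of `H` containing `b`
  obtain ⟨k, hk⟩ := hb
  let bH : H := ⟨b, hbH⟩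
  have hbHk : bH ^ 7 ^ k = 1 := Subtype.ext (by simpa using hk)
  have hzp : IsPGroup 7 (Subgroup.zpowers bH) := by
    obtain ⟨j, -, hj⟩ := (Nat.dvd_prime_pow (by norm_num : Nat.Prime 7)).mp
      (orderOf_dvd_of_pow_eq_one hbHk)
    exact IsPGroup.of_card (n := j) (by rw [Nat.card_zpowers, hj])
  obtain ⟨P₀, hP₀⟩ := hzp.exists_le_sylow
  have hbP₀ : bH ∈ P₀ := hP₀ (Subgroup.mem_zpowers bH)
  -- a conjugate of `E` inside `P₀`
  have hEHp : IsPGroup 7 (E.subgroupOf H) := by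
    intro g
    refine ⟨1, ?_⟩
    have h1 : ((g : H) : S) ∈ E := g.2
    have h2 := hE.2 _ h1
    apply Subtype.ext
    apply Subtype.ext
    simpa using h2
  obtain ⟨Q, hQ⟩ := hEHp.exists_le_sylow
  obtain ⟨h, hh⟩ := MulAction.exists_smul_eq H Q P₀
  have hPQ : (P₀ : Subgroup H) = MulAut.conj h • (Q : Subgroup H) := by
    rw [← hh]; exact Sylow.coe_subgroup_smul
  set P : Subgroup S := (P₀ : Subgroup H).map H.subtype with hPdef
  have hP : IsPGroup 7 P := P₀.isPGroup'.map _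
  set E' : Subgroup S := E.map (MulAut.conj (h : S)).toMonoidHom with hE'def
  have hE'P : E' ≤ P := by
    rintro _ ⟨e, he, rfl⟩
    have h1 : (⟨e, hEH he⟩ : H) ∈ (Q : Subgroup H) := hQ (Subgroup.mem_subgroupOf.mpr he)
    have h2 : MulAut.conj h • (⟨e, hEH he⟩ : H) ∈ MulAut.conj h • (Q : Subgroup H) :=
      Subgroup.smul_mem_pointwise_smul _ _ _ h1
    rw [← hPQ] at h2
    refine Subgroup.mem_map.mpr ⟨_, h2, ?_⟩
    simp [MulAut.smul_def, MulAut.conj_apply]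
  have hE' : IsElementaryAbelian 7 E' := by
    have := hE.1
    refine ⟨inferInstance, ?_⟩
    rintro _ ⟨e, he, rfl⟩
    rw [← map_pow, hE.2 e he, map_one]
  have hE'c : Nat.card E' = 7 ^ 3 := by
    rw [hE'def, Subgroup.card_map_of_injective (MulAut.conj (h : S)).injective, hEc]
  obtain ⟨F, hFP, hFn, hFea, hFc⟩ :=
    Cfsg.Agent.Lib.H10.FG19.exists_normal_ea (p := 7) (by norm_num) P hP E' hE'P hE' hE'c
  -- images in `MulAut M`
  let ρ : S →* MulAut ↥M := MulAut.conjNormal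
  set B : MulAut ↥M := MulAut.conjNormal b with hBdef
  have hFcomm : ∀ f ∈ F, ∀ g ∈ F, f * g = g * f := by
    intro f hf g hg
    have := hFea.1.is_comm.comm (⟨f, hf⟩ : F) ⟨g, hg⟩
    exact congrArg Subtype.val this
  have hbP : b ∈ P := Subgroup.mem_map.mpr ⟨bH, hbP₀, rfl⟩
  have hstab : ∀ f ∈ F, (cm B).map (ρ f).toMonoidHom = cm B := by
    intro f hf
    refine hblock (P.map ρ) (F.map ρ) (hP.map ρ) (Subgroup.map_mono hFP) ?_ ?_ B
      (Subgroup.mem_map.mpr ⟨b, hbP, rfl⟩) hb7 hcb (ρ f) (Subgroup.mem_map.mpr ⟨f, hf, rfl⟩)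
    · rintro _ ⟨z0, hz0, rfl⟩ _ ⟨f0, hf0, rfl⟩
      refine Subgroup.mem_map.mpr ⟨z0 * f0 * z0⁻¹, hFn z0 hz0 f0 hf0, ?_⟩
      rw [map_mul, map_mul, map_inv]
    · rintro _ ⟨f0, hf0, rfl⟩ _ ⟨g0, hg0, rfl⟩
      rw [← map_mul, ← map_mul, hFcomm f0 hf0 g0 hg0]
  set W : Subgroup S := (cm B).map M.subtype with hWdef
  have hFW : ∀ f ∈ F, ∀ w ∈ W, f * w * f⁻¹ ∈ W := by
    rintro f hf _ ⟨m, hm, rfl⟩
    have h1 : (ρ f) m ∈ (cm B).map (ρ f).toMonoidHom := Subgroup.mem_map.mpr ⟨m, hm, rfl⟩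
    rw [hstab f hf] at h1
    refine Subgroup.mem_map.mpr ⟨(ρ f) m, h1, ?_⟩
    simp [ρ, MulAut.conjNormal_apply]
  have hWc : Nat.card W = 8 := by
    rw [hWdef, Subgroup.card_map_of_injective M.subtype_injective, hcb]
  have hW7 : ¬ 7 ^ 2 ∣ (Nat.card W - 1).factorial := by
    rw [hWc]; decide
  have h49 := Cfsg.Agent.Lib.H24.FG19.sq_le_card_inf_centralizer (r := 7) (by norm_num) F W hFc
    hFW hW7
  refine ⟨F, hFea, hFc, le_trans h49 ?_⟩
  apply Subgroup.card_le_of_le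
  exact inf_le_inf_left F (Subgroup.centralizer_le hV)
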