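import Mathlib
import Cfsg.Prelude.Def_Blocks
import Cfsg.Prelude.Def_Characters
import Cfsg.Agent.Lib.H24.FullyRamCyclic

/-!
# FR1 (DeMeyer–Janusz, Sylow step) for S4563 / S4564 (architect helper23)

`χ ∈ Irr(H)` fully ramified over `Z ⊴ H`, `S ∈ Syl_p(H)`, `W₁ = S Z`.  Then `χ_{W₁} = a ζ₁` with
`ζ₁ ∈ Irr(W₁)` fully ramified over `Z` and `p ∤ a`.
-/

set_option autoImplicit false

namespace Cfsg.Agent.Lib.H20.FRS

open Cfsg Cfsg.Agent.Lib.L0 Cfsg.Agent.Lib.H24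
open scoped ComplexConjugate

/-- arithmetic: `e² = r t`, `r` a power of `p`, `p ∤ t`: then `e = c a`, `c² = r`, `p ∤ a`. -/
theorem fr1_arith (e p r t : ℕ) (hp : p.Prime) (he : e ^ 2 = r * t) (hr : ∃ j : ℕ, r = p ^ j)
    (ht : ¬ p ∣ t) (he0 : e ≠ 0) :
    ∃ c a : ℕ, e = c * a ∧ c ^ 2 = r ∧ ¬ p ∣ a ∧ ∃ k : ℕ, c = p ^ k := by
  obtain ⟨j, rfl⟩ := hr
  refine ⟨p ^ e.factorization p, e / p ^ e.factorization p,
    (Nat.ordProj_mul_ordCompl_eq_self e p).symm, ?_, Nat.not_dvd_ordCompl hp he0, _, rfl⟩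
  have ht0 : t ≠ 0 := by
    rintro rfl
    exact ht (dvd_zero p)
  have h1 : (e ^ 2).factorization p = 2 * e.factorization p := by
    rw [Nat.factorization_pow]; simp
  have h2 : (p ^ j * t).factorization p = j := by
    rw [Nat.factorization_mul (pow_ne_zero j hp.ne_zero) ht0]
    simp [Nat.factorization_eq_zero_of_not_dvd ht, hp.factorization_self, Nat.factorization_pow]
  rw [he, h2] at h1
  rw [← pow_mul, h1, mul_comm]

theorem fr_sylow {H : Type*} [Group H] [Finite H] (Z : Subgroup H) [Z.Normal] (χ : IrrCharacter H)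
    (θ : IrrCharacter ↥Z) (e : ℕ) (he : e ^ 2 = Z.index)
    (hχ : ∀ z : ↥Z, (χ : H → ℂ) z = (e : ℂ) * (θ : ↥Z → ℂ) z)
    (p : ℕ) [Fact p.Prime] (S : Sylow p H) (W₁ : Subgroup H) (hW₁ : W₁ = (S : Subgroup H) ⊔ Z) :
    ∃ (ζ₁ : IrrCharacter ↥W₁) (c a : ℕ),
      c ^ 2 = Z.relIndex W₁ ∧ ¬ p ∣ a ∧
      (∀ (z : H) (hz : z ∈ Z) (hz' : z ∈ W₁),
        (ζ₁ : ↥W₁ → ℂ) ⟨z, hz'⟩ = (c : ℂ) * (θ : ↥Z → ℂ) ⟨z, hz⟩) ∧
      (∀ w : ↥W₁, (χ : H → ℂ) w = (a : ℂ) * (ζ₁ : ↥W₁ → ℂ) w) := by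
  classical
  letI : Fintype H := Fintype.ofFinite H
  letI : Fintype ↥Z := Fintype.ofFinite ↥Z
  letI : Fintype ↥W₁ := Fintype.ofFinite ↥W₁
  have hp : p.Prime := Fact.out
  have hZW : Z ≤ W₁ := by rw [hW₁]; exact le_sup_right
  have hSW : (S : Subgroup H) ≤ W₁ := by rw [hW₁]; exact le_sup_left
  have he0 : e ≠ 0 := by
    intro h
    have := fr_e_ne_zero (H := H) (e := e) (Z := Z) he
    exact this (by rw [h]; simp)
  -- arithmetic
  have hmul : Z.relIndex W₁ * W₁.index = Z.index := Subgroup.relIndex_mul_index hZW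
  have hrp : ∃ j : ℕ, Z.relIndex W₁ = p ^ j := by
    have h1 : Z.relIndex W₁ = Z.relIndex (S : Subgroup H) := by
      rw [hW₁]; exact Subgroup.relIndex_sup_right (H := (S : Subgroup H)) (K := Z)
    obtain ⟨k, hk⟩ := S.2.exists_card_eq
    have h2 : Z.relIndex (S : Subgroup H) ∣ p ^ k := by
      rw [← hk]; exact Subgroup.relIndex_dvd_card _ _
    obtain ⟨j, _, hj⟩ := (Nat.dvd_prime_pow hp).1 h2
    exact ⟨j, by rw [h1, hj]⟩
  have hnd : ¬ p ∣ W₁.index := by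
    intro h
    exact S.not_dvd_index (dvd_trans h (Subgroup.index_dvd_of_le hSW))
  obtain ⟨c, a, heca, hc2, hpa, k, hck⟩ :=
    fr1_arith e p (Z.relIndex W₁) W₁.index hp (by rw [he, hmul]) hrp hnd he0
  have hc0 : c ≠ 0 := by
    rintro rfl
    exact he0 (by rw [heca, zero_mul])
  have ha0 : a ≠ 0 := by
    rintro rfl
    exact he0 (by rw [heca, mul_zero])
  have hcop : Nat.Coprime a c := by
    rw [hck]
    exact Nat.Coprime.pow_right k ((Nat.Prime.coprime_iff_not_dvd hp).2 hpa).symm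
  -- cardinalities
  have hcard : Nat.card ↥W₁ = Nat.card ↥Z * c ^ 2 := by
    rw [hc2]
    have h1 : Nat.card (Z.subgroupOf W₁) * (Z.subgroupOf W₁).index = Nat.card ↥W₁ :=
      Subgroup.card_mul_index _
    have h2 : Nat.card (Z.subgroupOf W₁) = Nat.card ↥Z :=
      Nat.card_congr (Subgroup.subgroupOfEquivOfLe hZW).toEquiv
    rw [← h1, h2]
    rfl
  -- the restriction
  set ι : ↥Z →* ↥W₁ := Subgroup.inclusion hZW with hι
  set ψ : ↥W₁ → ℂ := fun w => (χ : H → ℂ) w with hψdef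
  have hψchar : IsCharacter ↥W₁ ψ := isCharacter_restrict W₁ (isCharacter_of_irr χ.2)
  have hvan : ∀ h : H, h ∉ Z → (χ : H → ℂ) h = 0 := fun h hh => fr_vanish he hχ h hh
  -- key sum formula
  have key : ∀ F : ↥W₁ → ℂ, ∑ w : ↥W₁, ψ w * conj (F w) =
      (e : ℂ) * ∑ z : ↥Z, (θ : ↥Z → ℂ) z * conj (F (ι z)) := by
    intro F
    rw [Finset.mul_sum]
    symm
    apply Finset.sum_of_injOn (fun z : ↥Z => ι z)
    · intro x _ y _ hxy
      exact Subgroup.inclusion_injective hZW hxy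
    · intro x _; exact Finset.mem_coe.2 (Finset.mem_univ _)
    · intro w _ hw
      have hwZ : (w : H) ∉ Z := by
        intro hwZ
        apply hw
        refine ⟨⟨(w : H), hwZ⟩, Finset.mem_coe.2 (Finset.mem_univ _), ?_⟩
        apply Subtype.ext
        rfl
      show (χ : H → ℂ) w * conj (F w) = 0
      rw [hvan _ hwZ, zero_mul]
    · intro z _
      show (e : ℂ) * ((θ : ↥Z → ℂ) z * conj (F (ι z))) = (χ : H → ℂ) ((ι z : ↥W₁) : H) * conj (F (ι z))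
      have : ((ι z : ↥W₁) : H) = (z : H) := rfl
      rw [this, hχ z]
      ring
  have hW0 : (Nat.card ↥W₁ : ℂ) ≠ 0 := by exact_mod_cast (Nat.card_pos (α := ↥W₁)).ne'
  have hZ0 : (Nat.card ↥Z : ℂ) ≠ 0 := by exact_mod_cast (Nat.card_pos (α := ↥Z)).ne'
  have hcC : (c : ℂ) ≠ 0 := by exact_mod_cast hc0
  have haC : (a : ℂ) ≠ 0 := by exact_mod_cast ha0
  have hecaC : (e : ℂ) = (c : ℂ) * (a : ℂ) := by exact_mod_cast heca
  have hcardC : (Nat.card ↥W₁ : ℂ) = (Nat.card ↥Z : ℂ) * (c : ℂ) ^ 2 := by exact_mod_cast hcard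
  have key2 : ∀ F : ↥W₁ → ℂ, classInner ψ F * (c : ℂ) =
      (a : ℂ) * classInner (θ : ↥Z → ℂ) (fun z => F (ι z)) := by
    intro F
    unfold classInner
    rw [key F, hcardC, hecaC]
    field_simp
  -- norm of ψ
  have hnorm : classInner ψ ψ = (a : ℂ) ^ 2 := by
    have h1 := key2 ψ
    have h2 : (fun z : ↥Z => ψ (ι z)) = (e : ℂ) • (θ : ↥Z → ℂ) := by
      funext z
      show (χ : H → ℂ) ((ι z : ↥W₁) : H) = (e : ℂ) * (θ : ↥Z → ℂ) z
      exact hχ z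
    rw [h2, classInner_smul_right, irr_classInner_self θ.2, Complex.conj_natCast, mul_one,
      hecaC] at h1
    have : classInner ψ ψ * (c : ℂ) = (a : ℂ) ^ 2 * (c : ℂ) := by rw [h1]; ring
    exact mul_right_cancel₀ hcC this
  -- a constituent
  obtain ⟨l, hl, hlsum⟩ := isCharacter_exists_irr_decomp hψchar
  have hlne : l ≠ [] := by
    rintro rfl
    rw [List.sum_nil] at hlsum
    rw [hlsum, classInner_zero_left] at hnorm
    have : (a : ℂ) ^ 2 ≠ 0 := pow_ne_zero 2 haC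
    exact this hnorm.symm
  obtain ⟨ζf, l', rfl⟩ := List.exists_cons_of_ne_nil hlne
  have hζirr : IsIrrCharacter ↥W₁ ζf := hl ζf (by simp)
  set n : ℕ := (ζf :: l').count ζf with hn
  have hn1 : 1 ≤ n := by rw [hn]; simp
  have hψζ : classInner ψ ζf = (n : ℂ) := by
    rw [hlsum]; exact classInner_irr_list_sum hl hζirr
  obtain ⟨m, hm⟩ := classInner_irr_char_nat
    (isCharacter_comp ι (isCharacter_of_irr hζirr)) θ.2
  have hnc : n * c = a * m := by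
    have h1 := key2 ζf
    rw [hψζ] at h1
    have h2 : (fun z : ↥Z => ζf (ι z)) = ζf ∘ ι := rfl
    rw [h2, hm] at h1
    exact_mod_cast h1
  have han : a ∣ n := by
    have : a ∣ n * c := ⟨m, hnc⟩
    exact hcop.dvd_of_dvd_mul_right this
  have hale : a ≤ n := Nat.le_of_dvd (by omega) han
  -- ψ = a ζf
  have hζψ : classInner ζf ψ = (n : ℂ) := by
    rw [← classInner_conj_symm, hψζ, Complex.conj_natCast]
  have hdiff : classInner (ψ - (a : ℂ) • ζf) (ψ - (a : ℂ) • ζf) =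
      2 * (a : ℂ) * ((a : ℂ) - (n : ℂ)) := by
    rw [classInner_sub_left, classInner_sub_right, classInner_sub_right, classInner_smul_left,
      classInner_smul_left, classInner_smul_right, classInner_smul_right, hnorm, hψζ, hζψ,
      irr_classInner_self hζirr, Complex.conj_natCast]
    ring
  have hdiff0 : ψ - (a : ℂ) • ζf = 0 := by
    apply classInner_self_eq_zero
    have h1 := classInner_self_eq (ψ - (a : ℂ) • ζf)
    rw [hdiff] at h1
    have h2 : (0 : ℝ) ≤ (Nat.card ↥W₁ : ℝ)⁻¹ * ∑ g : ↥W₁, ‖(ψ - (a : ℂ) • ζf) g‖ ^ 2 := by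
      apply mul_nonneg
      · rw [inv_nonneg]; exact Nat.cast_nonneg _
      · exact Finset.sum_nonneg fun g _ => sq_nonneg _
    have h3 : (2 * (a : ℝ) * ((a : ℝ) - (n : ℝ)) : ℝ) =
        (Nat.card ↥W₁ : ℝ)⁻¹ * ∑ g : ↥W₁, ‖(ψ - (a : ℂ) • ζf) g‖ ^ 2 := by
      have : ((2 * (a : ℝ) * ((a : ℝ) - (n : ℝ)) : ℝ) : ℂ) =
          (((Nat.card ↥W₁ : ℝ)⁻¹ * ∑ g : ↥W₁, ‖(ψ - (a : ℂ) • ζf) g‖ ^ 2 : ℝ) : ℂ) := by
        rw [← h1]; push_cast; ring
      exact_mod_cast this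
    have h4 : (2 * (a : ℝ) * ((a : ℝ) - (n : ℝ)) : ℝ) ≤ 0 := by
      have h5 : (a : ℝ) ≤ (n : ℝ) := by exact_mod_cast hale
      have h6 : (0 : ℝ) ≤ (a : ℝ) := Nat.cast_nonneg _
      nlinarith
    have h5 : (2 * (a : ℝ) * ((a : ℝ) - (n : ℝ)) : ℝ) = 0 := le_antisymm h4 (h3 ▸ h2)
    rw [hdiff]
    have : ((2 * (a : ℝ) * ((a : ℝ) - (n : ℝ)) : ℝ) : ℂ) = 0 := by rw [h5]; simp
    rw [← this]; push_cast; ring
  have hψeq : ∀ w : ↥W₁, ψ w = (a : ℂ) * ζf w := by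
    intro w
    have := congrFun hdiff0 w
    simp only [Pi.sub_apply, Pi.smul_apply, smul_eq_mul, Pi.zero_apply] at this
    exact sub_eq_zero.mp this
  refine ⟨⟨ζf, hζirr⟩, c, a, hc2, hpa, ?_, hψeq⟩
  intro z hz hz'
  have h1 := hψeq ⟨z, hz'⟩
  have h2 := hχ ⟨z, hz⟩
  have h3 : ψ ⟨z, hz'⟩ = (χ : H → ℂ) z := rfl
  rw [h3] at h1
  have h4 : (χ : H → ℂ) z = (e : ℂ) * (θ : ↥Z → ℂ) ⟨z, hz⟩ := h2
  rw [h4, hecaC] at h1
  have h5 : (a : ℂ) * ((c : ℂ) * (θ : ↥Z → ℂ) ⟨z, hz⟩) = (a : ℂ) * ζf ⟨z, hz'⟩ := by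
    rw [← h1]; ring
  exact (mul_left_cancel₀ haC h5).symm

end Cfsg.Agent.Lib.H20.FRS
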