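/-
S5401 (architect helper17), piece **S5401-KER** (helper20): first isomorphism theorem through an isomorphism.
-/
import Mathlib

set_option autoImplicit false

namespace Cfsg.Agent.Lib.H20.FT

theorem exists_normal_of_surjective {A : Type*} {B : Type*} {C : Type*} [Group A] [Group B] [Group C]
    (e : A ≃* B) (θ : B →* C) (hθ : Function.Surjective θ) :
    ∃ (N : Subgroup A) (_ : N.Normal), Nonempty (↥N ≃* ↥θ.ker) ∧ Nonempty (A ⧸ N ≃* C) := by
  let f : A →* C := θ.comp e.toMonoidHom
  have hf : Function.Surjective f := hθ.comp e.surjective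
  refine ⟨f.ker, inferInstance, ⟨?_⟩, ⟨QuotientGroup.quotientKerEquivOfSurjective f hf⟩⟩
  exact
    { toFun := fun x => ⟨e x.1, by
        have h := x.2
        rw [MonoidHom.mem_ker] at h ⊢
        exact h⟩
      invFun := fun y => ⟨e.symm y.1, by
        have h := y.2
        rw [MonoidHom.mem_ker] at h ⊢
        show θ (e (e.symm y.1)) = 1
        rw [e.apply_symm_apply]
        exact h⟩
      left_inv := fun x => Subtype.ext (e.symm_apply_apply x.1)
      right_inv := fun y => Subtype.ext (e.apply_symm_apply y.1)
      map_mul' := fun x y => Subtype.ext (map_mul e x.1 y.1) }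

end Cfsg.Agent.Lib.H20.FT
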