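import Cfsg.Agent.Lib.H20.FVN3

/-!
# S4923 piece GTB (architect helper27): backward group theory, `n ≥ 4`.
-/

set_option autoImplicit false

namespace Cfsg.Agent.Lib.H20.FV

open scoped commutatorElement

/-- abstract form: `X` of order `2^(i+4)`, `g` with `g^(2^(i+3)) = 1` not central, and the only odd
powers of `g` conjugate to `g` are `g` and `g^E` (`E = 2^(i+3) - 1` or `2^(i+2) - 1`).  Then
`|X : X'| = 4`. -/
theorem index_commutator_of_conj {X : Type*} [Group X] [Finite X] (i : ℕ)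
    (hX : Nat.card X = 2 ^ (i + 4)) (g t : X) (hg : g ^ 2 ^ (i + 3) = 1) (htg : t * g ≠ g * t)
    (E : ℕ) (hE : E = 2 ^ (i + 3) - 1 ∨ E = 2 ^ (i + 2) - 1)
    (h : ∀ k : ℕ, Odd k → (∃ c : X, c * g * c⁻¹ = g ^ k) →
        (k % 2 ^ (i + 3) = 1 ∨ k % 2 ^ (i + 3) = E)) :
    (commutator X).index = 4 := by
  haveI : Fact (Nat.Prime 2) := ⟨Nat.prime_two⟩
  have hu1 : 1 ≤ 2 ^ i := Nat.one_le_two_pow
  have e1 : 2 ^ (i + 1) = 2 * 2 ^ i := by rw [pow_succ]; ring
  have e2 : 2 ^ (i + 2) = 4 * 2 ^ i := by rw [pow_succ, e1]; ring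
  have e3 : 2 ^ (i + 3) = 8 * 2 ^ i := by rw [pow_succ, e2]; ring
  have e4 : 2 ^ (i + 4) = 16 * 2 ^ i := by rw [pow_succ, e3]; ring
  -- Step 2
  have hgM : g ^ 2 ^ (i + 2) ≠ 1 := by
    intro h1
    have hk0 : Odd (1 + 2 ^ (i + 2)) := ⟨2 * 2 ^ i, by rw [e2]; ring⟩
    have h2 := h (1 + 2 ^ (i + 2)) hk0 ⟨1, by rw [pow_add, h1]; simp⟩
    rw [Nat.mod_eq_of_lt (by omega)] at h2
    omega
  -- Step 3
  have hord : orderOf g = 2 ^ (i + 3) := orderOf_eq_prime_pow (n := i + 2) hgM hg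
  -- Step 4
  have hidx2 : (Subgroup.zpowers g).index = 2 := by
    have h1 := Subgroup.card_mul_index (Subgroup.zpowers g)
    rw [Nat.card_zpowers, hord, hX, e3, e4] at h1
    have : 8 * 2 ^ i * (Subgroup.zpowers g).index = 8 * 2 ^ i * 2 := by rw [h1]; ring
    exact Nat.eq_of_mul_eq_mul_left (by omega) this
  have hnorm : (Subgroup.zpowers g).Normal := Subgroup.normal_of_index_eq_two hidx2
  -- Step 5
  have hmem : t * g * t⁻¹ ∈ Subgroup.zpowers g := hnorm.conj_mem g (Subgroup.mem_zpowers g) t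
  have hfin : IsOfFinOrder g := isOfFinOrder_of_finite g
  rw [← hfin.mem_powers_iff_mem_zpowers, Submonoid.mem_powers_iff] at hmem
  obtain ⟨k, hk⟩ := hmem
  -- Step 6
  have hkodd : Odd k := by
    rw [← Nat.not_even_iff_odd]
    rintro ⟨l, rfl⟩
    have h1 : (g ^ (l + l)) ^ 2 ^ (i + 2) = 1 := by
      rw [← pow_mul, show (l + l) * 2 ^ (i + 2) = 2 ^ (i + 3) * l by rw [e2, e3]; ring, pow_mul, hg,
        one_pow]
    rw [hk, conj_pow, conj_eq_one_iff] at h1
    exact hgM h1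
  -- Step 7
  have hcase := h k hkodd ⟨t, hk.symm⟩
  have hkmod : g ^ (k % 2 ^ (i + 3)) = g ^ k := by rw [← hord]; exact pow_mod_orderOf g k
  rcases hcase with h1 | h1
  · exfalso
    rw [h1, pow_one] at hkmod
    apply htg
    have h2 : t * g * t⁻¹ = g := by rw [← hk, ← hkmod]
    calc t * g = t * g * t⁻¹ * t := by group
      _ = g * t := by rw [h2]
  · rw [h1] at hkmod
    have hconj : t * g * t⁻¹ = g ^ E := by rw [← hk, ← hkmod]
    obtain ⟨e, rfl⟩ : ∃ e, E = e + 1 := ⟨E - 1, by omega⟩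
    have hw : ⁅t, g⁆ = g ^ e := by
      rw [commutatorElement_def, hconj, pow_succ, mul_inv_cancel_right]
    obtain ⟨f, hf⟩ : ∃ f, e = 2 * f := by
      rcases hE with h2 | h2
      · exact ⟨4 * 2 ^ i - 1, by omega⟩
      · exact ⟨2 * 2 ^ i - 1, by omega⟩
    have hwmem : g ^ e ∈ commutator X := by
      rw [← hw, commutator_def]
      exact Subgroup.commutator_mem_commutator (Subgroup.mem_top _) (Subgroup.mem_top _)
    have hword : orderOf (g ^ e) = 2 ^ (i + 2) := by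
      refine orderOf_eq_prime_pow (n := i + 1) ?_ ?_
      · rw [← pow_mul, ← orderOf_dvd_iff_pow_eq_one, hord, e3, e1]
        rintro ⟨c, hc⟩
        have h3 : e * (2 * 2 ^ i) = (4 * c) * (2 * 2 ^ i) := by rw [hc]; ring
        have h4 : e = 4 * c := Nat.eq_of_mul_eq_mul_right (by omega) h3
        omega
      · rw [← pow_mul, show i + 1 + 1 = i + 2 from rfl,
          show e * 2 ^ (i + 2) = 2 ^ (i + 3) * f by rw [e2, e3, hf]; ring, pow_mul, hg, one_pow]
    have hnc : ¬ IsCyclic X := by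
      intro hc
      exact htg (hc.commutative.is_comm.comm t g)
    exact Cfsg.Agent.Lib.H26.Kul.index_commutator_eq_four_of_orderOf (j := i + 2) hX hnc (g ^ e)
      hwmem hword

/-- **GTB** (backward group theory, `n ≥ 4`). -/
theorem gt_backward {G : Type*} [Group G] [Finite G] (P : Sylow 2 G) (n : ℕ) (hn : 4 ≤ n)
    (hP : Nat.card P = 2 ^ n) (g : G) (hgP : g ∈ (P : Subgroup G)) (hg : g ^ 2 ^ (n - 1) = 1)
    (hidx : 2 ∣ (Subgroup.centralizer ({g} : Set G)).index)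
    (E : ℕ) (hE : E = 2 ^ (n - 1) - 1 ∨ E = 2 ^ (n - 2) - 1)
    (h : ∀ k : ℕ, Odd k →
      (IsConj (g ^ k) g ↔ (k % 2 ^ (n - 1) = 1 ∨ k % 2 ^ (n - 1) = E))) :
    (commutator ↥P).index = 4 := by
  obtain ⟨i, rfl⟩ : ∃ i, n = i + 4 := ⟨n - 4, by omega⟩
  have h1 : i + 4 - 1 = i + 3 := rfl
  have h2 : i + 4 - 2 = i + 2 := rfl
  rw [h1] at hg hE h
  rw [h2] at hE
  obtain ⟨t, htP, htg⟩ := exists_not_commute_of_even_index P g hidx
  refine index_commutator_of_conj (X := ↥P) i hP ⟨g, hgP⟩ ⟨t, htP⟩ ?_ ?_ E hE ?_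
  · exact Subtype.ext hg
  · intro h3
    exact htg (congrArg Subtype.val h3)
  · rintro k hk ⟨c, hc⟩
    refine (h k hk).mp ?_
    have hc' : (c : G) * g * (c : G)⁻¹ = g ^ k := by
      have := congrArg Subtype.val hc
      simpa using this
    rw [← hc']
    exact (isConj_iff.mpr ⟨(c : G), rfl⟩).symm

end Cfsg.Agent.Lib.H20.FV
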