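import Cfsg.Agent.Lib.H26.KulTwoA

/-!
# S4923 piece N3 (architect helper27): backward direction for `n = 3`.
-/

set_option autoImplicit false

namespace Cfsg.Agent.Lib.H20.FV

open scoped commutatorElement

/-- if `g ∈ P` (a Sylow `2`-subgroup) has even class size, then `g` is not central in `P`:
some `t ∈ P` does not commute with `g`. -/
theorem exists_not_commute_of_even_index {G : Type*} [Group G] [Finite G] (P : Sylow 2 G)
    (g : G) (hidx : 2 ∣ (Subgroup.centralizer ({g} : Set G)).index) :
    ∃ t ∈ (P : Subgroup G), t * g ≠ g * t := by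
  by_contra hcon
  push_neg at hcon
  have hle : (P : Subgroup G) ≤ Subgroup.centralizer ({g} : Set G) := by
    intro t ht
    rw [Subgroup.mem_centralizer_iff]
    intro x hx
    rw [Set.mem_singleton_iff] at hx
    subst hx
    exact (hcon t ht).symm
  have h1 : (Subgroup.centralizer ({g} : Set G)).index ∣ (P : Subgroup G).index :=
    Subgroup.index_dvd_of_le hle
  have h2 : ¬ 2 ∣ (P : Subgroup G).index := P.not_dvd_index
  exact h2 (hidx.trans h1)

/-- a nonabelian group of order `8` has `|X : X'| = 4` -/
theorem index_commutator_of_card_eight {X : Type*} [Group X] [Finite X] (h8 : Nat.card X = 2 ^ 3)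
    (a b : X) (hab : a * b ≠ b * a) : (commutator X).index = 4 := by
  have hPG : IsPGroup 2 X := IsPGroup.of_card h8
  have hnc : ¬ IsCyclic X := by
    intro hc
    exact hab (hc.commutative.is_comm.comm a b)
  have h4 : 4 ∣ (commutator X).index :=
    Cfsg.Agent.Lib.H26.Kul.four_dvd_index_commutator hPG hnc
  have hcard : Nat.card (commutator X) * (commutator X).index = 8 := by
    rw [Subgroup.card_mul_index]
    exact h8
  have hne : Nat.card (commutator X) ≠ 1 := by
    intro h1
    have hbot : commutator X = ⊥ := Subgroup.card_eq_one.mp h1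
    have hmem : ⁅a, b⁆ ∈ commutator X := by
      rw [commutator_def]
      exact Subgroup.commutator_mem_commutator (Subgroup.mem_top _) (Subgroup.mem_top _)
    rw [hbot, Subgroup.mem_bot, commutatorElement_eq_one_iff_mul_comm] at hmem
    exact hab hmem
  obtain ⟨q, hq⟩ := h4
  rw [hq] at hcard ⊢
  have hq8 : Nat.card (commutator X) * q = 2 := by
    have : 4 * (Nat.card (commutator X) * q) = 4 * 2 := by
      linarith
    exact Nat.eq_of_mul_eq_mul_left (by norm_num) this
  have hqle : q ∣ 2 := Dvd.intro_left _ hq8
  have hq12 : q = 1 ∨ q = 2 := by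
    have := Nat.le_of_dvd (by norm_num) hqle
    have hq0 : q ≠ 0 := by rintro rfl; simp at hq8
    interval_cases q <;> simp_all
  rcases hq12 with rfl | rfl
  · rfl
  · exfalso
    apply hne
    omega

/-- **N3** (backward, `n = 3`). -/
theorem n3_backward {G : Type*} [Group G] [Finite G] (P : Sylow 2 G) (hP : Nat.card P = 2 ^ 3)
    (g : G) (hgP : g ∈ (P : Subgroup G))
    (hidx : 2 ∣ (Subgroup.centralizer ({g} : Set G)).index) :
    (commutator ↥P).index = 4 := by
  obtain ⟨t, htP, htg⟩ := exists_not_commute_of_even_index P g hidx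
  refine index_commutator_of_card_eight hP (⟨t, htP⟩ : ↥P) ⟨g, hgP⟩ ?_
  intro h
  exact htg (congrArg Subtype.val h)

end Cfsg.Agent.Lib.H20.FV
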