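import Cfsg.Agent.Lib.H28.Fi22M.Base
import Cfsg.Agent.Lib.H17.Fi22Ord.Order

set_option autoImplicit false
set_option maxRecDepth 100000

/-!
# S2053 piece BF2 (helper20): `⟨b, …, h⟩` has order 1451520 and index 3159 in `⟨b, …, i⟩`
-/

namespace Cfsg.Agent.Lib.H20.Fi22M

open Cfsg.Agent.Lib.H28.Fi22M
open Cfsg.Agent.Lib.H17.SubChain
open Cfsg.Agent.Lib.H17.Fi22Ord

theorem bf2_K7_eq : K γo 7 = KS7 := by
  unfold K KS7 HK7
  congr 1
  ext g
  simp only [Set.mem_setOf_eq, Set.mem_insert_iff, Set.mem_singleton_iff]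
  constructor
  · rintro ⟨x, hx, rfl⟩
    interval_cases x
    · left; rfl
    · right; left; rfl
    · right; right; left; rfl
    · right; right; right; left; rfl
    · right; right; right; right; left; rfl
    · right; right; right; right; right; left; rfl
    · right; right; right; right; right; right; rfl
  · rintro (rfl | rfl | rfl | rfl | rfl | rfl | rfl)
    · exact ⟨0, by norm_num, rfl⟩
    · exact ⟨1, by norm_num, rfl⟩
    · exact ⟨2, by norm_num, rfl⟩
    · exact ⟨3, by norm_num, rfl⟩
    · exact ⟨4, by norm_num, rfl⟩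
    · exact ⟨5, by norm_num, rfl⟩
    · exact ⟨6, by norm_num, rfl⟩

theorem bf2_K8_eq : K γo 8 = KS9 := by
  unfold K KS9 HK9
  congr 1
  ext g
  simp only [Set.mem_setOf_eq, Set.mem_insert_iff, Set.mem_singleton_iff]
  constructor
  · rintro ⟨x, hx, rfl⟩
    interval_cases x
    · left; rfl
    · right; left; rfl
    · right; right; left; rfl
    · right; right; right; left; rfl
    · right; right; right; right; left; rfl
    · right; right; right; right; right; left; rfl
    · right; right; right; right; right; right; left; rfl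
    · right; right; right; right; right; right; right; rfl
  · rintro (rfl | rfl | rfl | rfl | rfl | rfl | rfl | rfl)
    · exact ⟨0, by norm_num, rfl⟩
    · exact ⟨1, by norm_num, rfl⟩
    · exact ⟨2, by norm_num, rfl⟩
    · exact ⟨3, by norm_num, rfl⟩
    · exact ⟨4, by norm_num, rfl⟩
    · exact ⟨5, by norm_num, rfl⟩
    · exact ⟨6, by norm_num, rfl⟩
    · exact ⟨7, by norm_num, rfl⟩

theorem bf2_card_K8 : Nat.card ↥(K γo 8) = 4585351680 := by
  have h := Subgroup.index_mul_card Cfsg.Agent.Lib.H17.Fi22O73.H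
  rw [Cfsg.Agent.Lib.H17.Fi22O73.index_eq, card_eq] at h
  have h' : 14080 * Nat.card ↥(K γo 8) = 64561751654400 := by
    rw [Ktop_eq]
    exact h
  omega

/-- **BF2**. -/
theorem facts_KS7 : Nat.card ↥KS7 = 1451520 ∧ (KS7 : Subgroup FG).relIndex KS9 = 3159 := by
  rw [← bf2_K7_eq, ← bf2_K8_eq]
  have c0 := card_zero γo
  have c1 := card_step γo (by norm_num : 0 ≤ 1) c0 Lv1.level
  have c2 := card_step γo (by norm_num : 1 ≤ 2) c1 Lv2.level
  have c3 := card_step γo (by norm_num : 2 ≤ 3) c2 Lv3.level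
  have c4 := card_step γo (by norm_num : 3 ≤ 4) c3 Lv4.level
  have c5 := card_step γo (by norm_num : 4 ≤ 5) c4 Lv5.level
  have c6 := card_step γo (by norm_num : 5 ≤ 6) c5 Lv6.level
  have c7 := card_step γo (by norm_num : 6 ≤ 7) c6 Lv7.level
  have l8 := Lv8.level
  have h7 : Nat.card ↥(K γo 7) ≤ 1451520 := le_trans c7.2 (by norm_num)
  have hmul := Subgroup.relIndex_mul_relIndex ⊥ (K γo 7) (K γo 8) bot_le
    (K_mono γo (by norm_num : 7 ≤ 8))
  rw [Subgroup.relIndex_bot_left, Subgroup.relIndex_bot_left, bf2_card_K8] at hmul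
  have hr : (K γo 7).relIndex (K γo 8) ≤ 3159 := l8.2
  generalize Nat.card ↥(K γo 7) = a at *
  generalize (K γo 7).relIndex (K γo 8) = b at *
  have ha : a = 1451520 := by
    by_contra hne
    have ha' : a ≤ 1451519 := by omega
    have : a * b ≤ 1451519 * 3159 := Nat.mul_le_mul ha' hr
    omega
  have hb : b = 3159 := by
    by_contra hne
    have hb' : b ≤ 3158 := by omega
    have : a * b ≤ 1451520 * 3158 := Nat.mul_le_mul h7 hb'
    omega
  exact ⟨ha, hb⟩

end Cfsg.Agent.Lib.H20.Fi22M
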