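import Cfsg.Agent.Lib.H28.Fi22M.Cov

set_option autoImplicit false
set_option maxRecDepth 100000

/-!
# S2053 piece P3 (helper20): facts on the presented triple cover `PC3` of `Fi₂₂`
(clone of `Fi22MP2.lean`)
-/

namespace Cfsg.Agent.Lib.H20.Fi22M

open Cfsg.Agent.Lib.H28.Fi22M
open Cfsg.Agent.Lib.H14.SuzM
open Cfsg.Agent.Lib.H17.Fi22Glue (gen idx rels relW)

/-! ### Words in the free group -/

theorem p3_mk_word (w : List ℕ) :
    (FreeGroup.mk (w.map fun x => (gen x, true)) : FreeGroup Cfsg.Spor.Fi22.Gen) =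
      (w.map fun x => FreeGroup.of (gen x)).prod := by
  induction w with
  | nil => rfl
  | cons x w ih =>
    rw [List.map_cons, List.map_cons, List.prod_cons, ← ih]
    rfl

/-- the words of `covW3` are trivial in `PC3` -/
theorem wv_pc3_eq_one : ∀ w ∈ covW3, wv pc3 w = 1 := by
  intro w hw
  have h : PresentedGroup.mk covRels3 (FreeGroup.mk (w.map fun x => (gen x, true))) = 1 :=
    PresentedGroup.one_of_mem ⟨w, hw, rfl⟩
  rw [p3_mk_word, map_list_prod, List.map_map] at h
  exact h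

/-! ### Membership facts on the lists -/

theorem p3_sq_mem : ∀ i < 9, [i, i] ∈ covW3 := by decide

theorem p3_comm_mem : ∀ x < 9, zw3 ++ [x] ++ zw3.reverse ++ [x] ∈ covW3 := by decide

theorem p3_pow_mem : zw3 ++ zw3 ++ zw3 ∈ covW3 := by decide

theorem p3_relW_cases : ∀ w ∈ relW, w ∈ covW3 ∨ w = zw3 := by decide

theorem p3_covW3_cases : ∀ w ∈ covW3, w ∈ relW ∨ (∃ x < 9, w = zw3 ++ [x] ++ zw3.reverse ++ [x]) ∨
    w = zw3 ++ zw3 ++ zw3 := by decide

theorem p3_zw_mem : zw3 ∈ relW := by decide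

theorem p3_zw_lt : ∀ x ∈ zw3, x < 9 := by decide

/-- the tree `a-b-c-d-e-f-g`, `d-h-i` -/
def p3Edges : List (ℕ × ℕ) := [(0, 1), (1, 2), (2, 3), (3, 4), (4, 5), (5, 6), (3, 7), (7, 8)]

theorem p3_braid_mem : ∀ p ∈ p3Edges, [p.1, p.2, p.1, p.2, p.1, p.2] ∈ covW3 := by decide

/-- the word `(bcdefgh)⁹` -/
def p3Odd : List ℕ := relW.getD 38 []

theorem p3_odd_mem : p3Odd ∈ covW3 := by decide

theorem p3_odd_lt : ∀ x ∈ p3Odd, x < 9 := by decide

theorem p3_odd_length : p3Odd.length = 63 := by decide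

/-! ### Involutions -/

section invol

variable {Γ : Type*} [Group Γ] (g : ℕ → Γ)

/-- the reversed word gives the inverse when the letters are involutions -/
theorem p3_wv_reverse (w : List ℕ) (hw : ∀ x ∈ w, g x * g x = 1) :
    wv g w.reverse = (wv g w)⁻¹ := by
  induction w with
  | nil => simp [wv]
  | cons x w ih =>
    have hx : (g x)⁻¹ = g x := by
      rw [inv_eq_iff_mul_eq_one]; exact hw x List.mem_cons_self
    have e1 : wv g [x] = g x := by simp [wv]
    rw [List.reverse_cons, wv_append, ih (fun y hy => hw y (List.mem_cons_of_mem _ hy)), e1,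
      wv_cons g x w, mul_inv_rev, hx]

end invol

theorem pc3_sq : ∀ i < 9, pc3 i * pc3 i = 1 := by
  intro i hi
  have h := wv_pc3_eq_one _ (p3_sq_mem i hi)
  simpa [wv] using h

theorem z3_comm : ∀ x < 9, z3 * pc3 x = pc3 x * z3 := by
  intro x hx
  have h := wv_pc3_eq_one _ (p3_comm_mem x hx)
  rw [wv_append, wv_append, wv_append,
    p3_wv_reverse pc3 zw3 (fun y hy => pc3_sq y (p3_zw_lt y hy))] at h
  have h1 : wv pc3 [x] = pc3 x := by simp [wv]
  rw [h1] at h
  have hx' : (pc3 x)⁻¹ = pc3 x := by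
    rw [inv_eq_iff_mul_eq_one]; exact pc3_sq x hx
  have h2 : z3 * pc3 x * z3⁻¹ = (pc3 x)⁻¹ := by
    rw [eq_inv_iff_mul_eq_one]; exact h
  rw [hx'] at h2
  calc z3 * pc3 x = (z3 * pc3 x * z3⁻¹) * z3 := by group
    _ = pc3 x * z3 := by rw [h2]

theorem pc3_gen : Subgroup.closure {x : PC3 | ∃ i < 9, x = pc3 i} = ⊤ := by
  rw [eq_top_iff, ← PresentedGroup.closure_range_of]
  apply Subgroup.closure_mono
  rintro _ ⟨u, rfl⟩
  exact ⟨idx u, Cfsg.Agent.Lib.H17.Fi22Glue.idx_lt u, by
    unfold pc3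
    rw [Cfsg.Agent.Lib.H17.Fi22Glue.gen_idx]⟩

theorem z3_central : z3 ∈ Subgroup.center PC3 := by
  have hcen : Subgroup.centralizer {z3} = (⊤ : Subgroup PC3) := by
    rw [eq_top_iff, ← pc3_gen, Subgroup.closure_le]
    rintro _ ⟨i, hi, rfl⟩
    rw [SetLike.mem_coe, Subgroup.mem_centralizer_iff]
    intro h hh
    rw [Set.mem_singleton_iff] at hh
    subst hh
    exact z3_comm i hi
  rw [Subgroup.mem_center_iff]
  intro g
  have hg : g ∈ Subgroup.centralizer {z3} := by rw [hcen]; trivial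
  rw [Subgroup.mem_centralizer_iff] at hg
  exact (hg _ rfl).symm

theorem z3_pow : z3 ^ 3 = 1 := by
  have h := wv_pc3_eq_one _ p3_pow_mem
  rw [wv_append, wv_append] at h
  rw [pow_succ, pow_two]
  exact h

/-! ### The covering map -/

theorem p3_wv_fg_covW3 : ∀ w ∈ covW3, wv fg w = 1 := by
  intro w hw
  have hz : wv fg zw3 = 1 := wv_fg_relW zw3 p3_zw_mem
  rcases p3_covW3_cases w hw with h | ⟨x, hx, rfl⟩ | rfl
  · exact wv_fg_relW w h
  · rw [wv_append, wv_append, wv_append,
      p3_wv_reverse fg zw3 (fun y _ => fg_mul_self y), hz]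
    have h1 : wv fg [x] = fg x := by simp [wv]
    rw [h1, inv_one, one_mul, mul_one]
    exact fg_mul_self x
  · rw [wv_append, wv_append, hz, one_mul, one_mul]

/-- the covering map -/
noncomputable def piC3 : PC3 →* FG :=
  PresentedGroup.toGroup (f := fun u => (PresentedGroup.of u : FG)) (by
    rintro r ⟨w, hw, rfl⟩
    rw [p3_mk_word, map_list_prod, List.map_map]
    have h := p3_wv_fg_covW3 w hw
    unfold wv at h
    rw [← h]
    rfl)

theorem piC3_pc3 (i : ℕ) : piC3 (pc3 i) = fg i :=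
  PresentedGroup.toGroup.of _

theorem piC3_wv (w : List ℕ) : piC3 (wv pc3 w) = wv fg w :=
  (map_wv pc3 piC3 w).trans rfl

/-! ### Perfectness -/

section perfect

variable {A : Type*} [CommGroup A] (a : ℕ → A)

theorem p3_wv_const (t : A) (w : List ℕ) (hw : ∀ x ∈ w, a x = t) : wv a w = t ^ w.length := by
  induction w with
  | nil => simp [wv]
  | cons x w ih =>
    rw [wv_cons, ih (fun y hy => hw y (List.mem_cons_of_mem _ hy)), hw x List.mem_cons_self,
      List.length_cons, pow_succ']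

/-- in an abelian group generated by nine involutions satisfying the braid relations of the tree and an odd word,
all letters are trivial -/
theorem p3_ab_trivial (hsq : ∀ i, a i * a i = 1)
    (hbraid : ∀ p ∈ p3Edges, wv a [p.1, p.2, p.1, p.2, p.1, p.2] = 1)
    (hodd : wv a p3Odd = 1) : ∀ i < 9, a i = 1 := by
  have inv_eq : ∀ i, (a i)⁻¹ = a i := fun i => by
    rw [inv_eq_iff_mul_eq_one]; exact hsq i
  have braid3 : ∀ i j, wv a [i, j, i, j, i, j] = 1 → a i = a j := by
    intro i j h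
    simp only [wv, List.map_cons, List.map_nil, List.prod_cons, List.prod_nil, mul_one] at h
    rw [← inv_eq j]
    apply eq_inv_of_mul_eq_one_left
    have e : a i * (a j * (a i * (a j * (a i * a j)))) =
        (a i * a i) * ((a j * a j) * (a i * a j)) := by
      ac_rfl
    rw [e, hsq, hsq, one_mul, one_mul] at h
    exact h
  have h01 : a 0 = a 1 := braid3 0 1 (hbraid (0, 1) (by decide))
  have h12 : a 1 = a 2 := braid3 1 2 (hbraid (1, 2) (by decide))
  have h23 : a 2 = a 3 := braid3 2 3 (hbraid (2, 3) (by decide))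
  have h34 : a 3 = a 4 := braid3 3 4 (hbraid (3, 4) (by decide))
  have h45 : a 4 = a 5 := braid3 4 5 (hbraid (4, 5) (by decide))
  have h56 : a 5 = a 6 := braid3 5 6 (hbraid (5, 6) (by decide))
  have h37 : a 3 = a 7 := braid3 3 7 (hbraid (3, 7) (by decide))
  have h78 : a 7 = a 8 := braid3 7 8 (hbraid (7, 8) (by decide))
  have hall : ∀ i < 9, a i = a 0 := by
    intro i hi
    interval_cases i
    · rfl
    · exact h01.symm
    · rw [← h12, ← h01]
    · rw [← h23, ← h12, ← h01]
    · rw [← h34, ← h23, ← h12, ← h01]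
    · rw [← h45, ← h34, ← h23, ← h12, ← h01]
    · rw [← h56, ← h45, ← h34, ← h23, ← h12, ← h01]
    · rw [← h37, ← h23, ← h12, ← h01]
    · rw [← h78, ← h37, ← h23, ← h12, ← h01]
  have h0 : a 0 = 1 := by
    have h := p3_wv_const a (a 0) p3Odd (fun x hx => hall x (p3_odd_lt x hx))
    rw [hodd, p3_odd_length] at h
    have h2 : a 0 ^ 2 = 1 := by rw [pow_two]; exact hsq 0
    have h63 : a 0 ^ 63 = a 0 := by
      rw [show 63 = 2 * 31 + 1 from rfl, pow_succ, pow_mul, h2, one_pow, one_mul]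
    rw [h63] at h
    exact h.symm
  intro i hi
  rw [hall i hi]
  exact h0

end perfect

theorem pc3_perfect : commutator PC3 = ⊤ := by
  let φ : PC3 →* Abelianization PC3 := Abelianization.of
  have hsq : ∀ i, φ (pc3 i) * φ (pc3 i) = 1 := by
    intro i
    by_cases hi : i < 9
    · rw [← map_mul, pc3_sq i hi, map_one]
    · have : pc3 i = pc3 8 := by
        unfold pc3
        have : gen i = gen 8 := by
          unfold gen
          rcases i with _ | _ | _ | _ | _ | _ | _ | _ | _ | i <;> first | omega | rfl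
        rw [this]
      rw [this, ← map_mul, pc3_sq 8 (by norm_num), map_one]
  have hrel : ∀ w ∈ covW3, wv (fun i => φ (pc3 i)) w = 1 := by
    intro w hw
    have h := wv_pc3_eq_one w hw
    have h2 := congrArg φ h
    rw [map_wv, map_one] at h2
    exact h2
  have hall := p3_ab_trivial (fun i => φ (pc3 i)) hsq
    (fun p hp => hrel _ (p3_braid_mem p hp)) (hrel _ p3_odd_mem)
  rw [eq_top_iff, ← pc3_gen, Subgroup.closure_le]
  rintro _ ⟨i, hi, rfl⟩
  have h := hall i hi
  rw [SetLike.mem_coe, ← Abelianization.ker_of, MonoidHom.mem_ker]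
  exact h

/-! ### The statement -/

/-- **P3** (the presented triple cover `PC3`): everything `stem_of_cover` needs except `z3 ≠ 1`. -/
theorem cover3_facts :
    Subgroup.closure {x : PC3 | ∃ i < 9, x = pc3 i} = ⊤ ∧
    z3 ∈ Subgroup.center PC3 ∧ z3 ^ 3 = 1 ∧
    (∃ π : PC3 →* FG, (∀ i < 9, π (pc3 i) = fg i) ∧ π z3 = 1) ∧
    (∀ i < 9, pc3 i * pc3 i ∈ Subgroup.zpowers z3) ∧
    (∀ w ∈ Cfsg.Agent.Lib.H17.Fi22Glue.relW, wv pc3 w ∈ Subgroup.zpowers z3) ∧
    commutator PC3 = ⊤ := by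
  refine ⟨pc3_gen, z3_central, z3_pow, ⟨piC3, fun i _ => piC3_pc3 i, ?_⟩, ?_, ?_, pc3_perfect⟩
  · unfold z3
    rw [piC3_wv]
    exact wv_fg_relW zw3 p3_zw_mem
  · intro i hi
    rw [pc3_sq i hi]
    exact one_mem _
  · intro w hw
    rcases p3_relW_cases w hw with h | rfl
    · rw [wv_pc3_eq_one w h]
      exact one_mem _
    · exact Subgroup.mem_zpowers _

end Cfsg.Agent.Lib.H20.Fi22M
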