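import Mathlib

set_option autoImplicit false

namespace Cfsg.Agent.Lib.H20

/-- An automorphism of `p`-power order leaving a nontrivial `p`-subgroup `W` invariant fixes a
nontrivial element of `W`. -/
theorem exists_fixed_in_invariant_subgroup {P : Type*} [Group P] [Finite P] {p : ℕ}
    [Fact p.Prime] (x : MulAut P) (hx : ∃ k : ℕ, orderOf x = p ^ k) (W : Subgroup P)
    (hW : IsPGroup p W) (hW1 : W ≠ ⊥) (hinv : ∀ w ∈ W, x w ∈ W) :
    ∃ w ∈ W, w ≠ 1 ∧ x w = w := by
  have hp : p.Prime := Fact.out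
  obtain ⟨k, hk⟩ := hx
  have hfin : IsOfFinOrder x := by
    rw [← orderOf_pos_iff, hk]; exact pow_pos hp.pos k
  have hZp : IsPGroup p (Subgroup.zpowers x) := by
    rw [IsPGroup.iff_card]
    exact ⟨k, by rw [Nat.card_zpowers, hk]⟩
  have hpow : ∀ (n : ℕ), ∀ w ∈ W, (x ^ n) w ∈ W := by
    intro n
    induction n with
    | zero => intro w hw; simpa using hw
    | succ n ih =>
      intro w hw
      rw [pow_succ]
      exact ih _ (hinv w hw)
  have hmem : ∀ c ∈ Subgroup.zpowers x, ∀ w ∈ W, c w ∈ W := by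
    intro c hc w hw
    rw [← hfin.mem_powers_iff_mem_zpowers] at hc
    obtain ⟨n, rfl⟩ := (Submonoid.mem_powers_iff _ _).mp hc
    exact hpow n w hw
  let S : SubMulAction (Subgroup.zpowers x) P :=
    { carrier := (W : Set P)
      smul_mem' := fun c w hw => hmem c.1 c.2 w hw }
  have hScard : Nat.card S = Nat.card W := rfl
  obtain ⟨j, hj0, hj⟩ := (IsPGroup.nontrivial_iff_card hW).mp
    ((Subgroup.nontrivial_iff_ne_bot W).mpr hW1)
  have hdvd : p ∣ Nat.card S := by
    rw [hScard, hj]; exact dvd_pow_self p hj0.ne'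
  have hone : (⟨1, W.one_mem⟩ : S) ∈ MulAction.fixedPoints (Subgroup.zpowers x) S := by
    intro c
    apply Subtype.ext
    change (c : MulAut P) (1 : P) = 1
    exact map_one _
  obtain ⟨b, hb, hb1⟩ := hZp.exists_fixed_point_of_prime_dvd_card_of_fixed_point S hdvd hone
  refine ⟨b.1, b.2, ?_, ?_⟩
  · intro h
    apply hb1
    apply Subtype.ext
    exact h.symm
  · have := hb ⟨x, Subgroup.mem_zpowers x⟩
    exact congrArg Subtype.val this

end Cfsg.Agent.Lib.H20
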