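import Mathlib

/-!
# S4068 piece NUM (helper20): `2 ≤ a`, `2^a + 1` prime, `2^a (2^a - 1)(2^a + 1)` has exactly three
prime factors `⟹ a = 2`.
-/

set_option autoImplicit false

namespace Cfsg.Agent.Lib.H20.FourOrb

theorem num_three_pow_mod_eight (c : ℕ) : 3 ^ c % 8 = 1 ∨ 3 ^ c % 8 = 3 := by
  induction c with
  | zero => left; norm_num
  | succ c ih =>
    rw [pow_succ, Nat.mul_mod]
    rcases ih with h | h <;> rw [h] <;> norm_num

theorem q_eq_four (a : ℕ) (ha : 2 ≤ a) (hprime : (2 ^ a + 1).Prime)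
    (h3 : (2 ^ a * (2 ^ a - 1) * (2 ^ a + 1)).primeFactors.card = 3) : a = 2 := by
  have hq4 : 2 ^ 2 ≤ 2 ^ a := Nat.pow_le_pow_right (by norm_num) ha
  obtain ⟨q, hq⟩ : ∃ q, q = 2 ^ a := ⟨_, rfl⟩
  rw [← hq] at hprime h3 hq4
  have hq4' : 4 ≤ q := by simpa using hq4
  have ha0 : a ≠ 0 := by omega
  -- coprimality
  have hc1 : Nat.Coprime q (q - 1) := by
    have : Nat.Coprime (q - 1) (q - 1 + 1) := by simp
    rw [Nat.sub_add_cancel (by omega)] at this
    exact this.symm
  have hc2 : Nat.Coprime (q * (q - 1)) (q + 1) := by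
    apply Nat.Coprime.symm
    rw [Nat.Prime.coprime_iff_not_dvd hprime]
    intro hd
    rcases (Nat.Prime.dvd_mul hprime).mp hd with h | h
    · have := Nat.le_of_dvd (by omega) h; omega
    · have := Nat.le_of_dvd (by omega) h; omega
  have hpf : (q * (q - 1) * (q + 1)).primeFactors.card
      = q.primeFactors.card + (q - 1).primeFactors.card + (q + 1).primeFactors.card := by
    rw [Nat.Coprime.primeFactors_mul hc2, Finset.card_union_of_disjoint hc2.disjoint_primeFactors,
      Nat.Coprime.primeFactors_mul hc1, Finset.card_union_of_disjoint hc1.disjoint_primeFactors]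
  have hpq : q.primeFactors.card = 1 := by
    rw [hq, Nat.primeFactors_prime_pow ha0 Nat.prime_two]; rfl
  have hpq1 : (q + 1).primeFactors.card = 1 := by
    rw [Nat.Prime.primeFactors hprime]; rfl
  have hx : (q - 1).primeFactors.card = 1 := by omega
  obtain ⟨r, c, hr, hc, hrc⟩ := (isPrimePow_nat_iff _).mp
    (isPrimePow_iff_card_primeFactors_eq_one.mpr hx)
  -- 3 ∣ (q-1)(q+1)
  have h3d : 3 ∣ (q - 1) * (q + 1) := by
    have h := Nat.sub_dvd_pow_sub_pow 4 1 a
    have e : (q - 1) * (q + 1) = 4 ^ a - 1 ^ a := by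
      have : (4 : ℕ) ^ a = q * q := by
        rw [hq, ← pow_add, show (4 : ℕ) = 2 ^ 2 by norm_num, ← pow_mul]; congr 1; omega
      rw [this, one_pow]
      have h1 : 1 ≤ q := by omega
      zify [h1, Nat.one_le_iff_ne_zero.mpr (Nat.mul_ne_zero (by omega : q ≠ 0) (by omega : q ≠ 0))]
      ring
    rw [e]; simpa using h
  rcases (Nat.Prime.dvd_mul Nat.prime_three).mp h3d with h | h
  · -- 3 ∣ q - 1 = r ^ c
    rw [← hrc] at h
    have hr3 : 3 ∣ r := Nat.Prime.dvd_of_dvd_pow Nat.prime_three h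
    have hr3' : r = 3 := ((Nat.prime_dvd_prime_iff_eq Nat.prime_three hr).mp hr3).symm
    rw [hr3'] at hrc
    by_contra hne
    have ha3 : 3 ≤ a := by omega
    have h8 : 8 ∣ q := by
      rw [hq, show (8 : ℕ) = 2 ^ 3 by norm_num]
      exact pow_dvd_pow 2 ha3
    have hmod := num_three_pow_mod_eight c
    omega
  · have := (Nat.prime_dvd_prime_iff_eq Nat.prime_three hprime).mp h
    omega

end Cfsg.Agent.Lib.H20.FourOrb
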