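import Mathlib

/-!
# S4068 piece ORB (helper20): a non-solvable finite group with exactly four `Aut(G)`-orbits
(Burnside's `p^a q^b` theorem passed as hypothesis) has all non-identity elements of prime order
and exactly three prime divisors.
-/

set_option autoImplicit false

universe u

namespace Cfsg.Agent.Lib.H20.FourOrb

theorem epo_of_four_orbits {G : Type u} [Group G] [Finite G]
    (hB : ∀ p q a b : ℕ, p.Prime → q.Prime → Nat.card G = p ^ a * q ^ b → Group.IsSolvable G)
    (hns : ¬ Group.IsSolvable G)
    (h4 : Nat.card (MulAction.orbitRel.Quotient (MulAut G) G) = 4) :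
    (∀ g : G, g ≠ 1 → (orderOf g).Prime) ∧ (Nat.card G).primeFactors.card = 3 := by
  classical
  haveI := Fintype.ofFinite G
  haveI : Fintype (MulAction.orbitRel.Quotient (MulAut G) G) := Fintype.ofFinite _
  let ord : MulAction.orbitRel.Quotient (MulAut G) G → ℕ :=
    Quotient.lift (fun g : G => orderOf g) (by
      intro g h hgh
      obtain ⟨f, hf⟩ := MulAction.mem_orbit_iff.mp ((MulAction.orbitRel_apply).mp hgh)
      show orderOf g = orderOf h
      rw [← hf, MulAut.smul_def]
      exact MulEquiv.orderOf_eq f h)
  have hord : ∀ g : G, ord (Quotient.mk'' g) = orderOf g := fun g => rfl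
  obtain ⟨N, hN⟩ : ∃ N, N = Nat.card G := ⟨_, rfl⟩
  rw [← hN] at hB ⊢
  have hN0 : N ≠ 0 := by rw [hN]; exact Nat.card_pos.ne'
  -- every element of `insert 1 N.primeFactors` is an order
  have hT : ∀ t ∈ insert 1 N.primeFactors, ∃ g : G, orderOf g = t := by
    intro t ht
    rcases Finset.mem_insert.mp ht with rfl | ht
    · exact ⟨1, orderOf_one⟩
    · have hp := Nat.prime_of_mem_primeFactors ht
      have hd := Nat.dvd_of_mem_primeFactors ht
      haveI := Fact.mk hp
      rw [hN] at hd
      exact exists_prime_orderOf_dvd_card' t hd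
  have hsub : insert 1 N.primeFactors ⊆ Finset.image ord Finset.univ := by
    intro t ht
    obtain ⟨g, hg⟩ := hT t ht
    exact Finset.mem_image.mpr ⟨Quotient.mk'' g, Finset.mem_univ _, by rw [hord, hg]⟩
  have hcardI : (Finset.image ord Finset.univ).card ≤ 4 := by
    refine le_trans Finset.card_image_le ?_
    rw [Finset.card_univ, ← Nat.card_eq_fintype_card, h4]
  have h1S : (1 : ℕ) ∉ N.primeFactors := fun h => Nat.not_prime_one (Nat.prime_of_mem_primeFactors h)
  have hcardT : (insert 1 N.primeFactors).card = N.primeFactors.card + 1 :=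
    Finset.card_insert_of_notMem h1S
  have hle3 : N.primeFactors.card ≤ 3 := by
    have := Finset.card_le_card hsub
    omega
  -- at least three primes
  have hprod : ∏ x ∈ N.primeFactors, x ^ N.factorization x = N := by
    have h := Nat.factorization_prod_pow_eq_self hN0
    rwa [Nat.prod_factorization_eq_prod_primeFactors] at h
  have hge3 : 3 ≤ N.primeFactors.card := by
    by_contra hlt
    have hc : N.primeFactors.card = 0 ∨ N.primeFactors.card = 1 ∨ N.primeFactors.card = 2 := by
      omega
    rcases hc with hc | hc | hc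
    · rw [Finset.card_eq_zero] at hc
      rw [hc, Finset.prod_empty] at hprod
      exact hns (hB 2 3 0 0 Nat.prime_two Nat.prime_three (by rw [← hprod]; norm_num))
    · obtain ⟨x, hx⟩ := Finset.card_eq_one.mp hc
      have hxp : x.Prime := Nat.prime_of_mem_primeFactors (by rw [hx]; exact Finset.mem_singleton_self x)
      rw [hx, Finset.prod_singleton] at hprod
      exact hns (hB x 2 (N.factorization x) 0 hxp Nat.prime_two (by rw [pow_zero, mul_one, hprod]))
    · obtain ⟨x, y, hxy, hS⟩ := Finset.card_eq_two.mp hc
      have hxp : x.Prime := Nat.prime_of_mem_primeFactors (by rw [hS]; simp)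
      have hyp : y.Prime := Nat.prime_of_mem_primeFactors (by rw [hS]; simp)
      rw [hS, Finset.prod_pair hxy] at hprod
      exact hns (hB x y (N.factorization x) (N.factorization y) hxp hyp hprod.symm)
  have h3 : N.primeFactors.card = 3 := le_antisymm hle3 hge3
  refine ⟨?_, h3⟩
  have heq : insert 1 N.primeFactors = Finset.image ord Finset.univ :=
    Finset.eq_of_subset_of_card_le hsub (by rw [hcardT, h3]; exact hcardI)
  intro g hg
  have hmem : orderOf g ∈ Finset.image ord Finset.univ :=
    Finset.mem_image.mpr ⟨Quotient.mk'' g, Finset.mem_univ _, hord g⟩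
  rw [← heq] at hmem
  rcases Finset.mem_insert.mp hmem with h | h
  · exact absurd (orderOf_eq_one_iff.mp h) hg
  · exact Nat.prime_of_mem_primeFactors h

end Cfsg.Agent.Lib.H20.FourOrb
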