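import Mathlib
import Cfsg.Prelude.Def_KGroupFacts
import Cfsg.Agent.Lib.H28.TitsM.Steinberg
import Cfsg.Agent.Lib.H1.CExt4
import Cfsg.Agent.Lib.H18.StemCompose

set_option autoImplicit false

/-!
# S2101 piece L3 (helper20): six elements with the Steinberg relations of `SL₃(3)` lift through any central extension
-/

namespace Cfsg.Agent.Lib.H20.G23M

open Cfsg.Agent.Lib.H28.TitsM Cfsg.Agent.Lib.H1.StSL

/-- the condition of helper1's theorem for `St₃(𝔽₃)` -/
theorem fieldCond_three : Cfsg.Agent.Lib.H1.CExt.FieldCond (ZMod 3) 3 := by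
  refine Or.inr (Or.inr ⟨rfl, 2, by decide, by decide⟩)

/-- the cube of a root element of `St₃(𝔽₃)` -/
theorem X_cube (a b : Fin 3) : (X a b (1 : ZMod 3) : St (ZMod 3) 3) ^ 3 = 1 := by
  rw [pow_succ, pow_two, X_add, X_add]
  rw [show ((1 : ZMod 3) + 1 + 1) = 0 by decide, X_zero]

/-- the six root elements of `St₃(𝔽₃)` satisfy the relations -/
theorem st3_X : St3 (X 0 1 1 : St (ZMod 3) 3) (X 1 2 1) (X 0 2 1) (X 2 0 1) (X 2 1 1) (X 1 0 1) where
  c01 := X_cube _ _
  c12 := X_cube _ _
  c02 := X_cube _ _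
  c20 := X_cube _ _
  c21 := X_cube _ _
  c10 := X_cube _ _
  k01_02 := X_comm (by decide) (by decide) _ _
  k01_21 := X_comm (by decide) (by decide) _ _
  k02_12 := X_comm (by decide) (by decide) _ _
  k10_12 := X_comm (by decide) (by decide) _ _
  k10_20 := X_comm (by decide) (by decide) _ _
  k20_21 := X_comm (by decide) (by decide) _ _
  s01_12 := by
    have h := X_comm_mul (K := ZMod 3) (a := (0 : Fin 3)) (b := 1) (c := 2) (by decide) (by decide) (by decide) 1 1
    rwa [mul_one] at h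
  s02_21 := by
    have h := X_comm_mul (K := ZMod 3) (a := (0 : Fin 3)) (b := 2) (c := 1) (by decide) (by decide) (by decide) 1 1
    rwa [mul_one] at h
  s10_02 := by
    have h := X_comm_mul (K := ZMod 3) (a := (1 : Fin 3)) (b := 0) (c := 2) (by decide) (by decide) (by decide) 1 1
    rwa [mul_one] at h
  s12_20 := by
    have h := X_comm_mul (K := ZMod 3) (a := (1 : Fin 3)) (b := 2) (c := 0) (by decide) (by decide) (by decide) 1 1
    rwa [mul_one] at h
  s20_01 := by
    have h := X_comm_mul (K := ZMod 3) (a := (2 : Fin 3)) (b := 0) (c := 1) (by decide) (by decide) (by decide) 1 1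
    rwa [mul_one] at h
  s21_10 := by
    have h := X_comm_mul (K := ZMod 3) (a := (2 : Fin 3)) (b := 1) (c := 0) (by decide) (by decide) (by decide) 1 1
    rwa [mul_one] at h

/-- the relations are preserved by homomorphisms -/
theorem St3.map {G H : Type*} [Group G] [Group H] (ψ : G →* H) {e01 e12 e02 e20 e21 e10 : G}
    (h : St3 e01 e12 e02 e20 e21 e10) : St3 (ψ e01) (ψ e12) (ψ e02) (ψ e20) (ψ e21) (ψ e10) where
  c01 := by rw [← map_pow, h.c01, map_one]
  c12 := by rw [← map_pow, h.c12, map_one]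
  c02 := by rw [← map_pow, h.c02, map_one]
  c20 := by rw [← map_pow, h.c20, map_one]
  c21 := by rw [← map_pow, h.c21, map_one]
  c10 := by rw [← map_pow, h.c10, map_one]
  k01_02 := by rw [← map_mul, h.k01_02, map_mul]
  k01_21 := by rw [← map_mul, h.k01_21, map_mul]
  k02_12 := by rw [← map_mul, h.k02_12, map_mul]
  k10_12 := by rw [← map_mul, h.k10_12, map_mul]
  k10_20 := by rw [← map_mul, h.k10_20, map_mul]
  k20_21 := by rw [← map_mul, h.k20_21, map_mul]
  s01_12 := by rw [← h.s01_12]; simp only [map_mul, map_inv]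
  s02_21 := by rw [← h.s02_21]; simp only [map_mul, map_inv]
  s10_02 := by rw [← h.s10_02]; simp only [map_mul, map_inv]
  s12_20 := by rw [← h.s12_20]; simp only [map_mul, map_inv]
  s20_01 := by rw [← h.s20_01]; simp only [map_mul, map_inv]
  s21_10 := by rw [← h.s21_10]; simp only [map_mul, map_inv]

/-- **L3**: six elements with the Steinberg relations lift through a central extension -/
theorem st3_exists_lift {G Γ : Type*} [Group G] [Group Γ] (σ : Γ →* G) (hs : Function.Surjective σ)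
    (hc : σ.ker ≤ Subgroup.center Γ) {e01 e12 e02 e20 e21 e10 : G} (h : St3 e01 e12 e02 e20 e21 e10) :
    ∃ f01 f12 f02 f20 f21 f10 : Γ, St3 f01 f12 f02 f20 f21 f10 ∧ σ f01 = e01 ∧ σ f12 = e12 ∧ σ f02 = e02 ∧
      σ f20 = e20 ∧ σ f21 = e21 ∧ σ f10 = e10 := by
  obtain ⟨f, hf⟩ := exists_hom_St (stY e01 e12 e02 e20 e21 e10)
    (by
      intro a b hab
      fin_cases a <;> fin_cases b <;> first
        | exact absurd rfl hab
        | exact h.c01 | exact h.c12 | exact h.c02 | exact h.c20 | exact h.c21 | exact h.c10)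
    (by
      intro a b c d hab hcd had hbc
      fin_cases a <;> fin_cases b <;> fin_cases c <;> fin_cases d <;> first
        | exact absurd rfl hab | exact absurd rfl hcd | exact absurd rfl had | exact absurd rfl hbc
        | exact Commute.refl _
        | exact h.k01_02 | exact h.k01_02.symm | exact h.k01_21 | exact h.k01_21.symm
        | exact h.k02_12 | exact h.k02_12.symm | exact h.k10_12 | exact h.k10_12.symm
        | exact h.k10_20 | exact h.k10_20.symm | exact h.k20_21 | exact h.k20_21.symm)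
    (by
      intro a b c hab hbc hac
      fin_cases a <;> fin_cases b <;> fin_cases c <;> first
        | exact absurd rfl hab | exact absurd rfl hbc | exact absurd rfl hac
        | exact h.s01_12 | exact h.s02_21 | exact h.s10_02 | exact h.s12_20 | exact h.s20_01 | exact h.s21_10)
  have hce : Cfsg.Agent.Lib.H1.CExt.IsCE (Cfsg.Agent.Lib.H18.StemCompose.pullSnd σ f) :=
    ⟨Cfsg.Agent.Lib.H18.StemCompose.pullSnd_surjective hs,
      Cfsg.Agent.Lib.H18.StemCompose.ker_pullSnd_le_center hc⟩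
  obtain ⟨φ, hφ⟩ := Cfsg.Agent.Lib.H1.CExt.exists_section fieldCond_three hce
  let ψ : St (ZMod 3) 3 →* Γ := (Cfsg.Agent.Lib.H18.StemCompose.pullFst σ f).comp φ
  have hσψ : ∀ s, σ (ψ s) = f s := by
    intro s
    have h1 : σ (φ s).1.1 = f (φ s).1.2 := (Cfsg.Agent.Lib.H18.StemCompose.mem_pull σ f).mp (φ s).2
    have h2 : (φ s).1.2 = s := hφ s
    show σ (φ s).1.1 = f s
    rw [h1, h2]
  have hfX : ∀ (a b : Fin 3) (hab : a ≠ b), f (X a b 1) = stY e01 e12 e02 e20 e21 e10 a b := by
    intro a b hab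
    rw [X_of hab, hf]
    show stY e01 e12 e02 e20 e21 e10 a b ^ (1 : ZMod 3).val = _
    rw [show (1 : ZMod 3).val = 1 from rfl, pow_one]
  refine ⟨ψ (X 0 1 1), ψ (X 1 2 1), ψ (X 0 2 1), ψ (X 2 0 1), ψ (X 2 1 1), ψ (X 1 0 1), St3.map ψ st3_X,
    ?_, ?_, ?_, ?_, ?_, ?_⟩
  · rw [hσψ, hfX _ _ (by decide)]; rfl
  · rw [hσψ, hfX _ _ (by decide)]; rfl
  · rw [hσψ, hfX _ _ (by decide)]; rfl
  · rw [hσψ, hfX _ _ (by decide)]; rfl
  · rw [hσψ, hfX _ _ (by decide)]; rfl
  · rw [hσψ, hfX _ _ (by decide)]; rfl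

end Cfsg.Agent.Lib.H20.G23M
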