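import Mathlib
import Cfsg.Prelude.Def_Blocks
import Cfsg.Prelude.Def_Characters
import Cfsg.Agent.Lib.H23.GagDefs

/-!
# S4561 piece PHI (architect helper23): `phi` is onto with kernel `Z*`.
-/

set_option autoImplicit false

universe u

namespace Cfsg.Agent.Lib.H20.GAG

open Cfsg Cfsg.Agent.Lib.H23.Gag

section tw

variable {H₀ : Type u} [Group H₀] [Finite H₀] (p : ℕ) [Fact p.Prime]

/-- PHI.  `phi` is onto with kernel `Z*`. -/
theorem phi_surjective : Function.Surjective (Tw.phi H₀ p) := by
  rintro ⟨⟨g, s⟩, m⟩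
  refine ⟨⟨fun t => Quotient.out (g t), s, Multiplicative.toAdd m, 0⟩, ?_⟩
  refine Prod.ext ?_ rfl
  apply RegularWreathProduct.ext
  · funext t
    show ((Quotient.out (g t) : H₀) : H₀ ⧸ Subgroup.center H₀) = g t
    exact QuotientGroup.out_eq' (g t)
  · rfl

theorem ker_phi : (Tw.phi H₀ p).ker = Tw.zstar H₀ p := by
  ext x
  rw [MonoidHom.mem_ker, Tw.mem_zstar]
  constructor
  · intro h
    have h1 := congrArg Prod.fst h
    have h2 := congrArg Prod.snd h
    have h3 : (fun t => (x.f t : H₀ ⧸ Subgroup.center H₀)) = 1 :=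
      congrArg RegularWreathProduct.left h1
    have h4 : x.s = 1 := congrArg RegularWreathProduct.right h1
    refine ⟨h4, ?_, ?_⟩
    · have : Multiplicative.ofAdd x.v = 1 := h2
      exact this
    · intro t
      have := congrFun h3 t
      exact (QuotientGroup.eq_one_iff _).1 this
  · rintro ⟨h1, h2, h3⟩
    refine Prod.ext ?_ ?_
    · apply RegularWreathProduct.ext
      · funext t
        exact (QuotientGroup.eq_one_iff _).2 (h3 t)
      · exact h1
    · show Multiplicative.ofAdd x.v = 1
      rw [h2]; rfl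

end tw

end Cfsg.Agent.Lib.H20.GAG
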