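import Mathlib
import Cfsg.Agent.Lib.H17.GHDefs
import Cfsg.Agent.Lib.H20.GHG1

/-!
# S4402 piece (N4) `normalizer_data`, core form (helper20)

`N_S(P)` acts on the 8-element set `Om` by conjugation with kernel `{1, z} = Z(S)`; so `|N_S(P) / Z(S)|` divides
`128`, `|N_S(P)| = 256`, and the quotient is a Sylow 2-subgroup of `S_8`.
The conclusions of the pieces N2b, N3, N5 are taken as hypotheses here.  See `tools/blueprints/S4402_sigs.lean`.
-/

set_option autoImplicit false
set_option linter.dupNamespace false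

namespace Cfsg.Agent.Lib.H20.GH

open Subgroup Cfsg.Agent.Lib.H17.GH

theorem normalizer_data_of {S : Type*} [Group S] [Finite S] (h2 : IsPGroup 2 S) {P : Subgroup S}
    (hPlt : P ≠ ⊤) (D : Data P)
    (hOm : ∀ g ∈ normalizer (P : Set S), ∀ x ∈ D.Om, g * x * g⁻¹ ∈ D.Om)
    (hker : ∀ y ∈ normalizer (P : Set S), (∀ x ∈ D.Om, y * x = x * y) → y = 1 ∨ y = D.z)
    (hcen : ∀ y : S, y ∈ Subgroup.center S ↔ (y = 1 ∨ y = D.z)) :
    P.relIndex (normalizer (P : Set S)) = 2 ∧ Nat.card ↥(normalizer (P : Set S)) = 256 ∧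
      ∃ (_ : ((Subgroup.center S).subgroupOf (normalizer (P : Set S))).Normal)
        (T' : Sylow 2 (Equiv.Perm (Fin 8))),
        Nonempty (↥(normalizer (P : Set S)) ⧸ (Subgroup.center S).subgroupOf (normalizer (P : Set S)) ≃*
          ↥(T' : Subgroup (Equiv.Perm (Fin 8)))) := by
  classical
  haveI : Fact (Nat.Prime 2) := ⟨Nat.prime_two⟩
  set Tn : Subgroup S := normalizer (P : Set S) with hTn
  -- the action of Tn on Om
  letI act : MulAction Tn D.Om :=
    { smul := fun g x => ⟨(g : S) * (x : S) * (g : S)⁻¹, hOm g g.2 x x.2⟩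
      one_smul := by
        intro x
        apply Subtype.ext
        show ((1 : Tn) : S) * (x : S) * ((1 : Tn) : S)⁻¹ = x
        simp
      mul_smul := by
        intro g h x
        apply Subtype.ext
        show ((g * h : Tn) : S) * (x : S) * ((g * h : Tn) : S)⁻¹ =
          (g : S) * ((h : S) * (x : S) * (h : S)⁻¹) * (g : S)⁻¹
        simp [mul_assoc] }
  have hsmul : ∀ (g : Tn) (x : D.Om), ((g • x : D.Om) : S) = (g : S) * (x : S) * (g : S)⁻¹ :=
    fun g x => rfl
  set φ : Tn →* Equiv.Perm D.Om := MulAction.toPermHom Tn D.Om with hφ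
  set Z' : Subgroup Tn := (Subgroup.center S).subgroupOf Tn with hZ'
  have hZn : Z'.Normal := inferInstance
  -- the kernel
  have hkerφ : φ.ker = Z' := by
    ext g
    rw [MonoidHom.mem_ker, hZ', Subgroup.mem_subgroupOf]
    constructor
    · intro hg
      have hc : ∀ x ∈ D.Om, (g : S) * x = x * (g : S) := by
        intro x hx
        have h1 : φ g ⟨x, hx⟩ = ⟨x, hx⟩ := by rw [hg]; rfl
        have h2' : ((g • (⟨x, hx⟩ : D.Om) : D.Om) : S) = x := congrArg Subtype.val h1
        rw [hsmul] at h2'
        calc (g : S) * x = ((g : S) * x * (g : S)⁻¹) * (g : S) := by group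
          _ = x * (g : S) := by rw [h2']
      exact (hcen _).mpr (hker g g.2 hc)
    · intro hg
      apply Equiv.ext
      intro x
      apply Subtype.ext
      show ((g • x : D.Om) : S) = x
      rw [hsmul]
      have := Subgroup.mem_center_iff.mp hg (x : S)
      rw [← this, mul_inv_cancel_right]
  -- the injective hom from the quotient
  let f : Tn ⧸ Z' →* Equiv.Perm D.Om := QuotientGroup.lift Z' φ (by
    intro g hg
    rw [← hkerφ] at hg
    exact hg)
  have hf : Function.Injective f := by
    rw [injective_iff_map_eq_one]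
    intro q hq
    induction q using QuotientGroup.induction_on with | _ g =>
    have h1 : φ g = 1 := hq
    have h2' : g ∈ Z' := by rw [← hkerφ]; exact h1
    exact (QuotientGroup.eq_one_iff g).mpr h2'
  -- cardinalities
  have hOmfin : D.Om.Finite := Set.finite_of_ncard_ne_zero (by rw [D.Om_card]; norm_num)
  letI : Fintype D.Om := hOmfin.fintype
  have hOmc : Fintype.card D.Om = 8 := by
    rw [← Nat.card_eq_fintype_card, Nat.card_coe_set_eq, D.Om_card]
  have hcenle : Subgroup.center S ≤ Tn := by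
    intro y hy
    rw [hTn, Subgroup.mem_normalizer_iff]
    intro x
    have := Subgroup.mem_center_iff.mp hy
    have e : y * x * y⁻¹ = x := by rw [← this x, mul_inv_cancel_right]
    rw [e]
  have hcen2 : Nat.card (Subgroup.center S) = 2 := by
    rw [Nat.card_eq_two_iff]
    refine ⟨⟨1, (hcen 1).mpr (Or.inl rfl)⟩, ⟨D.z, (hcen D.z).mpr (Or.inr rfl)⟩, ?_, ?_⟩
    · intro h
      exact D.z_ne (congrArg Subtype.val h).symm
    · ext y
      simp only [Set.mem_insert_iff, Set.mem_singleton_iff, Set.mem_univ, iff_true]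
      rcases (hcen y).mp y.2 with h | h
      · left; exact Subtype.ext h
      · right; exact Subtype.ext h
  have hZ'c : Nat.card Z' = 2 := by
    rw [hZ', ← hcen2]
    exact Nat.card_congr (Subgroup.subgroupOfEquivOfLe hcenle).toEquiv
  have hmul : Nat.card Tn = Nat.card (Tn ⧸ Z') * 2 := by
    rw [← hZ'c]; exact Subgroup.card_eq_card_quotient_mul_card_subgroup Z'
  have hHp : IsPGroup 2 (Tn ⧸ Z') := (h2.to_subgroup Tn).to_quotient Z'
  have hdvd : Nat.card (Tn ⧸ Z') ∣ 128 := card_dvd_of_injective_perm8 hHp hOmc f hf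
  -- P < Tn
  have hnil : Group.IsNilpotent S := h2.isNilpotent
  have hPlt' : P < Tn := Group.normalizerCondition_of_isNilpotent P (lt_top_iff_ne_top.mpr hPlt)
  have hPle : P ≤ Tn := hPlt'.le
  have hPdvd : 128 ∣ Nat.card Tn := by
    rw [← D.card_P]; exact Subgroup.card_dvd_of_le hPle
  have hne : Nat.card Tn ≠ 128 := by
    intro h
    have : P = Tn := Subgroup.eq_of_le_of_card_ge hPle (by rw [h, D.card_P])
    exact hPlt'.ne this
  have hTn256 : Nat.card Tn = 256 := by
    obtain ⟨c, hc⟩ := hdvd
    obtain ⟨d, hd⟩ := hPdvd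
    have hpos : 0 < Nat.card (Tn ⧸ Z') := Nat.card_pos
    have hc0 : 0 < c := by
      rcases Nat.eq_zero_or_pos c with h | h
      · rw [h, mul_zero] at hc; omega
      · exact h
    -- |Tn| * c = 256 and |Tn| = 128 d
    have h1 : Nat.card Tn * c = 256 := by rw [hmul]; nlinarith
    have h3 : d * c = 2 := by
      rw [hd] at h1
      have : 128 * (d * c) = 128 * 2 := by rw [← mul_assoc]; omega
      exact Nat.eq_of_mul_eq_mul_left (by norm_num) this
    have hd2 : d ≤ 2 := Nat.le_of_dvd (by norm_num) ⟨c, h3.symm⟩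
    interval_cases d
    · omega
    · omega
    · omega
  refine ⟨?_, hTn256, hZn, ?_⟩
  · have := Subgroup.relIndex_mul_relIndex ⊥ P Tn bot_le hPle
    rw [Subgroup.relIndex_bot_left, Subgroup.relIndex_bot_left, D.card_P, hTn256] at this
    omega
  · have hH128 : Nat.card (Tn ⧸ Z') = 128 := by omega
    exact exists_sylow_equiv_of_injective hOmc f hf hH128

end Cfsg.Agent.Lib.H20.GH
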