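import Mathlib
import Cfsg.Agent.Lib.H17.GHDefs
import Cfsg.Agent.Lib.H17.GHN3
import Cfsg.Agent.Lib.H15.GHN2
import Cfsg.Agent.Lib.H20.GHN4

/-!
# S4402 piece (N4) `normalizer_data`, with only the conclusion of N5 as a hypothesis (helper20)

N2b (`Cfsg.Agent.Lib.H15.GH.conj_Om`) and N3 (`Cfsg.Agent.Lib.H17.GH.eq_one_or_eq_z_of_centralizes`) are plugged in.
See `tools/blueprints/S4402_sigs.lean`.
-/

set_option autoImplicit false
set_option linter.dupNamespace false

namespace Cfsg.Agent.Lib.H20.GH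

open Subgroup Cfsg.Agent.Lib.H17.GH

theorem normalizer_data_of_center {S : Type*} [Group S] [Finite S] (h2 : IsPGroup 2 S)
    (hr : Cfsg.SectionalPRankLE 2 4 S) {P : Subgroup S} (hPlt : P ≠ ⊤) (D : Data P)
    (hcen : ∀ y : S, y ∈ Subgroup.center S ↔ (y = 1 ∨ y = D.z)) :
    P.relIndex (normalizer (P : Set S)) = 2 ∧ Nat.card ↥(normalizer (P : Set S)) = 256 ∧
      ∃ (_ : ((Subgroup.center S).subgroupOf (normalizer (P : Set S))).Normal)
        (T' : Sylow 2 (Equiv.Perm (Fin 8))),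
        Nonempty (↥(normalizer (P : Set S)) ⧸ (Subgroup.center S).subgroupOf (normalizer (P : Set S)) ≃*
          ↥(T' : Subgroup (Equiv.Perm (Fin 8)))) :=
  normalizer_data_of h2 hPlt D
    (fun g hg => (Cfsg.Agent.Lib.H15.GH.conj_Om D g hg).1)
    (fun y hy hc => Cfsg.Agent.Lib.H17.GH.eq_one_or_eq_z_of_centralizes h2 hr D y hy hc)
    hcen

end Cfsg.Agent.Lib.H20.GH
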