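import Mathlib
import Cfsg.Prelude.Def_Transfer
import Cfsg.Agent.Lib.H1.PGroupBasic
import Cfsg.Agent.Lib.H1.TwoInvolutions

/-!
# S5233 piece D8 (architect helper26): `P` with `Φ(P) = P'` of order 2 and an elementary abelian
subgroup of index 2 is `D₈ × A`.
-/

set_option autoImplicit false

namespace Cfsg.Agent.Lib.H20.GXS

/-- a copy of `Fin n` without algebraic instances -/
def Cp (n : ℕ) : Type := Fin n

/-- a finite commutative group has a copy in `Type` -/
theorem exists_small_copy (X : Type*) [CommGroup X] [Finite X] :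
    ∃ (A : Type) (_ : CommGroup A), Nonempty (A ≃* X) := by
  let e : Cp (Nat.card X) ≃ X := (Finite.equivFin X).symm
  exact ⟨Cp (Nat.card X), e.commGroup, ⟨by letI := e.commGroup; exact e.mulEquiv⟩⟩

theorem eq_top_of_index_two {P : Type*} [Group P] {B H : Subgroup P} (hBi : B.index = 2)
    (hBH : B ≤ H) {x : P} (hx : x ∈ H) (hxB : x ∉ B) : H = ⊤ := by
  rw [eq_top_iff]
  intro g _
  by_cases hg : g ∈ B
  · exact hBH hg
  · have h1 : x⁻¹ * g ∈ B := by
      rw [Subgroup.mul_mem_iff_of_index_two hBi]
      constructor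
      · intro h; exact absurd (by simpa using B.inv_mem h) hxB
      · intro h; exact absurd h hg
    have h2 := H.mul_mem hx (hBH h1)
    simpa using h2

theorem exists_dihedral_decomp {P : Type*} [Group P] [Finite P]
    (hfr : frattini P = commutator P) (hc : Nat.card (commutator P) = 2)
    (B : Subgroup P) (hBi : B.index = 2) (hBc : ∀ a ∈ B, ∀ b ∈ B, a * b = b * a)
    (hBe : ∀ a ∈ B, a ^ 2 = 1) :
    ∃ (A : Type) (_ : CommGroup A), (∀ a : A, a ^ 2 = 1) ∧ Nonempty (P ≃* DihedralGroup 4 × A) := by
  classical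
  haveI : Fact (Nat.Prime 2) := ⟨Nat.prime_two⟩
  haveI hBn : B.Normal := Subgroup.normal_of_index_eq_two hBi
  have hsqB : ∀ g : P, g ^ 2 ∈ B := fun g => Subgroup.sq_mem_of_index_two hBi g
  have hP2 : IsPGroup 2 P := fun g => ⟨2, by
    have := hBe _ (hsqB g)
    rw [← pow_mul] at this
    simpa using this⟩
  have hsqC : ∀ g : P, g ^ 2 ∈ commutator P := fun g => by
    rw [← hfr]; exact Cfsg.Agent.Lib.H1.isPGroup_pow_mem_frattini hP2 g
  have hcomm_mem : ∀ g h : P, g * h * g⁻¹ * h⁻¹ ∈ commutator P := fun g h => by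
    rw [commutator_def, ← commutatorElement_def]
    exact Subgroup.commutator_mem_commutator (Subgroup.mem_top g) (Subgroup.mem_top h)
  -- the nontrivial element of `P'`
  obtain ⟨⟨z, hzC⟩, hz1', hzuniq⟩ := (Nat.card_eq_two_iff' (1 : commutator P)).1 hc
  have hz1 : z ≠ 1 := fun h => hz1' (Subtype.ext h)
  have hC2 : ∀ g ∈ commutator P, g = 1 ∨ g = z := by
    intro g hg
    by_cases h1 : g = 1
    · exact Or.inl h1
    · right
      have := hzuniq ⟨g, hg⟩ (fun h => h1 (congrArg Subtype.val h))
      exact congrArg Subtype.val this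
  have hzz : z * z = 1 := by
    rcases hC2 (z * z) ((commutator P).mul_mem hzC hzC) with h | h
    · exact h
    · exact absurd (by simpa using h) hz1
  have hzcent : ∀ g : P, g * z = z * g := by
    intro g
    haveI : (commutator P).Normal := inferInstance
    have h1 : g * z * g⁻¹ ∈ commutator P := (inferInstance : (commutator P).Normal).conj_mem z hzC g
    rcases hC2 _ h1 with h | h
    · exfalso; apply hz1
      have : g * z = g := by
        have := congrArg (· * g) h
        simpa using this
      simpa using this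
    · have := congrArg (· * g) h
      simpa using this
  -- an element outside `B`
  obtain ⟨x₀, hx₀⟩ : ∃ x₀ : P, x₀ ∉ B := by
    by_contra h
    push Not at h
    have : B = ⊤ := eq_top_iff.2 fun g _ => h g
    rw [this, Subgroup.index_top] at hBi
    omega
  -- some `t ∈ B` does not commute with `x₀`
  obtain ⟨t, htB, hx₀t⟩ : ∃ t ∈ B, x₀ * t * x₀⁻¹ * t⁻¹ = z := by
    by_contra hno
    push Not at hno
    have hcomm : ∀ b ∈ B, x₀ * b = b * x₀ := by
      intro b hb
      rcases hC2 _ (hcomm_mem x₀ b) with h | h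
      · have := congrArg (· * b * x₀) h
        simpa [mul_assoc] using this
      · exact absurd h (hno b hb)
    have hx₀cent : x₀ ∈ Subgroup.center P := by
      have : Subgroup.centralizer ({x₀} : Set P) = ⊤ := by
        refine eq_top_of_index_two hBi ?_ (x := x₀) ?_ hx₀
        · intro b hb
          rw [Subgroup.mem_centralizer_singleton_iff]
          exact (hcomm b hb).symm
        · rw [Subgroup.mem_centralizer_singleton_iff]
      rw [Subgroup.mem_center_iff]
      intro g
      have hg : g ∈ Subgroup.centralizer ({x₀} : Set P) := by rw [this]; trivial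
      rw [Subgroup.mem_centralizer_singleton_iff] at hg
      exact hg
    have hcen : Subgroup.center P = ⊤ := by
      refine eq_top_of_index_two hBi ?_ hx₀cent hx₀
      intro b hb
      have : Subgroup.centralizer ({b} : Set P) = ⊤ := by
        refine eq_top_of_index_two hBi ?_ (x := x₀) ?_ hx₀
        · intro b' hb'
          rw [Subgroup.mem_centralizer_singleton_iff]
          exact hBc b' hb' b hb
        · rw [Subgroup.mem_centralizer_singleton_iff]
          exact hcomm b hb
      rw [Subgroup.mem_center_iff]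
      intro g
      have hg : g ∈ Subgroup.centralizer ({b} : Set P) := by rw [this]; trivial
      rw [Subgroup.mem_centralizer_singleton_iff] at hg
      exact hg
    rw [← commutator_eq_bot_iff_center_eq_top] at hcen
    rw [hcen] at hc
    simp at hc
  have htt : t * t = 1 := by have := hBe t htB; rwa [pow_two] at this
  have htinv : t⁻¹ = t := inv_eq_of_mul_eq_one_right htt
  -- normalise `x`
  obtain ⟨x, hxB, hxx, hxt⟩ : ∃ x : P, x ∉ B ∧ x * x = 1 ∧ x * t * x⁻¹ * t⁻¹ = z := by
    rcases hC2 _ (hsqC x₀) with h | h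
    · exact ⟨x₀, hx₀, by rwa [pow_two] at h, hx₀t⟩
    · rw [pow_two] at h
      have e1 : x₀ * t = z * t * x₀ := by
        have := congrArg (· * t * x₀) hx₀t
        simpa [mul_assoc] using this
      refine ⟨t * x₀, ?_, ?_, ?_⟩
      · intro hmem
        apply hx₀
        have := B.mul_mem (B.inv_mem htB) hmem
        simpa using this
      · calc t * x₀ * (t * x₀) = t * (x₀ * t) * x₀ := by simp only [mul_assoc]
          _ = t * (z * t * x₀) * x₀ := by rw [e1]
          _ = t * z * t * (x₀ * x₀) := by simp only [mul_assoc]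
          _ = z * t * t * z := by rw [h, hzcent t]
          _ = z * (t * t) * z := by simp only [mul_assoc]
          _ = 1 := by rw [htt, mul_one, hzz]
      · calc t * x₀ * t * (t * x₀)⁻¹ * t⁻¹ = t * (x₀ * t * x₀⁻¹ * t⁻¹) * t⁻¹ := by
              simp only [mul_inv_rev, mul_assoc]
          _ = t * z * t⁻¹ := by rw [hx₀t]
          _ = z := by rw [hzcent t, mul_assoc, mul_inv_cancel, mul_one]
  have hxinv : x⁻¹ = x := inv_eq_of_mul_eq_one_right hxx
  have hxt' : x * t = z * t * x := by
    have := congrArg (· * t * x) hxt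
    simpa [mul_assoc] using this
  have hzB : z ∈ B := by
    rw [← hxt]
    exact B.mul_mem (hBn.conj_mem t htB x) (B.inv_mem htB)
  have hxtne : x * t ≠ t * x := by
    intro h
    apply hz1
    rw [← hxt, h, mul_assoc t x, mul_inv_cancel, mul_one, mul_inv_cancel]
  -- the dihedral part
  obtain ⟨ρ, hρ⟩ : ∃ ρ : P, ρ = x * t := ⟨_, rfl⟩
  have hρρ : ρ * ρ = z := by
    calc ρ * ρ = x * t * x * t := by rw [hρ]; simp only [mul_assoc]
      _ = z * t * x * x * t := by rw [hxt']
      _ = z * t * (x * x) * t := by simp only [mul_assoc]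
      _ = z := by rw [hxx, mul_one, mul_assoc, htt, mul_one]
  have hρ2 : ρ ^ 2 = z := by rw [pow_two, hρρ]
  have hρ3 : ρ ^ 3 = z * ρ := by rw [pow_succ, hρ2]
  have hρ4 : ρ ^ 4 = 1 := by
    have : ρ ^ 4 = ρ ^ 2 * ρ ^ 2 := by rw [← pow_add]
    rw [this, hρ2, hzz]
  have hsr : x * ρ * x⁻¹ = ρ⁻¹ := by
    rw [hρ, mul_inv_rev, htinv, hxinv, ← mul_assoc, hxx, one_mul]
  set ι : DihedralGroup 4 →* P := Cfsg.Agent.Lib.H1.dihedralLift 4 ρ x hρ4 hxx hsr with hι
  have hιr : ∀ i : ZMod 4, ι (DihedralGroup.r i) = ρ ^ i.val := fun i =>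
    Cfsg.Agent.Lib.H1.dihedralLift_r 4 ρ x hρ4 hxx hsr i
  have hιsr : ∀ i : ZMod 4, ι (DihedralGroup.sr i) = x * ρ ^ i.val := fun i =>
    Cfsg.Agent.Lib.H1.dihedralLift_sr 4 ρ x hρ4 hxx hsr i
  -- the centre part
  obtain ⟨Zc, hZc⟩ : ∃ Zc : Subgroup P, Zc = B ⊓ Subgroup.centralizer ({x} : Set P) := ⟨_, rfl⟩
  have hmemZc : ∀ g : P, g ∈ Zc ↔ g ∈ B ∧ g * x = x * g := by
    intro g
    rw [hZc, Subgroup.mem_inf, Subgroup.mem_centralizer_singleton_iff]
  have hZcB : Zc ≤ B := fun g hg => ((hmemZc g).1 hg).1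
  have hzZc : z ∈ Zc := (hmemZc z).2 ⟨hzB, (hzcent x).symm⟩
  obtain ⟨A₀, -, hA₀max⟩ := Finite.exists_le_maximal
    (p := fun W : Subgroup P => W ≤ Zc ∧ z ∉ W) (a := ⊥)
    ⟨bot_le, by rw [Subgroup.mem_bot]; exact hz1⟩
  have hA₀Zc : A₀ ≤ Zc := hA₀max.prop.1
  have hzA₀ : z ∉ A₀ := hA₀max.prop.2
  have hA₀B : A₀ ≤ B := hA₀Zc.trans hZcB
  have hK : ∀ c ∈ Zc, c ∈ A₀ ∨ z * c ∈ A₀ := by
    intro c hc
    by_contra hcon
    push Not at hcon
    obtain ⟨hc1, hc2⟩ := hcon
    have hcB : c ∈ B := hZcB hc
    have hcc : c * c = 1 := by have := hBe c hcB; rwa [pow_two] at this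
    have hcinv : c⁻¹ = c := inv_eq_of_mul_eq_one_right hcc
    have hmemB : ∀ g : P, g ∈ A₀ ∨ g * c ∈ A₀ → g ∈ B := by
      rintro g (hg | hg)
      · exact hA₀B hg
      · have := B.mul_mem (hA₀B hg) (B.inv_mem hcB)
        simpa using this
    let A₁ : Subgroup P :=
      { carrier := {g | g ∈ A₀ ∨ g * c ∈ A₀}
        one_mem' := Or.inl A₀.one_mem
        mul_mem' := by
          intro g h hg hh
          have hgB := hmemB g hg
          have hhB := hmemB h hh
          rcases hg with hg | hg <;> rcases hh with hh | hh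
          · exact Or.inl (A₀.mul_mem hg hh)
          · right
            rw [mul_assoc]
            exact A₀.mul_mem hg hh
          · right
            have : g * h * c = g * c * h := by
              rw [mul_assoc, hBc h hhB c hcB, ← mul_assoc]
            rw [this]
            exact A₀.mul_mem hg hh
          · left
            have : g * h = g * c * (h * c) := by
              rw [mul_assoc g c, ← mul_assoc c h c, hBc c hcB h hhB, mul_assoc h c c, hcc, mul_one]
            rw [this]
            exact A₀.mul_mem hg hh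
        inv_mem' := by
          intro g hg
          have hgB := hmemB g hg
          rcases hg with hg | hg
          · exact Or.inl (A₀.inv_mem hg)
          · right
            have : g⁻¹ * c = (g * c)⁻¹ := by
              rw [mul_inv_rev, hcinv, hBc c hcB g⁻¹ (B.inv_mem hgB)]
            rw [this]
            exact A₀.inv_mem hg }
    have hA₁ : A₁ ≤ A₀ := by
      refine hA₀max.le_of_ge ⟨?_, ?_⟩ ?_
      · rintro g (hg | hg)
        · exact hA₀Zc hg
        · have := Zc.mul_mem (hA₀Zc hg) (Zc.inv_mem hc)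
          simpa using this
      · rintro (h | h)
        · exact hzA₀ h
        · exact hc2 h
      · intro g hg
        exact Or.inl hg
    apply hc1
    apply hA₁
    right
    rw [hcc]
    exact A₀.one_mem
  -- `Zc` is central
  have hZcent : ∀ c ∈ Zc, ∀ g : P, g * c = c * g := by
    intro c hc g
    have : Subgroup.centralizer ({c} : Set P) = ⊤ := by
      refine eq_top_of_index_two hBi ?_ (x := x) ?_ hxB
      · intro b hb
        rw [Subgroup.mem_centralizer_singleton_iff]
        exact hBc b hb c (hZcB hc)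
      · rw [Subgroup.mem_centralizer_singleton_iff]
        exact ((hmemZc c).1 hc).2.symm
    have hg : g ∈ Subgroup.centralizer ({c} : Set P) := by rw [this]; trivial
    rw [Subgroup.mem_centralizer_singleton_iff] at hg
    exact hg
  letI instA₀ : CommGroup A₀ :=
    { (inferInstance : Group A₀) with
      mul_comm := fun a b => Subtype.ext (hBc a (hA₀B a.2) b (hA₀B b.2)) }
  obtain ⟨A, instA, ⟨φ⟩⟩ := exists_small_copy A₀
  refine ⟨A, instA, ?_, ?_⟩
  · intro a
    apply φ.injective
    rw [map_pow, map_one]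
    apply Subtype.ext
    have := hBe (φ a) (hA₀B (φ a).2)
    simpa using this
  set ψ : A →* P := A₀.subtype.comp φ.toMonoidHom with hψ
  have hψA₀ : ∀ a : A, ψ a ∈ A₀ := fun a => (φ a).2
  have hψinj : ∀ a : A, ψ a = 1 → a = 1 := by
    intro a ha
    apply φ.injective
    rw [map_one]
    apply Subtype.ext
    exact ha
  have hψsurj : ∀ g ∈ A₀, ∃ a : A, ψ a = g := by
    intro g hg
    refine ⟨φ.symm ⟨g, hg⟩, ?_⟩
    simp [hψ]
  set F : DihedralGroup 4 × A →* P :=
    MonoidHom.noncommCoprod ι ψ (fun d a => by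
      show ι d * ψ a = ψ a * ι d
      exact hZcent _ (hA₀Zc (hψA₀ a)) (ι d)) with hF
  have hFapp : ∀ d a, F (d, a) = ι d * ψ a := fun d a => by
    rw [hF, MonoidHom.noncommCoprod_apply]
  have hxnotZc : ∀ g : P, g ∈ B → x * g ∉ B := by
    intro g hg hmem
    apply hxB
    have := B.mul_mem hmem (B.inv_mem hg)
    simpa using this
  have htnotZc : t ∉ Zc := by
    intro h
    exact hxtne ((hmemZc t).1 h).2.symm
  have hxzxt : x * (z * (x * t)) = z * t := by
    rw [← mul_assoc x z, hzcent x, mul_assoc z x, ← mul_assoc x x t, hxx, one_mul]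
  have hFinj : Function.Injective F := by
    rw [injective_iff_map_eq_one]
    rintro ⟨d, a⟩ hda
    rw [hFapp] at hda
    have hd : ι d ∈ A₀ := by
      have : ι d = (ψ a)⁻¹ := eq_inv_of_mul_eq_one_left hda
      rw [this]
      exact A₀.inv_mem (hψA₀ a)
    rcases d with i | i
    · rw [hιr] at hd hda
      have hlt : i.val < 4 := ZMod.val_lt i
      obtain ⟨n, hn⟩ : ∃ n, i.val = n := ⟨_, rfl⟩
      rw [hn] at hd hda hlt
      interval_cases n
      · have hi : i = 0 := (ZMod.val_eq_zero i).1 hn
        rw [pow_zero, one_mul] at hda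
        rw [hi, hψinj a hda]
        rfl
      · exfalso
        rw [pow_one, hρ] at hd
        exact hxnotZc t htB (hA₀B hd)
      · exfalso
        rw [hρ2] at hd
        exact hzA₀ hd
      · exfalso
        rw [hρ3, hρ, ← mul_assoc, ← hzcent x, mul_assoc] at hd
        exact hxnotZc (z * t) (B.mul_mem hzB htB) (hA₀B hd)
    · exfalso
      rw [hιsr] at hd
      have hlt : i.val < 4 := ZMod.val_lt i
      obtain ⟨n, hn⟩ : ∃ n, i.val = n := ⟨_, rfl⟩
      rw [hn] at hd hlt
      interval_cases n
      · rw [pow_zero] at hd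
        exact hxnotZc 1 B.one_mem (hA₀B hd)
      · rw [pow_one, hρ, ← mul_assoc, hxx, one_mul] at hd
        exact htnotZc (hA₀Zc hd)
      · rw [hρ2] at hd
        exact hxnotZc z hzB (hA₀B hd)
      · rw [hρ3, hρ, hxzxt] at hd
        apply htnotZc
        have := Zc.mul_mem hzZc (hA₀Zc hd)
        rwa [← mul_assoc, hzz, one_mul] at this
  -- values of `ι`
  have hv2 : ((2 : ZMod 4)).val = 2 := rfl
  have hv1 : ((1 : ZMod 4)).val = 1 := rfl
  have hv3 : ((3 : ZMod 4)).val = 3 := rfl
  have hv0 : ((0 : ZMod 4)).val = 0 := rfl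
  have hι_z : ι (DihedralGroup.r 2) = z := by rw [hιr, hv2, hρ2]
  have hι_t : ι (DihedralGroup.sr 1) = t := by rw [hιsr, hv1, pow_one, hρ, ← mul_assoc, hxx, one_mul]
  have hι_zt : ι (DihedralGroup.sr 3) = z * t := by
    rw [hιsr, hv3, hρ3, hρ, hxzxt]
  have hι_x : ι (DihedralGroup.sr 0) = x := by rw [hιsr, hv0, pow_zero, mul_one]
  have hsurjB : ∀ b ∈ B, ∃ d a, b = ι d * ψ a := by
    intro b hb
    -- first: b ∈ Zc or b * t ∈ Zc
    have hb' : b ∈ Zc ∨ b * t ∈ Zc := by
      rcases hC2 _ (hcomm_mem x b) with h | h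
      · left
        refine (hmemZc b).2 ⟨hb, ?_⟩
        have := congrArg (· * b * x) h
        simpa [mul_assoc] using this.symm
      · right
        refine (hmemZc (b * t)).2 ⟨B.mul_mem hb htB, ?_⟩
        have e1 : x * b = z * b * x := by
          have := congrArg (· * b * x) h
          simpa [mul_assoc] using this
        calc b * t * x = b * (t * x) := by rw [mul_assoc]
          _ = b * (z * (z * t * x)) := by rw [← mul_assoc z, ← mul_assoc z, hzz, one_mul]
          _ = b * (z * (x * t)) := by rw [hxt']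
          _ = z * b * x * t := by rw [← mul_assoc b z, ← hzcent b]; simp only [mul_assoc]
          _ = x * b * t := by rw [← e1]
          _ = x * (b * t) := by rw [mul_assoc]
    rcases hb' with h | h
    · rcases hK b h with h2 | h2
      · obtain ⟨a, ha⟩ := hψsurj b h2
        exact ⟨1, a, by rw [map_one, one_mul, ha]⟩
      · obtain ⟨a, ha⟩ := hψsurj _ h2
        refine ⟨DihedralGroup.r 2, a, ?_⟩
        rw [hι_z, ha, ← mul_assoc, hzz, one_mul]
    · rcases hK _ h with h2 | h2
      · obtain ⟨a, ha⟩ := hψsurj _ h2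
        refine ⟨DihedralGroup.sr 1, a, ?_⟩
        rw [hι_t, ha, hZcent _ h t, mul_assoc, htt, mul_one]
      · obtain ⟨a, ha⟩ := hψsurj _ h2
        refine ⟨DihedralGroup.sr 3, a, ?_⟩
        rw [hι_zt, ha]
        symm
        calc z * t * (z * (b * t)) = z * t * (b * t * z) := by rw [hzcent (b * t)]
          _ = z * (t * b) * (t * z) := by simp only [mul_assoc]
          _ = z * (b * t) * (t * z) := by rw [hBc t htB b hb]
          _ = z * b * (t * t) * z := by simp only [mul_assoc]
          _ = z * b * z := by rw [htt, mul_one]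
          _ = b * z * z := by rw [hzcent b]
          _ = b := by rw [mul_assoc, hzz, mul_one]
  have hFsurj : Function.Surjective F := by
    intro g
    by_cases hg : g ∈ B
    · obtain ⟨d, a, h⟩ := hsurjB g hg
      exact ⟨(d, a), by rw [hFapp, h]⟩
    · have h1 : x * g ∈ B := by
        rw [Subgroup.mul_mem_iff_of_index_two hBi]
        exact ⟨fun h => absurd h hxB, fun h => absurd h hg⟩
      obtain ⟨d, a, h⟩ := hsurjB _ h1
      refine ⟨(DihedralGroup.sr 0 * d, a), ?_⟩
      rw [hFapp, map_mul, hι_x, mul_assoc, ← h, ← mul_assoc, hxx, one_mul]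
  exact ⟨(MulEquiv.ofBijective F ⟨hFinj, hFsurj⟩).symm⟩

end Cfsg.Agent.Lib.H20.GXS
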