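import Mathlib
import Cfsg.Agent.Lib.H25.GsDefs

/-!
# S5665 piece (SA): the `J`-structure of a quadratic field of unitary kind (helper20)

From `IsFieldSubalgebra 2 K`, adjoint-closed but not self-adjoint for the standard alternating form, `q` odd,
extract `J ∈ K` with `J² = d` (`d` a non-square), `J* = -J`, `K = {α + β J}`.
-/

set_option autoImplicit false
set_option linter.unusedSimpArgs false
set_option linter.unusedSectionVars false
set_option linter.unusedVariables false

namespace Cfsg.Agent.Lib.H20.Gs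

open Matrix Module
open Cfsg Cfsg.Geo
open Cfsg.Agent.Lib.H11.SubspMax
open Cfsg.Agent.Lib.H25.Gs

section gen

variable {F : Type*} [Field F] {ι : Type*} [Fintype ι] [DecidableEq ι]

/-- in a two-dimensional subalgebra any non-scalar element `J` generates: `K = {α + β J}` -/
theorem gen_of_not_scalar (K : Subalgebra F (Matrix ι ι F))
    (h2 : Module.finrank F K = 2) {J : Matrix ι ι F} (hJK : J ∈ K)
    (hJc : ∀ c : F, J ≠ c • (1 : Matrix ι ι F)) :
    ∀ k ∈ K, ∃ α β : F, k = α • (1 : Matrix ι ι F) + β • J := by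
  classical
  have h2' : Module.finrank F (Subalgebra.toSubmodule K) = 2 := h2
  have hli : LinearIndependent F ![(1 : Matrix ι ι F), J] := by
    rw [LinearIndependent.pair_iff]
    intro s u hsu
    have hu : u = 0 := by
      by_contra hu
      apply hJc (-(u⁻¹ * s))
      have : u • J = -(s • (1 : Matrix ι ι F)) := eq_neg_of_add_eq_zero_right hsu
      calc J = u⁻¹ • (u • J) := by rw [smul_smul, inv_mul_cancel₀ hu, one_smul]
        _ = -(u⁻¹ * s) • (1 : Matrix ι ι F) := by
            rw [this, smul_neg, smul_smul, neg_smul]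
    refine ⟨?_, hu⟩
    rw [hu, zero_smul, add_zero] at hsu
    rcases smul_eq_zero.1 hsu with h | h
    · exact h
    · exfalso
      apply hJc 0
      rw [zero_smul]
      have : J = J * 1 := (mul_one J).symm
      rw [this, h, mul_zero]
  have hspan : Submodule.span F (Set.range ![(1 : Matrix ι ι F), J]) =
      Subalgebra.toSubmodule K := by
    apply Submodule.eq_of_le_of_finrank_eq
    · rw [Submodule.span_le]
      rintro x ⟨i, rfl⟩
      fin_cases i
      · exact K.one_mem
      · exact hJK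
    · rw [finrank_span_eq_card hli, h2']
      simp
  intro k hk
  have hk' : k ∈ Submodule.span F (Set.range ![(1 : Matrix ι ι F), J]) := by
    rw [hspan]; exact hk
  rw [Matrix.range_cons, Matrix.range_cons, Matrix.range_empty, Set.union_empty,
    Set.singleton_union, Submodule.mem_span_pair] at hk'
  obtain ⟨α, β, hαβ⟩ := hk'
  exact ⟨α, β, hαβ.symm⟩

end gen

section adj

variable {F : Type*} [Field F] {m : ℕ}

/-- the adjoint of a matrix for the standard alternating form: `k* = -(J₀ kᵀ J₀)` -/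
def adjS (k : Matrix (Fin m ⊕ Fin m) (Fin m ⊕ Fin m) F) :
    Matrix (Fin m ⊕ Fin m) (Fin m ⊕ Fin m) F :=
  -(Matrix.J (Fin m) F * kᵀ * Matrix.J (Fin m) F)

theorem sympForm_adjS (k : Matrix (Fin m ⊕ Fin m) (Fin m ⊕ Fin m) F)
    (u v : Fin m ⊕ Fin m → F) :
    Cfsg.sympForm m F (k *ᵥ u) v = Cfsg.sympForm m F u (adjS k *ᵥ v) := by
  unfold Cfsg.sympForm adjS
  rw [Matrix.mulVec_mulVec, Matrix.mul_neg, ← Matrix.mul_assoc, ← Matrix.mul_assoc,
    Matrix.J_squared, Matrix.neg_mul, Matrix.neg_mul, neg_neg, Matrix.one_mul,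
    ← Matrix.mulVec_mulVec]
  conv_rhs => rw [Matrix.dotProduct_mulVec, Matrix.vecMul_transpose]

theorem adjS_unique {k k' : Matrix (Fin m ⊕ Fin m) (Fin m ⊕ Fin m) F}
    (h : ∀ u v : Fin m ⊕ Fin m → F,
      Cfsg.sympForm m F (k *ᵥ u) v = Cfsg.sympForm m F u (k' *ᵥ v)) : k' = adjS k := by
  have h1 : ∀ u v : Fin m ⊕ Fin m → F,
      u ⬝ᵥ ((Matrix.J (Fin m) F * k') *ᵥ v) = u ⬝ᵥ ((Matrix.J (Fin m) F * adjS k) *ᵥ v) := by
    intro u v
    have h2 := h u v
    rw [sympForm_adjS] at h2
    unfold Cfsg.sympForm at h2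
    rw [Matrix.mulVec_mulVec, Matrix.mulVec_mulVec] at h2
    exact h2.symm
  have h3 : Matrix.J (Fin m) F * k' = Matrix.J (Fin m) F * adjS k := by
    ext i j
    have := h1 (Pi.single i 1) (Pi.single j 1)
    simpa using this
  have h4 : -(Matrix.J (Fin m) F * (Matrix.J (Fin m) F * k')) =
      -(Matrix.J (Fin m) F * (Matrix.J (Fin m) F * adjS k)) := by rw [h3]
  rw [← Matrix.mul_assoc, ← Matrix.mul_assoc, Matrix.J_squared] at h4
  simpa using h4

theorem adjS_add (a b : Matrix (Fin m ⊕ Fin m) (Fin m ⊕ Fin m) F) :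
    adjS (a + b) = adjS a + adjS b := by
  unfold adjS
  rw [Matrix.transpose_add, Matrix.mul_add, Matrix.add_mul, neg_add]

theorem adjS_sub (a b : Matrix (Fin m ⊕ Fin m) (Fin m ⊕ Fin m) F) :
    adjS (a - b) = adjS a - adjS b := by
  unfold adjS
  rw [Matrix.transpose_sub, Matrix.mul_sub, Matrix.sub_mul, neg_sub, sub_eq_add_neg, add_comm,
    sub_eq_add_neg, neg_neg]

theorem adjS_neg (a : Matrix (Fin m ⊕ Fin m) (Fin m ⊕ Fin m) F) :
    adjS (-a) = -adjS a := by
  unfold adjS
  rw [Matrix.transpose_neg, Matrix.mul_neg, Matrix.neg_mul]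

theorem adjS_smul (c : F) (a : Matrix (Fin m ⊕ Fin m) (Fin m ⊕ Fin m) F) :
    adjS (c • a) = c • adjS a := by
  unfold adjS
  rw [Matrix.transpose_smul, Matrix.mul_smul, Matrix.smul_mul, smul_neg]

theorem adjS_one : adjS (1 : Matrix (Fin m ⊕ Fin m) (Fin m ⊕ Fin m) F) = 1 := by
  unfold adjS
  rw [Matrix.transpose_one, Matrix.mul_one, Matrix.J_squared, neg_neg]

theorem adjS_mul (a b : Matrix (Fin m ⊕ Fin m) (Fin m ⊕ Fin m) F) :
    adjS (a * b) = adjS b * adjS a := by
  unfold adjS
  rw [Matrix.transpose_mul, neg_mul_neg]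
  have : Matrix.J (Fin m) F * bᵀ * Matrix.J (Fin m) F * (Matrix.J (Fin m) F * aᵀ * Matrix.J (Fin m) F) =
      Matrix.J (Fin m) F * bᵀ * (Matrix.J (Fin m) F * Matrix.J (Fin m) F) * aᵀ * Matrix.J (Fin m) F := by
    simp only [Matrix.mul_assoc]
  rw [this, Matrix.J_squared]
  simp only [Matrix.mul_neg, Matrix.mul_one, Matrix.neg_mul, Matrix.mul_assoc]

end adj

section main

variable {F : Type*} [Field F] {m : ℕ}

/-- **(SA)** the `J`-structure of a quadratic field of unitary kind (`q` odd) -/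
theorem exists_SJ [Fintype F] (hm : 7 ≤ m) (hodd : Odd (Fintype.card F))
    (K : Subalgebra F (Matrix (Fin m ⊕ Fin m) (Fin m ⊕ Fin m) F)) (hK : IsFieldSubalgebra 2 K)
    (hac : IsAdjointClosedFor (Cfsg.sympForm m F) K)
    (hnsa : ¬ IsSelfAdjointFor (Cfsg.sympForm m F) K) :
    ∃ (J : Matrix (Fin m ⊕ Fin m) (Fin m ⊕ Fin m) F) (d : F), J ∈ K ∧
      (∀ k ∈ K, ∃ α β : F, k = α • (1 : Matrix (Fin m ⊕ Fin m) (Fin m ⊕ Fin m) F) + β • J) ∧
      SJ m J d := by
  classical
  -- `2 ≠ 0`
  have h2 : (2 : F) ≠ 0 := by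
    apply Ring.two_ne_zero
    intro hch
    have := FiniteField.even_card_of_char_two hch
    rw [Nat.odd_iff] at hodd
    omega
  -- `K` is closed under the adjoint
  have hadjK : ∀ k ∈ K, adjS k ∈ K := by
    intro k hk
    obtain ⟨k', hk'K, hk'⟩ := hac k hk
    rw [← adjS_unique hk']
    exact hk'K
  -- a non-self-adjoint element
  unfold IsSelfAdjointFor at hnsa
  push Not at hnsa
  obtain ⟨k, hkK, u, v, huv⟩ := hnsa
  have hkne : adjS k ≠ k := by
    intro h
    apply huv
    rw [sympForm_adjS, h]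
  set J := k - adjS k with hJ
  have hJK : J ∈ K := K.sub_mem hkK (hadjK k hkK)
  have hJ0 : J ≠ 0 := by
    intro h
    apply hkne
    rw [hJ, sub_eq_zero] at h
    exact h.symm
  have hadjJ : adjS J = -J := by
    have hkk : adjS (adjS k) = k := by
      apply (adjS_unique (k := adjS k) (k' := k) _).symm
      intro u v
      -- f (k* u) v = f u (k v): from antisymmetry
      have h1 := sympForm_adjS k v u
      have ha : ∀ x y : Fin m ⊕ Fin m → F, Cfsg.sympForm m F x y = -Cfsg.sympForm m F y x := by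
        intro x y
        unfold Cfsg.sympForm
        rw [Matrix.dotProduct_mulVec, ← Matrix.mulVec_transpose, Matrix.J_transpose,
          Matrix.neg_mulVec, neg_dotProduct, dotProduct_comm]
      rw [ha (adjS k *ᵥ u) v, ← h1, ← ha]
    rw [hJ, adjS_sub, hkk, neg_sub]
  -- `J` is not a scalar
  have hJc : ∀ c : F, J ≠ c • (1 : Matrix (Fin m ⊕ Fin m) (Fin m ⊕ Fin m) F) := by
    intro c hc
    have h1 : adjS J = J := by rw [hc, adjS_smul, adjS_one]
    rw [hadjJ] at h1
    apply hJ0
    have h3 : (2 : F) • J = 0 := by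
      rw [two_smul]
      nth_rewrite 1 [← h1]
      exact neg_add_cancel J
    rcases smul_eq_zero.1 h3 with h | h
    · exact absurd h h2
    · exact h
  have hgen := gen_of_not_scalar K hK.finrank_eq hJK hJc
  -- `J² = d`
  obtain ⟨α, β, hαβ⟩ := hgen (J * J) (K.mul_mem hJK hJK)
  have hβ : β = 0 := by
    have h1 : adjS (J * J) = J * J := by
      rw [adjS_mul, hadjJ, neg_mul_neg]
    rw [hαβ, adjS_add, adjS_smul, adjS_smul, adjS_one, hadjJ] at h1
    have h3 : ((2 : F) * β) • J = 0 := by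
      have h4 : β • J = -(β • J) := by
        have := add_left_cancel h1
        rw [smul_neg] at this
        exact this.symm
      rw [mul_smul, two_smul]
      nth_rewrite 1 [h4]
      exact neg_add_cancel _
    rcases smul_eq_zero.1 h3 with h | h
    · rcases mul_eq_zero.1 h with h | h
      · exact absurd h h2
      · exact h
    · exact absurd h hJ0
  rw [hβ, zero_smul, add_zero] at hαβ
  refine ⟨J, α, hJK, hgen, ⟨hm, h2, ?_, ?_, ?_⟩⟩
  · intro x
    rw [Matrix.mulVec_mulVec, hαβ, Matrix.smul_mulVec, Matrix.one_mulVec]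
  · intro l hl
    have hprod : (J - l • (1 : Matrix (Fin m ⊕ Fin m) (Fin m ⊕ Fin m) F)) *
        (J + l • (1 : Matrix (Fin m ⊕ Fin m) (Fin m ⊕ Fin m) F)) = 0 := by
      rw [sub_mul, mul_add, mul_add, hαβ, Matrix.mul_smul, Matrix.smul_mul, Matrix.smul_mul,
        Matrix.mul_smul, Matrix.mul_one, Matrix.one_mul, Matrix.one_mul, smul_smul, ← hl]
      module
    by_cases h0 : J - l • (1 : Matrix (Fin m ⊕ Fin m) (Fin m ⊕ Fin m) F) = 0
    · exact hJc l (sub_eq_zero.1 h0)
    · have hmem : J - l • (1 : Matrix (Fin m ⊕ Fin m) (Fin m ⊕ Fin m) F) ∈ K :=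
        K.sub_mem hJK (K.smul_mem K.one_mem l)
      obtain ⟨y, hyK, hy⟩ := hK.inv _ hmem h0
      have hy' : y * (J - l • (1 : Matrix (Fin m ⊕ Fin m) (Fin m ⊕ Fin m) F)) = 1 := by
        rw [← hK.comm _ hmem _ hyK]; exact hy
      have : J + l • (1 : Matrix (Fin m ⊕ Fin m) (Fin m ⊕ Fin m) F) = 0 := by
        have h5 := congrArg (fun z => y * z) hprod
        simp only [mul_zero] at h5
        rw [← mul_assoc, hy', one_mul] at h5
        exact h5
      apply hJc (-l)
      rw [neg_smul]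
      exact eq_neg_of_add_eq_zero_left this
  · intro x y
    rw [sympForm_adjS, hadjJ, Matrix.neg_mulVec]
    unfold Cfsg.sympForm
    rw [Matrix.mulVec_neg, dotProduct_neg]

end main

end Cfsg.Agent.Lib.H20.Gs
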