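import Mathlib
import Cfsg.Agent.Lib.H10.GuA
import Cfsg.Agent.Lib.H13.AschEOGen
import Cfsg.Agent.Lib.H13.AschEOB45

/-!
# S5700 piece (D): the `J`-structure of a quadratic field of similitudes (helper20)

From `IsFieldSubalgebra 2 K` and the hypothesis that every `k ∈ K` rescales `Q`, extract a generator
`J` of `K` with `JS (toQF Q hQ) J t N` and `K = {α + β J}`.
-/

set_option autoImplicit false
set_option linter.unusedSimpArgs false
set_option linter.unusedSectionVars false
set_option linter.unusedVariables false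

namespace Cfsg.Agent.Lib.H20.Gu

open Matrix Module
open Cfsg Cfsg.Geo
open Cfsg.Agent.Lib.H28 Cfsg.Agent.Lib.H11.SubspMax
open Cfsg.Agent.Lib.H11.CD Cfsg.Agent.Lib.H11.SiegelGen Cfsg.Agent.Lib.H11.OrMax
open Cfsg.Agent.Lib.H11.OmTs Cfsg.Agent.Lib.H24.OSf
open Cfsg.Agent.Lib.H10.Gu

section wrap

variable {F : Type*} [Field F] {n : ℕ}

/-- a two-dimensional subalgebra has a generator `J`, not a scalar, with `K = {α + β J}` -/
theorem exists_gen_of_finrank_two (K : Subalgebra F (Matrix (Fin n) (Fin n) F))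
    (h2 : Module.finrank F K = 2) :
    ∃ J : Matrix (Fin n) (Fin n) F, J ∈ K ∧ (∀ c : F, J ≠ c • (1 : Matrix (Fin n) (Fin n) F)) ∧
      ∀ k ∈ K, ∃ α β : F, k = α • (1 : Matrix (Fin n) (Fin n) F) + β • J := by
  classical
  have h2' : Module.finrank F (Subalgebra.toSubmodule K) = 2 := h2
  -- some element of `K` is not a scalar
  have h1 : ∃ J ∈ K, J ∉ Submodule.span F {(1 : Matrix (Fin n) (Fin n) F)} := by
    by_contra hcon
    push Not at hcon
    have hle : Subalgebra.toSubmodule K ≤ Submodule.span F {(1 : Matrix (Fin n) (Fin n) F)} :=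
      fun x hx => hcon x hx
    have := Submodule.finrank_mono hle
    have h3 := finrank_span_le_card (R := F) ({(1 : Matrix (Fin n) (Fin n) F)} : Set _)
    rw [Set.toFinset_singleton, Finset.card_singleton] at h3
    omega
  obtain ⟨J, hJK, hJ⟩ := h1
  have hJc : ∀ c : F, J ≠ c • (1 : Matrix (Fin n) (Fin n) F) := by
    intro c hc
    exact hJ (hc ▸ Submodule.smul_mem _ c (Submodule.mem_span_singleton_self _))
  refine ⟨J, hJK, hJc, ?_⟩
  -- `1, J` are linearly independent
  have hli : LinearIndependent F ![(1 : Matrix (Fin n) (Fin n) F), J] := by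
    rw [LinearIndependent.pair_iff]
    intro s u hsu
    have hu : u = 0 := by
      by_contra hu
      apply hJc (-(u⁻¹ * s))
      have : u • J = -(s • (1 : Matrix (Fin n) (Fin n) F)) := eq_neg_of_add_eq_zero_right hsu
      calc J = u⁻¹ • (u • J) := by rw [smul_smul, inv_mul_cancel₀ hu, one_smul]
        _ = -(u⁻¹ * s) • (1 : Matrix (Fin n) (Fin n) F) := by
            rw [this, smul_neg, smul_smul, neg_smul]
    refine ⟨?_, hu⟩
    rw [hu, zero_smul, add_zero] at hsu
    rcases smul_eq_zero.1 hsu with h | h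
    · exact h
    · exfalso
      apply hJc 0
      rw [zero_smul]
      have : J = J * 1 := (mul_one J).symm
      rw [this, h, mul_zero]
  have hspan : Submodule.span F (Set.range ![(1 : Matrix (Fin n) (Fin n) F), J]) =
      Subalgebra.toSubmodule K := by
    apply Submodule.eq_of_le_of_finrank_eq
    · rw [Submodule.span_le]
      rintro x ⟨i, rfl⟩
      fin_cases i
      · exact K.one_mem
      · exact hJK
    · rw [finrank_span_eq_card hli, h2']
      simp
  intro k hk
  have hk' : k ∈ Submodule.span F (Set.range ![(1 : Matrix (Fin n) (Fin n) F), J]) := by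
    rw [hspan]; exact hk
  rw [Matrix.range_cons, Matrix.range_cons, Matrix.range_empty, Set.union_empty,
    Set.singleton_union, Submodule.mem_span_pair] at hk'
  obtain ⟨α, β, hαβ⟩ := hk'
  exact ⟨α, β, hαβ.symm⟩

variable [Fintype F]

/-- (D) the `J`-structure of a quadratic field of similitudes -/
theorem exists_JS (hn : 13 ≤ n) (Q : (Fin n → F) → F) (hQ : IsNondegenerateQuadraticForm Q)
    (K : Subalgebra F (Matrix (Fin n) (Fin n) F)) (hK : IsFieldSubalgebra 2 K)
    (hac : IsAdjointClosedFor (QuadraticMap.polar Q) K)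
    (hnsa : ¬ IsSelfAdjointFor (QuadraticMap.polar Q) K)
    (hsc : ∀ k ∈ K, ∃ c : F, ∀ v : Fin n → F, Q (k *ᵥ v) = c * Q v) :
    ∃ (J : Matrix (Fin n) (Fin n) F) (t N : F), J ∈ K ∧
      (∀ k ∈ K, ∃ α β : F, k = α • (1 : Matrix (Fin n) (Fin n) F) + β • J) ∧
      JS (Cfsg.Agent.Lib.H29.Orth.toQF Q hQ) J t N := by
  classical
  obtain ⟨J, hJK, hJc, hgen⟩ := exists_gen_of_finrank_two K hK.finrank_eq
  obtain ⟨N, hN⟩ := hsc J hJK
  obtain ⟨M, hM⟩ := hsc (1 + J) (K.add_mem K.one_mem hJK)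
  set Q' := Cfsg.Agent.Lib.H29.Orth.toQF Q hQ with hQ'
  have hcoe : ∀ x, Q' x = Q x := fun x => rfl
  have hnd : (QuadraticMap.polarBilin Q').Nondegenerate :=
    Cfsg.Agent.Lib.H29.Orth.toQF_nondegenerate Q hQ
  have hQJ : ∀ v : Fin n → F, Q' (J *ᵥ v) = N * Q' v := fun v => hN v
  have hPvJ : ∀ v : Fin n → F, QuadraticMap.polar (⇑Q') v (J *ᵥ v) = (M - 1 - N) * Q' v := by
    intro v
    have h1 := hM v
    rw [Matrix.add_mulVec, Matrix.one_mulVec] at h1
    have h2 : Q' (v + J *ᵥ v) = M * Q' v := h1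
    rw [Q_add, hQJ] at h2
    linear_combination h2
  -- polarised identities
  have hPJ' : ∀ x y : Fin n → F, QuadraticMap.polar (⇑Q') x (J *ᵥ y) +
      QuadraticMap.polar (⇑Q') y (J *ᵥ x) = (M - 1 - N) * QuadraticMap.polar (⇑Q') x y := by
    intro x y
    have h := hPvJ (x + y)
    rw [Matrix.mulVec_add, QuadraticMap.polar_add_left, QuadraticMap.polar_add_right,
      QuadraticMap.polar_add_right, hPvJ x, hPvJ y, Q_add] at h
    linear_combination h
  have hPJJ : ∀ x y : Fin n → F, QuadraticMap.polar (⇑Q') (J *ᵥ x) (J *ᵥ y) =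
      N * QuadraticMap.polar (⇑Q') x y := by
    intro x y
    have h := hQJ (x + y)
    rw [Matrix.mulVec_add, Q_add, Q_add, hQJ x, hQJ y] at h
    linear_combination h
  have hsq : ∀ x : Fin n → F, J *ᵥ (J *ᵥ x) = (M - 1 - N) • (J *ᵥ x) - N • x := by
    intro x
    rw [← sub_eq_zero]
    apply hnd.2
    intro y
    change QuadraticMap.polar (⇑Q') y (J *ᵥ (J *ᵥ x) - ((M - 1 - N) • (J *ᵥ x) - N • x)) = 0
    rw [QuadraticMap.polar_sub_right, QuadraticMap.polar_sub_right, QuadraticMap.polar_smul_right,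
      QuadraticMap.polar_smul_right]
    have h1 := hPJ' (J *ᵥ x) y
    have h2 := hPJJ x y
    have h3 := QuadraticMap.polar_comm (⇑Q') y (J *ᵥ x)
    have h4 := QuadraticMap.polar_comm (⇑Q') y x
    simp only [smul_eq_mul]
    linear_combination h1 - h2 - (M - 1 - N) * h3 + N * h4
  have hJJ : J * J = (M - 1 - N) • J - N • (1 : Matrix (Fin n) (Fin n) F) := by
    rw [Matrix.ext_iff_mulVec]
    intro x
    rw [← Matrix.mulVec_mulVec, hsq x, Matrix.sub_mulVec, Matrix.smul_mulVec, Matrix.smul_mulVec,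
      Matrix.one_mulVec]
  refine ⟨J, M - 1 - N, N, hJK, hgen, ⟨hnd, hn, hsq, ?_, hQJ, hPvJ⟩⟩
  intro l hl
  -- `(J - l)(J - (t - l)) = 0`
  have hprod : (J - l • (1 : Matrix (Fin n) (Fin n) F)) *
      (J - ((M - 1 - N) - l) • (1 : Matrix (Fin n) (Fin n) F)) = 0 := by
    have hN' : N = (M - 1 - N) * l - l ^ 2 := by linear_combination hl
    rw [sub_mul, mul_sub, mul_sub, hJJ, Matrix.mul_smul, Matrix.smul_mul, Matrix.smul_mul,
      Matrix.mul_smul, Matrix.mul_one, Matrix.one_mul, Matrix.one_mul, smul_smul]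
    have : N • (1 : Matrix (Fin n) (Fin n) F) =
        ((M - 1 - N) * l - l ^ 2) • (1 : Matrix (Fin n) (Fin n) F) := by rw [← hN']
    rw [this]
    module
  by_cases h0 : J - l • (1 : Matrix (Fin n) (Fin n) F) = 0
  · exact hJc l (sub_eq_zero.1 h0)
  · have hmem : J - l • (1 : Matrix (Fin n) (Fin n) F) ∈ K :=
      K.sub_mem hJK (K.smul_mem K.one_mem l)
    obtain ⟨y, hyK, hy⟩ := hK.inv _ hmem h0
    have hy' : y * (J - l • (1 : Matrix (Fin n) (Fin n) F)) = 1 := by
      rw [← hK.comm _ hmem _ hyK]; exact hy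
    have : J - ((M - 1 - N) - l) • (1 : Matrix (Fin n) (Fin n) F) = 0 := by
      have h5 := congrArg (fun z => y * z) hprod
      simp only [mul_zero] at h5
      rw [← mul_assoc, hy', one_mul] at h5
      exact h5
    exact hJc _ (sub_eq_zero.1 this)

end wrap

end Cfsg.Agent.Lib.H20.Gu
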