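import Cfsg.Agent.Lib.H4.HT.Defs
import Cfsg.Agent.Lib.H16.PGroupCenter
import Cfsg.Agent.Lib.H22.UniqueOrderP

set_option autoImplicit false

/-! S3371 piece NP (helper20): a non-cyclic abelian normal subgroup of a `p`-group gives a central `z` of
order `p` and `a` of order `p` outside `⟨z⟩` with `⟨a, z⟩` normal. -/

namespace Cfsg.Agent.Lib.H20.HT

open Cfsg

variable {G : Type*} [Group G]

/-- `Ω₁` of an abelian subgroup. -/
def npOmega (p : ℕ) (A : Subgroup G) (hA : ∀ x ∈ A, ∀ y ∈ A, x * y = y * x) : Subgroup G where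
  carrier := {x | x ∈ A ∧ x ^ p = 1}
  one_mem' := ⟨A.one_mem, one_pow p⟩
  mul_mem' := by
    rintro x y ⟨hx, hx2⟩ ⟨hy, hy2⟩
    refine ⟨A.mul_mem hx hy, ?_⟩
    have hc : Commute x y := hA x hx y hy
    rw [hc.mul_pow, hx2, hy2, one_mul]
  inv_mem' := by
    rintro x ⟨hx, hx2⟩
    exact ⟨A.inv_mem hx, by rw [inv_pow, hx2, inv_one]⟩

theorem npOmega_normal (p : ℕ) (A : Subgroup G) (hA : ∀ x ∈ A, ∀ y ∈ A, x * y = y * x)
    (hn : A.Normal) : (npOmega p A hA).Normal := by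
  constructor
  rintro x ⟨hx, hx2⟩ g
  refine ⟨hn.conj_mem x hx g, ?_⟩
  rw [conj_pow, hx2, mul_one, mul_inv_cancel]

/-- In a non-cyclic abelian `p`-subgroup, no cyclic subgroup of order dividing `p` contains all of `Ω₁`. -/
theorem np_exists_not_mem [Finite G] {p : ℕ} [Fact p.Prime] (hG : IsPGroup p G) (N : Subgroup G)
    (hA : ∀ x ∈ N, ∀ y ∈ N, x * y = y * x) (hNnc : ¬ IsCyclic N) (z : G) (hzp : z ^ p = 1) :
    ∃ a ∈ N, a ^ p = 1 ∧ a ∉ Subgroup.zpowers z := by
  by_contra hno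
  push Not at hno
  apply hNnc
  apply Cfsg.Agent.Lib.H22.isCyclic_of_comm_of_atMostOne (p := p) (hG.to_subgroup N)
  · have key : ∀ H : Subgroup N, Nat.card H = p → H = (Subgroup.zpowers z).comap N.subtype := by
      intro H hH
      apply Subgroup.eq_of_le_of_card_ge
      · intro h hh
        rw [Subgroup.mem_comap]
        apply hno _ h.2
        have h1 : (⟨h, hh⟩ : H) ^ p = 1 := by
          rw [← hH]; exact pow_card_eq_one'
        have h2 := congrArg (fun t : H => ((t : N) : G)) h1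
        simpa using h2
      · rw [hH]
        have h1 : Nat.card ((Subgroup.zpowers z).comap N.subtype) ∣ Nat.card (Subgroup.zpowers z) :=
          Subgroup.card_comap_dvd_of_injective _ _ N.subtype_injective
        have h2 : Nat.card (Subgroup.zpowers z) ∣ p := by
          rw [Nat.card_zpowers]; exact orderOf_dvd_of_pow_eq_one hzp
        exact Nat.le_of_dvd (Fact.out : p.Prime).pos (h1.trans h2)
    intro H K hH hK
    rw [key H hH, key K hK]
  · intro a b
    exact Subtype.ext (hA a a.2 b b.2)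

theorem exists_normal_pair [Finite G] {p : ℕ} [Fact p.Prime] (hG : IsPGroup p G) (N : Subgroup G)
    (hN : N.Normal) (hNc : IsMulCommutative N) (hNnc : ¬ IsCyclic N) :
    ∃ a z : G, z ∈ Subgroup.center G ∧ z ≠ 1 ∧ z ^ p = 1 ∧ a ^ p = 1 ∧ a ∉ Subgroup.zpowers z ∧
      ∀ g : G, ∃ k : ℕ, g * a * g⁻¹ = a * z ^ k := by
  have hp : p.Prime := Fact.out
  have hA : ∀ x ∈ N, ∀ y ∈ N, x * y = y * x := by
    intro x hx y hy
    have := hNc.is_comm.comm (⟨x, hx⟩ : N) ⟨y, hy⟩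
    exact congrArg Subtype.val this
  set Ω := npOmega p N hA with hΩ
  have hΩn : Ω.Normal := npOmega_normal p N hA hN
  have hΩne : Ω ≠ ⊥ := by
    intro h
    obtain ⟨x, hxN, hxp, hx1⟩ := np_exists_not_mem hG N hA hNnc 1 (one_pow p)
    have : x ∈ Ω := ⟨hxN, hxp⟩
    rw [h, Subgroup.mem_bot] at this
    exact hx1 (by rw [this]; exact Subgroup.one_mem _)
  obtain ⟨z, hzΩ, hz1, hzc⟩ := Cfsg.Agent.Lib.H16.exists_ne_one_mem_center_of_normal' hp hG Ω hΩne
  have hzp : z ^ p = 1 := hzΩ.2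
  obtain ⟨w, hwN, hwp, hwz⟩ := np_exists_not_mem hG N hA hNnc z hzp
  have hwΩ : w ∈ Ω := ⟨hwN, hwp⟩
  set Z := Subgroup.zpowers z with hZ
  have hZn : Z.Normal := by
    constructor
    intro n hn g
    obtain ⟨i, rfl⟩ := Subgroup.mem_zpowers_iff.mp hn
    have hc : g * z ^ i = z ^ i * g := by
      have := Subgroup.mem_center_iff.mp (Subgroup.zpow_mem _ hzc i) g
      exact this
    rw [hc, mul_inv_cancel_right]
    exact Subgroup.zpow_mem_zpowers z i
  -- pass to the quotient by Z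
  set π := QuotientGroup.mk' Z with hπ
  have hQ : IsPGroup p (G ⧸ Z) := hG.to_quotient Z
  have hNn : (Ω.map π).Normal := Subgroup.Normal.map hΩn π (QuotientGroup.mk'_surjective Z)
  have hNne : Ω.map π ≠ ⊥ := by
    intro h
    have : π w ∈ Ω.map π := Subgroup.mem_map_of_mem π hwΩ
    rw [h, Subgroup.mem_bot] at this
    exact hwz ((QuotientGroup.eq_one_iff w).mp this)
  obtain ⟨ub, hubN, hub1, hubc⟩ :=
    Cfsg.Agent.Lib.H16.exists_ne_one_mem_center_of_normal' hp hQ (Ω.map π) hNne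
  obtain ⟨u, huΩ, rfl⟩ := Subgroup.mem_map.mp hubN
  have huZ : u ∉ Z := fun h => hub1 ((QuotientGroup.eq_one_iff u).mpr h)
  refine ⟨u, z, hzc, hz1, hzp, huΩ.2, huZ, ?_⟩
  intro s
  have hcomm : π s * π u = π u * π s := Subgroup.mem_center_iff.mp hubc (π s)
  have hmem : s * u * s⁻¹ * u⁻¹ ∈ Z := by
    rw [← QuotientGroup.eq_one_iff]
    show π (s * u * s⁻¹ * u⁻¹) = 1
    rw [map_mul, map_mul, map_mul, map_inv, map_inv, hcomm, mul_inv_cancel_right, mul_inv_cancel]
  rw [hZ, ← mem_powers_iff_mem_zpowers] at hmem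
  obtain ⟨k, hk⟩ := (Submonoid.mem_powers_iff _ _).mp hmem
  refine ⟨k, ?_⟩
  have h1 : s * u * s⁻¹ = z ^ k * u := by
    rw [hk]; group
  rw [h1]
  exact (Subgroup.mem_center_iff.mp (Subgroup.pow_mem _ hzc k) u).symm
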