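import Mathlib

set_option autoImplicit false

namespace Cfsg.Agent.Lib.H20

/-- An element `s` with `s² = 1` normalizing a nontrivial `p`-subgroup `B` centralizes or inverts
some element of order `p` in `B`. -/
theorem exists_fixed_or_inverted {A : Type*} [Group A] [Finite A] (p : ℕ) [Fact p.Prime]
    (B : Subgroup A) (hB : IsPGroup p B) (hB1 : B ≠ ⊥) (s : A) (hs : s * s = 1)
    (hsB : ∀ b ∈ B, s * b * s⁻¹ ∈ B) :
    ∃ a ∈ B, orderOf a = p ∧ (s * a * s⁻¹ = a ∨ s * a * s⁻¹ = a⁻¹) := by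
  classical
  have hp : p.Prime := Fact.out
  have hsinv : s⁻¹ = s := inv_eq_of_mul_eq_one_left hs
  by_cases hcase : ∃ r ∈ B, r ≠ 1 ∧ s * r * s⁻¹ = r
  · obtain ⟨r, hrB, hr1, hsr⟩ := hcase
    obtain ⟨k, hk⟩ := (IsPGroup.iff_orderOf.mp hB) ⟨r, hrB⟩
    rw [Subgroup.orderOf_mk] at hk
    have hk0 : k ≠ 0 := by
      intro h0
      rw [h0, pow_zero, orderOf_eq_one_iff] at hk
      exact hr1 hk
    have hpd : p ∣ orderOf r := by rw [hk]; exact dvd_pow_self p hk0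
    refine ⟨r ^ (orderOf r / p), B.pow_mem hrB _, orderOf_pow_orderOf_div (orderOf_pos r).ne' hpd,
      Or.inl ?_⟩
    have e1 : s * r ^ (orderOf r / p) * s⁻¹ = MulAut.conj s (r ^ (orderOf r / p)) := by
      simp [MulAut.conj_apply]
    have e2 : s * r * s⁻¹ = MulAut.conj s r := by simp [MulAut.conj_apply]
    rw [e1, map_pow, ← e2, hsr]
  · push Not at hcase
    -- the map b ↦ s b s⁻¹ b⁻¹ on B is injective hence surjective
    let f : B → B := fun b => ⟨s * b.1 * s⁻¹ * b.1⁻¹, B.mul_mem (hsB b.1 b.2) (B.inv_mem b.2)⟩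
    have hinj : Function.Injective f := by
      intro b c hbc
      have h1 : s * b.1 * s⁻¹ * b.1⁻¹ = s * c.1 * s⁻¹ * c.1⁻¹ := congrArg Subtype.val hbc
      have h2 : s * (c.1⁻¹ * b.1) * s⁻¹ = c.1⁻¹ * b.1 := by
        calc s * (c.1⁻¹ * b.1) * s⁻¹ = (s * c.1 * s⁻¹)⁻¹ * ((s * b.1 * s⁻¹ * b.1⁻¹) * b.1) := by group
          _ = (s * c.1 * s⁻¹)⁻¹ * ((s * c.1 * s⁻¹ * c.1⁻¹) * b.1) := by rw [h1]
          _ = c.1⁻¹ * b.1 := by group
      have h3 : c.1⁻¹ * b.1 = 1 := by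
        by_contra hne
        exact hne (by
          have := hcase (c.1⁻¹ * b.1) (B.mul_mem (B.inv_mem c.2) b.2) hne
          exact absurd h2 this)
      apply Subtype.ext
      exact (inv_mul_eq_one.mp h3).symm
    have hsurj : Function.Surjective f := Finite.injective_iff_surjective.mp hinj
    have hpB : p ∣ Nat.card B := by
      obtain ⟨j, hj0, hj⟩ := (IsPGroup.nontrivial_iff_card hB).mp
        ((Subgroup.nontrivial_iff_ne_bot B).mpr hB1)
      rw [hj]; exact dvd_pow_self p hj0.ne'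
    obtain ⟨a, ha⟩ := exists_prime_orderOf_dvd_card' (G := B) p hpB
    obtain ⟨b, hb⟩ := hsurj a
    have hab : s * b.1 * s⁻¹ * b.1⁻¹ = a.1 := congrArg Subtype.val hb
    refine ⟨a.1, a.2, by rw [Subgroup.orderOf_coe]; exact ha, Or.inr ?_⟩
    rw [← hab, hsinv]
    have h5 : s * (s * b.1 * s * b.1⁻¹) * s = (s * s) * b.1 * s * b.1⁻¹ * s := by group
    have h6 : (s * b.1 * s * b.1⁻¹)⁻¹ = b.1 * s⁻¹ * b.1⁻¹ * s⁻¹ := by group
    rw [h5, h6, hs, hsinv, one_mul]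

end Cfsg.Agent.Lib.H20
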