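import Cfsg.Agent.Lib.H20.ConjClass

set_option autoImplicit false

namespace Cfsg.Agent.Lib.H20

theorem isConj_inv_inv {G : Type*} [Group G] {x y : G} (h : IsConj x y) : IsConj x⁻¹ y⁻¹ := by
  rw [isConj_iff] at h ⊢
  obtain ⟨c, hc⟩ := h
  exact ⟨c, by rw [← hc]; group⟩

/-- an involution on a finite set of odd size has a fixed point -/
theorem exists_fixed_of_involutive_of_odd {α : Type*} [Finite α] (f : α → α) (hf : ∀ a, f (f a) = a)
    (hodd : ¬ 2 ∣ Nat.card α) : ∃ a, f a = a := by
  classical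
  let _i : Fintype α := Fintype.ofFinite α
  let σ : Equiv.Perm α := ⟨f, f, hf, hf⟩
  have : Fact (Nat.Prime 2) := ⟨Nat.prime_two⟩
  have hσ : σ ^ 2 ^ 1 = 1 := by
    ext a
    simp [pow_two, σ, hf]
  have h2 : ¬ 2 ∣ Fintype.card α := by rwa [← Nat.card_eq_fintype_card]
  exact Equiv.Perm.exists_fixed_point_of_prime h2 hσ

/-- A real element (conjugate to its inverse) whose class has odd size is an involution or trivial. -/
theorem sq_eq_one_of_real_of_odd_class {G : Type*} [Group G] [Finite G] {x : G}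
    (hreal : IsConj x x⁻¹) (hodd : ¬ 2 ∣ (Subgroup.centralizer ({x} : Set G)).index) : x ^ 2 = 1 := by
  rw [index_centralizer_eq_ncard_conj, ← Nat.card_coe_set_eq] at hodd
  let f : {y : G | IsConj x y} → {y : G | IsConj x y} := fun y =>
    ⟨(y : G)⁻¹, hreal.trans (isConj_inv_inv y.2)⟩
  have hf : ∀ a, f (f a) = a := by
    intro a
    apply Subtype.ext
    simp [f]
  obtain ⟨⟨y, hy⟩, hfix⟩ := exists_fixed_of_involutive_of_odd f hf hodd
  have hyy : y⁻¹ = y := congrArg Subtype.val hfix
  have hy2 : y ^ 2 = 1 := by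
    rw [pow_two]
    nth_rw 1 [← hyy]
    exact inv_mul_cancel y
  obtain ⟨c, hc⟩ := isConj_iff.mp hy
  have hxc : x = c⁻¹ * y * c := by rw [← hc]; group
  rw [hxc]
  have : (c⁻¹ * y * c) ^ 2 = c⁻¹ * y ^ 2 * c := by rw [pow_two, pow_two]; group
  rw [this, hy2]; group

/-- A real element centralizing a Sylow 2-subgroup squares to one. -/
theorem sq_eq_one_of_real_of_mem_centralizer_sylow {G : Type*} [Group G] [Finite G] (S : Sylow 2 G)
    {x : G} (hx : x ∈ Subgroup.centralizer ((S : Subgroup G) : Set G)) (hreal : IsConj x x⁻¹) :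
    x ^ 2 = 1 := by
  have : Fact (Nat.Prime 2) := ⟨Nat.prime_two⟩
  have hle : (S : Subgroup G) ≤ Subgroup.centralizer ({x} : Set G) := by
    intro s hs
    rw [Subgroup.mem_centralizer_iff]
    intro y hy
    rw [Set.mem_singleton_iff] at hy
    subst hy
    rw [Subgroup.mem_centralizer_iff] at hx
    exact (hx s hs).symm
  have hdvd : (Subgroup.centralizer ({x} : Set G)).index ∣ (S : Subgroup G).index :=
    Subgroup.index_dvd_of_le hle
  apply sq_eq_one_of_real_of_odd_class hreal
  intro h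
  exact S.not_dvd_index (h.trans hdvd)

end Cfsg.Agent.Lib.H20
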