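import Mathlib
import Cfsg.Agent.Lib.H20.Real

set_option autoImplicit false

namespace Cfsg.Agent.Lib.H20

open scoped Pointwise

/-- An element `s` with `s² = 1` acting fixed-point-freely on a finite subgroup `B` inverts it. -/
theorem inverts_of_fpf {A : Type*} [Group A] [Finite A] (B : Subgroup A) (s : A) (hs : s * s = 1)
    (hsB : ∀ b ∈ B, s * b * s⁻¹ ∈ B) (hfpf : ∀ r ∈ B, s * r * s⁻¹ = r → r = 1) :
    ∀ a ∈ B, s * a * s⁻¹ = a⁻¹ := by
  have hsinv : s⁻¹ = s := inv_eq_of_mul_eq_one_left hs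
  let f : B → B := fun b => ⟨s * b.1 * s⁻¹ * b.1⁻¹, B.mul_mem (hsB b.1 b.2) (B.inv_mem b.2)⟩
  have hinj : Function.Injective f := by
    intro b c hbc
    have h1 : s * b.1 * s⁻¹ * b.1⁻¹ = s * c.1 * s⁻¹ * c.1⁻¹ := congrArg Subtype.val hbc
    have h2 : s * (c.1⁻¹ * b.1) * s⁻¹ = c.1⁻¹ * b.1 := by
      calc s * (c.1⁻¹ * b.1) * s⁻¹ = (s * c.1 * s⁻¹)⁻¹ * ((s * b.1 * s⁻¹ * b.1⁻¹) * b.1) := by group
        _ = (s * c.1 * s⁻¹)⁻¹ * ((s * c.1 * s⁻¹ * c.1⁻¹) * b.1) := by rw [h1]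
        _ = c.1⁻¹ * b.1 := by group
    have h3 : c.1⁻¹ * b.1 = 1 := hfpf _ (B.mul_mem (B.inv_mem c.2) b.2) h2
    apply Subtype.ext
    exact (inv_mul_eq_one.mp h3).symm
  have hsurj : Function.Surjective f := Finite.injective_iff_surjective.mp hinj
  intro a ha
  obtain ⟨b, hb⟩ := hsurj ⟨a, ha⟩
  have hab : s * b.1 * s⁻¹ * b.1⁻¹ = a := congrArg Subtype.val hb
  rw [← hab, hsinv]
  have h5 : s * (s * b.1 * s * b.1⁻¹) * s = (s * s) * b.1 * s * b.1⁻¹ * s := by group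
  have h6 : (s * b.1 * s * b.1⁻¹)⁻¹ = b.1 * s⁻¹ * b.1⁻¹ * s⁻¹ := by group
  rw [h5, h6, hs, hsinv, one_mul]

/-- An element `y` with `y² = 1` normalizing a subgroup `D` of odd order normalizes some Sylow
`p`-subgroup of `D`. -/
theorem exists_invariant_sylow_of_odd {G : Type*} [Group G] [Finite G] (p : ℕ) [Fact p.Prime]
    (D : Subgroup G) (hD : ¬ 2 ∣ Nat.card D) (y : G) (hy : y * y = 1)
    (hyD : y ∈ Subgroup.normalizer (D : Set G)) :
    ∃ T : Sylow p D, y ∈ Subgroup.normalizer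
      (((T : Subgroup D).map D.subtype : Subgroup G) : Set G) := by
  let ψ : MulAut D := D.normalizerMonoidHom ⟨y, hyD⟩
  have hψ : ψ * ψ = 1 := by
    have : (⟨y, hyD⟩ : Subgroup.normalizer (D : Set G)) * ⟨y, hyD⟩ = 1 := Subtype.ext hy
    rw [← map_mul, this, map_one]
  have hψval : ∀ t : D, ((ψ t : D) : G) = y * t * y⁻¹ := fun t => rfl
  let f : Sylow p D → Sylow p D := fun T => ψ • T
  have hf : ∀ T, f (f T) = T := by
    intro T
    change ψ • ψ • T = T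
    rw [← mul_smul, hψ, one_smul]
  have hodd : ¬ 2 ∣ Nat.card (Sylow p D) := by
    intro h
    obtain ⟨T₀⟩ : Nonempty (Sylow p D) := inferInstance
    exact hD (h.trans ((T₀.card_dvd_index).trans (Subgroup.index_dvd_card _)))
  obtain ⟨T, hT⟩ := exists_fixed_of_involutive_of_odd f hf hodd
  refine ⟨T, ?_⟩
  apply Subgroup.mem_normalizer_fintype
  rintro _ ⟨t, ht, rfl⟩
  have h1 : ψ • t ∈ ψ • (T : Subgroup D) := Subgroup.smul_mem_pointwise_smul t ψ _ ht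
  have h2 : ψ • (T : Subgroup D) = ((ψ • T : Sylow p D) : Subgroup D) := rfl
  have h3 : (ψ • T : Sylow p D) = T := hT
  rw [h2, h3] at h1
  refine ⟨ψ • t, h1, ?_⟩
  exact hψval t

end Cfsg.Agent.Lib.H20
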