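import Mathlib
import Cfsg.Agent.Lib.H3.J3Main3
import Cfsg.Agent.Lib.H3.J3TransportU
import Cfsg.Prelude.Def_KGroupFacts

set_option autoImplicit false

/-!
# S2041 piece X1 (helper20): `3·J₃` is perfect; the existence half of `M(J₃) = C₃` and the transport of the upper
bound from the concrete group (data independent)
-/

namespace Cfsg.Agent.Lib.H20.J3S

open Cfsg.Agent.Lib.H3.J3 (TJ)

universe u v w

/-- a finite simple group of order divisible by four is perfect -/
theorem perfect_of_simple {Q : Type*} [Group Q] [Finite Q] [IsSimpleGroup Q] (h4 : 4 ∣ Nat.card Q) :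
    commutator Q = ⊤ := by
  have : Fact (Nat.Prime 2) := ⟨Nat.prime_two⟩
  have hcard2 : Nat.card Q ≠ 2 := by
    intro h
    rw [h] at h4
    omega
  rcases (inferInstance : (commutator Q).Normal).eq_bot_or_eq_top with h | h
  · exfalso
    have hcen : Subgroup.center Q = ⊤ := (commutator_eq_bot_iff_center_eq_top Q).mp h
    have h2 : 2 ∣ Nat.card Q := dvd_trans (by norm_num) h4
    obtain ⟨t, ht⟩ := exists_prime_orderOf_dvd_card' 2 h2
    have hN : (Subgroup.zpowers t).Normal := by
      constructor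
      intro n hn g
      have : n ∈ Subgroup.center Q := by rw [hcen]; exact Subgroup.mem_top _
      rw [Subgroup.mem_center_iff] at this
      rw [this g, mul_inv_cancel_right]
      exact hn
    rcases hN.eq_bot_or_eq_top with h' | h'
    · rw [Subgroup.zpowers_eq_bot] at h'
      rw [h', orderOf_one] at ht
      omega
    · have := Nat.card_zpowers t
      rw [h', Subgroup.card_top, ht] at this
      exact hcard2 this
  · exact h

/-- a group with perfect central quotient, centre of order three and generated by elements of order `19` is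
perfect -/
theorem perfect_of_gen19 {T : Type*} [Group T] (hQ : commutator (T ⧸ Subgroup.center T) = ⊤)
    (hZ : Nat.card (Subgroup.center T) = 3) (hgen : Subgroup.closure {x : T | x ^ 19 = 1} = ⊤) :
    commutator T = ⊤ := by
  rw [eq_top_iff, ← hgen, Subgroup.closure_le]
  intro x hx
  have hx19 : x ^ 19 = 1 := hx
  have h1 : (QuotientGroup.mk' (Subgroup.center T)) x ∈
      (commutator T).map (QuotientGroup.mk' (Subgroup.center T)) := by
    rw [commutator_def, Subgroup.map_commutator, ← MonoidHom.range_eq_map,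
      MonoidHom.range_eq_top.mpr (QuotientGroup.mk'_surjective _), ← commutator_def, hQ]
    trivial
  obtain ⟨c, hc, hcx⟩ := h1
  have hz : c⁻¹ * x ∈ Subgroup.center T := by
    rw [← QuotientGroup.eq]
    exact hcx
  have hz3 : (c⁻¹ * x) ^ 3 = 1 := by
    have h := pow_card_eq_one' (G := Subgroup.center T) (x := ⟨c⁻¹ * x, hz⟩)
    rw [hZ] at h
    exact congrArg Subtype.val h
  have hcomm : Commute c (c⁻¹ * x) := Subgroup.mem_center_iff.mp hz c
  have hx3 : x ^ 3 = c ^ 3 := by
    have e : x = c * (c⁻¹ * x) := by group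
    calc x ^ 3 = (c * (c⁻¹ * x)) ^ 3 := by rw [← e]
      _ = c ^ 3 * (c⁻¹ * x) ^ 3 := hcomm.mul_pow 3
      _ = c ^ 3 := by rw [hz3, mul_one]
  have hx39 : x = (x ^ 3) ^ 13 := by
    rw [← pow_mul]
    have : x ^ (3 * 13) = (x ^ 19) ^ 2 * x := by rw [← pow_mul, ← pow_succ]
    rw [this, hx19, one_pow, one_mul]
  show x ∈ commutator T
  rw [hx39, hx3]
  exact Subgroup.pow_mem _ (Subgroup.pow_mem _ hc _) _

/-- the image of the commutator subgroup under an isomorphism -/
theorem commutator_eq_top_congr {T : Type*} {Γ : Type*} [Group T] [Group Γ] (e : T ≃* Γ)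
    (hT : commutator T = ⊤) : commutator Γ = ⊤ := by
  have h := Subgroup.map_commutator (⊤ : Subgroup T) ⊤ e.toMonoidHom
  rw [← commutator_def, hT, ← MonoidHom.range_eq_map, MonoidHom.range_eq_top.mpr e.surjective,
    ← commutator_def] at h
  exact h.symm

/-- a perfect group with centre of order three is a stem extension of its central quotient with kernel `C₃` -/
theorem exists_cover_of_perfect {Γ : Type u} [Group Γ] [Finite Γ] (hΓ : commutator Γ = ⊤)
    (hZ : Nat.card (Subgroup.center Γ) = 3) :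
    ∃ (Γ' : Type u) (_ : Group Γ') (_ : Finite Γ') (σ : Γ' →* Γ ⧸ Subgroup.center Γ),
      Cfsg.IsStemExtension σ ∧ Nonempty (σ.ker ≃* Multiplicative (ZMod 3)) := by
  refine ⟨Γ, inferInstance, inferInstance, QuotientGroup.mk' (Subgroup.center Γ),
    ⟨QuotientGroup.mk'_surjective _, ?_, ?_⟩, ?_⟩
  · rw [QuotientGroup.ker_mk']
  · rw [hΓ]; exact le_top
  · have : Fact (Nat.Prime 3) := ⟨Nat.prime_three⟩
    have h1 : Nat.card (QuotientGroup.mk' (Subgroup.center Γ)).ker = 3 := by
      rw [QuotientGroup.ker_mk']; exact hZ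
    have h2 : Nat.card (Multiplicative (ZMod 3)) = 3 := by
      rw [Nat.card_eq_fintype_card, Fintype.card_multiplicative, ZMod.card]
    exact ⟨mulEquivOfPrimeCardEq h1 h2⟩

/-- a group generated by an element of order dividing three is an image of `ZMod 3` -/
theorem exists_surj_zmod3 {K : Type*} [Group K] (z : K) (h3 : z ^ 3 = 1) (hgen : ∀ y : K, y ∈ Subgroup.zpowers z) :
    ∃ f : Multiplicative (ZMod 3) →* K, Function.Surjective f := by
  let f : Multiplicative (ZMod 3) →* K :=
    { toFun := fun m => z ^ (Multiplicative.toAdd m).val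
      map_one' := by simp
      map_mul' := by
        intro a b
        change z ^ (Multiplicative.toAdd a + Multiplicative.toAdd b).val = _
        rw [ZMod.val_add, ← pow_eq_pow_mod _ h3, pow_add] }
  refine ⟨f, ?_⟩
  intro y
  have hfo : IsOfFinOrder z := isOfFinOrder_iff_pow_eq_one.2 ⟨3, by norm_num, h3⟩
  obtain ⟨n, rfl⟩ := (IsOfFinOrder.mem_powers_iff_mem_zpowers hfo).2 (hgen y)
  refine ⟨Multiplicative.ofAdd (n : ZMod 3), ?_⟩
  change z ^ ((n : ZMod 3)).val = z ^ n
  rw [ZMod.val_natCast, ← pow_eq_pow_mod _ h3]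

/-- transport of the upper bound along an isomorphism of the base groups -/
theorem upper_transport_of_equiv {Q : Type v} {Q' : Type w} [Group Q] [Group Q'] (ē : Q' ≃* Q)
    (hup : ∀ (Γ : Type u) [Group Γ] [Finite Γ] (σ : Γ →* Q),
      Cfsg.IsStemExtension σ → ∃ z : Γ, z ^ 3 = 1 ∧ σ.ker = Subgroup.zpowers z) :
    ∀ (Γ : Type u) [Group Γ] [Finite Γ] (σ : Γ →* Q'), Cfsg.IsStemExtension σ →
      ∃ π : Multiplicative (ZMod 3) →* σ.ker, Function.Surjective π := by
  intro Γ _ _ σ hσ
  have hker : (ē.toMonoidHom.comp σ).ker = σ.ker := by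
    ext g
    rw [MonoidHom.mem_ker, MonoidHom.mem_ker, MonoidHom.comp_apply]
    exact EmbeddingLike.map_eq_one_iff (f := ē)
  have hstem : Cfsg.IsStemExtension (ē.toMonoidHom.comp σ) := by
    refine ⟨ē.surjective.comp hσ.1, ?_, ?_⟩
    · rw [hker]; exact hσ.2.1
    · rw [hker]; exact hσ.2.2
  obtain ⟨z, hz3, hzk⟩ := hup Γ (ē.toMonoidHom.comp σ) hstem
  rw [hker] at hzk
  have hzmem : z ∈ σ.ker := by rw [hzk]; exact Subgroup.mem_zpowers z
  refine exists_surj_zmod3 (K := σ.ker) ⟨z, hzmem⟩ (Subtype.ext (by simpa using hz3)) ?_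
  intro y
  have hy : (y : Γ) ∈ Subgroup.zpowers z := by rw [← hzk]; exact y.2
  obtain ⟨n, hn⟩ := Subgroup.mem_zpowers_iff.mp hy
  exact Subgroup.mem_zpowers_iff.mpr ⟨n, Subtype.ext (by simpa using hn)⟩

/-- X1a: `3·J₃` (concrete) is perfect. -/
theorem TJ_perfect : commutator TJ = ⊤ := by
  haveI := Cfsg.Agent.Lib.H3.J3.simple_quot
  have h4 : 4 ∣ Nat.card (TJ ⧸ Subgroup.center TJ) := by
    rw [Cfsg.Agent.Lib.H3.J3.card_quot]; norm_num
  exact perfect_of_gen19 (perfect_of_simple h4) Cfsg.Agent.Lib.H3.J3.card_center Cfsg.Agent.Lib.H3.J3.gen19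

/-- X1b: the existence half, over any field with four elements (any universe). -/
theorem exists_cover {F : Type u} [Field F] [Fintype F] (hF : Fintype.card F = 4) (ω : F)
    (hω : ω ^ 2 + ω + 1 = 0) :
    ∃ (Γ : Type u) (_ : Group Γ) (_ : Finite Γ) (σ : Γ →* Cfsg.Spor.J3 F ω),
      Cfsg.IsStemExtension σ ∧ Nonempty (σ.ker ≃* Multiplicative (ZMod 3)) := by
  have e := Cfsg.Agent.Lib.H3.J3TU.equivConcrete F hF ω hω
  haveI : Finite (Cfsg.Spor.threeJ3 F ω) := Finite.of_equiv _ e.toEquiv
  exact exists_cover_of_perfect (commutator_eq_top_congr e TJ_perfect)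
    (by rw [← Cfsg.Agent.Lib.H3.CenterIso.card_center_congr e]; exact Cfsg.Agent.Lib.H3.J3.card_center)

/-- X1c: transport of the upper bound from the concrete group. -/
theorem upper_transport {F : Type u} [Field F] [Fintype F] (hF : Fintype.card F = 4) (ω : F)
    (hω : ω ^ 2 + ω + 1 = 0)
    (hup : ∀ (Γ : Type u) [Group Γ] [Finite Γ] (σ : Γ →* (TJ ⧸ Subgroup.center TJ)),
      Cfsg.IsStemExtension σ → ∃ z : Γ, z ^ 3 = 1 ∧ σ.ker = Subgroup.zpowers z) :
    ∀ (Γ : Type u) [Group Γ] [Finite Γ] (σ : Γ →* Cfsg.Spor.J3 F ω), Cfsg.IsStemExtension σ →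
      ∃ π : Multiplicative (ZMod 3) →* σ.ker, Function.Surjective π :=
  upper_transport_of_equiv
    (Cfsg.Agent.Lib.H3.CenterIso.quotCenterCongr (Cfsg.Agent.Lib.H3.J3TU.equivConcrete F hF ω hω)).symm hup

/-- X1d: the statement from the upper bound for the concrete group. -/
theorem main_of_upper {F : Type u} [Field F] [Fintype F] (hF : Fintype.card F = 4) (ω : F)
    (hω : ω ^ 2 + ω + 1 = 0)
    (hup : ∀ (Γ : Type u) [Group Γ] [Finite Γ] (σ : Γ →* (TJ ⧸ Subgroup.center TJ)),
      Cfsg.IsStemExtension σ → ∃ z : Γ, z ^ 3 = 1 ∧ σ.ker = Subgroup.zpowers z) :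
    Cfsg.HasCyclicSchurMultiplier (Cfsg.Spor.J3 F ω) 3 :=
  ⟨exists_cover hF ω hω, upper_transport hF ω hω hup⟩

end Cfsg.Agent.Lib.H20.J3S
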