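import Cfsg.Agent.Lib.H20.KGVDefs
import Cfsg.Agent.Lib.H23.LatK

/-!
# S4958 piece KEY: the lattice lemma in the `Good` form, from helper23's `lattice_lemma_fun`.
-/

set_option autoImplicit false

namespace Cfsg.Agent.Lib.H20.KGV

open scoped ComplexConjugate
open Classical

universe u

theorem good_of_subgroups {H : Type u} [CommGroup H] [Fintype H] (r : ℕ) (C : Fin r → Subgroup H)
    (w : Fin r → ℝ) (hw : ∀ i, ((C i).index : ℝ) + 1 ≤ w i) (hC : ⨅ i, C i = ⊥) :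
    Good (fun h => ∏ i, if h ∈ C i then 1 else w i) ((Fintype.card H : ℝ) ^ 2) := by
  intro f hf hne
  have hint : ∀ l : H →* ℂˣ, ∃ n : ℤ, ∑ h, f h * (starRingEnd ℂ) ((l h : ℂˣ) : ℂ) =
      (Fintype.card H : ℂ) * (n : ℂ) := by
    intro l
    obtain ⟨n, hn⟩ := hf l
    refine ⟨n, ?_⟩
    rw [← hn, coeff_eq, ← mul_assoc, mul_inv_cancel₀ card_ne_zero, one_mul]
  have h1 := Cfsg.Agent.Lib.H23.LatK.lattice_lemma_fun C w hw hC f hne hint
  refine h1.trans (le_of_eq ?_)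
  refine Finset.sum_congr rfl fun h _ => ?_
  rw [Complex.normSq_eq_norm_sq]

end Cfsg.Agent.Lib.H20.KGV
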