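import Cfsg.Agent.Lib.L0.BGSC2

/-!
# S4958 piece MOD: Maschke decomposition of `V` under an abelian `p'`-group `H` (twin).
-/

set_option autoImplicit false

namespace Cfsg.Agent.Lib.H20.KGV

open Classical

section prod

variable {X : Type*} [Group X]

/-- the product map `A × B → X` for elementwise commuting subgroups -/
noncomputable def prodHom (A B : Subgroup X) (hcomm : ∀ a ∈ A, ∀ b ∈ B, a * b = b * a) :
    ↥A × ↥B →* X :=
  MonoidHom.noncommCoprod A.subtype B.subtype
    (fun a b => (show Commute (A.subtype a) (B.subtype b) from hcomm a a.2 b b.2))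

theorem prodHom_apply (A B : Subgroup X) (hcomm : ∀ a ∈ A, ∀ b ∈ B, a * b = b * a)
    (x : ↥A × ↥B) : prodHom A B hcomm x = (x.1 : X) * (x.2 : X) :=
  MonoidHom.noncommCoprod_apply _ _ _ x

theorem prodHom_range (A B : Subgroup X) (hcomm : ∀ a ∈ A, ∀ b ∈ B, a * b = b * a) :
    (prodHom A B hcomm).range = A ⊔ B := by
  unfold prodHom
  rw [MonoidHom.noncommCoprod_range, Subgroup.range_subtype, Subgroup.range_subtype]

theorem eq_of_mul_eq_mul {A B : Subgroup X} (hdisj : A ⊓ B = ⊥) {b b' c c' : X}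
    (hb : b ∈ A) (hb' : b' ∈ A) (hc : c ∈ B) (hc' : c' ∈ B) (h : b * c = b' * c') :
    b = b' ∧ c = c' := by
  have h1 : b'⁻¹ * b = c' * c⁻¹ := by
    have : b'⁻¹ * (b * c) * c⁻¹ = b'⁻¹ * (b' * c') * c⁻¹ := by rw [h]
    calc b'⁻¹ * b = b'⁻¹ * (b * c) * c⁻¹ := by group
      _ = b'⁻¹ * (b' * c') * c⁻¹ := this
      _ = c' * c⁻¹ := by group
  have h2 : b'⁻¹ * b ∈ A ⊓ B :=
    ⟨A.mul_mem (A.inv_mem hb') hb, h1 ▸ B.mul_mem hc' (B.inv_mem hc)⟩
  rw [hdisj, Subgroup.mem_bot] at h2
  have h3 : b = b' := by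
    have := inv_mul_eq_one.mp h2
    exact this.symm
  refine ⟨h3, ?_⟩
  rw [h3] at h
  exact mul_left_cancel h

theorem prodHom_injective (A B : Subgroup X) (hcomm : ∀ a ∈ A, ∀ b ∈ B, a * b = b * a)
    (hdisj : A ⊓ B = ⊥) : Function.Injective (prodHom A B hcomm) := by
  intro x y hxy
  rw [prodHom_apply, prodHom_apply] at hxy
  obtain ⟨h1, h2⟩ := eq_of_mul_eq_mul hdisj x.1.2 y.1.2 x.2.2 y.2.2 hxy
  exact Prod.ext (Subtype.ext h1) (Subtype.ext h2)

theorem card_sup_of_commute (A B : Subgroup X) (hcomm : ∀ a ∈ A, ∀ b ∈ B, a * b = b * a)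
    (hdisj : A ⊓ B = ⊥) : Nat.card ↥(A ⊔ B) = Nat.card ↥A * Nat.card ↥B := by
  rw [← prodHom_range A B hcomm, ← Nat.card_prod]
  exact (Nat.card_congr (MonoidHom.ofInjective (prodHom_injective A B hcomm hdisj)).toEquiv).symm

theorem exists_mul_of_mem_sup (A B : Subgroup X) (hcomm : ∀ a ∈ A, ∀ b ∈ B, a * b = b * a)
    {a : X} (ha : a ∈ A ⊔ B) : ∃ b ∈ A, ∃ c ∈ B, a = b * c := by
  rw [← prodHom_range A B hcomm] at ha
  obtain ⟨x, hx⟩ := ha
  exact ⟨x.1, x.1.2, x.2, x.2.2, by rw [← hx, prodHom_apply]⟩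

end prod

theorem exists_family {X : Type*} [Group X] [Finite X] (p : ℕ) [Fact p.Prime] (H : Subgroup X)
    (hHab : ∀ a ∈ H, ∀ b ∈ H, a * b = b * a) (hHp : (Nat.card H).Coprime p)
    (V : Subgroup X) (hVab : ∀ a ∈ V, ∀ b ∈ V, a * b = b * a) (hVp : ∀ a ∈ V, a ^ p = 1)
    (hHV : ∀ h ∈ H, ∀ a ∈ V, h * a * h⁻¹ ∈ V) :
    ∃ (r : ℕ) (D : Fin r → Subgroup X) (w : Fin r → ℕ),
      (∀ i, (D i).relIndex H + 1 ≤ w i) ∧
      (∀ h ∈ H, (∀ i, h ∈ D i) → ∀ a ∈ V, h * a = a * h) ∧
      (∀ h ∈ H, Nat.card V =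
        Nat.card ↥(V ⊓ Subgroup.centralizer ({h} : Set X)) * ∏ i, if h ∈ D i then 1 else w i) := by
  induction' hn : Nat.card V using Nat.strong_induction_on with n ih generalizing V
  by_cases hVbot : V = ⊥
  · refine ⟨0, Fin.elim0, Fin.elim0, fun i => i.elim0, ?_, ?_⟩
    · intro h _ _ a ha
      rw [hVbot, Subgroup.mem_bot] at ha
      rw [ha, mul_one, one_mul]
    · intro h _
      have h1 : V ⊓ Subgroup.centralizer ({h} : Set X) = ⊥ := by rw [hVbot, bot_inf_eq]
      rw [← hn, h1, hVbot]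
      simp
  -- a minimal invariant subgroup
  let S : Set (Subgroup X) := {W | W ≤ V ∧ W ≠ ⊥ ∧ ∀ h ∈ H, ∀ a ∈ W, h * a * h⁻¹ ∈ W}
  have hSne : S.Nonempty := ⟨V, le_refl V, hVbot, hHV⟩
  obtain ⟨W, hWS, hWmin⟩ :=
    (InvImage.wf (fun W : Subgroup X => Nat.card ↥W) Nat.lt_wfRel.wf).has_min S hSne
  obtain ⟨hWV, hWbot, hHW⟩ := hWS
  -- minimality
  have hmin : ∀ W' : Subgroup X, W' ≤ W → (∀ h ∈ H, ∀ a ∈ W', h * a * h⁻¹ ∈ W') →
      W' = ⊥ ∨ W' = W := by
    intro W' hle hinv
    by_cases hb : W' = ⊥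
    · exact Or.inl hb
    · right
      have h1 : ¬ Nat.card ↥W' < Nat.card ↥W := hWmin W' ⟨hle.trans hWV, hb, hinv⟩
      exact Subgroup.eq_of_le_of_card_ge hle (not_lt.mp h1)
  -- normalizers
  have hnorm : ∀ U : Subgroup X, (∀ h ∈ H, ∀ a ∈ U, h * a * h⁻¹ ∈ U) →
      H ≤ Subgroup.normalizer (U : Set X) := by
    intro U hU h hh
    rw [Subgroup.mem_normalizer_iff]
    intro a
    constructor
    · exact hU h hh a
    · intro ha
      have := hU h⁻¹ (H.inv_mem hh) _ ha
      have h2 : h⁻¹ * (h * a * h⁻¹) * h⁻¹⁻¹ = a := by group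
      rw [h2] at this
      exact this
  have hEA : Cfsg.IsElementaryAbelian p V :=
    ⟨⟨⟨fun a b => Subtype.ext (hVab a a.2 b b.2)⟩⟩, hVp⟩
  obtain ⟨V', hV'V, hHV'n, hinf, hsup⟩ :=
    Cfsg.Agent.Lib.L0.BGSC.exists_invariant_compl_elemAb hEA hWV (hnorm V hHV) (hnorm W hHW) hHp
  have hHV' : ∀ h ∈ H, ∀ a ∈ V', h * a * h⁻¹ ∈ V' := by
    intro h hh a ha
    have := hHV'n hh
    rw [Subgroup.mem_normalizer_iff] at this
    exact (this a).mp ha
  have hcommWV' : ∀ a ∈ W, ∀ b ∈ V', a * b = b * a := fun a ha b hb =>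
    hVab a (hWV ha) b (hV'V hb)
  have hcardV : Nat.card ↥V = Nat.card ↥W * Nat.card ↥V' := by
    rw [← hsup]; exact card_sup_of_commute W V' hcommWV' hinf
  have hWcard : 1 < Nat.card ↥W := by
    rw [Subgroup.one_lt_card_iff_ne_bot]; exact hWbot
  have hV'lt : Nat.card ↥V' < n := by
    rw [← hn, hcardV]
    have : 0 < Nat.card ↥V' := Nat.card_pos
    nlinarith
  obtain ⟨r', D', w', hD1, hD2, hD3⟩ := ih (Nat.card ↥V') hV'lt V'
    (fun a ha b hb => hVab a (hV'V ha) b (hV'V hb)) (fun a ha => hVp a (hV'V ha)) hHV' rfl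
  -- the fixed points of `h` in `W`
  have hfixinv : ∀ h ∈ H, ∀ g ∈ H, ∀ a ∈ W ⊓ Subgroup.centralizer ({h} : Set X),
      g * a * g⁻¹ ∈ W ⊓ Subgroup.centralizer ({h} : Set X) := by
    intro h hh g hg a ha
    refine ⟨hHW g hg a ha.1, ?_⟩
    show g * a * g⁻¹ ∈ Subgroup.centralizer ({h} : Set X)
    rw [Subgroup.mem_centralizer_singleton_iff]
    have h1 : a * h = h * a := Subgroup.mem_centralizer_singleton_iff.mp ha.2
    have h2 : g * h = h * g := hHab g hg h hh
    have h3 : g⁻¹ * h = h * g⁻¹ := hHab _ (H.inv_mem hg) h hh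
    calc g * a * g⁻¹ * h = g * a * (g⁻¹ * h) := by group
      _ = g * a * (h * g⁻¹) := by rw [h3]
      _ = g * (a * h) * g⁻¹ := by group
      _ = g * (h * a) * g⁻¹ := by rw [h1]
      _ = (g * h) * a * g⁻¹ := by group
      _ = (h * g) * a * g⁻¹ := by rw [h2]
      _ = h * (g * a * g⁻¹) := by group
  have hfix : ∀ h ∈ H, (h ∈ Subgroup.centralizer (W : Set X) →
      W ⊓ Subgroup.centralizer ({h} : Set X) = W) ∧
      (h ∉ Subgroup.centralizer (W : Set X) → W ⊓ Subgroup.centralizer ({h} : Set X) = ⊥) := by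
    intro h hh
    constructor
    · intro hc
      apply le_antisymm inf_le_left
      intro a ha
      refine ⟨ha, ?_⟩
      show a ∈ Subgroup.centralizer ({h} : Set X)
      rw [Subgroup.mem_centralizer_singleton_iff]
      exact Subgroup.mem_centralizer_iff.mp hc a ha
    · intro hc
      rcases hmin _ inf_le_left (hfixinv h hh) with h1 | h1
      · exact h1
      · exfalso
        apply hc
        rw [Subgroup.mem_centralizer_iff]
        intro a ha
        have : a ∈ W ⊓ Subgroup.centralizer ({h} : Set X) := by rw [h1]; exact ha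
        exact Subgroup.mem_centralizer_singleton_iff.mp this.2
  -- fixed points of `h` in `V`
  have hfixV : ∀ h ∈ H, Nat.card ↥(V ⊓ Subgroup.centralizer ({h} : Set X)) =
      Nat.card ↥(W ⊓ Subgroup.centralizer ({h} : Set X)) *
        Nat.card ↥(V' ⊓ Subgroup.centralizer ({h} : Set X)) := by
    intro h hh
    have hcomm' : ∀ a ∈ W ⊓ Subgroup.centralizer ({h} : Set X),
        ∀ b ∈ V' ⊓ Subgroup.centralizer ({h} : Set X), a * b = b * a :=
      fun a ha b hb => hcommWV' a ha.1 b hb.1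
    have hdisj' : (W ⊓ Subgroup.centralizer ({h} : Set X)) ⊓
        (V' ⊓ Subgroup.centralizer ({h} : Set X)) = ⊥ := by
      apply le_antisymm _ bot_le
      rw [← hinf]
      exact inf_le_inf inf_le_left inf_le_left
    rw [← card_sup_of_commute _ _ hcomm' hdisj']
    have heq : V ⊓ Subgroup.centralizer ({h} : Set X) =
        (W ⊓ Subgroup.centralizer ({h} : Set X)) ⊔ (V' ⊓ Subgroup.centralizer ({h} : Set X)) := by
      apply le_antisymm
      · intro a ha
        have haV : a ∈ W ⊔ V' := by rw [hsup]; exact ha.1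
        obtain ⟨b, hb, c, hc, habc⟩ := exists_mul_of_mem_sup W V' hcommWV' haV
        have h1 : a * h = h * a := Subgroup.mem_centralizer_singleton_iff.mp ha.2
        have h2 : (h * b * h⁻¹) * (h * c * h⁻¹) = b * c := by
          calc (h * b * h⁻¹) * (h * c * h⁻¹) = h * (b * c) * h⁻¹ := by group
            _ = h * a * h⁻¹ := by rw [habc]
            _ = a * h * h⁻¹ := by rw [h1]
            _ = b * c := by rw [habc]; group
        obtain ⟨h3, h4⟩ := eq_of_mul_eq_mul hinf (hHW h hh b hb) hb (hHV' h hh c hc) hc h2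
        have hb' : b ∈ W ⊓ Subgroup.centralizer ({h} : Set X) := by
          refine ⟨hb, ?_⟩
          show b ∈ Subgroup.centralizer ({h} : Set X)
          rw [Subgroup.mem_centralizer_singleton_iff]
          calc b * h = (h * b * h⁻¹) * h := by rw [h3]
            _ = h * b := by group
        have hc' : c ∈ V' ⊓ Subgroup.centralizer ({h} : Set X) := by
          refine ⟨hc, ?_⟩
          show c ∈ Subgroup.centralizer ({h} : Set X)
          rw [Subgroup.mem_centralizer_singleton_iff]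
          calc c * h = (h * c * h⁻¹) * h := by rw [h4]
            _ = h * c := by group
        rw [habc]
        exact Subgroup.mul_mem _ (Subgroup.mem_sup_left hb') (Subgroup.mem_sup_right hc')
      · apply sup_le
        · exact inf_le_inf_right _ hWV
        · exact inf_le_inf_right _ hV'V
    rw [heq]
  -- the index bound
  have hidx : (Subgroup.centralizer (W : Set X)).relIndex H + 1 ≤ Nat.card ↥W := by
    obtain ⟨a, haW, ha1⟩ : ∃ a ∈ W, a ≠ 1 := by
      by_contra hcon
      push Not at hcon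
      exact hWbot ((Subgroup.eq_bot_iff_forall W).mpr hcon)
    set D0 : Subgroup ↥H := (Subgroup.centralizer (W : Set X)).subgroupOf H with hD0
    have hstab : ∀ t ∈ H, t * a * t⁻¹ = a → t ∈ Subgroup.centralizer (W : Set X) := by
      intro t ht hta
      by_contra hc
      have h1 := (hfix t ht).2 hc
      have h2 : a ∈ W ⊓ Subgroup.centralizer ({t} : Set X) := by
        refine ⟨haW, ?_⟩
        show a ∈ Subgroup.centralizer ({t} : Set X)
        rw [Subgroup.mem_centralizer_singleton_iff]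
        calc a * t = (t * a * t⁻¹) * t := by rw [hta]
          _ = t * a := by group
      rw [h1, Subgroup.mem_bot] at h2
      exact ha1 h2
    let f : ↥H → ↥W := fun g => ⟨(g : X) * a * (g : X)⁻¹, hHW g g.2 a haW⟩
    have hf : ∀ x y : ↥H, f x = f y ↔ x⁻¹ * y ∈ D0 := by
      intro x y
      rw [hD0, Subgroup.mem_subgroupOf]
      constructor
      · intro hxy
        have h1 : (x : X) * a * (x : X)⁻¹ = (y : X) * a * (y : X)⁻¹ := congrArg Subtype.val hxy
        apply hstab _ (H.mul_mem (H.inv_mem x.2) y.2)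
        show ((x⁻¹ * y : ↥H) : X) * a * ((x⁻¹ * y : ↥H) : X)⁻¹ = a
        rw [Subgroup.coe_mul, Subgroup.coe_inv]
        calc (x : X)⁻¹ * (y : X) * a * ((x : X)⁻¹ * (y : X))⁻¹
            = (x : X)⁻¹ * ((y : X) * a * (y : X)⁻¹) * (x : X) := by group
          _ = (x : X)⁻¹ * ((x : X) * a * (x : X)⁻¹) * (x : X) := by rw [h1]
          _ = a := by group
      · intro hxy
        apply Subtype.ext
        show (x : X) * a * (x : X)⁻¹ = (y : X) * a * (y : X)⁻¹
        have h1 : ((x⁻¹ * y : ↥H) : X) * a = a * ((x⁻¹ * y : ↥H) : X) :=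
          (Subgroup.mem_centralizer_iff.mp hxy a haW).symm
        rw [Subgroup.coe_mul, Subgroup.coe_inv] at h1
        have h2 : (y : X) * a = (x : X) * a * (x : X)⁻¹ * (y : X) := by
          calc (y : X) * a = (x : X) * ((x : X)⁻¹ * (y : X) * a) := by group
            _ = (x : X) * (a * ((x : X)⁻¹ * (y : X))) := by rw [h1]
            _ = (x : X) * a * (x : X)⁻¹ * (y : X) := by group
        rw [h2]; group
    let F : (↥H ⧸ D0) → ↥W := fun q => Quotient.liftOn' q f (by
      intro x y hxy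
      rw [QuotientGroup.leftRel_apply] at hxy
      exact (hf x y).mpr hxy)
    have hF : Function.Injective F := by
      intro q₁ q₂
      induction q₁ using Quotient.inductionOn' with | _ x => ?_
      induction q₂ using Quotient.inductionOn' with | _ y => ?_
      intro hxy
      have h1 : f x = f y := hxy
      apply Quotient.sound'
      rw [QuotientGroup.leftRel_apply]
      exact (hf x y).mp h1
    have hF1 : (1 : ↥W) ∉ Set.range F := by
      rintro ⟨q, hq⟩
      induction q using Quotient.inductionOn' with | _ x => ?_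
      have h1 : f x = 1 := hq
      have h2 : (x : X) * a * (x : X)⁻¹ = 1 := congrArg Subtype.val h1
      apply ha1
      calc a = (x : X)⁻¹ * ((x : X) * a * (x : X)⁻¹) * (x : X) := by group
        _ = 1 := by rw [h2]; group
    haveI : Fintype (↥H ⧸ D0) := Fintype.ofFinite _
    haveI : Fintype ↥W := Fintype.ofFinite _
    have h3 := Fintype.card_lt_of_injective_of_notMem F hF hF1
    have h4 : (Subgroup.centralizer (W : Set X)).relIndex H = Fintype.card (↥H ⧸ D0) := by
      rw [← Nat.card_eq_fintype_card, ← Subgroup.index_eq_card]; rfl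
    rw [h4, Nat.card_eq_fintype_card]
    omega
  -- assemble
  refine ⟨r' + 1, Fin.cons (Subgroup.centralizer (W : Set X)) D', Fin.cons (Nat.card ↥W) w',
    ?_, ?_, ?_⟩
  · intro i
    refine Fin.cases ?_ (fun j => ?_) i
    · simpa using hidx
    · simpa using hD1 j
  · intro h hh hall a ha
    have h0 : h ∈ Subgroup.centralizer (W : Set X) := by simpa using hall 0
    have hrest : ∀ i, h ∈ D' i := fun i => by simpa using hall i.succ
    have haV : a ∈ W ⊔ V' := by rw [hsup]; exact ha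
    obtain ⟨b, hb, c, hc, habc⟩ := exists_mul_of_mem_sup W V' hcommWV' haV
    have h1 : b * h = h * b := Subgroup.mem_centralizer_iff.mp h0 b hb
    have h2 : h * c = c * h := hD2 h hh hrest c hc
    rw [habc]
    calc h * (b * c) = (h * b) * c := by group
      _ = (b * h) * c := by rw [h1]
      _ = b * (h * c) := by group
      _ = b * (c * h) := by rw [h2]
      _ = b * c * h := by group
  · intro h hh
    rw [Fin.prod_univ_succ]
    simp only [Fin.cons_zero, Fin.cons_succ]
    rw [← hn, hcardV, hfixV h hh, hD3 h hh]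
    by_cases hc : h ∈ Subgroup.centralizer (W : Set X)
    · rw [if_pos hc, (hfix h hh).1 hc]
      ring
    · rw [if_neg hc, (hfix h hh).2 hc]
      simp only [Subgroup.card_bot]
      ring

end Cfsg.Agent.Lib.H20.KGV
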