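import Mathlib
import Cfsg.Agent.Lib.H23.ContribP
import Cfsg.Agent.Lib.H22.KCT1

/-!
# S4575, piece J (helper20), exact signature of `tools/blueprints/S4575_sigs.lean`

For a major subsection `(y, b)` of `B`, `χ₀ ∈ B` of height zero,
`S := ∑_k p^d ∑_ψ ‖m^{(y^k,b)}_{χ₀ψ}‖²`, `φ = |(ℤ/m)ˣ|`:
`φ² ∑_{ψ ∈ B, ψ ≠ χ₀} (p^{h(ψ)})² ≤ S (φ p^d - S)`  (T1 + Cauchy-Schwarz).
-/

set_option autoImplicit false

namespace Cfsg.Agent.Lib.H20.KX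

open Cfsg MonoidAlgebra Cfsg.Agent.Lib.H23 Cfsg.Agent.Lib.H24 Cfsg.Agent.Lib.L0
  Cfsg.Agent.Lib.H23.Contrib
open scoped ComplexConjugate

variable {G : Type*} [Group G] [Fintype G] {p : ℕ} [Fact p.Prime] {M : Ideal AlgInt}

theorem sum_sq_pow_height_le [Fintype (IrrCharacter G)] (hM : IsPModular p M)
    (H : Subgroup G) [Fintype H] [Fintype (IrrCharacter H)] (ξ₁ : IrrCharacter H)
    [DecidablePred (· ∈ blockOf M (ξ₁ : H → ℂ))] {B : Set (IrrCharacter G)} [DecidablePred (· ∈ B)]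
    (hind : IsInducedBlock M H (blockOf M (ξ₁ : H → ℂ)) B)
    (hdef : blockDefect p (blockOf M (ξ₁ : H → ℂ)) = blockDefect p B) (y : H)
    (hyc : y ∈ Subgroup.center H) (hy : ∃ k : ℕ, orderOf y = p ^ k)
    (hC : ∀ g : G, g * (y : G) * g⁻¹ = (y : G) → g ∈ H) {χ₀ : IrrCharacter G}
    (hχ₀ : χ₀ ∈ B) (h0 : blockHeight p B (χ₀ : G → ℂ) = 0)
    (m : ℕ) [NeZero m] (hm : m = Nat.card G) :
    (Fintype.card (ZMod m)ˣ : ℝ) * ((Fintype.card (ZMod m)ˣ : ℝ) *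
        ∑ ψ ∈ Finset.univ.filter (fun ψ : IrrCharacter G => ψ ∈ B ∧ ψ ≠ χ₀),
          ((p : ℝ) ^ blockHeight p B (ψ : G → ℂ)) ^ 2) ≤
      (∑ k : (ZMod m)ˣ, (p : ℝ) ^ blockDefect p B * ∑ ψ : IrrCharacter G,
        ‖contrib p H (blockOf M (ξ₁ : H → ℂ)) (y ^ (k : ZMod m).val) (χ₀ : G → ℂ) (ψ : G → ℂ)‖ ^ 2) *
      ((Fintype.card (ZMod m)ˣ : ℝ) * (p : ℝ) ^ blockDefect p B -
        ∑ k : (ZMod m)ˣ, (p : ℝ) ^ blockDefect p B * ∑ ψ : IrrCharacter G,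
        ‖contrib p H (blockOf M (ξ₁ : H → ℂ)) (y ^ (k : ZMod m).val) (χ₀ : G → ℂ) (ψ : G → ℂ)‖ ^ 2) := by
  have hPr := isPrime_of_isPModular hM
  have hp : p.Prime := Fact.out
  have hpR : (0 : ℝ) < p := by exact_mod_cast hp.pos
  set d := blockDefect p B with hd
  set b := blockOf M (ξ₁ : H → ℂ) with hb
  have hpd : (0 : ℝ) < (p : ℝ) ^ d := pow_pos hpR d
  have hord_dvd : orderOf y ∣ m := by
    rw [hm]
    exact (orderOf_dvd_natCard y).trans (Subgroup.card_subgroup_dvd_card H)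
  have hdata : ∀ k : (ZMod m)ˣ,
      y ^ (k : ZMod m).val ∈ Subgroup.center H ∧
      (∃ j : ℕ, orderOf (y ^ (k : ZMod m).val) = p ^ j) ∧
      ∀ g : G, g * ((y ^ (k : ZMod m).val : H) : G) * g⁻¹ = ((y ^ (k : ZMod m).val : H) : G) →
        g ∈ H := by
    intro k
    exact pow_central_data H hyc hy hp hC
      (Nat.Coprime.coprime_dvd_right hord_dvd (ZMod.val_coe_unit_coprime k))
  set r : (ZMod m)ˣ → ℝ := fun k => ∑ ψ : IrrCharacter G,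
    ‖contrib p H b (y ^ (k : ZMod m).val) (χ₀ : G → ℂ) (ψ : G → ℂ)‖ ^ 2 with hr
  have hcr : ∀ k : (ZMod m)ˣ, contrib p H b (y ^ (k : ZMod m).val) (χ₀ : G → ℂ)
      (χ₀ : G → ℂ) = ((r k : ℝ) : ℂ) := fun k =>
    contrib_self_eq_sum H hM (hdata k).1 (hdata k).2.1 (hdata k).2.2 ξ₁ χ₀
  have hrsq : ∀ k : (ZMod m)ˣ,
      ‖contrib p H b (y ^ (k : ZMod m).val) (χ₀ : G → ℂ) (χ₀ : G → ℂ)‖ ^ 2 = r k ^ 2 := by
    intro k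
    rw [hcr k, Complex.norm_real, Real.norm_eq_abs, sq_abs]
  set φ : ℝ := (Fintype.card (ZMod m)ˣ : ℝ) with hφ
  set s : (ZMod m)ˣ → ℝ := fun k => (p : ℝ) ^ d * r k with hs
  set n : (ZMod m)ˣ → IrrCharacter G → ℝ := fun k ψ =>
    ‖(p : ℂ) ^ d * contrib p H b (y ^ (k : ZMod m).val) (χ₀ : G → ℂ) (ψ : G → ℂ)‖ ^ 2 with hn
  set f : IrrCharacter G → ℝ := fun ψ => ((p : ℝ) ^ blockHeight p B (ψ : G → ℂ)) ^ 2 with hf
  have hnorm : ∀ (k : (ZMod m)ˣ) (ψ : IrrCharacter G), n k ψ =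
      ((p : ℝ) ^ d) ^ 2 * ‖contrib p H b (y ^ (k : ZMod m).val) (χ₀ : G → ℂ) (ψ : G → ℂ)‖ ^ 2 := by
    intro k ψ
    simp only [hn]
    rw [norm_mul, mul_pow, norm_pow, Complex.norm_natCast]
  have hT1 : ∀ ψ : IrrCharacter G, ψ ∈ B → φ * f ψ ≤ ∑ k : (ZMod m)ˣ, n k ψ := by
    intro ψ hψ
    exact Cfsg.Agent.Lib.H22.KC.card_units_mul_sq_pow_le_sum_normSq_contrib hM H ξ₁ hind hdef y hyc
      hy hχ₀ h0 hψ m hm
  set F : Finset (IrrCharacter G) :=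
    Finset.univ.filter (fun ψ : IrrCharacter G => ψ ∈ B ∧ ψ ≠ χ₀) with hF
  have hFmem : ∀ ψ ∈ F, ψ ∈ B ∧ ψ ≠ χ₀ := fun ψ hψ => (Finset.mem_filter.1 hψ).2
  have hrow : ∀ k : (ZMod m)ˣ, ∑ ψ ∈ F, n k ψ ≤ (p : ℝ) ^ d * s k - s k ^ 2 := by
    intro k
    have h1 : ∑ ψ ∈ insert χ₀ F, n k ψ ≤ ∑ ψ : IrrCharacter G, n k ψ :=
      Finset.sum_le_sum_of_subset_of_nonneg (Finset.subset_univ _) fun _ _ _ => by positivity
    have hnot : χ₀ ∉ F := fun h => (hFmem χ₀ h).2 rfl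
    rw [Finset.sum_insert hnot] at h1
    have h2 : ∑ ψ : IrrCharacter G, n k ψ = ((p : ℝ) ^ d) ^ 2 * r k := by
      simp only [hnorm, ← Finset.mul_sum]
      rfl
    have h3 : n k χ₀ = ((p : ℝ) ^ d) ^ 2 * r k ^ 2 := by
      rw [hnorm, hrsq]
    rw [h2, h3] at h1
    simp only [hs]
    nlinarith
  have h1 : φ * ∑ ψ ∈ F, f ψ ≤ ∑ k : (ZMod m)ˣ, ((p : ℝ) ^ d * s k - s k ^ 2) := by
    rw [Finset.mul_sum]
    calc ∑ ψ ∈ F, φ * f ψ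
        ≤ ∑ ψ ∈ F, ∑ k : (ZMod m)ˣ, n k ψ :=
          Finset.sum_le_sum fun ψ hψ => hT1 ψ (hFmem ψ hψ).1
      _ = ∑ k : (ZMod m)ˣ, ∑ ψ ∈ F, n k ψ := Finset.sum_comm
      _ ≤ ∑ k : (ZMod m)ˣ, ((p : ℝ) ^ d * s k - s k ^ 2) :=
          Finset.sum_le_sum fun k _ => hrow k
  have hCS : (∑ k : (ZMod m)ˣ, s k) ^ 2 ≤ φ * ∑ k : (ZMod m)ˣ, s k ^ 2 := by
    have := sq_sum_le_card_mul_sum_sq (s := (Finset.univ : Finset (ZMod m)ˣ)) (f := s)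
    rwa [Finset.card_univ] at this
  have hφ0 : 0 ≤ φ := by positivity
  rw [Finset.sum_sub_distrib, ← Finset.mul_sum] at h1
  change φ * (φ * ∑ ψ ∈ F, f ψ) ≤ (∑ k : (ZMod m)ˣ, s k) * (φ * (p : ℝ) ^ d - ∑ k : (ZMod m)ˣ, s k)
  nlinarith [mul_le_mul_of_nonneg_left h1 hφ0]

end Cfsg.Agent.Lib.H20.KX
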