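import Mathlib
import Cfsg.Agent.Lib.H23.ContribP
import Cfsg.Agent.Lib.H8.KXABS
import Cfsg.Agent.Lib.H25.KXUL
import Cfsg.Agent.Lib.H25.KXTEQ
import Cfsg.Agent.Lib.H20.KXJ

/-!
# S4575, GLUE (helper20): from the integrality statement (AINT) to `k(B) ≤ 2^d`

For a major subsection `(y, b)` of the `2`-block `B` with `k(B) ≤ l(b) + 3`: if for every `χ ∈ B` the
number `S_χ := ∑_k 2^d ∑_ψ ‖m^{(y^k,b)}_{χψ}‖²` equals `φ A_χ` with an integer `A_χ`, odd for height zero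
and divisible by `2^{h+1}` for height `h ≥ 1`, then `k(B) ≤ 2^d`.  All the other hypotheses of the
arithmetic lemma ABS' are discharged here from the landed pieces (trace + TEQ, UL, J, non-vanishing).
-/

set_option autoImplicit false

namespace Cfsg.Agent.Lib.H20.KX

open Cfsg MonoidAlgebra Cfsg.Agent.Lib.H23 Cfsg.Agent.Lib.H24 Cfsg.Agent.Lib.L0
  Cfsg.Agent.Lib.H23.Contrib
open scoped ComplexConjugate

variable {G : Type*} [Group G] [Fintype G] {M : Ideal AlgInt}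

theorem card_le_two_pow_of_aint [Fintype (IrrCharacter G)] (hM : IsPModular 2 M)
    (H : Subgroup G) [Fintype H] [Fintype (IrrCharacter H)] (ξ₁ : IrrCharacter H)
    [DecidablePred (· ∈ blockOf M (ξ₁ : H → ℂ))] {B : Set (IrrCharacter G)} [DecidablePred (· ∈ B)]
    (hind : IsInducedBlock M H (blockOf M (ξ₁ : H → ℂ)) B)
    (hdef : blockDefect 2 (blockOf M (ξ₁ : H → ℂ)) = blockDefect 2 B) (y : H)
    (hyc : y ∈ Subgroup.center H) (hy : ∃ k : ℕ, orderOf y = 2 ^ k)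
    (hC : ∀ g : G, g * (y : G) * g⁻¹ = (y : G) → g ∈ H) (m : ℕ) [NeZero m] (hm : m = Nat.card G)
    (hk : (Finset.univ.filter (fun χ : IrrCharacter G => χ ∈ B)).card ≤
      blockRank 2 (blockOf M (ξ₁ : H → ℂ)) + 3)
    (hA : ∀ χ : IrrCharacter G, χ ∈ B → ∃ A : ℤ,
      (∑ k : (ZMod m)ˣ, (2 : ℝ) ^ blockDefect 2 B * ∑ ψ : IrrCharacter G,
        ‖contrib 2 H (blockOf M (ξ₁ : H → ℂ)) (y ^ (k : ZMod m).val) (χ : G → ℂ)
          (ψ : G → ℂ)‖ ^ 2) = (Fintype.card (ZMod m)ˣ : ℝ) * (A : ℝ) ∧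
      (blockHeight 2 B (χ : G → ℂ) = 0 → Odd A) ∧
      (1 ≤ blockHeight 2 B (χ : G → ℂ) → (2 : ℤ) ^ (blockHeight 2 B (χ : G → ℂ) + 1) ∣ A)) :
    (Finset.univ.filter (fun χ : IrrCharacter G => χ ∈ B)).card ≤ 2 ^ blockDefect 2 B := by
  classical
  have hPr := isPrime_of_isPModular hM
  have hp : (2 : ℕ).Prime := Nat.prime_two
  set d := blockDefect 2 B with hd
  set b := blockOf M (ξ₁ : H → ℂ) with hb
  set l := blockRank 2 b with hl
  set K : Finset (IrrCharacter G) := Finset.univ.filter (fun χ : IrrCharacter G => χ ∈ B) with hK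
  have hKmem : ∀ χ : IrrCharacter G, χ ∈ K ↔ χ ∈ B := fun χ => by simp [hK]
  set φ : ℝ := (Fintype.card (ZMod m)ˣ : ℝ) with hφ
  have hφpos : 0 < φ := by
    rw [hφ]
    exact_mod_cast Fintype.card_pos
  set P : ℝ := (2 : ℝ) ^ d with hP
  have hPpos : 0 < P := by positivity
  have hord_dvd : orderOf y ∣ m := by
    rw [hm]
    exact (orderOf_dvd_natCard y).trans (Subgroup.card_subgroup_dvd_card H)
  have hdata : ∀ k : (ZMod m)ˣ,
      y ^ (k : ZMod m).val ∈ Subgroup.center H ∧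
      (∃ j : ℕ, orderOf (y ^ (k : ZMod m).val) = 2 ^ j) ∧
      ∀ g : G, g * ((y ^ (k : ZMod m).val : H) : G) * g⁻¹ = ((y ^ (k : ZMod m).val : H) : G) →
        g ∈ H := by
    intro k
    exact pow_central_data H hyc hy hp hC
      (Nat.Coprime.coprime_dvd_right hord_dvd (ZMod.val_coe_unit_coprime k))
  set r : (ZMod m)ˣ → IrrCharacter G → ℝ := fun k χ => ∑ ψ : IrrCharacter G,
    ‖contrib 2 H b (y ^ (k : ZMod m).val) (χ : G → ℂ) (ψ : G → ℂ)‖ ^ 2 with hr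
  have hr0 : ∀ k χ, 0 ≤ r k χ := fun k χ => Finset.sum_nonneg fun ψ _ => by positivity
  -- UL
  have hUL : ∀ (k : (ZMod m)ˣ) (χ : IrrCharacter G), r k χ ≤ 1 ∧
      ∀ ψ : IrrCharacter G, ψ ≠ χ →
        contrib 2 H b (y ^ (k : ZMod m).val) (χ : G → ℂ) (ψ : G → ℂ) ≠ 0 → r k χ < 1 :=
    fun k χ => Cfsg.Agent.Lib.H25.KX.sum_normSq_contrib_row_le_one hM H ξ₁ (hdata k).1 (hdata k).2.1
      (hdata k).2.2 χ
  -- TEQ
  have hzero : ∀ (k : (ZMod m)ˣ) (χ : IrrCharacter G), χ ∉ B → r k χ = 0 := by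
    intro k χ hχ
    refine Finset.sum_eq_zero fun ψ _ => ?_
    rw [Cfsg.Agent.Lib.H25.KX.contrib_eq_zero_of_not_mem hM H hind _ (hdata k).1 (hdata k).2.1
      (hdata k).2.2 χ hχ]
    simp
  -- trace
  have htr : ∀ k : (ZMod m)ˣ, ∑ χ ∈ K, r k χ = (l : ℝ) := by
    intro k
    have h1 := sum_normSq_contrib H b (y ^ (k : ZMod m).val) hM (hdata k).1 (hdata k).2.1
      (hdata k).2.2 ξ₁ rfl
    rw [← h1]
    exact Finset.sum_subset (Finset.subset_univ _)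
      (fun χ _ hχ => hzero k χ (fun h => hχ ((hKmem χ).2 h)))
  -- a character of height zero
  obtain ⟨χ₁, hχ₁⟩ := hind.2.1
  obtain ⟨χ₀, hχ₀B, hχ₀0⟩ :=
    Cfsg.Agent.Lib.L0.BlockHeight.exists_height_zero (p := 2) (M := M) χ₁
  rw [← hχ₁] at hχ₀B hχ₀0
  -- non-vanishing
  have hnz1 : ∀ (k : (ZMod m)ˣ) (χ ψ : IrrCharacter G), χ ∈ B → ψ ∈ B →
      blockHeight 2 B (χ : G → ℂ) = 0 →
      contrib 2 H b (y ^ (k : ZMod m).val) (χ : G → ℂ) (ψ : G → ℂ) ≠ 0 :=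
    fun k χ ψ hχ hψ h0 =>
      contrib_ne_zero_of_height_zero H ξ₁ hM hind hdef (hdata k).1 (hdata k).2.1 hχ h0 hψ
  have hnz2 : ∀ (k : (ZMod m)ˣ) (χ ψ : IrrCharacter G), χ ∈ B → ψ ∈ B →
      blockHeight 2 B (ψ : G → ℂ) = 0 →
      contrib 2 H b (y ^ (k : ZMod m).val) (χ : G → ℂ) (ψ : G → ℂ) ≠ 0 := by
    intro k χ ψ hχ hψ h0
    rw [← contrib_conj H b (y ^ (k : ZMod m).val) hM (hdata k).1 ξ₁ rfl ψ χ]
    exact (map_ne_zero _).2 (hnz1 k ψ χ hψ hχ h0)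
  have hrpos : ∀ (k : (ZMod m)ˣ) (χ : IrrCharacter G), χ ∈ B → 0 < r k χ := by
    intro k χ hχ
    have h1 : ‖contrib 2 H b (y ^ (k : ZMod m).val) (χ : G → ℂ) (χ₀ : G → ℂ)‖ ^ 2 ≤ r k χ :=
      Finset.single_le_sum (f := fun ψ' : IrrCharacter G =>
        ‖contrib 2 H b (y ^ (k : ZMod m).val) (χ : G → ℂ) (ψ' : G → ℂ)‖ ^ 2)
        (fun _ _ => by positivity) (Finset.mem_univ χ₀)
    have h2 := hnz2 k χ χ₀ hχ hχ₀B hχ₀0
    have h3 : 0 < ‖contrib 2 H b (y ^ (k : ZMod m).val) (χ : G → ℂ) (χ₀ : G → ℂ)‖ ^ 2 := by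
      positivity
    linarith
  have hrlt : 2 ≤ K.card → ∀ (k : (ZMod m)ˣ) (χ : IrrCharacter G), χ ∈ B → r k χ < 1 := by
    intro hK2 k χ hχ
    by_cases h0 : blockHeight 2 B (χ : G → ℂ) = 0
    · obtain ⟨ψ, hψK, hψne⟩ := Finset.exists_mem_ne (by omega : 1 < K.card) χ
      exact (hUL k χ).2 ψ hψne (hnz1 k χ ψ hχ ((hKmem ψ).1 hψK) h0)
    · have hne : χ₀ ≠ χ := by
        rintro rfl
        exact h0 hχ₀0
      exact (hUL k χ).2 χ₀ hne (hnz2 k χ χ₀ hχ hχ₀B hχ₀0)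
  -- the integers
  choose! A hAS hAodd hAdiv using hA
  have hS : ∀ χ : IrrCharacter G, χ ∈ B → ∑ k : (ZMod m)ˣ, P * r k χ = φ * (A χ : ℝ) :=
    fun χ hχ => hAS χ hχ
  -- apply the arithmetic
  refine Cfsg.Agent.Lib.H8.KX.card_le_two_pow_of_compl K
    (fun χ => blockHeight 2 B (χ : G → ℂ)) A d l hk ?_ ?_ ?_ ?_ ?_ ?_
  · -- trace
    have h1 : φ * ((∑ χ ∈ K, A χ : ℤ) : ℝ) = φ * (((l : ℤ) * 2 ^ d : ℤ) : ℝ) := by
      push_cast
      rw [Finset.mul_sum]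
      calc ∑ χ ∈ K, φ * (A χ : ℝ) = ∑ χ ∈ K, ∑ k : (ZMod m)ˣ, P * r k χ :=
            Finset.sum_congr rfl fun χ hχ => (hS χ ((hKmem χ).1 hχ)).symm
        _ = ∑ k : (ZMod m)ˣ, ∑ χ ∈ K, P * r k χ := Finset.sum_comm
        _ = ∑ _k : (ZMod m)ˣ, P * (l : ℝ) := by
            refine Finset.sum_congr rfl fun k _ => ?_
            rw [← Finset.mul_sum, htr k]
        _ = φ * ((l : ℝ) * 2 ^ d) := by
            rw [Finset.sum_const, Finset.card_univ, nsmul_eq_mul, hP]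
            ring
    exact_mod_cast mul_left_cancel₀ hφpos.ne' h1
  · -- positivity
    intro χ hχ
    have hχB := (hKmem χ).1 hχ
    have h1 : 0 < ∑ k : (ZMod m)ˣ, P * r k χ :=
      Finset.sum_pos (fun k _ => mul_pos hPpos (hrpos k χ hχB)) Finset.univ_nonempty
    rw [hS χ hχB] at h1
    have h2 : (0 : ℝ) < (A χ : ℝ) := by
      by_contra hcon
      push_neg at hcon
      nlinarith
    exact_mod_cast h2
  · -- strictness
    intro hK2 χ hχ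
    have hχB := (hKmem χ).1 hχ
    have h1 : ∑ k : (ZMod m)ˣ, P * r k χ < ∑ _k : (ZMod m)ˣ, P :=
      Finset.sum_lt_sum_of_nonempty Finset.univ_nonempty
        (fun k _ => by nlinarith [hrlt hK2 k χ hχB])
    rw [hS χ hχB, Finset.sum_const, Finset.card_univ, nsmul_eq_mul] at h1
    have h2 : (A χ : ℝ) < P := lt_of_mul_lt_mul_left h1 hφpos.le
    have h3 : ((A χ : ℤ) : ℝ) < (((2 : ℤ) ^ d : ℤ) : ℝ) := by
      push_cast
      exact h2
    exact_mod_cast h3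
  · intro χ hχ h0
    exact hAodd χ ((hKmem χ).1 hχ) h0
  · intro χ hχ h1
    exact hAdiv χ ((hKmem χ).1 hχ) h1
  · -- (J)
    intro ψ₀ hψ₀ h0
    have hψ₀B := (hKmem ψ₀).1 hψ₀
    have hJ := sum_sq_pow_height_le (p := 2) hM H ξ₁ hind hdef y hyc hy hC hψ₀B h0 m hm
    have hF : Finset.univ.filter (fun ψ : IrrCharacter G => ψ ∈ B ∧ ψ ≠ ψ₀) = K.erase ψ₀ := by
      ext ψ
      simp only [Finset.mem_filter, Finset.mem_univ, true_and, Finset.mem_erase, hKmem]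
      exact and_comm
    rw [hF] at hJ
    simp only [Nat.cast_ofNat] at hJ
    have hS0 : ∑ k : (ZMod m)ˣ, (2 : ℝ) ^ d * r k ψ₀ = φ * (A ψ₀ : ℝ) := hS ψ₀ hψ₀B
    change φ * (φ * ∑ ψ ∈ K.erase ψ₀, ((2 : ℝ) ^ blockHeight 2 B (ψ : G → ℂ)) ^ 2) ≤
      (∑ k : (ZMod m)ˣ, (2 : ℝ) ^ d * r k ψ₀) *
        (φ * (2 : ℝ) ^ d - ∑ k : (ZMod m)ˣ, (2 : ℝ) ^ d * r k ψ₀) at hJ
    rw [hS0] at hJ
    have h4 : ∀ ψ : IrrCharacter G, ((2 : ℝ) ^ blockHeight 2 B (ψ : G → ℂ)) ^ 2 =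
        (((4 : ℤ) ^ blockHeight 2 B (ψ : G → ℂ) : ℤ) : ℝ) := by
      intro ψ
      push_cast
      rw [← pow_mul, mul_comm, pow_mul]
      norm_num
    simp only [h4] at hJ
    have h5 : φ * φ * (∑ ψ ∈ K.erase ψ₀, (((4 : ℤ) ^ blockHeight 2 B (ψ : G → ℂ) : ℤ) : ℝ)) ≤
        φ * φ * ((A ψ₀ : ℝ) * ((2 : ℝ) ^ d - (A ψ₀ : ℝ))) := by
      nlinarith
    have h6 := le_of_mul_le_mul_left h5 (mul_pos hφpos hφpos)
    have h7 : ((∑ ψ ∈ K.erase ψ₀, (4 : ℤ) ^ blockHeight 2 B (ψ : G → ℂ) : ℤ) : ℝ) ≤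
        ((A ψ₀ * (2 ^ d - A ψ₀) : ℤ) : ℝ) := by
      push_cast
      push_cast at h6
      exact h6
    exact_mod_cast h7

/-- The same with the integrality statement in the complex diagonal form of helper23's parity lemma
`exists_odd_sum_units_contrib_self` (KZPAR). -/
theorem card_le_two_pow_of_aint_diag [Fintype (IrrCharacter G)] (hM : IsPModular 2 M)
    (H : Subgroup G) [Fintype H] [Fintype (IrrCharacter H)] (ξ₁ : IrrCharacter H)
    [DecidablePred (· ∈ blockOf M (ξ₁ : H → ℂ))] {B : Set (IrrCharacter G)} [DecidablePred (· ∈ B)]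
    (hind : IsInducedBlock M H (blockOf M (ξ₁ : H → ℂ)) B)
    (hdef : blockDefect 2 (blockOf M (ξ₁ : H → ℂ)) = blockDefect 2 B) (y : H)
    (hyc : y ∈ Subgroup.center H) (hy : ∃ k : ℕ, orderOf y = 2 ^ k)
    (hC : ∀ g : G, g * (y : G) * g⁻¹ = (y : G) → g ∈ H) (m : ℕ) [NeZero m] (hm : m = Nat.card G)
    (hk : (Finset.univ.filter (fun χ : IrrCharacter G => χ ∈ B)).card ≤
      blockRank 2 (blockOf M (ξ₁ : H → ℂ)) + 3)
    (hA : ∀ χ : IrrCharacter G, χ ∈ B → ∃ A : ℤ,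
      (∑ k : (ZMod m)ˣ, ((2 : ℕ) : ℂ) ^ blockDefect 2 B *
        contrib 2 H (blockOf M (ξ₁ : H → ℂ)) (y ^ (k : ZMod m).val) (χ : G → ℂ) (χ : G → ℂ)) =
        (Fintype.card (ZMod m)ˣ : ℂ) * (A : ℂ) ∧
      (blockHeight 2 B (χ : G → ℂ) = 0 → Odd A) ∧
      (1 ≤ blockHeight 2 B (χ : G → ℂ) → (2 : ℤ) ^ (blockHeight 2 B (χ : G → ℂ) + 1) ∣ A)) :
    (Finset.univ.filter (fun χ : IrrCharacter G => χ ∈ B)).card ≤ 2 ^ blockDefect 2 B := by
  classical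
  have hp : (2 : ℕ).Prime := Nat.prime_two
  have hord_dvd : orderOf y ∣ m := by
    rw [hm]
    exact (orderOf_dvd_natCard y).trans (Subgroup.card_subgroup_dvd_card H)
  have hdata : ∀ k : (ZMod m)ˣ,
      y ^ (k : ZMod m).val ∈ Subgroup.center H ∧
      (∃ j : ℕ, orderOf (y ^ (k : ZMod m).val) = 2 ^ j) ∧
      ∀ g : G, g * ((y ^ (k : ZMod m).val : H) : G) * g⁻¹ = ((y ^ (k : ZMod m).val : H) : G) →
        g ∈ H := by
    intro k
    exact pow_central_data H hyc hy hp hC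
      (Nat.Coprime.coprime_dvd_right hord_dvd (ZMod.val_coe_unit_coprime k))
  refine card_le_two_pow_of_aint hM H ξ₁ hind hdef y hyc hy hC m hm hk ?_
  intro χ hχ
  obtain ⟨A, hA1, hA2, hA3⟩ := hA χ hχ
  refine ⟨A, ?_, hA2, hA3⟩
  apply Complex.ofReal_injective
  rw [Complex.ofReal_sum]
  push_cast
  rw [← hA1]
  refine Finset.sum_congr rfl fun k _ => ?_
  rw [contrib_self_eq_sum H hM (hdata k).1 (hdata k).2.1 (hdata k).2.2 ξ₁ χ]
  push_cast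
  rfl

end Cfsg.Agent.Lib.H20.KX
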