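import Cfsg.Agent.Lib.H22.KBFACTS
import Cfsg.Agent.Lib.H22.KCT1

/-!
# S4575, piece J+U (helper20): further facts on `pcontrib` for a major subsection

With the binders of helper22's `pcontrib_facts`, for a major subsection `(y, b)` of `B`,
`w_k(χ, ψ) = p^d contrib^{(y^k)}(χ, ψ)`:

* (R) the diagonal `w_k(χ, χ)` is real;
* (U) `0 < w_k(χ, χ) ≤ p^d` for `χ ∈ B`;
* (U') `w_k(χ, χ) < p^d` if `B` has a height zero character different from `χ`;
* (J) for `χ₀ ∈ B` of height zero and `S = ∑_k w_k(χ₀, χ₀)`, `φ = |(ℤ/m)ˣ|`: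
  `φ² (∑_{ψ ∈ B} (p^{h(ψ)})² - 1) ≤ S (φ p^d - S)`, i.e. with `S = φ A`:
  `∑_{ψ ≠ χ₀} (p^{h(ψ)})² ≤ A (p^d - A)`.
-/

set_option autoImplicit false

namespace Cfsg.Agent.Lib.H20.KX

open Cfsg Cfsg.Agent.Lib.H23 Cfsg.Agent.Lib.H23.Contrib Cfsg.Agent.Lib.H28.KB
open scoped ComplexConjugate

theorem pcontrib_facts_JU {G : Type*} [Group G] [Fintype G] {p : ℕ} [Fact p.Prime]
    {M : Ideal AlgInt}
    [Fintype (IrrCharacter G)] (hM : IsPModular p M)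
    (H : Subgroup G) [Fintype H] [Fintype (IrrCharacter H)] (ξ₁ : IrrCharacter H)
    [DecidablePred (· ∈ blockOf M (ξ₁ : H → ℂ))] {B : Set (IrrCharacter G)} [DecidablePred (· ∈ B)]
    (hind : IsInducedBlock M H (blockOf M (ξ₁ : H → ℂ)) B)
    (hdef : blockDefect p (blockOf M (ξ₁ : H → ℂ)) = blockDefect p B) (y : H)
    (hyc : y ∈ Subgroup.center H) (hy : ∃ k : ℕ, orderOf y = p ^ k)
    (hC : ∀ g : G, g * (y : G) * g⁻¹ = (y : G) → g ∈ H) (m : ℕ) [NeZero m] (hm : m = Nat.card G) :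
    (∀ (χ : {χ : IrrCharacter G // χ ∈ B}) (k : (ZMod m)ˣ),
        pcontrib p H (blockOf M (ξ₁ : H → ℂ)) (blockDefect p B) y m k
          ((χ : IrrCharacter G) : G → ℂ) ((χ : IrrCharacter G) : G → ℂ) =
        (((pcontrib p H (blockOf M (ξ₁ : H → ℂ)) (blockDefect p B) y m k
          ((χ : IrrCharacter G) : G → ℂ) ((χ : IrrCharacter G) : G → ℂ)).re : ℝ) : ℂ)) ∧
    (∀ (χ : {χ : IrrCharacter G // χ ∈ B}) (k : (ZMod m)ˣ),
        0 < (pcontrib p H (blockOf M (ξ₁ : H → ℂ)) (blockDefect p B) y m k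
          ((χ : IrrCharacter G) : G → ℂ) ((χ : IrrCharacter G) : G → ℂ)).re ∧
        (pcontrib p H (blockOf M (ξ₁ : H → ℂ)) (blockDefect p B) y m k
          ((χ : IrrCharacter G) : G → ℂ) ((χ : IrrCharacter G) : G → ℂ)).re ≤
          (p : ℝ) ^ blockDefect p B) ∧
    (∀ χ χ₀ : {χ : IrrCharacter G // χ ∈ B},
        blockHeight p B ((χ₀ : IrrCharacter G) : G → ℂ) = 0 → χ₀ ≠ χ → ∀ k : (ZMod m)ˣ,
        (pcontrib p H (blockOf M (ξ₁ : H → ℂ)) (blockDefect p B) y m k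
          ((χ : IrrCharacter G) : G → ℂ) ((χ : IrrCharacter G) : G → ℂ)).re <
          (p : ℝ) ^ blockDefect p B) ∧
    (∀ χ₀ : {χ : IrrCharacter G // χ ∈ B},
        blockHeight p B ((χ₀ : IrrCharacter G) : G → ℂ) = 0 →
        (Fintype.card (ZMod m)ˣ : ℝ) ^ 2 *
          (∑ ψ : {χ : IrrCharacter G // χ ∈ B},
            ((p : ℝ) ^ blockHeight p B ((ψ : IrrCharacter G) : G → ℂ)) ^ 2 - 1) ≤
        (∑ k : (ZMod m)ˣ, (pcontrib p H (blockOf M (ξ₁ : H → ℂ)) (blockDefect p B) y m k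
          ((χ₀ : IrrCharacter G) : G → ℂ) ((χ₀ : IrrCharacter G) : G → ℂ)).re) *
        ((Fintype.card (ZMod m)ˣ : ℝ) * (p : ℝ) ^ blockDefect p B -
          ∑ k : (ZMod m)ˣ, (pcontrib p H (blockOf M (ξ₁ : H → ℂ)) (blockDefect p B) y m k
            ((χ₀ : IrrCharacter G) : G → ℂ) ((χ₀ : IrrCharacter G) : G → ℂ)).re)) := by
  classical
  have hPr := isPrime_of_isPModular hM
  have hp : p.Prime := Fact.out
  have hp0 : (p : ℂ) ≠ 0 := Nat.cast_ne_zero.2 hp.ne_zero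
  have hpR : (0 : ℝ) < p := by exact_mod_cast hp.pos
  obtain ⟨-, fI, -, -, f0⟩ := Cfsg.Agent.Lib.H22.KB.pcontrib_facts hM H ξ₁ hind hdef y hyc hy hC m hm
  set d := blockDefect p B with hd
  set b := blockOf M (ξ₁ : H → ℂ) with hb
  have hpd : (0 : ℝ) < (p : ℝ) ^ d := pow_pos hpR d
  -- data for the powers of `y`
  have hord_dvd : orderOf y ∣ m := by
    rw [hm]
    exact (orderOf_dvd_natCard y).trans (Subgroup.card_subgroup_dvd_card H)
  have hdata : ∀ k : (ZMod m)ˣ,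
      y ^ (k : ZMod m).val ∈ Subgroup.center H ∧
      (∃ j : ℕ, orderOf (y ^ (k : ZMod m).val) = p ^ j) ∧
      ∀ g : G, g * ((y ^ (k : ZMod m).val : H) : G) * g⁻¹ = ((y ^ (k : ZMod m).val : H) : G) →
        g ∈ H := by
    intro k
    exact pow_central_data H hyc hy hp hC
      (Nat.Coprime.coprime_dvd_right hord_dvd (ZMod.val_coe_unit_coprime k))
  -- the real numbers `r k χ`
  set r : (ZMod m)ˣ → IrrCharacter G → ℝ := fun k χ => ∑ ψ : IrrCharacter G,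
    ‖contrib p H b (y ^ (k : ZMod m).val) (χ : G → ℂ) (ψ : G → ℂ)‖ ^ 2 with hr
  have hcr : ∀ (k : (ZMod m)ˣ) (χ : IrrCharacter G), contrib p H b (y ^ (k : ZMod m).val) (χ : G → ℂ)
      (χ : G → ℂ) = ((r k χ : ℝ) : ℂ) := fun k χ =>
    contrib_self_eq_sum H hM (hdata k).1 (hdata k).2.1 (hdata k).2.2 ξ₁ χ
  have hpc : ∀ (k : (ZMod m)ˣ) (χ : IrrCharacter G),
      pcontrib p H b d y m k (χ : G → ℂ) (χ : G → ℂ) = (((p : ℝ) ^ d * r k χ : ℝ) : ℂ) := by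
    intro k χ
    rw [pcontrib, hcr k χ]
    push_cast
    rfl
  have hre : ∀ (k : (ZMod m)ˣ) (χ : IrrCharacter G),
      (pcontrib p H b d y m k (χ : G → ℂ) (χ : G → ℂ)).re = (p : ℝ) ^ d * r k χ := by
    intro k χ
    rw [hpc k χ, Complex.ofReal_re]
  -- `r ≥ r² + |contrib χ ψ|²` for `ψ ≠ χ`
  have hrsq : ∀ (k : (ZMod m)ˣ) (χ : IrrCharacter G),
      ‖contrib p H b (y ^ (k : ZMod m).val) (χ : G → ℂ) (χ : G → ℂ)‖ ^ 2 = r k χ ^ 2 := by
    intro k χ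
    rw [hcr k χ, Complex.norm_real, Real.norm_eq_abs, sq_abs]
  have hr2 : ∀ (k : (ZMod m)ˣ) (χ ψ : IrrCharacter G), ψ ≠ χ →
      r k χ ^ 2 + ‖contrib p H b (y ^ (k : ZMod m).val) (χ : G → ℂ) (ψ : G → ℂ)‖ ^ 2 ≤ r k χ := by
    intro k χ ψ hne
    rw [← hrsq k χ]
    have h1 : ∑ ψ' ∈ ({χ, ψ} : Finset (IrrCharacter G)),
        ‖contrib p H b (y ^ (k : ZMod m).val) (χ : G → ℂ) (ψ' : G → ℂ)‖ ^ 2 ≤ r k χ :=
      Finset.sum_le_sum_of_subset_of_nonneg (Finset.subset_univ _) fun _ _ _ => by positivity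
    rwa [Finset.sum_pair hne.symm] at h1
  have hr1 : ∀ (k : (ZMod m)ˣ) (χ : IrrCharacter G), r k χ ^ 2 ≤ r k χ := by
    intro k χ
    rw [← hrsq k χ]
    exact Finset.single_le_sum (f := fun ψ' : IrrCharacter G =>
      ‖contrib p H b (y ^ (k : ZMod m).val) (χ : G → ℂ) (ψ' : G → ℂ)‖ ^ 2)
      (fun _ _ => by positivity) (Finset.mem_univ χ)
  -- non-vanishing against a height zero character
  have hnz : ∀ (k : (ZMod m)ˣ) (χ χ₀ : {χ : IrrCharacter G // χ ∈ B}),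
      blockHeight p B ((χ₀ : IrrCharacter G) : G → ℂ) = 0 →
      0 < ‖contrib p H b (y ^ (k : ZMod m).val) ((χ : IrrCharacter G) : G → ℂ)
        ((χ₀ : IrrCharacter G) : G → ℂ)‖ ^ 2 := by
    intro k χ χ₀ h0
    have h1 := contrib_ne_zero_of_height_zero H ξ₁ hM hind hdef (hdata k).1 (hdata k).2.1 χ₀.2 h0 χ.2
    have h2 := contrib_conj H b (y ^ (k : ZMod m).val) hM (hdata k).1 ξ₁ rfl
      (χ₀ : IrrCharacter G) (χ : IrrCharacter G)
    have h3 : contrib p H b (y ^ (k : ZMod m).val) ((χ : IrrCharacter G) : G → ℂ)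
        ((χ₀ : IrrCharacter G) : G → ℂ) ≠ 0 := by
      rw [← h2]
      exact (map_ne_zero _).2 h1
    positivity
  have hrpos : ∀ (k : (ZMod m)ˣ) (χ : {χ : IrrCharacter G // χ ∈ B}),
      0 < r k (χ : IrrCharacter G) := by
    intro k χ
    obtain ⟨χ₀, h0⟩ := f0 ⟨χ⟩
    by_cases hne : (χ₀ : IrrCharacter G) = (χ : IrrCharacter G)
    · have h1 := hnz k χ χ₀ h0
      rw [hne, hrsq k χ] at h1
      exact lt_of_le_of_ne (Finset.sum_nonneg fun _ _ => by positivity)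
        (fun h => by rw [← h] at h1; simp at h1)
    · have h1 := hr2 k χ χ₀ hne
      have h2 := hnz k χ χ₀ h0
      nlinarith [sq_nonneg (r k (χ : IrrCharacter G))]
  refine ⟨?_, ?_, ?_, ?_⟩
  · intro χ k
    rw [hre k χ, hpc k χ]
  · intro χ k
    rw [hre k χ]
    have h1 := hrpos k χ
    have h2 := hr1 k χ
    have h3 : r k (χ : IrrCharacter G) ≤ 1 := by nlinarith
    exact ⟨mul_pos hpd h1, by nlinarith⟩
  · intro χ χ₀ h0 hne k
    rw [hre k χ]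
    have h1 := hrpos k χ
    have h2 := hr2 k χ χ₀ (fun h => hne (Subtype.ext h))
    have h3 := hnz k χ χ₀ h0
    have h4 : r k (χ : IrrCharacter G) < 1 := by nlinarith
    nlinarith
  · intro χ₀ h0
    set φ : ℝ := (Fintype.card (ZMod m)ˣ : ℝ) with hφ
    set s : (ZMod m)ˣ → ℝ := fun k =>
      (pcontrib p H b d y m k ((χ₀ : IrrCharacter G) : G → ℂ) ((χ₀ : IrrCharacter G) : G → ℂ)).re
      with hs
    set n : (ZMod m)ˣ → {χ : IrrCharacter G // χ ∈ B} → ℝ := fun k ψ =>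
      ‖pcontrib p H b d y m k ((χ₀ : IrrCharacter G) : G → ℂ) ((ψ : IrrCharacter G) : G → ℂ)‖ ^ 2
      with hn
    set f : {χ : IrrCharacter G // χ ∈ B} → ℝ := fun ψ =>
      ((p : ℝ) ^ blockHeight p B ((ψ : IrrCharacter G) : G → ℂ)) ^ 2 with hf
    have hfχ₀ : f χ₀ = 1 := by
      simp only [hf]
      rw [h0]
      simp
    have hT1 : ∀ ψ : {χ : IrrCharacter G // χ ∈ B}, φ * f ψ ≤ ∑ k : (ZMod m)ˣ, n k ψ := by
      intro ψ
      exact Cfsg.Agent.Lib.H22.KC.card_units_mul_sq_pow_le_sum_normSq_contrib hM H ξ₁ hind hdef y hyc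
        hy χ₀.2 h0 ψ.2 m hm
    have hdiag : ∀ k : (ZMod m)ˣ, n k χ₀ = s k ^ 2 := by
      intro k
      simp only [hn, hs]
      rw [hpc k χ₀, Complex.norm_real, Real.norm_eq_abs, sq_abs, Complex.ofReal_re]
    have hI : ∀ k : (ZMod m)ˣ, ∑ ψ : {χ : IrrCharacter G // χ ∈ B}, n k ψ ≤ (p : ℝ) ^ d * s k :=
      fun k => fI χ₀ k
    have herase : ∑ ψ : {χ : IrrCharacter G // χ ∈ B}, f ψ - 1 =
        ∑ ψ ∈ Finset.univ.erase χ₀, f ψ := by
      rw [← Finset.add_sum_erase Finset.univ f (Finset.mem_univ χ₀), hfχ₀]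
      ring
    have h1 : φ * ∑ ψ ∈ Finset.univ.erase χ₀, f ψ ≤
        ∑ k : (ZMod m)ˣ, ((p : ℝ) ^ d * s k - s k ^ 2) := by
      rw [Finset.mul_sum]
      calc ∑ ψ ∈ Finset.univ.erase χ₀, φ * f ψ
          ≤ ∑ ψ ∈ Finset.univ.erase χ₀, ∑ k : (ZMod m)ˣ, n k ψ :=
            Finset.sum_le_sum fun ψ _ => hT1 ψ
        _ = ∑ k : (ZMod m)ˣ, ∑ ψ ∈ Finset.univ.erase χ₀, n k ψ := Finset.sum_comm
        _ ≤ ∑ k : (ZMod m)ˣ, ((p : ℝ) ^ d * s k - s k ^ 2) := by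
            refine Finset.sum_le_sum fun k _ => ?_
            have h2 := Finset.add_sum_erase Finset.univ (n k) (Finset.mem_univ χ₀)
            have h3 := hI k
            rw [hdiag k] at h2
            linarith
    have hCS : (∑ k : (ZMod m)ˣ, s k) ^ 2 ≤ φ * ∑ k : (ZMod m)ˣ, s k ^ 2 := by
      have := sq_sum_le_card_mul_sum_sq (s := (Finset.univ : Finset (ZMod m)ˣ)) (f := s)
      rwa [Finset.card_univ] at this
    have hφ0 : 0 ≤ φ := by positivity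
    rw [herase]
    rw [Finset.sum_sub_distrib, ← Finset.mul_sum] at h1
    nlinarith [mul_le_mul_of_nonneg_left h1 hφ0]

end Cfsg.Agent.Lib.H20.KX
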