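import Mathlib
import Cfsg.Agent.Lib.H23.BlockLocal

/-!
# S4540, piece D2 (helper20): `2`-power divisibility of the coefficients

Let `M` be a `2`-modular maximal ideal of the algebraic integers, `ζ ^ (2 ^ e) = -1`, and
`P : ℤ[X]` of degree `< 2 ^ e`.  If `m * P(ζ) = 2 ^ h * r` with `m` odd and `r` in the local
ring at `M`, then `2 ^ h` divides every coefficient of `P`.

The proof: with `s = ζ - 1` one has `s ^ (2 ^ e) = -2 (1 + s q)`, so `s` lies in the local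
ideal and `2 = s ^ (2 ^ e) * w` with `w` a local integer.  If `s ^ t * Q(ζ) ∈ 2 R` with
`t + deg Q < 2 ^ e` then `Q(ζ) ∈ I`, hence `Q(1)` is even, and one divides by `X - 1`.
-/

set_option autoImplicit false

namespace Cfsg.Agent.Lib.H20.KZD2

open Cfsg Cfsg.Agent.Lib.H23 Polynomial

variable {M : Ideal AlgInt}

/-- Binomial-free expansion: `(1 + s) ^ (2 ^ e) = s ^ (2 ^ e) + 1 + 2 s q`. -/
theorem one_add_pow_two_pow [hP : M.IsPrime] {s : ℂ} (hs : MemLocalRing M s) (e : ℕ) :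
    ∃ q : ℂ, MemLocalRing M q ∧ (1 + s) ^ (2 ^ e) = s ^ (2 ^ e) + 1 + 2 * (s * q) := by
  induction e with
  | zero => exact ⟨0, memLocalRing_zero hP.ne_top, by ring⟩
  | succ e ih =>
    obtain ⟨q, hq, h⟩ := ih
    obtain ⟨k, hk⟩ : ∃ k, 2 ^ e = k + 1 :=
      ⟨2 ^ e - 1, by have := Nat.one_le_two_pow (n := e); omega⟩
    have h2 : MemLocalRing M (2 : ℂ) := by
      have := natCast_mem_localRing (M := M) 2
      rw [mem_localRing] at this
      exact_mod_cast this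
    refine ⟨s ^ k + 2 * (s * q ^ 2) + 2 * (s ^ (k + 1) * q) + 2 * q, ?_, ?_⟩
    · refine memLocalRing_add (memLocalRing_add (memLocalRing_add (memLocalRing_pow hs k) ?_) ?_) ?_
      · exact memLocalRing_mul h2 (memLocalRing_mul hs (memLocalRing_pow hq 2))
      · exact memLocalRing_mul h2 (memLocalRing_mul (memLocalRing_pow hs (k + 1)) hq)
      · exact memLocalRing_mul h2 hq
    · rw [pow_succ 2 e, pow_mul, h, hk]
      ring

theorem not_memLocalIdeal_pow [hP : M.IsPrime] {s : ℂ} (hs : MemLocalRing M s)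
    (hs' : ¬ MemLocalIdeal M s) (n : ℕ) : ¬ MemLocalIdeal M (s ^ n) := by
  induction n with
  | zero => simpa using not_memLocalIdeal_one (M := M)
  | succ n ih =>
    rw [pow_succ']
    exact not_memLocalIdeal_mul hs hs' ih

theorem memLocalIdeal_pow [hP : M.IsPrime] {s : ℂ} (hs : MemLocalIdeal M s) {n : ℕ}
    (hn : n ≠ 0) : MemLocalIdeal M (s ^ n) := by
  obtain ⟨k, rfl⟩ := Nat.exists_eq_succ_of_ne_zero hn
  rw [pow_succ']
  exact memLocalIdeal_mul_right hs (memLocalRing_pow (memLocalRing_of_memLocalIdeal hs) k)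

/-- The key facts on `s = ζ - 1`. -/
theorem key (hM : IsPModular 2 M) {e : ℕ} {ζ : ℂ} (hζ : ζ ^ (2 ^ e) = -1) :
    MemLocalRing M ζ ∧ MemLocalIdeal M (ζ - 1) ∧ ζ - 1 ≠ 0 ∧
      ∃ w, MemLocalRing M w ∧ (2 : ℂ) = (ζ - 1) ^ (2 ^ e) * w := by
  have hP := isPrime_of_isPModular hM
  have hζint : IsIntegral ℤ ζ := by
    refine IsIntegral.of_pow (n := 2 ^ e) (by positivity) ?_
    rw [hζ]
    exact isIntegral_one.neg
  have hζR : MemLocalRing M ζ := isIntegral_mem_localRing hζint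
  have h1 : MemLocalRing M (1 : ℂ) := memLocalRing_one hP.ne_top
  have hsR : MemLocalRing M (ζ - 1) := memLocalRing_sub hζR h1
  have h2I : MemLocalIdeal M (2 : ℂ) := by
    have := memLocalIdeal_p hM
    simpa using this
  obtain ⟨q, hq, h⟩ := one_add_pow_two_pow hsR e
  rw [show (1 : ℂ) + (ζ - 1) = ζ by ring, hζ] at h
  have hsn : (ζ - 1) ^ (2 ^ e) = 2 * (-(1 + (ζ - 1) * q)) := by
    linear_combination -h
  have hsqR : MemLocalRing M ((ζ - 1) * q) := memLocalRing_mul hsR hq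
  have hsI : MemLocalIdeal M (ζ - 1) := by
    by_contra hs'
    apply not_memLocalIdeal_pow hsR hs' (2 ^ e)
    rw [hsn]
    exact memLocalIdeal_mul_right h2I (memLocalRing_neg (memLocalRing_add h1 hsqR))
  have hu : ¬ MemLocalIdeal M (1 + (ζ - 1) * q) := by
    intro hu
    apply not_memLocalIdeal_one (M := M)
    have := memLocalIdeal_sub hu (memLocalIdeal_mul_right hsI hq)
    simpa using this
  have hu0 : (1 + (ζ - 1) * q) ≠ 0 := ne_zero_of_not_memLocalIdeal hu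
  have hw : (2 : ℂ) = (ζ - 1) ^ (2 ^ e) * (-(1 + (ζ - 1) * q)⁻¹) := by
    rw [hsn]
    field_simp
  refine ⟨hζR, hsI, ?_, _, memLocalRing_neg (memLocalRing_inv (memLocalRing_add h1 hsqR) hu), hw⟩
  intro h0
  rw [h0, zero_pow (by positivity), zero_mul] at hw
  norm_num at hw

/-- If `s ^ t * x ∈ 2 R` with `t < 2 ^ e` (where `s = ζ - 1`), then `x` lies in the local
ideal. -/
theorem memLocalIdeal_of_pow_mul (hM : IsPModular 2 M) {e : ℕ} {ζ : ℂ} (hζ : ζ ^ (2 ^ e) = -1)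
    {t : ℕ} (ht : t < 2 ^ e) {x r : ℂ} (hr : MemLocalRing M r)
    (h : (ζ - 1) ^ t * x = 2 * r) : MemLocalIdeal M x := by
  have hP := isPrime_of_isPModular hM
  obtain ⟨-, hsI, hs0, w, hw, h2⟩ := key hM hζ
  obtain ⟨k, hk⟩ : ∃ k, 2 ^ e = t + (k + 1) := ⟨2 ^ e - t - 1, by omega⟩
  have h3 : (ζ - 1) ^ t * ((ζ - 1) ^ (k + 1) * (w * r)) = 2 * r := by
    have h4 : (ζ - 1) ^ t * ((ζ - 1) ^ (k + 1) * (w * r)) = ((ζ - 1) ^ (2 ^ e) * w) * r := by
      rw [hk]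
      ring
    rw [h4, ← h2]
  have hx : x = (ζ - 1) ^ (k + 1) * (w * r) :=
    mul_left_cancel₀ (pow_ne_zero t hs0) (h.trans h3.symm)
  rw [hx]
  exact memLocalIdeal_mul_right (memLocalIdeal_pow hsI (Nat.succ_ne_zero k))
    (memLocalRing_mul hw hr)

theorem memLocalRing_aeval [hP : M.IsPrime] {ζ : ℂ} (hζR : MemLocalRing M ζ) (Q : ℤ[X]) :
    MemLocalRing M (aeval ζ Q) := by
  rw [aeval_eq_sum_range]
  refine memLocalRing_sum _ _ (fun i _ => ?_)
  rw [zsmul_eq_mul]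
  exact memLocalRing_mul (intCast_mem_localRing _) (memLocalRing_pow hζR i)

/-- The induction on the degree: divide by `X - 1`. -/
theorem C_two_dvd_of_pow_mul_aeval (hM : IsPModular 2 M) {e : ℕ} {ζ : ℂ}
    (hζ : ζ ^ (2 ^ e) = -1) :
    ∀ (d t : ℕ) (Q : ℤ[X]), Q.natDegree ≤ d → t + d < 2 ^ e →
      (∃ r, MemLocalRing M r ∧ (ζ - 1) ^ t * aeval ζ Q = 2 * r) → C (2 : ℤ) ∣ Q := by
  have hP := isPrime_of_isPModular hM
  obtain ⟨hζR, hsI, hs0, w, hw, h2⟩ := key hM hζ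
  have hsR := memLocalRing_of_memLocalIdeal hsI
  intro d
  induction d with
  | zero =>
    rintro t Q hQ ht ⟨r, hr, h⟩
    rw [Polynomial.eq_C_of_natDegree_le_zero hQ] at h ⊢
    rw [aeval_C, eq_intCast] at h
    have hc : MemLocalIdeal M ((Q.coeff 0 : ℤ) : ℂ) :=
      memLocalIdeal_of_pow_mul hM hζ (by omega) hr h
    have h2c := (intCast_memLocalIdeal_iff hM _).1 hc
    exact map_dvd (C : ℤ →+* ℤ[X]) (by exact_mod_cast h2c)
  | succ d ih =>
    rintro t Q hQ ht ⟨r, hr, h⟩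
    have hdecomp : Q = (X - C 1) * (Q /ₘ (X - C 1)) + C (Q.eval 1) := by
      have h5 := modByMonic_add_div Q (X - C (1 : ℤ))
      rw [modByMonic_X_sub_C_eq_C_eval] at h5
      rw [add_comm]
      exact h5.symm
    have hval : aeval ζ Q = (ζ - 1) * aeval ζ (Q /ₘ (X - C 1)) + ((Q.eval 1 : ℤ) : ℂ) := by
      conv_lhs => rw [hdecomp]
      rw [map_add, map_mul, map_sub, aeval_X, aeval_C, aeval_C]
      simp
    have hxI : MemLocalIdeal M (aeval ζ Q) := memLocalIdeal_of_pow_mul hM hζ (by omega) hr h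
    have hcI : MemLocalIdeal M ((Q.eval 1 : ℤ) : ℂ) := by
      have h6 : ((Q.eval 1 : ℤ) : ℂ) = aeval ζ Q - (ζ - 1) * aeval ζ (Q /ₘ (X - C 1)) := by
        rw [hval]
        ring
      rw [h6]
      exact memLocalIdeal_sub hxI (memLocalIdeal_mul_right hsI (memLocalRing_aeval hζR _))
    obtain ⟨c', hc'⟩ := (intCast_memLocalIdeal_iff hM _).1 hcI
    have hc2 : ((Q.eval 1 : ℤ) : ℂ) = 2 * (c' : ℂ) := by
      rw [hc']
      push_cast
      ring
    have hQ₁deg : (Q /ₘ (X - C 1)).natDegree ≤ d := by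
      rw [natDegree_divByMonic _ (monic_X_sub_C (1 : ℤ)), natDegree_X_sub_C]
      omega
    have hQ₁ : C (2 : ℤ) ∣ Q /ₘ (X - C 1) := by
      apply ih (t + 1) _ hQ₁deg (by omega)
      refine ⟨r - (ζ - 1) ^ t * (c' : ℂ), ?_, ?_⟩
      · exact memLocalRing_sub hr
          (memLocalRing_mul (memLocalRing_pow hsR t) (intCast_mem_localRing c'))
      · linear_combination h - (ζ - 1) ^ t * hval - (ζ - 1) ^ t * hc2
    rw [hdecomp]
    refine dvd_add (dvd_mul_of_dvd_right hQ₁ _) (map_dvd (C : ℤ →+* ℤ[X]) ?_)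
    exact ⟨c', by rw [hc']; push_cast; ring⟩

/-- `P(ζ) ∈ 2 ^ h R` forces `2 ^ h ∣ P` for `deg P < 2 ^ e`. -/
theorem C_pow_two_dvd_of_aeval (hM : IsPModular 2 M) {e : ℕ} {ζ : ℂ} (hζ : ζ ^ (2 ^ e) = -1) :
    ∀ (h : ℕ) (P : ℤ[X]), P.natDegree < 2 ^ e →
      (∃ r, MemLocalRing M r ∧ aeval ζ P = 2 ^ h * r) → C ((2 : ℤ) ^ h) ∣ P := by
  have hP := isPrime_of_isPModular hM
  have h2R : MemLocalRing M (2 : ℂ) := by
    have := natCast_mem_localRing (M := M) 2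
    rw [mem_localRing] at this
    exact_mod_cast this
  intro h
  induction h with
  | zero =>
    intro P _ _
    simp
  | succ h ih =>
    rintro P hPdeg ⟨r, hr, hPr⟩
    have h1 : C (2 : ℤ) ∣ P := by
      apply C_two_dvd_of_pow_mul_aeval hM hζ (2 ^ e - 1) 0 P (by omega)
        (by have := Nat.one_le_two_pow (n := e); omega)
      exact ⟨2 ^ h * r, memLocalRing_mul (memLocalRing_pow h2R h) hr, by rw [hPr]; ring⟩
    obtain ⟨P', rfl⟩ := h1
    have hdeg : P'.natDegree < 2 ^ e := by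
      rwa [natDegree_C_mul (by norm_num : (2 : ℤ) ≠ 0)] at hPdeg
    have h3 : C ((2 : ℤ) ^ h) ∣ P' := by
      apply ih P' hdeg
      refine ⟨r, hr, ?_⟩
      have h7 : (2 : ℂ) * aeval ζ P' = 2 * (2 ^ h * r) := by
        have h8 : aeval ζ (C (2 : ℤ) * P') = 2 * aeval ζ P' := by
          rw [map_mul, aeval_C]
          simp
        rw [← h8, hPr]
        ring
      exact mul_left_cancel₀ two_ne_zero h7
    rw [pow_succ', C_mul]
    exact mul_dvd_mul_left _ h3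

/-- **Piece D2 of S4540.**  If `m * P(ζ) = 2 ^ h * r` with `m` odd, `r` a local integer,
`ζ ^ (2 ^ e) = -1` and `deg P < 2 ^ e`, then `2 ^ h` divides `P` in `ℤ[X]`. -/
theorem C_pow_two_dvd_of_mul_aeval (hM : IsPModular 2 M) {e : ℕ} {ζ : ℂ}
    (hζ : ζ ^ (2 ^ e) = -1) (P : ℤ[X]) (hP : P.natDegree < 2 ^ e) {m : ℕ} (hm : Odd m) (h : ℕ)
    {r : ℂ} (hr : MemLocalRing M r) (heq : (m : ℂ) * aeval ζ P = (2 : ℂ) ^ h * r) :
    C ((2 : ℤ) ^ h) ∣ P := by
  have hP' := isPrime_of_isPModular hM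
  have hm2 : ¬ 2 ∣ m := by
    rintro ⟨j, hj⟩
    obtain ⟨k, hk⟩ := hm
    omega
  have hminv := memLocalRing_inv_natCast hM hm2
  have hm0 : (m : ℂ) ≠ 0 := by
    intro h0
    apply hm2
    have : m = 0 := by exact_mod_cast h0
    rw [this]
    exact dvd_zero 2
  refine C_pow_two_dvd_of_aeval hM hζ h P hP ⟨(m : ℂ)⁻¹ * r, memLocalRing_mul hminv hr, ?_⟩
  have h9 : aeval ζ P = (m : ℂ)⁻¹ * ((m : ℂ) * aeval ζ P) := by
    rw [← mul_assoc, inv_mul_cancel₀ hm0, one_mul]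
  rw [h9, heq]
  ring

/-- **Piece D2 of S4540**, coefficientwise. -/
theorem pow_two_dvd_coeff_of_aeval (hM : IsPModular 2 M) {e : ℕ} {ζ : ℂ}
    (hζ : ζ ^ (2 ^ e) = -1) (P : ℤ[X]) (hP : P.natDegree < 2 ^ e) {m : ℕ} (hm : Odd m) (h : ℕ)
    {r : ℂ} (hr : MemLocalRing M r) (heq : (m : ℂ) * aeval ζ P = (2 : ℂ) ^ h * r) (i : ℕ) :
    (2 : ℤ) ^ h ∣ P.coeff i :=
  (C_dvd_iff_dvd_coeff _ _).1 (C_pow_two_dvd_of_mul_aeval hM hζ P hP hm h hr heq) i

/-- **Piece D2 of S4540**, with the quotient polynomial. -/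
theorem exists_eq_C_pow_two_mul_of_aeval (hM : IsPModular 2 M) {e : ℕ} {ζ : ℂ}
    (hζ : ζ ^ (2 ^ e) = -1) (P : ℤ[X]) (hP : P.natDegree < 2 ^ e) {m : ℕ} (hm : Odd m) (h : ℕ)
    {r : ℂ} (hr : MemLocalRing M r) (heq : (m : ℂ) * aeval ζ P = (2 : ℂ) ^ h * r) :
    ∃ P' : ℤ[X], P = C ((2 : ℤ) ^ h) * P' ∧ P'.natDegree < 2 ^ e ∧
      ∀ z : ℂ, aeval z P = (2 : ℂ) ^ h * aeval z P' := by
  obtain ⟨P', rfl⟩ := C_pow_two_dvd_of_mul_aeval hM hζ P hP hm h hr heq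
  refine ⟨P', rfl, ?_, fun z => ?_⟩
  · rwa [natDegree_C_mul (pow_ne_zero h (by norm_num : (2 : ℤ) ≠ 0))] at hP
  · rw [map_mul, aeval_C]
    simp

end Cfsg.Agent.Lib.H20.KZD2
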