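import Mathlib
import Cfsg.Prelude.Def_KGroupFacts
import Cfsg.Prelude.Def_CaseTheorems
import Cfsg.Agent.Lib.H18.SchurCover2
import Cfsg.Agent.Lib.H18.SchurUnique

/-!
# Quotients of the universal cover with elementary abelian kernel of order 4 (helper20)

If a finite perfect group `Q` has Schur multiplier `C₃ × C₄ × C₄`, then any two stem extensions of `Q`
whose kernels have order 4 and exponent 2 are isomorphic: both are the quotient of the (unique) Schur
cover by the subgroup of squares of its kernel.  Used for S5387 (`2² · L₃(4)` is unique).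
-/

set_option autoImplicit false

namespace Cfsg.Agent.Lib.H20.L34Cover

open Cfsg.Agent.Lib.H18

universe u w₁ w₂

/-- In `C₃ × C₄ × C₄` exactly four elements are killed by `2`. -/
theorem card_two_torsion :
    Fintype.card {a : ZMod 3 × ZMod 4 × ZMod 4 // a + a = 0} = 4 := by decide

/-- In a commutative group isomorphic to `C₃ × C₄ × C₄` there are exactly 12 squares. -/
theorem card_squares {Z : Type*} [CommGroup Z]
    (f : Z ≃* Multiplicative (ZMod 3 × ZMod 4 × ZMod 4)) :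
    Nat.card (powMonoidHom 2 : Z →* Z).range = 12 := by
  haveI : Finite Z := Finite.of_equiv _ f.symm.toEquiv
  have hZ : Nat.card Z = 48 := by
    rw [Nat.card_congr f.toEquiv]
    simp [Nat.card_eq_fintype_card]
  have hker : Nat.card (powMonoidHom 2 : Z →* Z).ker = 4 := by
    rw [← card_two_torsion, ← Nat.card_eq_fintype_card]
    apply Nat.card_congr
    refine
      { toFun := fun z => ⟨Multiplicative.toAdd (f z.1), ?_⟩
        invFun := fun a => ⟨f.symm (Multiplicative.ofAdd a.1), ?_⟩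
        left_inv := fun z => by apply Subtype.ext; simp
        right_inv := fun a => by apply Subtype.ext; simp }
    · have h := z.2
      rw [MonoidHom.mem_ker, powMonoidHom_apply] at h
      have h2 : f (z.1 ^ 2) = 1 := by rw [h, map_one]
      rw [map_pow, pow_two] at h2
      have := congrArg Multiplicative.toAdd h2
      simpa using this
    · rw [MonoidHom.mem_ker, powMonoidHom_apply, ← map_pow, pow_two]
      have : (Multiplicative.ofAdd a.1 * Multiplicative.ofAdd a.1 :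
          Multiplicative (ZMod 3 × ZMod 4 × ZMod 4)) = 1 := by
        rw [← ofAdd_add, a.2]; rfl
      rw [this, map_one]
  have h1 := Subgroup.card_mul_index (powMonoidHom 2 : Z →* Z).ker
  rw [Subgroup.index_ker, hker, hZ] at h1
  omega

universe w

/-- A surjection `γ : Γ → L` over `Q` from a central extension `σ : Γ → Q` with kernel
`≃* C₃ × C₄ × C₄` onto an extension `τ : L → Q` whose kernel has order 4 and exponent 2 has kernel
exactly the set of squares of `ker σ`. -/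
theorem mem_ker_iff_square {Q : Type u} [Group Q] {Γ : Type u} [Group Γ] {L : Type w} [Group L]
    (σ : Γ →* Q) (hZc : σ.ker ≤ Subgroup.center Γ)
    (fZ : σ.ker ≃* Multiplicative (ZMod 3 × ZMod 4 × ZMod 4))
    (γ : Γ →* L) (τ : L →* Q) (hγs : Function.Surjective γ) (hγ : ∀ x, τ (γ x) = σ x)
    (hc : Nat.card τ.ker = 4) (hexp : ∀ x ∈ τ.ker, x * x = 1) (x : Γ) :
    x ∈ γ.ker ↔ ∃ w ∈ σ.ker, x = w ^ 2 := by
  letI : CommGroup σ.ker :=
    { (inferInstance : Group σ.ker) with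
      mul_comm := fun a b => Subtype.ext (by
        have := Subgroup.mem_center_iff.mp (hZc a.2) b.1
        simpa using this.symm) }
  have hZcard : Nat.card σ.ker = 48 := by
    rw [Nat.card_congr fZ.toEquiv]
    simp [Nat.card_eq_fintype_card]
  have hsq := card_squares fZ
  -- `ker γ ≤ Z`
  have hle : γ.ker ≤ σ.ker := by
    intro x hx
    rw [MonoidHom.mem_ker] at hx ⊢
    rw [← hγ, hx, map_one]
  -- restriction `Z → ker τ`
  let r : σ.ker →* τ.ker :=
    { toFun := fun z => ⟨γ z.1, by rw [MonoidHom.mem_ker, hγ]; exact z.2⟩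
      map_one' := Subtype.ext (map_one γ)
      map_mul' := fun a b => Subtype.ext (map_mul γ a.1 b.1) }
  have hr : Function.Surjective r := by
    rintro ⟨k, hk⟩
    obtain ⟨y, rfl⟩ := hγs k
    refine ⟨⟨y, ?_⟩, rfl⟩
    rw [MonoidHom.mem_ker, ← hγ]; exact hk
  have hrker : Nat.card r.ker = 12 := by
    have h1 := Subgroup.card_mul_index r.ker
    rw [Subgroup.index_ker, MonoidHom.range_eq_top.mpr hr, Subgroup.card_top, hc, hZcard] at h1
    omega
  -- squares lie in `ker r`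
  have hsqle : (powMonoidHom 2 : σ.ker →* σ.ker).range ≤ r.ker := by
    rintro _ ⟨w, rfl⟩
    rw [MonoidHom.mem_ker, powMonoidHom_apply, map_pow, pow_two]
    apply Subtype.ext
    have := hexp (r w).1 (r w).2
    simpa using this
  haveI : Finite σ.ker := Nat.finite_of_card_ne_zero (by rw [hZcard]; norm_num)
  have heq : (powMonoidHom 2 : σ.ker →* σ.ker).range = r.ker :=
    Subgroup.eq_of_le_of_card_ge hsqle (by rw [hsq, hrker])
  constructor
  · intro hx
    have hxZ : x ∈ σ.ker := hle hx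
    have : (⟨x, hxZ⟩ : σ.ker) ∈ r.ker := by
      rw [MonoidHom.mem_ker]
      apply Subtype.ext
      exact hx
    rw [← heq] at this
    obtain ⟨w, hw⟩ := this
    refine ⟨w.1, w.2, ?_⟩
    have := congrArg Subtype.val hw
    simpa [powMonoidHom_apply] using this.symm
  · rintro ⟨w, hw, rfl⟩
    have : (powMonoidHom 2 : σ.ker →* σ.ker) ⟨w, hw⟩ ∈ r.ker := by
      rw [← heq]; exact ⟨⟨w, hw⟩, rfl⟩
    rw [MonoidHom.mem_ker] at this
    have := congrArg Subtype.val this
    simpa [powMonoidHom_apply, r] using this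

variable {Q : Type u} [Group Q] [Finite Q]

/-- Main abstract statement. -/
theorem equiv_of_kernels_four
    (hA : Cfsg.HasSchurMultiplier Q (Multiplicative (ZMod 3 × ZMod 4 × ZMod 4)))
    {L₁ : Type w₁} {L₂ : Type w₂} [Group L₁] [Group L₂] [Finite L₁] [Finite L₂]
    (hp₁ : commutator L₁ = ⊤)
    (τ₁ : L₁ →* Q) (τ₂ : L₂ →* Q) (h₁ : Cfsg.IsStemExtension τ₁) (h₂ : Cfsg.IsStemExtension τ₂)
    (hc₁ : Nat.card τ₁.ker = 4) (hc₂ : Nat.card τ₂.ker = 4)
    (he₁ : ∀ x ∈ τ₁.ker, x * x = 1) (he₂ : ∀ x ∈ τ₂.ker, x * x = 1) :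
    Nonempty (L₁ ≃* L₂) := by
  -- `Q` is perfect
  have hQperf : commutator Q = ⊤ := by
    rw [commutator_def, ← MonoidHom.range_eq_top.mpr h₁.1, MonoidHom.range_eq_map,
      ← Subgroup.map_commutator, ← commutator_def, hp₁]
  have hab : Nat.card (Abelianization Q) = 1 := by
    rw [Nat.card_eq_one_iff_unique]
    refine ⟨⟨fun a b => ?_⟩, ⟨1⟩⟩
    obtain ⟨a, rfl⟩ := QuotientGroup.mk_surjective a
    obtain ⟨b, rfl⟩ := QuotientGroup.mk_surjective b
    have ha : (QuotientGroup.mk a : Abelianization Q) = 1 := by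
      rw [QuotientGroup.eq_one_iff, hQperf]; trivial
    have hb : (QuotientGroup.mk b : Abelianization Q) = 1 := by
      rw [QuotientGroup.eq_one_iff, hQperf]; trivial
    rw [ha, hb]
  obtain ⟨eA⟩ := mulEquiv_schurT_of_hasSchurMultiplier Q hA
  -- the two covers
  obtain ⟨S₁, hS₁, hS₁n, β₁, hβ₁s, hβ₁⟩ := sc_cover_over Q τ₁ h₁
  obtain ⟨S₂, hS₂, hS₂n, β₂, hβ₂s, hβ₂⟩ := sc_cover_over Q τ₂ h₂
  haveI := scσ_finite hS₁
  haveI := scσ_finite hS₂
  have hcop : Nat.Coprime (Nat.card (Abelianization Q))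
      (Nat.card (Multiplicative (ZMod 3 × ZMod 4 × ZMod 4))) := by
    rw [hab]; exact Nat.coprime_one_left _
  obtain ⟨e, he⟩ := (covers_unique_iff Q hA).mpr hcop (scE Q ⧸ S₁) (scE Q ⧸ S₂)
    (scσ S₁ hS₁.le) (scσ S₂ hS₂.le) (scσ_isStem hS₁) (scσ_isStem hS₂)
    ⟨((scσ_kerEquiv hS₁).symm.trans (schurTEquiv Q)).trans eA.symm⟩
    ⟨((scσ_kerEquiv hS₂).symm.trans (schurTEquiv Q)).trans eA.symm⟩
  -- the two surjections from the first cover
  have hβ₂s' : Function.Surjective (β₂.comp e.toMonoidHom) := by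
    simp only [MonoidHom.coe_comp, MulEquiv.coe_toMonoidHom]
    exact hβ₂s.comp e.surjective
  have hγ₁ : ∀ x, τ₁ (β₁ x) = scσ S₁ hS₁.le x := fun x => DFunLike.congr_fun hβ₁ x
  have hγ₂ : ∀ x, τ₂ ((β₂.comp e.toMonoidHom) x) = scσ S₁ hS₁.le x := by
    intro x
    have h1 : τ₂ (β₂ (e x)) = scσ S₂ hS₂.le (e x) := DFunLike.congr_fun hβ₂ (e x)
    have h2 : scσ S₂ hS₂.le (e x) = scσ S₁ hS₁.le x := DFunLike.congr_fun he x
    simp only [MonoidHom.coe_comp, MulEquiv.coe_toMonoidHom, Function.comp_apply]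
    rw [h1, h2]
  have hZc : (scσ S₁ hS₁.le).ker ≤ Subgroup.center (scE Q ⧸ S₁) := (scσ_isStem hS₁).2.1
  have fZ : (scσ S₁ hS₁.le).ker ≃* Multiplicative (ZMod 3 × ZMod 4 × ZMod 4) :=
    ((scσ_kerEquiv hS₁).symm.trans (schurTEquiv Q)).trans eA.symm
  have hker : β₁.ker = (β₂.comp e.toMonoidHom).ker := by
    ext x
    rw [mem_ker_iff_square (scσ S₁ hS₁.le) hZc fZ β₁ τ₁ hβ₁s hγ₁ hc₁ he₁ x,
      mem_ker_iff_square (scσ S₁ hS₁.le) hZc fZ (β₂.comp e.toMonoidHom) τ₂ hβ₂s' hγ₂ hc₂ he₂ x]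
  exact ⟨((QuotientGroup.quotientKerEquivOfSurjective β₁ hβ₁s).symm.trans
    (QuotientGroup.quotientMulEquivOfEq hker)).trans
    (QuotientGroup.quotientKerEquivOfSurjective (β₂.comp e.toMonoidHom) hβ₂s')⟩


/-- the covering map of a group onto (an isomorphic copy of) its central quotient. -/
theorem isStem_of_perfect {L : Type w} [Group L] {Q : Type u} [Group Q] (hp : commutator L = ⊤)
    (e : L ⧸ Subgroup.center L ≃* Q) :
    Cfsg.IsStemExtension (e.toMonoidHom.comp (QuotientGroup.mk' (Subgroup.center L))) ∧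
      (e.toMonoidHom.comp (QuotientGroup.mk' (Subgroup.center L))).ker = Subgroup.center L := by
  have hker : (e.toMonoidHom.comp (QuotientGroup.mk' (Subgroup.center L))).ker =
      Subgroup.center L := by
    ext x
    rw [MonoidHom.mem_ker, MonoidHom.comp_apply, MulEquiv.coe_toMonoidHom,
      MulEquiv.map_eq_one_iff, QuotientGroup.mk'_apply, QuotientGroup.eq_one_iff]
  refine ⟨⟨?_, ?_, ?_⟩, hker⟩
  · simp only [MonoidHom.coe_comp, MulEquiv.coe_toMonoidHom]
    exact e.surjective.comp (QuotientGroup.mk'_surjective _)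
  · rw [hker]
  · rw [hp]; exact le_top

/-- S5387 modulo the Schur multiplier of `PSL₃(4)` (S2088). -/
theorem s5387_of {L₁ : Type w₁} {L₂ : Type w₂} [Group L₁] [Finite L₁] [Group L₂] [Finite L₂]
    (F : Type) [Field F] [Fintype F]
    (hA : Cfsg.HasSchurMultiplier (Matrix.ProjectiveSpecialLinearGroup (Fin 3) F)
      (Multiplicative (ZMod 3 × ZMod 4 × ZMod 4)))
    (h₁ : Cfsg.IsQuasisimple L₁) (h₂ : Cfsg.IsQuasisimple L₂)
    (hc₁ : Nat.card (Subgroup.center L₁) = 4) (hc₂ : Nat.card (Subgroup.center L₂) = 4)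
    (he₁ : ∀ x ∈ Subgroup.center L₁, x * x = 1) (he₂ : ∀ x ∈ Subgroup.center L₂, x * x = 1)
    (e₁ : L₁ ⧸ Subgroup.center L₁ ≃* Matrix.ProjectiveSpecialLinearGroup (Fin 3) F)
    (e₂ : L₂ ⧸ Subgroup.center L₂ ≃* Matrix.ProjectiveSpecialLinearGroup (Fin 3) F) :
    Nonempty (L₁ ≃* L₂) := by
  haveI : Finite (Matrix.ProjectiveSpecialLinearGroup (Fin 3) F) := Finite.of_equiv _ e₁.toEquiv
  have hp₁ : commutator L₁ = ⊤ := h₁.1.commutator_eq_top
  have hp₂ : commutator L₂ = ⊤ := h₂.1.commutator_eq_top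
  obtain ⟨hs₁, hk₁⟩ := isStem_of_perfect hp₁ e₁
  obtain ⟨hs₂, hk₂⟩ := isStem_of_perfect hp₂ e₂
  refine equiv_of_kernels_four hA hp₁ _ _ hs₁ hs₂ ?_ ?_ ?_ ?_
  · rw [hk₁]; exact hc₁
  · rw [hk₂]; exact hc₂
  · rw [hk₁]; exact he₁
  · rw [hk₂]; exact he₂

end Cfsg.Agent.Lib.H20.L34Cover
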