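/-
S2335 / S2334 (Landazuri-Seitz for `SU_n(q)`; architect helper15), piece **LS-HA** (helper20):
the `SL_m`-orbit of a non-zero hermitian matrix `Y` under `Y ↦ g^* Y g` has at least `(q - 1) q^(2m-2)` elements with
non-zero `(0,0)` entry.  Blueprint tools/blueprints/S2335.md §3, Steps 1-3.
-/
import Cfsg.Agent.Lib.H15.LSDefs

set_option autoImplicit false
set_option linter.unusedSimpArgs false
set_option linter.unusedVariables false

namespace Cfsg.Agent.Lib.H20.LS

open Matrix Cfsg.Agent.Lib.H15.LS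

variable {F : Type*} [Field F]

section general

variable (σ : F →+* F) {m : ℕ}

theorem hActD_apply (g Y : Matrix (Fin m) (Fin m) F) (i j : Fin m) :
    hActD σ g Y i j = ∑ l, (∑ k, σ (g k i) * Y k l) * g l j := by
  simp [hActD, Matrix.mul_apply]

theorem hActD_mul (g h Y : Matrix (Fin m) (Fin m) F) :
    hActD σ (g * h) Y = hActD σ h (hActD σ g Y) := by
  simp only [hActD, Matrix.map_mul, Matrix.transpose_mul, Matrix.mul_assoc]

theorem hActD_one (Y : Matrix (Fin m) (Fin m) F) : hActD σ 1 Y = Y := by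
  have : ((1 : Matrix (Fin m) (Fin m) F).map σ)ᵀ = 1 := by
    ext i j
    simp [Matrix.one_apply, eq_comm]
  simp [hActD, this]

theorem hActD_mem (hσ2 : ∀ x, σ (σ x) = x) (g : Matrix (Fin m) (Fin m) F)
    {Y : Matrix (Fin m) (Fin m) F} (hY : Y ∈ Herm σ m) : hActD σ g Y ∈ Herm σ m := by
  rw [mem_Herm] at hY ⊢
  have h1 : (((g.map σ)ᵀ).map σ)ᵀ = g := by
    ext i j
    simp [hσ2]
  simp only [hActD, Matrix.map_mul, Matrix.transpose_mul, h1, hY, Matrix.mul_assoc]

theorem map_transvection_transpose [DecidableEq (Fin m)] (i j : Fin m) (c : F) :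
    ((Matrix.transvection i j c).map σ)ᵀ = Matrix.transvection j i (σ c) := by
  ext a b
  simp only [Matrix.transvection, Matrix.transpose_apply, Matrix.map_apply, Matrix.add_apply,
    Matrix.one_apply, Matrix.single_apply, map_add]
  congr 1
  · split_ifs with h1 h2 h2 <;> simp_all
  · split_ifs with h1 h2 h2 <;> simp_all

/-- entry `(z,z)` after a transvection `1 + c E_{jz}` -/
theorem hActD_transvection_zz (z j : Fin m) (c : F) (Y : Matrix (Fin m) (Fin m) F) :
    hActD σ (Matrix.transvection j z c) Y z z =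
      Y z z + σ c * Y j z + c * (Y z j + σ c * Y j j) := by
  unfold hActD
  rw [map_transvection_transpose, Matrix.mul_transvection_apply_same,
    Matrix.transvection_mul_apply_same, Matrix.transvection_mul_apply_same]

/-- entry `(z,j)`, `j ≠ z`, after a transvection `1 + c E_{iz}` -/
theorem hActD_transvection_zj (z i j : Fin m) (hj : j ≠ z) (c : F) (Y : Matrix (Fin m) (Fin m) F) :
    hActD σ (Matrix.transvection i z c) Y z j = Y z j + σ c * Y i j := by
  unfold hActD
  rw [map_transvection_transpose, Matrix.mul_transvection_apply_of_ne _ _ _ _ hj,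
    Matrix.transvection_mul_apply_same]

end general

section finite

variable [Fintype F] {q : ℕ}

theorem two_le_q (hF : Fintype.card F = q ^ 2) : 2 ≤ q := by
  have h1 : 1 < Fintype.card F := Fintype.one_lt_card
  rw [hF] at h1
  by_contra h
  push Not at h
  interval_cases q <;> simp at h1

theorem exists_eval_ne (hF : Fintype.card F = q ^ 2) (A B C : F) (hC : C ≠ 0) :
    ∃ c : F, A * c ^ (q + 1) + B * c ^ q + C * c ≠ 0 := by
  classical
  have hq := two_le_q hF
  by_contra hcon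
  push Not at hcon
  set P : Polynomial F := Polynomial.C A * Polynomial.X ^ (q + 1) + Polynomial.C B * Polynomial.X ^ q
    + Polynomial.C C * Polynomial.X with hP
  have hdeg : P.natDegree ≤ q + 1 := by
    rw [hP]
    compute_degree
  have heval : ∀ c ∈ (Finset.univ : Finset F), P.eval c = 0 := by
    intro c _
    rw [hP]
    simpa using hcon c
  have hlt : P.natDegree < (Finset.univ : Finset F).card := by
    rw [Finset.card_univ, hF]
    nlinarith
  have h0 := Polynomial.eq_zero_of_natDegree_lt_card_of_eval_eq_zero' P Finset.univ heval hlt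
  have h1 : P.coeff 1 = C := by
    rw [hP]
    have e1 : (1 : ℕ) ≠ q + 1 := by omega
    have e2 : (1 : ℕ) ≠ q := by omega
    have e3 : q ≠ 0 := by omega
    simp [Polynomial.coeff_X_pow, Polynomial.coeff_X, e1, e2, e3]
  rw [h0] at h1
  exact hC (by simpa using h1.symm)

theorem card_normImage_ge [DecidableEq F] (hF : Fintype.card F = q ^ 2) :
    q - 1 ≤ ((Finset.univ.filter (fun x : F => x ≠ 0)).image (fun x => x ^ (q + 1))).card := by
  have hq := two_le_q hF
  have h1 : (Finset.univ.filter (fun x : F => x ≠ 0)).card = q ^ 2 - 1 := by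
    rw [Finset.filter_ne', Finset.card_erase_of_mem (Finset.mem_univ _), Finset.card_univ, hF]
  have h2 := Finset.card_le_mul_card_image (f := fun x : F => x ^ (q + 1))
    (Finset.univ.filter (fun x : F => x ≠ 0)) (q + 1) (by
      intro ν _
      calc _ ≤ (Polynomial.nthRoots (q + 1) ν).toFinset.card := Finset.card_le_card (by
              intro x hx
              simp only [Finset.mem_filter] at hx
              rw [Multiset.mem_toFinset, Polynomial.mem_nthRoots (Nat.succ_pos q)]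
              exact hx.2)
        _ ≤ (Polynomial.nthRoots (q + 1) ν).card := Multiset.toFinset_card_le _
        _ ≤ q + 1 := Polynomial.card_nthRoots _ _)
  rw [h1] at h2
  have h3 : (q + 1) * (q - 1) = q ^ 2 - 1 := by
    obtain ⟨r, rfl⟩ : ∃ r, q = r + 1 := ⟨q - 1, by omega⟩
    simp only [Nat.add_sub_cancel]
    have : (r + 1) ^ 2 = (r + 1 + 1) * r + 1 := by ring
    omega
  rw [← h3] at h2
  exact Nat.le_of_mul_le_mul_left h2 (Nat.succ_pos q)

variable (σ : F →+* F) {m : ℕ}

/-- Step 1a: if the `z`-th row of `Y` is not zero, some `g ∈ SL_m` makes the `(z,z)` entry non-zero. -/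
theorem exists_pos_of_row (hF : Fintype.card F = q ^ 2) (hσ : ∀ x, σ x = x ^ q) (z : Fin m)
    (Y : Matrix (Fin m) (Fin m) F) (h : ∃ j, Y z j ≠ 0) :
    ∃ g : Matrix.SpecialLinearGroup (Fin m) F, hActD σ g.1 Y z z ≠ 0 := by
  by_cases hzz : Y z z ≠ 0
  · exact ⟨1, by simpa [hActD_one] using hzz⟩
  · push Not at hzz
    obtain ⟨j, hj⟩ := h
    have hjz : j ≠ z := by
      rintro rfl
      exact hj hzz
    obtain ⟨c, hc⟩ := exists_eval_ne hF (Y j j) (Y j z) (Y z j) hj
    refine ⟨⟨Matrix.transvection j z c, Matrix.det_transvection_of_ne _ _ hjz c⟩, ?_⟩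
    show hActD σ (Matrix.transvection j z c) Y z z ≠ 0
    rw [hActD_transvection_zz, hzz, hσ]
    intro h0
    apply hc
    rw [← h0]
    ring

omit [Fintype F] in
/-- Step 1b: some element of the orbit has a non-zero `z`-th row. -/
theorem exists_row_ne (z : Fin m) (Y : Matrix (Fin m) (Fin m) F) (hY : Y ∈ Herm σ m) (hY0 : Y ≠ 0) :
    ∃ g : Matrix.SpecialLinearGroup (Fin m) F, ∃ j, hActD σ g.1 Y z j ≠ 0 := by
  by_cases h : ∃ j, Y z j ≠ 0
  · obtain ⟨j, hj⟩ := h
    exact ⟨1, j, by simpa [hActD_one] using hj⟩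
  · push Not at h
    obtain ⟨i, j, hij⟩ : ∃ i j, Y i j ≠ 0 := by
      by_contra hcon
      push Not at hcon
      exact hY0 (by ext i j; simpa using hcon i j)
    have hiz : i ≠ z := by
      rintro rfl
      exact hij (h j)
    have hjz : j ≠ z := by
      rintro rfl
      rw [mem_Herm] at hY
      have h1 := congrFun (congrFun hY j) i
      simp only [Matrix.transpose_apply, Matrix.map_apply] at h1
      rw [h i] at h1
      exact hij ((map_eq_zero σ).mp h1)
    refine ⟨⟨Matrix.transvection i z 1, Matrix.det_transvection_of_ne _ _ hiz 1⟩, j, ?_⟩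
    show hActD σ (Matrix.transvection i z 1) Y z j ≠ 0
    rw [hActD_transvection_zj σ z i j hjz, h j]
    simpa using hij

/-- Step 1: some element of the orbit has non-zero `(z,z)` entry. -/
theorem exists_pos (hF : Fintype.card F = q ^ 2) (hσ : ∀ x, σ x = x ^ q) (z : Fin m)
    (Y : Matrix (Fin m) (Fin m) F) (hY : Y ∈ Herm σ m) (hY0 : Y ≠ 0) :
    ∃ g : Matrix.SpecialLinearGroup (Fin m) F, hActD σ g.1 Y z z ≠ 0 := by
  obtain ⟨h, j, hj⟩ := exists_row_ne σ z Y hY hY0
  obtain ⟨g, hg⟩ := exists_pos_of_row σ hF hσ z (hActD σ h.1 Y) ⟨j, hj⟩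
  refine ⟨h * g, ?_⟩
  show hActD σ (h.1 * g.1) Y z z ≠ 0
  rw [hActD_mul]
  exact hg

end finite

section special

variable (σ : F →+* F) {m : ℕ}

/-- `g_c = 1 + ∑_j c_j E_{zj}` (only the `c j` with `j ≠ z` matter) -/
def gc (z : Fin m) (c : Fin m → F) : Matrix (Fin m) (Fin m) F :=
  Matrix.of fun k i => if k = i then 1 else if k = z then c i else 0

theorem gc_col (z : Fin m) (c : Fin m → F) (l : Fin m) : gc z c l z = if l = z then 1 else 0 := by
  unfold gc
  simp only [Matrix.of_apply]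
  split_ifs <;> rfl

theorem det_gc (z : Fin m) (hz : (z : ℕ) = 0) (c : Fin m → F) : (gc z c).det = 1 := by
  rw [Matrix.det_of_isUpperTriangular]
  · simp [gc]
  · intro i j hij
    have hij' : (j : ℕ) < (i : ℕ) := hij
    unfold gc
    simp only [Matrix.of_apply]
    have h1 : i ≠ j := by
      rintro rfl
      exact lt_irrefl _ hij'
    have h2 : i ≠ z := by
      rintro rfl
      omega
    simp [h1, h2]

theorem hActD_gc_col (z : Fin m) (c : Fin m → F) (Z : Matrix (Fin m) (Fin m) F) (i : Fin m) :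
    hActD σ (gc z c) Z i z = ∑ k, σ (gc z c k i) * Z k z := by
  rw [hActD_apply]
  simp only [gc_col]
  rw [Finset.sum_eq_single z]
  · simp
  · intro b _ hb
    simp [hb]
  · intro h
    exact absurd (Finset.mem_univ _) h

theorem hActD_gc_zz (z : Fin m) (c : Fin m → F) (Z : Matrix (Fin m) (Fin m) F) :
    hActD σ (gc z c) Z z z = Z z z := by
  rw [hActD_gc_col]
  simp only [gc_col]
  rw [Finset.sum_eq_single z]
  · simp
  · intro b _ hb
    simp [hb]
  · intro h
    exact absurd (Finset.mem_univ _) h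

theorem hActD_gc_jz (z : Fin m) (c : Fin m → F) (Z : Matrix (Fin m) (Fin m) F) (j : Fin m) (hj : j ≠ z) :
    hActD σ (gc z c) Z j z = Z j z + σ (c j) * Z z z := by
  rw [hActD_gc_col]
  rw [Finset.sum_eq_add j z hj]
  · simp [gc, hj, hj.symm]
  · intro k _ hk
    simp [gc, hk.1, hk.2]
  · intro h
    exact absurd (Finset.mem_univ _) h
  · intro h
    exact absurd (Finset.mem_univ _) h

/-- `d_λ = diag(λ, λ⁻¹, 1, …, 1)` (positions `z`, `o`) -/
noncomputable def dl (z o : Fin m) (lam : F) : Matrix (Fin m) (Fin m) F :=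
  Matrix.diagonal fun i => if i = z then lam else if i = o then lam⁻¹ else 1

theorem det_dl (z o : Fin m) (hzo : z ≠ o) (lam : F) (hl : lam ≠ 0) : (dl z o lam).det = 1 := by
  unfold dl
  rw [Matrix.det_diagonal, Finset.prod_eq_mul z o hzo]
  · simp [hzo.symm, hl]
  · intro k _ hk
    simp [hk.1, hk.2]
  · intro h
    exact absurd (Finset.mem_univ _) h
  · intro h
    exact absurd (Finset.mem_univ _) h

theorem hActD_dl (z o : Fin m) (lam : F) (Z : Matrix (Fin m) (Fin m) F) (i : Fin m) :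
    hActD σ (dl z o lam) Z i z = σ (if i = z then lam else if i = o then lam⁻¹ else 1) * Z i z * lam := by
  unfold hActD dl
  rw [Matrix.diagonal_map (map_zero σ), Matrix.diagonal_transpose, Matrix.mul_diagonal,
    Matrix.diagonal_mul]
  simp

end special

section count

variable [Fintype F] {q : ℕ}

theorem orbit_pos_card_ge_aux (hF : Fintype.card F = q ^ 2) (σ : F →+* F) (hσ : ∀ x, σ x = x ^ q)
    (hσ2 : ∀ x, σ (σ x) = x) (m : ℕ) (z o : Fin m) (hz : (z : ℕ) = 0) (hzo : z ≠ o)
    (Y : Herm σ m) (hY : Y ≠ 0) :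
    (q - 1) * q ^ (2 * m - 2) ≤
      Nat.card {Z : Herm σ m // (∃ g : Matrix.SpecialLinearGroup (Fin m) F,
        (Z : Matrix (Fin m) (Fin m) F) = hActD σ g.1 Y.1) ∧
        (Z : Matrix (Fin m) (Fin m) F) z z ≠ 0} := by
  classical
  obtain ⟨g1, hg1⟩ := exists_pos σ hF hσ z Y.1 Y.2 (fun h => hY (Subtype.ext h))
  obtain ⟨Y1, hY1⟩ : ∃ Y1, Y1 = hActD σ g1.1 Y.1 := ⟨_, rfl⟩
  rw [← hY1] at hg1
  have hY1mem : Y1 ∈ Herm σ m := hY1 ▸ hActD_mem σ hσ2 _ Y.2
  obtain ⟨I, hI⟩ : ∃ I : Finset F, I = ((Finset.univ.filter (fun x : F => x ≠ 0)).image (fun x => x ^ (q + 1))) :=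
    ⟨_, rfl⟩
  have hIcard : q - 1 ≤ I.card := hI ▸ card_normImage_ge hF
  have hch : ∀ ν : I, ∃ lam : F, lam ≠ 0 ∧ lam ^ (q + 1) = ν.1 := by
    intro ν
    have h5 : ν.1 ∈ ((Finset.univ.filter (fun x : F => x ≠ 0)).image (fun x => x ^ (q + 1))) := by
      rw [← hI]
      exact ν.2
    obtain ⟨x, hx, hx'⟩ := Finset.mem_image.mp h5
    exact ⟨x, (Finset.mem_filter.mp hx).2, hx'⟩
  choose lam hlam0 hlam using hch
  -- extension of `c : {j // j ≠ z} → F` by zero
  let ex : ({j : Fin m // j ≠ z} → F) → (Fin m → F) := fun c i => if h : i = z then 0 else c ⟨i, h⟩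
  let W : I × ({j : Fin m // j ≠ z} → F) → Matrix (Fin m) (Fin m) F := fun p =>
    hActD σ (gc z (ex p.2)) (hActD σ (dl z o (lam p.1)) Y1)
  have hWmem : ∀ p, W p ∈ Herm σ m := fun p => hActD_mem σ hσ2 _ (hActD_mem σ hσ2 _ hY1mem)
  have hD00 : ∀ ν : I, hActD σ (dl z o (lam ν)) Y1 z z = ν.1 * Y1 z z := by
    intro ν
    rw [hActD_dl, if_pos rfl, hσ, ← hlam ν]
    ring
  have hW00 : ∀ p, W p z z = p.1.1 * Y1 z z := by
    intro p
    show hActD σ (gc z (ex p.2)) (hActD σ (dl z o (lam p.1)) Y1) z z = _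
    rw [hActD_gc_zz, hD00]
  have hWj0 : ∀ p (j : {j : Fin m // j ≠ z}),
      W p j.1 z = hActD σ (dl z o (lam p.1)) Y1 j.1 z + σ (p.2 j) * (p.1.1 * Y1 z z) := by
    intro p j
    show hActD σ (gc z (ex p.2)) (hActD σ (dl z o (lam p.1)) Y1) j.1 z = _
    rw [hActD_gc_jz σ z _ _ j.1 j.2, hD00]
    simp only [ex, dif_neg j.2]
  have hν0 : ∀ ν : I, ν.1 ≠ 0 := by
    intro ν
    rw [← hlam ν]
    exact pow_ne_zero _ (hlam0 ν)
  have hWorb : ∀ p, ∃ g : Matrix.SpecialLinearGroup (Fin m) F, W p = hActD σ g.1 Y.1 := by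
    intro p
    refine ⟨g1 * ⟨dl z o (lam p.1), det_dl z o hzo _ (hlam0 p.1)⟩ * ⟨gc z (ex p.2), det_gc z hz _⟩, ?_⟩
    show W p = hActD σ (g1.1 * dl z o (lam p.1) * gc z (ex p.2)) Y.1
    rw [hActD_mul, hActD_mul, ← hY1]
  let f : I × ({j : Fin m // j ≠ z} → F) → {Z : Herm σ m // (∃ g : Matrix.SpecialLinearGroup (Fin m) F,
        (Z : Matrix (Fin m) (Fin m) F) = hActD σ g.1 Y.1) ∧
        (Z : Matrix (Fin m) (Fin m) F) z z ≠ 0} := fun p =>
    ⟨⟨W p, hWmem p⟩, hWorb p, by
      show W p z z ≠ 0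
      rw [hW00]
      exact mul_ne_zero (hν0 p.1) hg1⟩
  have hf : Function.Injective f := by
    intro p p' hpp
    have hW : W p = W p' := congrArg (fun Z => (Z.1 : Matrix (Fin m) (Fin m) F)) hpp
    have h1 : p.1 = p'.1 := by
      have := congrFun (congrFun hW z) z
      rw [hW00, hW00] at this
      exact Subtype.ext (mul_right_cancel₀ hg1 this)
    have h2 : p.2 = p'.2 := by
      funext j
      have := congrFun (congrFun hW j.1) z
      rw [hWj0, hWj0, h1] at this
      have h3 := add_left_cancel this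
      have h4 := mul_right_cancel₀ (mul_ne_zero (hν0 p'.1) hg1) h3
      exact σ.injective h4
    exact Prod.ext h1 h2
  have hfin : Finite {Z : Herm σ m // (∃ g : Matrix.SpecialLinearGroup (Fin m) F,
        (Z : Matrix (Fin m) (Fin m) F) = hActD σ g.1 Y.1) ∧
        (Z : Matrix (Fin m) (Fin m) F) z z ≠ 0} := inferInstance
  have hle := Nat.card_le_card_of_injective f hf
  have hcardJ : Fintype.card {j : Fin m // j ≠ z} = m - 1 := by
    rw [Fintype.card_subtype_compl, Fintype.card_fin, Fintype.card_subtype_eq]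
  have hdom : Nat.card (I × ({j : Fin m // j ≠ z} → F)) = I.card * q ^ (2 * m - 2) := by
    rw [Nat.card_prod, Nat.card_eq_fintype_card, Nat.card_eq_fintype_card, Fintype.card_coe,
      Fintype.card_fun, hcardJ, hF, ← pow_mul]
    congr 2
    omega
  calc (q - 1) * q ^ (2 * m - 2) ≤ I.card * q ^ (2 * m - 2) := Nat.mul_le_mul_right _ hIcard
    _ = Nat.card (I × ({j : Fin m // j ≠ z} → F)) := hdom.symm
    _ ≤ _ := hle

/-- **LS-HA** (blueprint §3, Steps 1-3): the orbit has at least `(q - 1) q^(2m-2)` elements with non-zero `(0,0)` entry. -/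
theorem orbit_pos_card_ge (hF : Fintype.card F = q ^ 2) (σ : F →+* F) (hσ : ∀ x, σ x = x ^ q)
    (hσ2 : ∀ x, σ (σ x) = x) (m : ℕ) (hm : 2 ≤ m) (Y : Herm σ m) (hY : Y ≠ 0) :
    (q - 1) * q ^ (2 * m - 2) ≤
      Nat.card {Z : Herm σ m // (∃ g : Matrix.SpecialLinearGroup (Fin m) F,
        (Z : Matrix (Fin m) (Fin m) F) = hActD σ g.1 Y.1) ∧
        (Z : Matrix (Fin m) (Fin m) F) ⟨0, by omega⟩ ⟨0, by omega⟩ ≠ 0} :=
  orbit_pos_card_ge_aux hF σ hσ hσ2 m ⟨0, by omega⟩ ⟨1, by omega⟩ rfl (by simp [Fin.ext_iff]) Y hY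

end count

end Cfsg.Agent.Lib.H20.LS
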