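import Mathlib
import Cfsg.Agent.Lib.H9.M11SUB
import Cfsg.Agent.Lib.H20.M11QC

/-!
# S0420, QREG part D (helper20): piece P3c `exists_order3_normalizing` (core, P3b as a hypothesis)
-/

set_option autoImplicit false
open scoped Pointwise

universe u

namespace Cfsg.Agent.Lib.H20.M11U

open Cfsg.Agent.Lib.H1.M11U
open Cfsg.Agent.Lib.H9.M11U (smul_eq_iff_nrm conj_mem_nrm_smul card_inf_nrm_smul not_adj_self adj_trans)

variable {G : Type u} [Group G] [Finite G]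

/-- an element swapping `P` and `P'` normalises `Q = N(P) ∩ N(P')` -/
theorem swap_conj_mem {P P' : Sylow 3 G} {g : G} (hg1 : g • P = P') (hg2 : g • P' = P) {q : G}
    (hq : q ∈ Nrm P ⊓ Nrm P') : g * q * g⁻¹ ∈ Nrm P ⊓ Nrm P' := by
  have h1 := conj_mem_nrm_smul g (Subgroup.mem_inf.1 hq).1
  have h2 := conj_mem_nrm_smul g (Subgroup.mem_inf.1 hq).2
  rw [hg1] at h1
  rw [hg2] at h2
  exact Subgroup.mem_inf.2 ⟨h2, h1⟩

/-- an element normalising `Q` permutes the fixed points of `Q` -/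
theorem fixed_smul_of_normalizes {Q : Subgroup G} {g : G} (hg : ∀ q ∈ Q, g⁻¹ * q * g ∈ Q)
    {X : Sylow 3 G} (hX : ∀ q ∈ Q, q • X = X) : ∀ q ∈ Q, q • (g • X) = g • X := by
  intro q hq
  have h1 := hX _ (hg q hq)
  calc q • (g • X) = (g * (g⁻¹ * q * g)) • X := by
        rw [← mul_smul]; congr 1; group
    _ = g • ((g⁻¹ * q * g) • X) := mul_smul _ _ _
    _ = g • X := by rw [h1]

/-- the orbital of an adjacent pair is self-paired -/
theorem exists_swap (h : Hyp G) {P P' : Sylow 3 G} (hadj : Adj P P') :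
    ∃ g : G, g • P = P' ∧ g • P' = P := by
  haveI : Fact (Nat.Prime 3) := ⟨Nat.prime_three⟩
  obtain ⟨g0, hg0⟩ := MulAction.exists_smul_eq G P P'
  have h1 : Adj P' (g0 • P') := by
    have : Adj (g0 • P) (g0 • P') := by
      unfold Adj
      rw [card_inf_nrm_smul]
      exact hadj
    rwa [hg0] at this
  have h2 : Adj P' P := by
    unfold Adj at hadj ⊢
    rw [inf_comm]
    exact hadj
  obtain ⟨n, hn, hn'⟩ := adj_trans h h1 h2
  refine ⟨n * g0, ?_, ?_⟩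
  · rw [mul_smul, hg0]
    exact (smul_eq_iff_nrm n P').2 hn
  · rw [mul_smul]
    exact hn'

/-- (P3c), core -/
theorem exists_order3_normalizing_core (h : Hyp G) {P P' : Sylow 3 G} (hadj : Adj P P')
    (hfix : ∀ {S : Subgroup G}, S ≤ Nrm P → Nat.card S = 16 → Nrm P ⊓ Nrm P' ≤ S →
      ∀ {s : G}, s ∈ S → s ∉ Nrm P' → ∀ X : Sylow 3 G,
        (∀ q ∈ Nrm P ⊓ Nrm P', q • X = X) → X = P ∨ X = P' ∨ X = s • P') :
    ∃ d : G, orderOf d = 3 ∧ ∀ q ∈ Nrm P ⊓ Nrm P', d * q * d⁻¹ ∈ Nrm P ⊓ Nrm P' := by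
  classical
  haveI : Fact (Nat.Prime 3) := ⟨Nat.prime_three⟩
  obtain ⟨S, hSN, hS16, hQS⟩ := exists_sylow2_ge h hadj
  -- `s ∈ S ∖ Q`
  obtain ⟨s, hsS, hsQ⟩ : ∃ s ∈ S, s ∉ Nrm P ⊓ Nrm P' := by
    by_contra hcon
    push_neg at hcon
    have hle : S ≤ Nrm P ⊓ Nrm P' := fun x hx => hcon x hx
    have := Subgroup.card_le_of_le hle
    rw [hS16, hadj] at this
    omega
  have hsN : s ∈ Nrm P := hSN hsS
  have hsP' : s ∉ Nrm P' := fun h0 => hsQ (Subgroup.mem_inf.2 ⟨hsN, h0⟩)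
  have hF := hfix hSN hS16 hQS hsS hsP'
  have hcard2 : Nat.card S = 2 * Nat.card ↥(Nrm P ⊓ Nrm P') := by rw [hS16, hadj]
  have hsnorm : ∀ q ∈ Nrm P ⊓ Nrm P', s * q * s⁻¹ ∈ Nrm P ⊓ Nrm P' := fun q hq =>
    conj_mem_of_card_double hQS hcard2 hsS hq
  have hsnorm' : ∀ q ∈ Nrm P ⊓ Nrm P', s⁻¹ * q * s ∈ Nrm P ⊓ Nrm P' := by
    intro q hq
    have := conj_mem_of_card_double hQS hcard2 (S.inv_mem hsS) hq
    rwa [inv_inv] at this
  have hPP' : P ≠ P' := by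
    rintro rfl
    exact not_adj_self h P hadj
  have hsPeq : s • P = P := (smul_eq_iff_nrm s P).2 hsN
  have hsP'ne : s • P' ≠ P' := fun h0 => hsP' ((smul_eq_iff_nrm s P').1 h0)
  have hsP'neP : s • P' ≠ P := by
    intro h0
    have h1 : s • P' = s • P := by rw [h0, hsPeq]
    exact hPP' (smul_left_cancel s h1).symm
  -- fixed points of `Q`
  have hfP : ∀ q ∈ Nrm P ⊓ Nrm P', q • P = P := fun q hq =>
    (smul_eq_iff_nrm q P).2 (Subgroup.mem_inf.1 hq).1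
  have hfP' : ∀ q ∈ Nrm P ⊓ Nrm P', q • P' = P' := fun q hq =>
    (smul_eq_iff_nrm q P').2 (Subgroup.mem_inf.1 hq).2
  have hfsP' : ∀ q ∈ Nrm P ⊓ Nrm P', q • (s • P') = s • P' :=
    fixed_smul_of_normalizes hsnorm' hfP'
  -- (1) `s` swaps `P'` and `s • P'`
  have hss : s • (s • P') = P' := by
    rcases hF _ (fixed_smul_of_normalizes hsnorm' hfsP') with h1 | h1 | h1
    · exfalso
      have h2 : s • (s • P') = s • (s • P) := by rw [h1, hsPeq, hsPeq]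
      exact hPP' (smul_left_cancel s (smul_left_cancel s h2)).symm
    · exact h1
    · exact absurd (smul_left_cancel s h1) hsP'ne
  -- (2) the swap
  obtain ⟨g, hgP, hgP'⟩ := exists_swap h hadj
  have hginvP : g⁻¹ • P = P' := by rw [← hgP', inv_smul_smul]
  have hginvP' : g⁻¹ • P' = P := by rw [← hgP, inv_smul_smul]
  have hgnorm : ∀ q ∈ Nrm P ⊓ Nrm P', g * q * g⁻¹ ∈ Nrm P ⊓ Nrm P' := fun q hq =>
    swap_conj_mem hgP hgP' hq
  have hgnorm' : ∀ q ∈ Nrm P ⊓ Nrm P', g⁻¹ * q * g ∈ Nrm P ⊓ Nrm P' := by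
    intro q hq
    have := swap_conj_mem hginvP hginvP' hq
    rwa [inv_inv] at this
  -- (3) `g` fixes `s • P'`
  have hgs : g • (s • P') = s • P' := by
    rcases hF _ (fixed_smul_of_normalizes hgnorm' hfsP') with h1 | h1 | h1
    · exfalso
      have h2 : g • (s • P') = g • P' := by rw [h1, hgP']
      exact hsP'ne (smul_left_cancel g h2)
    · exfalso
      have h2 : g • (s • P') = g • P := by rw [h1, hgP]
      exact hsP'neP (smul_left_cancel g h2)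
    · exact h1
  -- (4) the 3-cycle
  set d0 : G := g * s with hd0
  have hd0P : d0 • P = P' := by rw [hd0, mul_smul, hsPeq, hgP]
  have hd0P' : d0 • P' = s • P' := by rw [hd0, mul_smul, hgs]
  have hd0sP' : d0 • (s • P') = P := by rw [hd0, mul_smul, hss, hgP']
  have hd0norm : ∀ q ∈ Nrm P ⊓ Nrm P', d0 * q * d0⁻¹ ∈ Nrm P ⊓ Nrm P' := by
    intro q hq
    have h1 := hgnorm _ (hsnorm q hq)
    have h2 : d0 * q * d0⁻¹ = g * (s * q * s⁻¹) * g⁻¹ := by rw [hd0]; group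
    rw [h2]
    exact h1
  -- (5) `d0 ^ 3 ∈ Q`
  have h3P : (d0 ^ 3) • P = P := by
    have : d0 ^ 3 = d0 * d0 * d0 := pow_three' d0
    rw [this, mul_smul, mul_smul, hd0P, hd0P', hd0sP']
  have h3P' : (d0 ^ 3) • P' = P' := by
    have : d0 ^ 3 = d0 * d0 * d0 := pow_three' d0
    rw [this, mul_smul, mul_smul, hd0P', hd0sP', hd0P]
  have h3Q : d0 ^ 3 ∈ Nrm P ⊓ Nrm P' :=
    Subgroup.mem_inf.2 ⟨(smul_eq_iff_nrm _ P).1 h3P, (smul_eq_iff_nrm _ P').1 h3P'⟩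
  have h24 : (d0 ^ 3) ^ 8 = 1 := by
    have h1 : (⟨d0 ^ 3, h3Q⟩ : ↥(Nrm P ⊓ Nrm P')) ^ Nat.card ↥(Nrm P ⊓ Nrm P') = 1 :=
      pow_card_eq_one'
    rw [hadj] at h1
    exact congrArg Subtype.val h1
  -- (6) `d = d0 ^ 8`
  refine ⟨d0 ^ 8, ?_, ?_⟩
  · apply orderOf_eq_prime
    · rw [← pow_mul, show 8 * 3 = 3 * 8 from rfl, pow_mul]
      exact h24
    · intro h1
      have h2 : (d0 ^ 8) • P = s • P' := by
        have : d0 ^ 8 = d0 * d0 * (d0 ^ 3) * (d0 ^ 3) := by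
          rw [← pow_two, ← pow_add, ← pow_add]
        rw [this, mul_smul, mul_smul, mul_smul, h3P, h3P, hd0P, hd0P']
      rw [h1, one_smul] at h2
      exact hsP'neP h2.symm
  · -- (7) powers of `d0` normalise `Q`
    have hpow : ∀ n : ℕ, ∀ q ∈ Nrm P ⊓ Nrm P', d0 ^ n * q * (d0 ^ n)⁻¹ ∈ Nrm P ⊓ Nrm P' := by
      intro n
      induction n with
      | zero => intro q hq; simpa using hq
      | succ n ih =>
        intro q hq
        have h1 := hd0norm _ (ih q hq)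
        have h2 : d0 ^ (n + 1) * q * (d0 ^ (n + 1))⁻¹ = d0 * (d0 ^ n * q * (d0 ^ n)⁻¹) * d0⁻¹ := by
          rw [pow_succ']; group
        rw [h2]
        exact h1
    exact hpow 8

end Cfsg.Agent.Lib.H20.M11U
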