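import Mathlib
import Cfsg.Agent.Lib.H26.MC3Defs
import Cfsg.Agent.Lib.H26.MC3Nm
import Cfsg.Agent.Lib.H19.MetaPow
import Cfsg.Agent.Lib.H22.UniqueOrderP

/-!
S4079 piece A2 (KEY): `|L'| ≤ p` (architect helper26, blueprint tools/blueprints/S4079.md).
-/

set_option autoImplicit false

namespace Cfsg.Agent.Lib.H20.MC3

open Cfsg.Agent.Lib.H26.MC3 Cfsg.Agent.Lib.H19.MC

universe u

variable {p : ℕ} [Fact p.Prime] {L : Type u} [Group L] [Finite L]

/-- an automorphism preserves the commutator subgroup -/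
theorem aut_mem_commutator (τ : MulAut L) {c : L} (hc : c ∈ commutator L) : τ c ∈ commutator L := by
  have h := Subgroup.characteristic_iff_comap_eq.mp
    (inferInstance : (commutator L).Characteristic) τ
  have : c ∈ (commutator L).comap τ.toMonoidHom := by rw [h]; exact hc
  exact this

/-- in a `p`-group, `c^(p u) = 1` with `p ∤ u` forces `c^p = 1`. -/
theorem pow_p_eq_one_of_pow_mul (hL : IsPGroup p L) {c : L} {u : ℕ} (hu : ¬ p ∣ u)
    (h : c ^ (p * u) = 1) : c ^ p = 1 := by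
  have hp : p.Prime := Fact.out
  rw [pow_mul] at h
  obtain ⟨k, hk⟩ := (IsPGroup.iff_orderOf.1 hL) (c ^ p)
  have h1 : orderOf (c ^ p) ∣ u := orderOf_dvd_of_pow_eq_one h
  rcases Nat.eq_zero_or_pos k with h0 | h0
  · rw [h0, pow_zero, orderOf_eq_one_iff] at hk
    exact hk
  · exfalso
    apply hu
    refine dvd_trans ?_ h1
    rw [hk]
    exact dvd_pow_self p h0.ne'

variable {σ : MulAut L}

/-- A2 (K) -/
theorem card_commutator_le (h : Hyp p L) (hm : Mov p σ) (F : Facts p L) (SF : SFacts p σ) :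
    Nat.card ↥(commutator L) ≤ p := by
  classical
  have hp : p.Prime := Fact.out
  have hp2 := h.hp2
  by_contra hlt
  push Not at hlt
  set C : Subgroup L := commutator L with hCdef
  have hCcyc : IsCyclic ↥C := F.isCyclic_commutator
  letI : CommGroup ↥C := IsCyclic.commGroup
  have hCcomm : ∀ a ∈ C, ∀ b ∈ C, a * b = b * a := by
    intro a ha b hb
    have := mul_comm (⟨a, ha⟩ : ↥C) ⟨b, hb⟩
    exact congrArg Subtype.val this
  -- |C| = p^k, k ≥ 2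
  have hCp : IsPGroup p ↥C := h.hL.to_subgroup C
  obtain ⟨k, hk⟩ := hCp.exists_card_eq
  have hk2 : 2 ≤ k := by
    by_contra hk2
    push Not at hk2
    have : p ^ k ≤ p := by
      calc p ^ k ≤ p ^ 1 := Nat.pow_le_pow_right hp.pos (by omega)
        _ = p := pow_one p
    rw [hk] at hlt
    omega
  obtain ⟨g0, hg0⟩ := IsCyclic.exists_generator (α := ↥C)
  have hord : orderOf g0 = p ^ k := by
    rw [orderOf_eq_card_of_forall_mem_zpowers hg0, hk]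
  set c₀ : L := (g0 : L) with hc₀
  have hc₀C : c₀ ∈ C := g0.2
  have hordc₀ : orderOf c₀ = p ^ k := by
    rw [hc₀, Subgroup.orderOf_coe, hord]
  -- A0 on C
  obtain ⟨l, hl, hσC⟩ := SF.exists_pow_map C hCcyc (fun c hc => aut_mem_commutator σ hc)
  -- the element of order p
  set d₀ : L := c₀ ^ (p ^ (k - 2)) with hd₀
  set z₀ : L := d₀ ^ p with hz₀
  have hd₀C : d₀ ∈ C := C.pow_mem hc₀C _
  have hz₀C : z₀ ∈ C := C.pow_mem hd₀C _
  have hz₀eq : z₀ = c₀ ^ (p ^ (k - 1)) := by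
    rw [hz₀, hd₀, ← pow_mul, ← pow_succ]
    congr 2
    omega
  have hz₀p : z₀ ^ p = 1 := by
    rw [hz₀eq, ← pow_mul, ← pow_succ, show k - 1 + 1 = k by omega, ← hordc₀]
    exact pow_orderOf_eq_one c₀
  have hz₀ne : z₀ ≠ 1 := by
    rw [hz₀eq]
    intro h1
    have h2 : orderOf c₀ ∣ p ^ (k - 1) := orderOf_dvd_of_pow_eq_one h1
    rw [hordc₀] at h2
    have h3 := Nat.le_of_dvd (pow_pos hp.pos _) h2
    have h4 : p ^ (k - 1) < p ^ k := Nat.pow_lt_pow_right hp.one_lt (by omega)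
    omega
  have hz₀fix : σ z₀ = z₀ := by
    rw [hσC z₀ hz₀C]
    obtain ⟨t, ht⟩ : ∃ t, l = p * t + 1 := ⟨l / p, by
      have := Nat.div_add_mod l p
      rw [hl] at this; omega⟩
    rw [ht, pow_succ, pow_mul, hz₀p, one_pow, one_mul]
  have hz₀Z : z₀ ∈ Zf p σ := by
    refine Subgroup.mem_inf.2 ⟨(F.mem_Om_iff z₀).2 hz₀p, hz₀fix⟩
  -- (K0)
  have K0 : ∀ z ∈ Zf p σ, ∃ d ∈ C, d ^ p = z := by
    intro z hz
    have htop : Subgroup.zpowers (⟨z₀, hz₀Z⟩ : ↥(Zf p σ)) = ⊤ :=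
      zpowers_eq_top_of_prime_card SF.card_Zf (by
        intro h1
        exact hz₀ne (congrArg Subtype.val h1))
    have hmem : (⟨z, hz⟩ : ↥(Zf p σ)) ∈ Subgroup.zpowers (⟨z₀, hz₀Z⟩ : ↥(Zf p σ)) := by
      rw [htop]; exact Subgroup.mem_top _
    obtain ⟨j, hj⟩ := Subgroup.mem_zpowers_iff.1 hmem
    have hj' : z₀ ^ j = z := by
      have := congrArg Subtype.val hj
      simpa using this
    refine ⟨d₀ ^ j, C.zpow_mem hd₀C j, ?_⟩
    rw [← hj', hz₀]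
    rw [← zpow_natCast, ← zpow_mul, mul_comm, zpow_mul, zpow_natCast]
  -- (K1)
  obtain ⟨x₀, hx₀p, hx₀σ⟩ := hm.hmv
  obtain ⟨x, hx⟩ := F.exists_pow_eq hx₀p
  set z₁ : L := x₀⁻¹ * σ x₀ with hz₁
  have hz₁Z : z₁ ∈ Zf p σ := SF.inv_mul_sigma_mem_Zf hx₀p
  have hz₁ne : z₁ ≠ 1 := by
    intro h1
    apply hx₀σ
    rw [hz₁] at h1
    have : σ x₀ = x₀ * (x₀⁻¹ * σ x₀) := by group
    rw [this, h1, mul_one]
  -- (K2)
  set y : L := x⁻¹ * σ x with hy
  have hxy : x * y = σ x := by rw [hy]; group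
  have hxyp : (x * y) ^ p = x₀ * z₁ := by
    rw [hxy, ← map_pow, hx, hz₁]; group
  -- (K3)
  obtain ⟨d, hdC, hd⟩ := F.mul_pow_mod x y
  obtain ⟨d₁, hd₁C, hd₁⟩ := K0 z₁ hz₁Z
  have hyp1 : y ^ p = z₁ * (d ^ p)⁻¹ := by
    rw [hxyp, hx] at hd
    have : z₁ = y ^ p * d ^ p := by
      have h2 : x₀ * z₁ = x₀ * (y ^ p * d ^ p) := by rw [hd]; group
      exact mul_left_cancel h2
    rw [this]; group
  set c₁ : L := d₁ * d⁻¹ with hc₁
  have hc₁C : c₁ ∈ C := C.mul_mem hd₁C (C.inv_mem hdC)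
  have hc₁p : y ^ p = c₁ ^ p := by
    rw [hyp1, hc₁]
    have hcomm : Commute d₁ d⁻¹ := hCcomm d₁ hd₁C d⁻¹ (C.inv_mem hdC)
    rw [hcomm.mul_pow, hd₁, inv_pow]
  -- (K4)
  obtain ⟨c', hc'C, hc'⟩ := F.exists_adjust hc₁C hc₁p
  set e₁ : L := c'⁻¹ * y with he₁
  have hye : y = c' * e₁ := by rw [he₁]; group
  -- (K8)
  have hN : Nm σ p y = 1 := Nm_eq_one_of_pow σ hm.hσ x
  -- (K9)
  have hpowC : ∀ (i : ℕ) (c : L), c ∈ C → (σ ^ i) c ∈ C := fun i c hc => aut_mem_commutator (σ ^ i) hc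
  have hNmul : Nm σ p (c' * e₁) = Nm σ p c' * Nm σ p e₁ := by
    apply Nm_mul
    intro i j
    apply F.commutator_comm_Om (hpowC i c' hc'C)
    rw [← map_pow, hc', map_one]
  have hNc : Nm σ p c' = c' ^ geomSum l p := by
    apply Nm_pow_map
    intro t
    exact hσC _ (C.pow_mem hc'C t)
  set w : L := e₁⁻¹ * σ e₁ with hw
  have hwZ : w ∈ Zf p σ := SF.inv_mul_sigma_mem_Zf hc'
  have hwfix : σ w = w := (Subgroup.mem_inf.1 hwZ).2
  have hwp : w ^ p = 1 := (F.mem_Om_iff w).1 (Subgroup.mem_inf.1 hwZ).1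
  have hwc : ∀ g : L, g * w = w * g := fun g => Subgroup.mem_center_iff.1 (SF.Zf_le_center hwZ) g
  have hNe : Nm σ p e₁ = 1 := by
    have hf := Nm_formula σ (y := e₁) (w := w) (u := 1) (c := 1)
      (by rw [hw]; group) (by rw [hwfix, mul_one]) (map_one σ) (by simp) (by simp) (by simp)
      (by simp) (by simp) (by rw [mul_one]; exact (hwc e₁).symm) p
    rw [hf, hc']
    simp only [one_pow, mul_one, one_mul]
    have hdvd : p ∣ p.choose 2 := hp.dvd_choose_self (by norm_num) (by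
      have := hp.two_le; omega)
    obtain ⟨t, ht⟩ := hdvd
    rw [ht, pow_mul, hwp, one_pow]
  have hc'p : c' ^ p = 1 := by
    rw [hye, hNmul, hNc, hNe, mul_one] at hN
    obtain ⟨u, hu, hpu⟩ := geomSum_prime_pow hp2 hl 1
    rw [pow_one] at hu
    rw [hu] at hN
    exact pow_p_eq_one_of_pow_mul h.hL hpu hN
  have hyp : y ^ p = 1 := by
    rw [hye]
    exact F.mul_pow_eq_one hc'p hc'
  -- (K10)
  obtain ⟨hcp, hcc⟩ := F.comm_pow_eq_one x y hyp
  have hinv : y * x * y⁻¹ * x⁻¹ = (x * y * x⁻¹ * y⁻¹)⁻¹ := by group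
  have hcc' : ∀ g : L, g * (y * x * y⁻¹ * x⁻¹) = (y * x * y⁻¹ * x⁻¹) * g := by
    intro g
    rw [hinv]
    have h1 := hcc g⁻¹
    calc g * (x * y * x⁻¹ * y⁻¹)⁻¹ = ((x * y * x⁻¹ * y⁻¹) * g⁻¹)⁻¹ := by group
      _ = (g⁻¹ * (x * y * x⁻¹ * y⁻¹))⁻¹ := by rw [h1]
      _ = (x * y * x⁻¹ * y⁻¹)⁻¹ * g := by group
  have hfin := Cfsg.Agent.Lib.H22.mul_pow_of_central (u := x) (v := y) hcc' p
  have hexp : (y * x * y⁻¹ * x⁻¹) ^ (p * (p - 1) / 2) = 1 := by
    have hodd : p % 2 = 1 := hp.eq_two_or_odd.resolve_left hp2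
    have h2 : p * (p - 1) / 2 = p * ((p - 1) / 2) := by
      have : (p - 1) % 2 = 0 := by omega
      obtain ⟨t, ht⟩ := Nat.dvd_of_mod_eq_zero this
      rw [ht, ← mul_assoc, mul_comm p 2, mul_assoc]
      simp
    rw [h2, pow_mul, hinv, inv_pow, hcp, inv_one, one_pow]
  rw [hexp, mul_one, hxyp, hx, hyp, mul_one] at hfin
  exact hz₁ne (mul_left_cancel (a := x₀) (by rw [hfin, mul_one]))

end Cfsg.Agent.Lib.H20.MC3
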