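import Mathlib
import Cfsg.Agent.Lib.H26.MC3Defs
import Cfsg.Agent.Lib.H26.MC3Nm

/-!
S4079 piece A5: `p = 3` (architect helper26, blueprint tools/blueprints/S4079.md).
-/

set_option autoImplicit false

namespace Cfsg.Agent.Lib.H20.MC3

open Cfsg.Agent.Lib.H26.MC3

universe u

variable {p : ℕ} [Fact p.Prime] {L : Type u} [Group L] [Finite L]

variable {σ : MulAut L}

/-- A5 -/
theorem p_eq_three (h : Hyp p L) (hm : Mov p σ) (F : Facts p L) (SF : SFacts p σ)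
    (hom : ∀ g k : L, (g * k) ^ p = g ^ p * k ^ p) :
    p = 3 ∧ ∃ y : L, y ^ p ∈ Zf p σ ∧ y ^ p ≠ 1 ∧ (y⁻¹ * σ y) ^ p = 1 ∧ y⁻¹ * σ y ∉ Zf p σ := by
  classical
  have hp : p.Prime := Fact.out
  have hp2 := h.hp2
  have hcen : ∀ {z : L}, z ∈ Zf p σ → ∀ g : L, g * z = z * g :=
    fun hz g => Subgroup.mem_center_iff.1 (SF.Zf_le_center hz) g
  have hfix : ∀ {z : L}, z ∈ Zf p σ → σ z = z := fun hz => (Subgroup.mem_inf.1 hz).2
  have hZp : ∀ {z : L}, z ∈ Zf p σ → z ^ p = 1 :=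
    fun {z} hz => (F.mem_Om_iff z).1 (Subgroup.mem_inf.1 hz).1
  obtain ⟨x₀, hx₀p, hx₀σ⟩ := hm.hmv
  obtain ⟨x, hx⟩ := F.exists_pow_eq hx₀p
  set z₁ : L := x₀⁻¹ * σ x₀ with hz₁
  have hz₁Z : z₁ ∈ Zf p σ := SF.inv_mul_sigma_mem_Zf hx₀p
  have hz₁ne : z₁ ≠ 1 := by
    intro h1
    apply hx₀σ
    rw [hz₁] at h1
    have : σ x₀ = x₀ * (x₀⁻¹ * σ x₀) := by group
    rw [this, h1, mul_one]
  set y : L := x⁻¹ * σ x with hy
  have hyp : y ^ p = z₁ := by
    rw [hy, hom, inv_pow, ← map_pow, hx]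
  set w : L := y⁻¹ * σ y with hw
  have hwp : w ^ p = 1 := by
    rw [hw, hom, inv_pow, ← map_pow, hyp, hfix hz₁Z]
    group
  set u : L := w⁻¹ * σ w with hu
  have huZ : u ∈ Zf p σ := SF.inv_mul_sigma_mem_Zf hwp
  set c : L := y⁻¹ * w * y * w⁻¹ with hc
  have hcZ : c ∈ Zf p σ := by
    have := SF.comm_mem_Zf y⁻¹ hwp
    rw [inv_inv] at this
    exact this
  have hwy : w * y = y * w * c := by
    have h1 : w * c = c * w := hcen hcZ w
    calc w * y = y * (y⁻¹ * w * y * w⁻¹) * w := by group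
      _ = y * (c * w) := by rw [← hc]; group
      _ = y * (w * c) := by rw [h1]
      _ = y * w * c := by group
  have hN : Nm σ p y = 1 := Nm_eq_one_of_pow σ hm.hσ x
  have hf := Nm_formula σ (y := y) (w := w) (u := u) (c := c)
    (by rw [hw]; group) (by rw [hu]; group) (hfix huZ) (hcen huZ w) ((hcen hcZ w).symm)
    (hcen huZ c) ((hcen hcZ y).symm) ((hcen huZ y).symm) hwy p
  rw [hN, hyp] at hf
  have h2lt : 2 < p := lt_of_le_of_ne hp.two_le (Ne.symm hp2)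
  have hw2 : w ^ p.choose 2 = 1 := by
    obtain ⟨t, ht⟩ := hp.dvd_choose_self (by norm_num) h2lt
    rw [ht, pow_mul, hwp, one_pow]
  rw [hw2, mul_one] at hf
  have hp3 : p = 3 := by
    by_contra hne
    have h3lt : 3 < p := by omega
    obtain ⟨t, ht⟩ := hp.dvd_choose_self (by norm_num) h3lt
    rw [ht, pow_mul, pow_mul, hZp huZ, hZp hcZ] at hf
    simp only [one_pow, mul_one] at hf
    exact hz₁ne hf.symm
  refine ⟨hp3, y, by rw [hyp]; exact hz₁Z, by rw [hyp]; exact hz₁ne, hwp, ?_⟩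
  intro hwZ0
  have hwZ : w ∈ Zf p σ := hwZ0
  have hu1 : u = 1 := by
    have h1 : σ w = w := hfix hwZ
    rw [hu, h1]; group
  have hc1 : c = 1 := by
    rw [hc]
    have := hcen hwZ y
    calc y⁻¹ * w * y * w⁻¹ = y⁻¹ * (w * y) * w⁻¹ := by group
      _ = y⁻¹ * (y * w) * w⁻¹ := by rw [← this]
      _ = 1 := by group
  rw [hu1, hc1] at hf
  simp only [one_pow, mul_one] at hf
  exact hz₁ne hf.symm

end Cfsg.Agent.Lib.H20.MC3
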