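import Cfsg.Agent.S4755

/-!
# S4756 piece BW3 (architect helper23): if `G/D` is abelian and `g` centralizes no nonidentity
element of `D ⊴ G`, then all nonlinear irreducible characters vanish at `g`.
-/

set_option autoImplicit false

namespace Cfsg.Agent.Lib.H20.MUL

open Cfsg
open Cfsg.Agent.Lib.H24 Cfsg.Agent.Lib.L0
open scoped ComplexConjugate

/-- a linear character has values of norm one -/
theorem normSq_linear_eq_one {G : Type*} [Group G] [Finite G] (χ : IrrCharacter G)
    (h1 : (χ : G → ℂ) 1 = 1) (g : G) : Complex.normSq ((χ : G → ℂ) g) = 1 := by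
  have hχ := isCharacter_of_irr χ.2
  set f := linearCharHom hχ h1 with hf
  have hpow : ((χ : G → ℂ) g) ^ (Nat.card G) = 1 := by
    have h2 : (f g) ^ (Nat.card G) = 1 := by
      rw [← map_pow, pow_card_eq_one', map_one]
    have := congrArg (fun t : ℂˣ => (t : ℂ)) h2
    simpa [hf, linearCharHom_apply] using this
  have hn : ‖(χ : G → ℂ) g‖ = 1 :=
    Complex.norm_eq_one_of_pow_eq_one hpow (Nat.card_pos (α := G)).ne'
  rw [Complex.normSq_eq_norm_sq, hn, one_pow]

/-- BW3 (character theory): `D ⊴ G` with `G/D` abelian, `g` centralizes no nonidentity element of `D`.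
Then every nonlinear irreducible character vanishes at `g`. -/
theorem irr_eq_zero_of_centralizer_inf_eq_bot {G : Type*} [Group G] [Finite G] (D : Subgroup G)
    (hDn : D.Normal) (hD : commutator G ≤ D) (g : G)
    (hg : ∀ d ∈ D, g * d = d * g → d = 1)
    (χ : IrrCharacter G) (hnl : (χ : G → ℂ) 1 ≠ 1) : (χ : G → ℂ) g = 0 := by
  classical
  have := Fintype.ofFinite G
  have := Fintype.ofFinite (IrrCharacter G)
  set C : Subgroup G := Subgroup.centralizer ({g} : Set G) with hC
  have h2 := second_orthogonality (G := G) g g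
  rw [if_pos (IsConj.refl _)] at h2
  -- real version
  have h3 : ∑ ψ : IrrCharacter G, Complex.normSq ((ψ : G → ℂ) g) = (Nat.card C : ℝ) := by
    have h4 : ((∑ ψ : IrrCharacter G, Complex.normSq ((ψ : G → ℂ) g) : ℝ) : ℂ) =
        ((Nat.card C : ℝ) : ℂ) := by
      rw [Complex.ofReal_sum]
      rw [Complex.ofReal_natCast, ← h2]
      refine Finset.sum_congr rfl (fun ψ _ => ?_)
      rw [Complex.mul_conj]
    exact_mod_cast h4
  -- |C| ≤ |G : D|
  have hdisj : Disjoint D C := by
    rw [Subgroup.disjoint_def]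
    intro d hdD hdC
    refine hg d hdD ?_
    have := Subgroup.mem_centralizer_iff.mp hdC g (Set.mem_singleton g)
    exact this
  have hCle : Nat.card C ≤ D.index := by
    have h6 : D.subgroupOf C = ⊥ := Subgroup.subgroupOf_eq_bot.mpr hdisj
    have h7 : D.relIndex C * Nat.card (D.subgroupOf C) = Nat.card C := by
      have := Subgroup.index_mul_card (D.subgroupOf C)
      simpa [Subgroup.relIndex] using this
    rw [h6, Subgroup.card_bot, mul_one] at h7
    rw [← h7]
    exact Nat.le_of_dvd (Nat.pos_of_ne_zero Subgroup.index_ne_zero_of_finite)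
      (Subgroup.relIndex_dvd_index_of_normal D C)
  have hDle : D.index ≤ (commutator G).index :=
    Nat.le_of_dvd (Nat.pos_of_ne_zero Subgroup.index_ne_zero_of_finite)
      (Subgroup.index_dvd_of_le hD)
  -- split the sum
  have hsplit := Finset.sum_filter_add_sum_filter_not (Finset.univ : Finset (IrrCharacter G))
    (fun ψ : IrrCharacter G => (ψ : G → ℂ) 1 = 1) (fun ψ => Complex.normSq ((ψ : G → ℂ) g))
  have hlin : ∑ ψ ∈ Finset.univ.filter (fun ψ : IrrCharacter G => (ψ : G → ℂ) 1 = 1),
      Complex.normSq ((ψ : G → ℂ) g) = ((commutator G).index : ℝ) := by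
    rw [Finset.sum_congr rfl (fun ψ hψ => normSq_linear_eq_one ψ (Finset.mem_filter.mp hψ).2 g)]
    rw [Finset.sum_const, nsmul_eq_mul, mul_one]
    congr 1
    rw [← card_linear_irr (G := G), Nat.card_eq_fintype_card, Fintype.card_subtype]
  have hnonneg : ∀ ψ ∈ Finset.univ.filter (fun ψ : IrrCharacter G => ¬ (ψ : G → ℂ) 1 = 1),
      0 ≤ Complex.normSq ((ψ : G → ℂ) g) := fun ψ _ => Complex.normSq_nonneg _
  have hle : ∑ ψ ∈ Finset.univ.filter (fun ψ : IrrCharacter G => ¬ (ψ : G → ℂ) 1 = 1),
      Complex.normSq ((ψ : G → ℂ) g) ≤ 0 := by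
    have h8 : (Nat.card C : ℝ) ≤ ((commutator G).index : ℝ) := by
      exact_mod_cast hCle.trans hDle
    rw [hlin, h3] at hsplit
    linarith
  have hzero := (Finset.sum_eq_zero_iff_of_nonneg hnonneg).mp
    (le_antisymm hle (Finset.sum_nonneg hnonneg)) χ (Finset.mem_filter.mpr ⟨Finset.mem_univ _, hnl⟩)
  exact Complex.normSq_eq_zero.mp hzero

end Cfsg.Agent.Lib.H20.MUL
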