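import Cfsg.Agent.S4755

/-!
# S4756 piece CLS (architect helper23): if all nonlinear irreducible characters vanish at `g`,
the conjugacy class of `g` is the whole coset `g G'`.
-/

set_option autoImplicit false

namespace Cfsg.Agent.Lib.H20.MUL

open Cfsg
open Cfsg.Agent.Lib.H24 Cfsg.Agent.Lib.L0
open scoped ComplexConjugate

/-- CLS: if all nonlinear irreducible characters vanish at `g` then the class of `g` is the whole
coset `g G'`. -/
theorem isConj_of_vanish {G : Type*} [Group G] [Finite G] (g : G)
    (hvan : ∀ χ : IrrCharacter G, (χ : G → ℂ) 1 ≠ 1 → (χ : G → ℂ) g = 0)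
    (z : G) (hz : g⁻¹ * z ∈ commutator G) : IsConj g z := by
  classical
  have := Fintype.ofFinite G
  have := Fintype.ofFinite (IrrCharacter G)
  by_contra hnc
  have h1 := second_orthogonality (G := G) g z
  rw [if_neg hnc] at h1
  have h2 := second_orthogonality (G := G) g g
  rw [if_pos (IsConj.refl _)] at h2
  have h3 : ∑ χ : IrrCharacter G, (χ : G → ℂ) g * conj ((χ : G → ℂ) z) =
      ∑ χ : IrrCharacter G, (χ : G → ℂ) g * conj ((χ : G → ℂ) g) := by
    refine Finset.sum_congr rfl (fun χ _ => ?_)
    by_cases hlin : (χ : G → ℂ) 1 = 1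
    · rw [Cfsg.Agent.S4755.linear_eq_of_mem_commutator χ hlin g z hz]
    · rw [hvan χ hlin, zero_mul, zero_mul]
  rw [h1, h2] at h3
  have h4 : Nat.card (Subgroup.centralizer ({g} : Set G)) = 0 := by exact_mod_cast h3.symm
  exact (Nat.card_pos (α := Subgroup.centralizer ({g} : Set G))).ne' h4

end Cfsg.Agent.Lib.H20.MUL
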