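import Mathlib

set_option autoImplicit false

/-!
# Elements outside a normal subgroup with prime power order and maximal centralizer (part 1)

Basic lemmas: centralizers of elements outside `N` are `p`-groups.
-/

namespace Cfsg.Agent.Lib.H20.MC

variable {G : Type*} [Group G] [Finite G]

theorem not_isPrimePow_mul {q r j : ℕ} (hq : q.Prime) (hr : r.Prime) (hqr : r ≠ q) (hj : 0 < j) :
    ¬ IsPrimePow (q ^ j * r) := by
  intro h
  rw [isPrimePow_iff_unique_prime_dvd] at h
  obtain ⟨s, -, hs⟩ := h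
  have h1 := hs q ⟨hq, Dvd.dvd.mul_right (dvd_pow_self q hj.ne') r⟩
  have h2 := hs r ⟨hr, dvd_mul_left r _⟩
  exact hqr (h2.trans h1.symm)

theorem lemA (N : Subgroup G) (h : ∀ x : G, x ∉ N → IsPrimePow (orderOf x))
    {y : G} (hy : y ∉ N) {q j : ℕ} (hq : q.Prime) (hj : 0 < j) (hyo : orderOf y = q ^ j)
    {n : G} (hn : n ∈ N) (hc : Commute y n) {r : ℕ} (hr : r.Prime) (hrq : r ≠ q) :
    ¬ r ∣ orderOf n := by
  intro hdvd
  have ho : orderOf (n ^ (orderOf n / r)) = r :=
    orderOf_pow_orderOf_div (orderOf_pos n).ne' hdvd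
  have hn'N : n ^ (orderOf n / r) ∈ N := N.pow_mem hn _
  have hc' : Commute y (n ^ (orderOf n / r)) := hc.pow_right _
  have hyn : y * n ^ (orderOf n / r) ∉ N := fun hmem =>
    hy (by simpa using N.mul_mem hmem (N.inv_mem hn'N))
  have hcop : (orderOf y).Coprime (orderOf (n ^ (orderOf n / r))) := by
    rw [hyo, ho]; exact Nat.Coprime.pow_left _ ((Nat.coprime_primes hq hr).mpr hrq.symm)
  have hord := hc'.orderOf_mul_eq_mul_orderOf_of_coprime hcop
  have := h _ hyn
  rw [hord, hyo, ho] at this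
  exact not_isPrimePow_mul hq hr hrq hj this

theorem lemB (N : Subgroup G) (h : ∀ x : G, x ∉ N → IsPrimePow (orderOf x))
    {y : G} (hy : y ∉ N) {q j : ℕ} (hq : q.Prime) (hj : 0 < j) (hyo : orderOf y = q ^ j)
    {z : G} (hc : Commute y z) {r : ℕ} (hr : r.Prime) (hrq : r ≠ q) :
    ¬ r ∣ orderOf z := by
  intro hdvd
  have ho : orderOf (z ^ (orderOf z / r)) = r :=
    orderOf_pow_orderOf_div (orderOf_pos z).ne' hdvd
  have hc' : Commute y (z ^ (orderOf z / r)) := hc.pow_right _
  by_cases hzN : z ^ (orderOf z / r) ∈ N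
  · exact lemA N h hy hq hj hyo hzN hc' hr hrq (by rw [ho])
  · have hcop : (orderOf y).Coprime (orderOf (z ^ (orderOf z / r))) := by
      rw [hyo, ho]; exact Nat.Coprime.pow_left _ ((Nat.coprime_primes hq hr).mpr hrq.symm)
    have hord := hc'.orderOf_mul_eq_mul_orderOf_of_coprime hcop
    by_cases hw : y * z ^ (orderOf z / r) ∈ N
    · have hcw : Commute y (y * z ^ (orderOf z / r)) := (Commute.refl y).mul_right hc'
      refine lemA N h hy hq hj hyo hw hcw hr hrq ?_
      rw [hord, ho]; exact dvd_mul_left r _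
    · have := h _ hw
      rw [hord, hyo, ho] at this
      exact not_isPrimePow_mul hq hr hrq hj this

theorem isPGroup_centralizer (N : Subgroup G) (h : ∀ x : G, x ∉ N → IsPrimePow (orderOf x))
    {y : G} (hy : y ∉ N) {q j : ℕ} (hq : q.Prime) (hj : 0 < j) (hyo : orderOf y = q ^ j) :
    IsPGroup q ↥(Subgroup.centralizer ({y} : Set G)) := by
  rintro ⟨z, hz⟩
  have hc : Commute y z := by
    rw [Subgroup.mem_centralizer_iff] at hz
    exact hz y rfl
  have hzo : orderOf z = q ^ (orderOf z).primeFactorsList.length :=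
    Nat.eq_prime_pow_of_unique_prime_dvd (orderOf_pos z).ne' (fun {d} hd hdz => by
      by_contra hne
      exact lemB N h hy hq hj hyo hc hd hne hdz)
  refine ⟨(orderOf z).primeFactorsList.length, ?_⟩
  apply Subtype.ext
  simp only [Subgroup.coe_pow, Subgroup.coe_one]
  rw [← hzo]; exact pow_orderOf_eq_one z

/-- If `C_G(x₀) N = G` with `x₀ ∉ N` a `p`-element, then every element outside `N` is a `p`-element. -/
theorem orderOf_eq_prime_pow (N : Subgroup G) [N.Normal]
    (h : ∀ x : G, x ∉ N → IsPrimePow (orderOf x))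
    {x₀ : G} (hx₀ : x₀ ∉ N) {p k : ℕ} (hp : p.Prime) (hk : 0 < k) (hxo : orderOf x₀ = p ^ k)
    (hsup : Subgroup.centralizer ({x₀} : Set G) ⊔ N = ⊤) {y : G} (hy : y ∉ N) :
    ∃ j, 0 < j ∧ orderOf y = p ^ j := by
  obtain ⟨q, j, hq, hj, hqj⟩ := (isPrimePow_nat_iff _).mp (h y hy)
  have hq' : q.Prime := hq
  by_cases hqp : q = p
  · exact ⟨j, hj, by rw [← hqj, hqp]⟩
  · exfalso
    have hymem : y ∈ Subgroup.centralizer ({x₀} : Set G) ⊔ N := by rw [hsup]; trivial
    obtain ⟨u, hu, n, hn, hun⟩ := Subgroup.mem_sup_of_normal_right.mp hymem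
    obtain ⟨a, ha⟩ := isPGroup_centralizer N h hx₀ hp hk hxo ⟨u, hu⟩
    have hua : u ^ p ^ a = 1 := by
      have := congrArg Subtype.val ha
      simpa using this
    have hpi : (QuotientGroup.mk' N) y = (QuotientGroup.mk' N) u := by
      rw [← hun, map_mul]
      have : (QuotientGroup.mk' N) n = 1 := (QuotientGroup.eq_one_iff n).mpr hn
      rw [this, mul_one]
    have hya : y ^ p ^ a ∈ N := by
      rw [← QuotientGroup.eq_one_iff, ← QuotientGroup.mk'_apply, map_pow, hpi, ← map_pow, hua, map_one]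
    have hcop : (p ^ a).Coprime (orderOf y) := by
      rw [← hqj]
      exact Nat.Coprime.pow _ _ ((Nat.coprime_primes hp hq').mpr (Ne.symm hqp))
    obtain ⟨m, hm⟩ := exists_pow_eq_self_of_coprime hcop
    exact hy (hm ▸ N.pow_mem hya m)

end Cfsg.Agent.Lib.H20.MC
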