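import Mathlib

set_option autoImplicit false

/-!
# Elements outside a normal subgroup with maximal centralizer (part 2): counting

If every centralizer of an element outside `N` is a conjugate of the self-normalizing subgroup `P`
and `P N = G`, then `C_G(y) = P` for all `y ∈ P \ N`.
-/

namespace Cfsg.Agent.Lib.H20.MC

variable {G : Type*} [Group G] [Finite G]

theorem mem_centralizer_conj (g z x : G) :
    x ∈ Subgroup.centralizer ({g * z * g⁻¹} : Set G) ↔
      g⁻¹ * x * g ∈ Subgroup.centralizer ({z} : Set G) := by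
  rw [Subgroup.mem_centralizer_singleton_iff, Subgroup.mem_centralizer_singleton_iff]
  constructor
  · intro h
    have e1 : g⁻¹ * x * g * z = g⁻¹ * (x * (g * z * g⁻¹)) * g := by group
    rw [e1, h]; group
  · intro h
    have e1 : x * (g * z * g⁻¹) = g * (g⁻¹ * x * g * z) * g⁻¹ := by group
    rw [e1, h]; group

section counting

variable (N P : Subgroup G) [N.Normal]
  (hcent : ∀ y : G, y ∉ N → ∃ g : G, ∀ x, x ∈ Subgroup.centralizer ({y} : Set G) ↔ g⁻¹ * x * g ∈ P)
  (hnorm : ∀ g : G, (∀ x, x ∈ P ↔ g⁻¹ * x * g ∈ P) → g ∈ P)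
  (hPN : P ⊔ N = ⊤)

/-- The set of elements outside `N` with centralizer exactly `P`. -/
def Z0 : Set G := {z | z ∉ N ∧ Subgroup.centralizer ({z} : Set G) = P}

omit [Finite G] [N.Normal] in
theorem Z0_subset : Z0 N P ⊆ (P : Set G) \ (N : Set G) := by
  rintro z ⟨hzN, hzP⟩
  refine ⟨?_, hzN⟩
  have : z ∈ Subgroup.centralizer ({z} : Set G) := by
    rw [Subgroup.mem_centralizer_singleton_iff]
  rw [hzP] at this
  exact this

include hcent hnorm in
theorem card_compl_eq : Nat.card ↥((N : Set G)ᶜ) = P.index * (Z0 N P).ncard := by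
  classical
  rw [← Nat.card_coe_set_eq (Z0 N P), Subgroup.index, ← Nat.card_prod]
  symm
  refine Nat.card_congr (Equiv.ofBijective
    (fun qz : (G ⧸ P) × ↥(Z0 N P) => (⟨qz.1.out * (qz.2 : G) * qz.1.out⁻¹, ?_⟩ : ↥((N : Set G)ᶜ))) ⟨?_, ?_⟩)
  · intro hmem
    have hz := qz.2.2.1
    apply hz
    have := ‹N.Normal›.conj_mem _ hmem (qz.1.out⁻¹)
    simpa [mul_assoc] using this
  · rintro ⟨q, z, hzN, hzP⟩ ⟨q', z', hz'N, hz'P⟩ heq
    have heq' : q.out * z * q.out⁻¹ = q'.out * z' * q'.out⁻¹ := congrArg Subtype.val heq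
    -- the centralizers agree
    have hq : q = q' := by
      have key : (q.out)⁻¹ * q'.out ∈ P := by
        apply hnorm
        intro x
        -- x ∈ P ↔ x ∈ C(z) ↔ q.out x q.out⁻¹ ∈ C(q.out z q.out⁻¹)
        have h1 : x ∈ P ↔ q.out * x * q.out⁻¹ ∈
            Subgroup.centralizer ({q.out * z * q.out⁻¹} : Set G) := by
          rw [mem_centralizer_conj, hzP]
          have : q.out⁻¹ * (q.out * x * q.out⁻¹) * q.out = x := by group
          rw [this]
        have h2 : q.out * x * q.out⁻¹ ∈
            Subgroup.centralizer ({q'.out * z' * q'.out⁻¹} : Set G) ↔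
            ((q.out)⁻¹ * q'.out)⁻¹ * x * ((q.out)⁻¹ * q'.out) ∈ P := by
          rw [mem_centralizer_conj, hz'P]
          have : q'.out⁻¹ * (q.out * x * q.out⁻¹) * q'.out =
              ((q.out)⁻¹ * q'.out)⁻¹ * x * ((q.out)⁻¹ * q'.out) := by group
          rw [this]
        rw [h1, heq', h2]
      have : (QuotientGroup.mk q.out : G ⧸ P) = QuotientGroup.mk q'.out :=
        QuotientGroup.eq.mpr key
      rwa [QuotientGroup.out_eq', QuotientGroup.out_eq'] at this
    subst hq
    have hz : z = z' := by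
      have := heq'
      have h3 : z = q.out⁻¹ * (q.out * z * q.out⁻¹) * q.out := by group
      rw [h3, this]; group
    subst hz
    rfl
  · rintro ⟨y, hy⟩
    have hyN : y ∉ N := hy
    obtain ⟨h, hh⟩ := hcent y hyN
    obtain ⟨u, hu⟩ := QuotientGroup.mk_out_eq_mul P h
    obtain ⟨g, hg⟩ : ∃ g : G, g = h * (u : G) := ⟨_, rfl⟩
    have hzN : g⁻¹ * y * g ∉ N := by
      intro hmem
      apply hyN
      have := ‹N.Normal›.conj_mem _ hmem g
      simpa [mul_assoc] using this
    have hzP : Subgroup.centralizer ({g⁻¹ * y * g} : Set G) = P := by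
      ext x
      have e : ({g⁻¹ * y * g} : Set G) = {g⁻¹ * y * g⁻¹⁻¹} := by rw [inv_inv]
      rw [e, mem_centralizer_conj, hh]
      rw [hg]
      have e2 : h⁻¹ * ((h * (u : G))⁻¹⁻¹ * x * (h * (u : G))⁻¹) * h = (u : G) * x * (u : G)⁻¹ := by
        group
      rw [e2]
      constructor
      · intro hx
        have := P.mul_mem (P.mul_mem (P.inv_mem u.2) hx) u.2
        simpa [mul_assoc] using this
      · intro hx
        exact P.mul_mem (P.mul_mem u.2 hx) (P.inv_mem u.2)
    refine ⟨((QuotientGroup.mk h : G ⧸ P), ⟨g⁻¹ * y * g, hzN, hzP⟩), ?_⟩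
    apply Subtype.ext
    show (QuotientGroup.mk h : G ⧸ P).out * (g⁻¹ * y * g) * (QuotientGroup.mk h : G ⧸ P).out⁻¹ = y
    rw [hu, ← hg]
    group

include hcent hnorm hPN in
theorem Z0_eq : Z0 N P = (P : Set G) \ (N : Set G) := by
  classical
  have h1 := card_compl_eq N P hcent hnorm
  have h2 : (N : Set G).ncard + ((N : Set G)ᶜ).ncard = Nat.card G := Set.ncard_add_ncard_compl _
  have h3 : ((P : Set G) ∩ (N : Set G)).ncard + ((P : Set G) \ (N : Set G)).ncard =
      (P : Set G).ncard := Set.ncard_inter_add_ncard_sdiff_eq_ncard _ _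
  have h4 : P.index * Nat.card P = Nat.card G := P.index_mul_card
  have hNc : (N : Set G).ncard = Nat.card N := (Nat.card_coe_set_eq _).symm
  have hPc : (P : Set G).ncard = Nat.card P := (Nat.card_coe_set_eq _).symm
  have hYc : ((N : Set G)ᶜ).ncard = Nat.card ↥((N : Set G)ᶜ) := (Nat.card_coe_set_eq _).symm
  -- index computation
  have h5 : N.index = (N.subgroupOf P).index := by
    have := Subgroup.relIndex_sup_right (H := P) (K := N)
    rw [hPN, Subgroup.relIndex_top_right] at this
    exact this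
  have h6 : (N.subgroupOf P).index * Nat.card (N.subgroupOf P) = Nat.card P :=
    (N.subgroupOf P).index_mul_card
  have h7 : Nat.card (N.subgroupOf P) = ((P : Set G) ∩ (N : Set G)).ncard := by
    rw [← Nat.card_coe_set_eq]
    refine Nat.card_congr ⟨fun x => ⟨x.1.1, x.1.2, x.2⟩, fun x => ⟨⟨x.1, x.2.1⟩, x.2.2⟩, ?_, ?_⟩
    · intro x; rfl
    · intro x; rfl
  have h8 : N.index * Nat.card N = Nat.card G := N.index_mul_card
  have hipos : 0 < P.index := Nat.pos_of_ne_zero P.index_ne_zero_of_finite
  have hNipos : 0 < N.index := Nat.pos_of_ne_zero N.index_ne_zero_of_finite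
  set a := ((P : Set G) ∩ (N : Set G)).ncard
  set b := ((P : Set G) \ (N : Set G)).ncard
  set i := P.index
  set c := (Z0 N P).ncard
  have hNcard : Nat.card N = i * a := by
    have e1 : N.index * a = a + b := by rw [h5, ← h7, h6, ← hPc, ← h3, h7]
    have e2 : N.index * Nat.card N = N.index * (i * a) := by
      rw [h8, ← h4, ← hPc, ← h3]
      calc i * (a + b) = i * (N.index * a) := by rw [e1]
        _ = N.index * (i * a) := by ring
    exact Nat.eq_of_mul_eq_mul_left hNipos e2
  have hcb : c = b := by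
    have e3 : Nat.card N + i * c = i * (a + b) := by
      rw [← h1, ← hYc, ← hNc, h2, ← h4, ← hPc, ← h3]
    rw [hNcard] at e3
    have : i * c = i * b := by
      have : i * a + i * c = i * a + i * b := by rw [e3]; ring
      exact Nat.add_left_cancel this
    exact Nat.eq_of_mul_eq_mul_left hipos this
  exact Set.eq_of_subset_of_ncard_le (Z0_subset N P) (le_of_eq hcb.symm) (Set.toFinite _)

include hcent hnorm hPN in
theorem centralizer_eq_of_mem {y : G} (hyP : y ∈ P) (hyN : y ∉ N) :
    Subgroup.centralizer ({y} : Set G) = P := by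
  have : y ∈ Z0 N P := by
    rw [Z0_eq N P hcent hnorm hPN]
    exact ⟨hyP, hyN⟩
  exact this.2

end counting

end Cfsg.Agent.Lib.H20.MC
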