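import Mathlib
import Cfsg.Agent.Lib.H20.MaxCent1
import Cfsg.Agent.Lib.H20.MaxCent2
import Cfsg.Agent.Lib.H1.CoprimeSylow

set_option autoImplicit false

/-!
# Elements outside a normal subgroup with prime power order and maximal centralizer (part 3)

If `N` is a proper normal subgroup of `G` such that each `x ∉ N` has prime power order and maximal
centralizer, then `N` is solvable (indeed `G` is solvable or `N` is a `p`-group).
-/

open scoped Pointwise

namespace Cfsg.Agent.Lib.H20.MC

variable {G : Type*} [Group G] [Finite G]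

theorem isSolvable_of_isPGroup {H : Type*} [Group H] [Finite H] {p : ℕ} [Fact p.Prime]
    (h : IsPGroup p H) : Group.IsSolvable H :=
  haveI := h.isNilpotent; inferInstance

/-- A group with a solvable normal maximal subgroup is solvable. -/
theorem isSolvable_of_coatom_normal (P : Subgroup G) [P.Normal] (hP : IsCoatom P)
    [Group.IsSolvable P] : Group.IsSolvable G := by
  haveI : Group.IsSolvable (G ⧸ P) := by
    by_cases hall : ∀ g : G, g ∈ P
    · apply Group.isSolvable_of_comm
      intro a b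
      obtain ⟨a, rfl⟩ := QuotientGroup.mk_surjective a
      obtain ⟨b, rfl⟩ := QuotientGroup.mk_surjective b
      rw [(QuotientGroup.eq_one_iff a).mpr (hall a), (QuotientGroup.eq_one_iff b).mpr (hall b)]
    · push_neg at hall
      obtain ⟨g, hg⟩ := hall
      have hsup : P ⊔ Subgroup.zpowers g = ⊤ := by
        apply hP.2
        refine lt_of_le_of_ne le_sup_left ?_
        intro heq
        apply hg
        rw [heq]
        exact (le_sup_right : Subgroup.zpowers g ≤ _) (Subgroup.mem_zpowers g)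
      have hgen : ∀ a : G ⧸ P, ∃ m : ℤ, a = (QuotientGroup.mk g : G ⧸ P) ^ m := by
        intro a
        obtain ⟨a, rfl⟩ := QuotientGroup.mk_surjective a
        have : a ∈ P ⊔ Subgroup.zpowers g := by rw [hsup]; trivial
        obtain ⟨y, hy, z, hz, rfl⟩ := Subgroup.mem_sup_of_normal_left.mp this
        obtain ⟨m, rfl⟩ := Subgroup.mem_zpowers_iff.mp hz
        refine ⟨m, ?_⟩
        rw [QuotientGroup.mk_mul, (QuotientGroup.eq_one_iff y).mpr hy, one_mul, QuotientGroup.mk_zpow]
      apply Group.isSolvable_of_comm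
      intro a b
      obtain ⟨m, rfl⟩ := hgen a
      obtain ⟨n, rfl⟩ := hgen b
      exact zpow_mul_comm _ _ _
  refine Group.isSolvable_of_ker_le_range P.subtype (QuotientGroup.mk' P) ?_
  rw [QuotientGroup.ker_mk', Subgroup.range_subtype]

/-- A group which is the join of a `p`-subgroup `Q` and an `r`-subgroup `R` normalized by `Q`
is solvable. -/
theorem isSolvable_of_sup_eq_top {p r : ℕ} [Fact p.Prime] [Fact r.Prime] (Q R : Subgroup G)
    (hQ : IsPGroup p Q) (hR : IsPGroup r R) (hQR : Q ≤ Subgroup.normalizer (R : Set G))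
    (hsup : Q ⊔ R = ⊤) : Group.IsSolvable G := by
  have hRn : R.Normal := by
    rw [← Subgroup.normalizer_eq_top_iff]
    apply top_le_iff.mp
    rw [← hsup]
    exact sup_le hQR Subgroup.le_normalizer
  haveI := hRn
  haveI : Group.IsSolvable R := isSolvable_of_isPGroup hR
  haveI : Group.IsSolvable (G ⧸ R) := by
    apply isSolvable_of_isPGroup (p := p)
    intro a
    obtain ⟨a, rfl⟩ := QuotientGroup.mk_surjective a
    have : a ∈ Q ⊔ R := by rw [hsup]; trivial
    obtain ⟨y, hy, z, hz, rfl⟩ := Subgroup.mem_sup_of_normal_right.mp this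
    obtain ⟨k, hk⟩ := hQ ⟨y, hy⟩
    have hyk : y ^ p ^ k = 1 := by simpa using congrArg Subtype.val hk
    refine ⟨k, ?_⟩
    rw [QuotientGroup.mk_mul, (QuotientGroup.eq_one_iff z).mpr hz, mul_one, ← QuotientGroup.mk_pow,
      hyk, QuotientGroup.mk_one]
  refine Group.isSolvable_of_ker_le_range R.subtype (QuotientGroup.mk' R) ?_
  rw [QuotientGroup.ker_mk', Subgroup.range_subtype]

theorem isSolvable_of_maxCent (N : Subgroup G) [N.Normal] (hN : N ≠ ⊤)
    (h : ∀ x : G, x ∉ N → IsPrimePow (orderOf x) ∧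
      IsCoatom (Subgroup.centralizer ({x} : Set G))) :
    Group.IsSolvable ↥N := by
  classical
  have h1 : ∀ x : G, x ∉ N → IsPrimePow (orderOf x) := fun x hx => (h x hx).1
  obtain ⟨x₀, hx₀⟩ : ∃ x, x ∉ N := by
    by_contra hc; push_neg at hc; exact hN (eq_top_iff.mpr fun x _ => hc x)
  obtain ⟨p, k, hp, hk, hxo⟩ := (isPrimePow_nat_iff _).mp (h1 x₀ hx₀)
  haveI : Fact p.Prime := ⟨hp⟩
  have hp' : p.Prime := hp
  obtain ⟨P, hPdef⟩ : ∃ P : Subgroup G, P = Subgroup.centralizer ({x₀} : Set G) := ⟨_, rfl⟩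
  have hPp : IsPGroup p P := hPdef ▸ isPGroup_centralizer N h1 hx₀ hp' hk hxo.symm
  have hPco : IsCoatom P := hPdef ▸ (h x₀ hx₀).2
  by_cases hNP : N ≤ P
  · exact isSolvable_of_isPGroup (hPp.to_le hNP)
  have hsup : P ⊔ N = ⊤ :=
    hPco.2 _ (lt_of_le_of_ne le_sup_left (fun heq => hNP (heq ▸ le_sup_right)))
  suffices hG : Group.IsSolvable G by infer_instance
  by_cases hGp : IsPGroup p G
  · exact isSolvable_of_isPGroup hGp
  -- no Sylow `p`-subgroup is the whole group
  have hsyl_ne : ∀ Q : Sylow p G, (Q : Subgroup G) ≠ ⊤ := by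
    intro Q hQtop
    apply hGp
    intro g
    obtain ⟨k, hk⟩ := Q.isPGroup' ⟨g, by rw [hQtop]; trivial⟩
    exact ⟨k, by simpa using congrArg Subtype.val hk⟩
  -- every centralizer of an element outside `N` is a Sylow `p`-subgroup
  have hall : ∀ y, y ∉ N → ∃ Q : Sylow p G, (Q : Subgroup G) = Subgroup.centralizer ({y} : Set G) := by
    intro y hy
    obtain ⟨j, hj, hyo⟩ := orderOf_eq_prime_pow N h1 hx₀ hp' hk hxo.symm (hPdef ▸ hsup) hy
    have hCp := isPGroup_centralizer N h1 hy hp' hj hyo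
    obtain ⟨Q, hQ⟩ := hCp.exists_le_sylow
    refine ⟨Q, ?_⟩
    by_contra hne
    exact hsyl_ne Q ((h y hy).2.2 _ (lt_of_le_of_ne hQ (Ne.symm hne)))
  obtain ⟨Q, hQP⟩ := hall x₀ hx₀
  rw [← hPdef] at hQP
  -- all centralizers are conjugates of `P`
  have hcent : ∀ y : G, y ∉ N →
      ∃ g : G, ∀ x, x ∈ Subgroup.centralizer ({y} : Set G) ↔ g⁻¹ * x * g ∈ P := by
    intro y hy
    obtain ⟨Qy, hQy⟩ := hall y hy
    obtain ⟨g, hg⟩ := MulAction.exists_smul_eq G Q Qy
    refine ⟨g, fun x => ?_⟩
    rw [← hQy, ← hg, Sylow.smul_def, Sylow.pointwise_smul_def,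
      Subgroup.mem_pointwise_smul_iff_inv_smul_mem, MulAut.smul_def, MulAut.conj_inv_apply, hQP]
  -- normalizer of `P`
  rcases eq_or_ne (Subgroup.normalizer (P : Set G)) ⊤ with hnt | hnt
  · haveI : P.Normal := Subgroup.normalizer_eq_top_iff.mp hnt
    haveI : Group.IsSolvable P := isSolvable_of_isPGroup hPp
    exact isSolvable_of_coatom_normal P hPco
  have hnP : Subgroup.normalizer (P : Set G) = P := by
    by_contra hne
    exact hnt (hPco.2 _ (lt_of_le_of_ne Subgroup.le_normalizer (Ne.symm hne)))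
  have hnorm : ∀ g : G, (∀ x, x ∈ P ↔ g⁻¹ * x * g ∈ P) → g ∈ P := by
    intro g hg
    have : g⁻¹ ∈ Subgroup.normalizer (P : Set G) := by
      rw [Subgroup.mem_normalizer_iff]
      intro x
      rw [inv_inv]
      exact hg x
    rw [hnP] at this
    simpa using P.inv_mem this
  have hcP : ∀ y : G, y ∈ P → y ∉ N → Subgroup.centralizer ({y} : Set G) = P :=
    fun y hyP hyN => centralizer_eq_of_mem N P hcent hnorm hsup hyP hyN
  -- `P` is abelian
  have hx₀P : x₀ ∈ P := by
    rw [hPdef, Subgroup.mem_centralizer_singleton_iff]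
  have hcomm : ∀ u ∈ P, ∀ v ∈ P, u * v = v * u := by
    have key : ∀ u ∈ P, u ∉ N → ∀ v ∈ P, u * v = v * u := by
      intro u hu huN v hv
      have : v ∈ Subgroup.centralizer ({u} : Set G) := by rw [hcP u hu huN]; exact hv
      rw [Subgroup.mem_centralizer_singleton_iff] at this
      exact this.symm
    intro u hu v hv
    by_cases huN : u ∈ N
    · -- use `x₀ * u`
      have hxu : x₀ * u ∉ N := fun hmem => hx₀ (by simpa using N.mul_mem hmem (N.inv_mem huN))
      have e1 := key (x₀ * u) (P.mul_mem hx₀P hu) hxu v hv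
      have e2 := key x₀ hx₀P hx₀ v hv
      have : x₀ * (u * v) = x₀ * (v * u) := by
        rw [← mul_assoc, e1, ← mul_assoc, ← e2, mul_assoc]
      exact mul_left_cancel this
    · exact key u hu huN v hv
  -- Burnside's transfer theorem
  have hle : Subgroup.normalizer ((Q : Subgroup G) : Set G) ≤
      Subgroup.centralizer ((Q : Subgroup G) : Set G) := by
    rw [hQP, hnP]
    intro u hu
    rw [Subgroup.mem_centralizer_iff]
    intro v hv
    exact hcomm v hv u hu
  have hcompl := MonoidHom.ker_transferSylow_isComplement' Q hle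
  have hndvd := MonoidHom.not_dvd_card_ker_transferSylow Q hle
  obtain ⟨K, hK⟩ : ∃ K : Subgroup G, K = (MonoidHom.transferSylow Q hle).ker := ⟨_, rfl⟩
  rw [← hK] at hcompl hndvd
  haveI hKn : K.Normal := hK ▸ MonoidHom.normal_ker _
  have hKne : Nat.card K ≠ 1 := by
    intro hcard
    have hKbot : K = ⊥ := Subgroup.card_eq_one.mp hcard
    have := hcompl.sup_eq_top
    rw [hKbot, bot_sup_eq] at this
    exact hsyl_ne Q this
  obtain ⟨r, hr, hrK⟩ := Nat.exists_prime_and_dvd hKne
  haveI : Fact r.Prime := ⟨hr⟩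
  have hcop : Cfsg.Agent.Lib.H1.CoprimeAction (Q : Subgroup G) K := by
    refine ⟨?_, ?_, Or.inl (isSolvable_of_isPGroup Q.isPGroup')⟩
    · rw [Subgroup.normalizer_eq_top_iff.mpr hKn]; exact le_top
    · obtain ⟨n, hn⟩ := IsPGroup.iff_card.mp Q.isPGroup'
      rw [hn]
      exact Nat.Coprime.pow_left n ((Nat.Prime.coprime_iff_not_dvd hp').mpr hndvd)
  obtain ⟨R, hR, hQR⟩ := Cfsg.Agent.Lib.H1.coprime_exists_invariant_sylow hcop r
  have hRne : R ≠ ⊥ := by
    intro hRbot
    have hc := hR.card_eq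
    rw [hRbot, Subgroup.card_bot] at hc
    have hfac : 0 < (Nat.card K).factorization r :=
      hr.factorization_pos_of_dvd Nat.card_pos.ne' hrK
    have : 1 < r ^ (Nat.card K).factorization r := Nat.one_lt_pow hfac.ne' hr.one_lt
    omega
  have hRQ : ¬ R ≤ (Q : Subgroup G) := by
    intro hle'
    apply hRne
    have hdis := hcompl.disjoint
    rw [Subgroup.disjoint_def] at hdis
    rw [eq_bot_iff]
    intro x hx
    exact hdis (hR.le hx) (hle' hx)
  have hsupQR : (Q : Subgroup G) ⊔ R = ⊤ := by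
    rw [hQP]
    apply hPco.2
    refine lt_of_le_of_ne le_sup_left ?_
    intro heq
    apply hRQ
    rw [hQP, heq]
    exact le_sup_right
  exact isSolvable_of_sup_eq_top (Q : Subgroup G) R Q.isPGroup' hR.isPGroup hQR hsupQR

end Cfsg.Agent.Lib.H20.MC
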