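import Cfsg.Agent.Lib.H20.MinIdxD4Three
import Cfsg.Agent.Lib.H9.MinIdxD4Five
import Cfsg.Agent.Lib.H21.MinIdxD4Four
import Cfsg.Agent.Lib.H23.MinIdxD4Prep

/-!
# S2140-D4 (helper20): Case I is impossible for `n ≥ 4`, `(n, q) ≠ (4, 2)`

Assembly of: core counting (`MinIdxD4Core`), shift homomorphism (`MinIdxD4Shift`), `q = 3` (`MinIdxD4Three`),
step (5a) (helper9), step (5b) (helper21), preparations (helper23).
-/

set_option autoImplicit false

namespace Cfsg.Agent.Lib.H20.MinIdx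

open Module Cfsg.Agent.Lib.H26.MinIdx

variable {F V : Type*} [Field F] [AddCommGroup V] [Module F V]

/-- **S2140-D4**.  Case I is impossible for n ≥ 4, (n,q) ≠ (4,2). -/
theorem not_caseI_four [Finite F] [Module.Finite F V] (hn : 4 ≤ finrank F V)
    (hne : ¬ (finrank F V = 4 ∧ Nat.card F = 2))
    (H : Subgroup (SpecialLinearGroup F V))
    (hidx : H.index = Nat.card F ^ (finrank F V - 1))
    (hno : ∀ (f : Dual F V) (v : V) (h : f v = 0), f ≠ 0 → v ≠ 0 → tv f v h ∉ H) : False := by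
  obtain ⟨fr⟩ := Cfsg.Agent.Lib.H23.MinIdx.exists_frame (F := F) (V := V) (by omega : 2 ≤ finrank F V)
  haveI : Finite (SpecialLinearGroup F V) := Cfsg.Agent.Lib.H23.MinIdx.finite_sl
  have hNT := Cfsg.Agent.Lib.H23.MinIdx.noTvFix_quotient H hno
  have hcard : Nat.card (SpecialLinearGroup F V ⧸ H) = Nat.card F ^ (finrank F V - 1) := by
    rw [← hidx]
    exact (Subgroup.index_eq_card H).symm
  by_cases h5 : 5 ≤ finrank F V
  · exact fr.false_of_comm hn hcard hNT
      (fun bv h1 h2 => Cfsg.Agent.Lib.H9.MinIdx.exists_comm_five h5 fr bv h1 h2)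
  · have h4 : finrank F V = 4 := by omega
    have hq2 := Frame.two_le_card_field (F := F)
    by_cases hq3 : Nat.card F = 3
    · exact fr.false_of_card_three hn hcard hNT hq3
    · have hq4 : 4 ≤ Nat.card F := by
        have : Nat.card F ≠ 2 := fun h => hne ⟨h4, h⟩
        omega
      obtain ⟨t, ht0, ht⟩ := Cfsg.Agent.Lib.H23.MinIdx.exists_sq_ne_one hq4
      exact fr.false_of_comm hn hcard hNT
        (fun bv h1 h2 => Cfsg.Agent.Lib.H21.MinIdx.exists_comm_four h4 t ht0 ht fr bv h1 h2)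

end Cfsg.Agent.Lib.H20.MinIdx
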