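import Cfsg.Agent.Lib.H20.MinIdxD4Defs

/-!
# S2140-D4 (helper20): algebra of `u`, `b`, `bm` and the orbit counting
-/

set_option autoImplicit false
set_option linter.unusedSimpArgs false
set_option linter.unusedVariables false

namespace Cfsg.Agent.Lib.H20.MinIdx

open Module Cfsg.Agent.Lib.H26.MinIdx

variable {F V : Type*} [Field F] [AddCommGroup V] [Module F V]

namespace Frame

variable (fr : Frame F V)

theorem u_apply (p : fr.A × fr.A) (x : V) :
    fr.u p x = x + p.1.1 x • fr.d₁ + p.2.1 x • fr.d₂ := by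
  unfold u
  have h := p.1.2.2
  rw [sl_mul_apply, tv_apply, tv_apply]
  simp [h]
  abel

theorem u_add (p p' : fr.A × fr.A) : fr.u (p + p') = fr.u p * fr.u p' := by
  ext x
  have h1 := p.1.2.1
  have h2 := p.1.2.2
  have h3 := p.2.2.1
  have h4 := p.2.2.2
  rw [sl_mul_apply, u_apply, u_apply, u_apply]
  simp [h1, h2, h3, h4, add_smul]
  abel

theorem u_zero : fr.u 0 = 1 := by
  ext x
  rw [u_apply]
  simp

theorem u_neg (p : fr.A × fr.A) : fr.u (-p) = (fr.u p)⁻¹ := by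
  rw [eq_inv_iff_mul_eq_one, ← u_add, neg_add_cancel p, u_zero]

theorem u_sub (p p' : fr.A × fr.A) : fr.u (p - p') = fr.u p * (fr.u p')⁻¹ := by
  rw [sub_eq_add_neg p p', u_add, u_neg]

theorem u_comm (p p' : fr.A × fr.A) : fr.u p * fr.u p' = fr.u p' * fr.u p := by
  rw [← u_add, ← u_add, add_comm]

theorem b_apply (c : F) (x : V) : fr.b c x = x + (c * fr.δ₂ x) • fr.d₁ := by
  unfold b
  rw [tv_apply]
  simp

theorem bm_apply (c : F) (x : V) : fr.bm c x = x + (c * fr.δ₁ x) • fr.d₂ := by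
  unfold bm
  rw [tv_apply]
  simp

theorem b_add (c c' : F) : fr.b (c + c') = fr.b c * fr.b c' := by
  ext x
  rw [sl_mul_apply, b_apply, b_apply, b_apply]
  simp [fr.h21, add_smul, add_mul]
  abel

theorem b_zero : fr.b 0 = 1 := by
  ext x
  rw [b_apply]
  simp

theorem b_neg (c : F) : fr.b (-c) = (fr.b c)⁻¹ := by
  rw [eq_inv_iff_mul_eq_one, ← b_add, neg_add_cancel, b_zero]

theorem bm_add (c c' : F) : fr.bm (c + c') = fr.bm c * fr.bm c' := by
  ext x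
  rw [sl_mul_apply, bm_apply, bm_apply, bm_apply]
  simp [fr.h12, add_smul, add_mul]
  abel

theorem bm_zero : fr.bm 0 = 1 := by
  ext x
  rw [bm_apply]
  simp

theorem bm_neg (c : F) : fr.bm (-c) = (fr.bm c)⁻¹ := by
  rw [eq_inv_iff_mul_eq_one, ← bm_add, neg_add_cancel, bm_zero]

/-- `g` acts on the pairs by `L` : `g u(p) g⁻¹ = u(L p)`. -/
def ActsBy (g : SpecialLinearGroup F V) (L : fr.A × fr.A → fr.A × fr.A) : Prop :=
  ∀ p, g * fr.u p = fr.u (L p) * g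

theorem actsBy_b (c : F) : fr.ActsBy (fr.b c) (fun p => (p.1 + c • p.2, p.2)) := by
  intro p
  ext x
  have h1 := p.1.2.1
  have h2 := p.1.2.2
  have h3 := p.2.2.1
  have h4 := p.2.2.2
  rw [sl_mul_apply, sl_mul_apply, u_apply, u_apply, b_apply, b_apply]
  simp [h1, h2, h3, h4, fr.h21, fr.h22, add_smul, mul_add, smul_smul]
  module

theorem actsBy_bm (c : F) : fr.ActsBy (fr.bm c) (fun p => (p.1, p.2 + c • p.1)) := by
  intro p
  ext x
  have h1 := p.1.2.1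
  have h2 := p.1.2.2
  have h3 := p.2.2.1
  have h4 := p.2.2.2
  rw [sl_mul_apply, sl_mul_apply, u_apply, u_apply, bm_apply, bm_apply]
  simp [h1, h2, h3, h4, fr.h11, fr.h12, add_smul, mul_add, smul_smul]
  module

theorem actsBy_mul {g g' : SpecialLinearGroup F V} {L L' : fr.A × fr.A → fr.A × fr.A}
    (h : fr.ActsBy g L) (h' : fr.ActsBy g' L') : fr.ActsBy (g * g') (L ∘ L') := by
  intro p
  rw [mul_assoc, h' p, ← mul_assoc, h (L' p), mul_assoc]
  rfl

theorem actsBy_one : fr.ActsBy 1 id := by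
  intro p
  simp

theorem actsBy_inv {g : SpecialLinearGroup F V} {L L' : fr.A × fr.A → fr.A × fr.A}
    (h : fr.ActsBy g L) (hL : ∀ p, L (L' p) = p) : fr.ActsBy g⁻¹ L' := by
  intro p
  have := h (L' p)
  rw [hL] at this
  rw [eq_mul_inv_iff_mul_eq, mul_assoc, ← this, ← mul_assoc, inv_mul_cancel, one_mul]

/-- conjugation of functionals in `A` by an element fixing `d₁, d₂`. -/
noncomputable def conjA (g : SpecialLinearGroup F V) (hg : g ∈ fr.N) (α : fr.A) : fr.A :=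
  ⟨dualConj g α.1, by
    have hi := fr.N.inv_mem hg
    obtain ⟨h1, h2, -⟩ := fr.mem_N.mp hi
    refine ⟨?_, ?_⟩
    · rw [dualConj_apply, h1]; exact α.2.1
    · rw [dualConj_apply, h2]; exact α.2.2⟩

theorem conjA_apply (g : SpecialLinearGroup F V) (hg : g ∈ fr.N) (α : fr.A) (x : V) :
    (fr.conjA g hg α).1 x = α.1 (g⁻¹ x) := rfl

theorem actsBy_N (g : SpecialLinearGroup F V) (hg : g ∈ fr.N) :
    fr.ActsBy g (fun p => (fr.conjA g hg p.1, fr.conjA g hg p.2)) := by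
  intro p
  obtain ⟨h1, h2, -⟩ := fr.mem_N.mp hg
  ext x
  rw [sl_mul_apply, sl_mul_apply, u_apply, u_apply]
  simp only [conjA_apply, sl_inv_apply_apply, sl_map_add, sl_map_smul, h1, h2]

theorem commute_N_b (g : SpecialLinearGroup F V) (hg : g ∈ fr.N) (c : F) :
    g * fr.b c = fr.b c * g := by
  obtain ⟨h1, h2, h3⟩ := fr.mem_N.mp hg
  ext x
  rw [sl_mul_apply, sl_mul_apply, b_apply, b_apply]
  simp only [sl_map_add, sl_map_smul, h1, h3]


theorem u_sub' (p p' : fr.A × fr.A) : fr.u (p - p') = (fr.u p')⁻¹ * fr.u p := by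
  rw [u_sub, ← u_neg, u_comm, u_neg]

section action

variable {Ω : Type*} [MulAction (SpecialLinearGroup F V) Ω]

theorem mem_R {ω : Ω} {p : fr.A × fr.A} : p ∈ fr.R ω ↔ fr.u p • ω = ω := Iff.rfl

theorem zero_mem_R (ω : Ω) : (0 : fr.A × fr.A) ∈ fr.R ω := by
  rw [mem_R, u_zero, one_smul]

theorem add_mem_R {ω : Ω} {p p' : fr.A × fr.A} (h : p ∈ fr.R ω) (h' : p' ∈ fr.R ω) :
    p + p' ∈ fr.R ω := by
  rw [mem_R, u_add, mul_smul, fr.mem_R.mp h', fr.mem_R.mp h]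

theorem neg_mem_R {ω : Ω} {p : fr.A × fr.A} (h : p ∈ fr.R ω) : -p ∈ fr.R ω := by
  rw [mem_R, u_neg, inv_smul_eq_iff, fr.mem_R.mp h]

theorem sub_mem_R {ω : Ω} {p p' : fr.A × fr.A} (h : p ∈ fr.R ω) (h' : p' ∈ fr.R ω) :
    p - p' ∈ fr.R ω := by
  rw [sub_eq_add_neg p p']
  exact fr.add_mem_R h (fr.neg_mem_R h')

theorem sub_mem_R_of_smul_eq {ω : Ω} {p p' : fr.A × fr.A} (h : fr.u p • ω = fr.u p' • ω) :
    p - p' ∈ fr.R ω := by
  rw [mem_R, u_sub', mul_smul, h, inv_smul_smul]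

theorem rel_refl (ω : Ω) : fr.rel ω ω := ⟨0, by rw [u_zero, one_smul]⟩

theorem rel_symm {ω ω' : Ω} (h : fr.rel ω ω') : fr.rel ω' ω := by
  obtain ⟨p, rfl⟩ := h
  exact ⟨-p, by rw [u_neg, inv_smul_smul]⟩

theorem rel_trans {ω ω' ω'' : Ω} (h : fr.rel ω ω') (h' : fr.rel ω' ω'') : fr.rel ω ω'' := by
  obtain ⟨p, rfl⟩ := h
  obtain ⟨p', rfl⟩ := h'
  exact ⟨p' + p, by rw [u_add, mul_smul]⟩

theorem rel_u (p : fr.A × fr.A) (ω : Ω) : fr.rel ω (fr.u p • ω) := ⟨p, rfl⟩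

theorem R_eq_of_rel {ω ω' : Ω} (h : fr.rel ω ω') : fr.R ω = fr.R ω' := by
  obtain ⟨q, rfl⟩ := h
  ext p
  rw [mem_R, mem_R, ← mul_smul, u_comm, mul_smul, smul_left_cancel_iff]

theorem rel_smul_of_actsBy {g : SpecialLinearGroup F V} {L : fr.A × fr.A → fr.A × fr.A}
    (h : fr.ActsBy g L) {ω ω' : Ω} (hr : fr.rel ω ω') : fr.rel (g • ω) (g • ω') := by
  obtain ⟨p, rfl⟩ := hr
  exact ⟨L p, by rw [← mul_smul, ← h p, mul_smul]⟩

theorem mem_R_smul_of_actsBy {g : SpecialLinearGroup F V} {L : fr.A × fr.A → fr.A × fr.A}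
    (h : fr.ActsBy g L) {ω : Ω} {p : fr.A × fr.A} (hp : p ∈ fr.R ω) : L p ∈ fr.R (g • ω) := by
  rw [mem_R, ← mul_smul, ← h p, mul_smul, fr.mem_R.mp hp]

theorem mem_R_of_actsBy_of_rel {g : SpecialLinearGroup F V} {L : fr.A × fr.A → fr.A × fr.A}
    (h : fr.ActsBy g L) {ω : Ω} (hr : fr.rel (g • ω) ω) {p : fr.A × fr.A} (hp : p ∈ fr.R ω) :
    L p ∈ fr.R ω := by
  rw [← fr.R_eq_of_rel hr]
  exact fr.mem_R_smul_of_actsBy h hp

/-- **K0**: a "dependent" pair in `R ω` is zero. -/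
theorem R_dep (hNT : NoTvFix F V Ω) (ω : Ω) (ψ : fr.A) (a c : F)
    (h : (a • ψ, c • ψ) ∈ fr.R ω) : a • ψ = 0 ∧ c • ψ = 0 := by
  by_contra hcon
  have hψ : ψ ≠ 0 := by
    rintro rfl
    simp at hcon
  have hac : ¬ (a = 0 ∧ c = 0) := by
    rintro ⟨rfl, rfl⟩
    simp at hcon
  obtain ⟨v, hv⟩ : ∃ v, v = a • fr.d₁ + c • fr.d₂ := ⟨_, rfl⟩
  have hψv : ψ.1 v = 0 := by
    rw [hv]
    simp [ψ.2.1, ψ.2.2]
  have hv0 : v ≠ 0 := by
    intro h0
    apply hac
    constructor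
    · have := congrArg fr.δ₁ h0
      simpa [hv, fr.h11, fr.h12] using this
    · have := congrArg fr.δ₂ h0
      simpa [hv, fr.h21, fr.h22] using this
  have hu : fr.u (a • ψ, c • ψ) = tv ψ.1 v hψv := by
    ext x
    rw [u_apply, tv_apply, hv]
    simp [smul_smul, mul_comm]
    module
  have hψ1 : ψ.1 ≠ 0 := fun h => hψ (Subtype.ext h)
  exact hNT ψ.1 v hψv hψ1 hv0 ω (by rw [← hu]; exact h)

theorem card_A [Finite F] [Module.Finite F V] :
    Nat.card fr.A * Nat.card F ^ 2 = Nat.card F ^ finrank F V := by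
  let φ : Dual F V →ₗ[F] F × F := (Dual.eval F V fr.d₁).prod (Dual.eval F V fr.d₂)
  have hker : LinearMap.ker φ = fr.A := by
    ext α
    simp [φ, mem_A, LinearMap.mem_ker, Prod.ext_iff]
  have hrange : LinearMap.range φ = ⊤ := by
    rw [LinearMap.range_eq_top]
    rintro ⟨x, y⟩
    refine ⟨x • fr.δ₁ + y • fr.δ₂, ?_⟩
    simp [φ, fr.h11, fr.h12, fr.h21, fr.h22]
  have h1 := LinearMap.finrank_range_add_finrank_ker φ
  rw [hrange, hker, finrank_top, Subspace.dual_finrank_eq, finrank_prod, finrank_self] at h1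
  rw [Module.natCard_eq_pow_finrank (K := F) (V := fr.A), ← pow_add, ← h1]
  congr 1
  omega

theorem two_le_card_field [Finite F] : 2 ≤ Nat.card F := by
  haveI := Fintype.ofFinite F
  rw [Nat.card_eq_fintype_card]
  exact Fintype.one_lt_card

/-- **NZ**: `R ω ≠ 0`. -/
theorem exists_mem_R_ne_zero [Finite F] [Module.Finite F V] [Finite Ω] (hn : 4 ≤ finrank F V)
    (hcard : Nat.card Ω = Nat.card F ^ (finrank F V - 1)) (ω : Ω) :
    ∃ p ∈ fr.R ω, p ≠ 0 := by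
  by_contra hcon
  push Not at hcon
  have hinj : Function.Injective (fun p : fr.A × fr.A => fr.u p • ω) := by
    intro p p' h
    exact sub_eq_zero.mp (hcon _ (fr.sub_mem_R_of_smul_eq h))
  have hle := Nat.card_le_card_of_injective _ hinj
  rw [Nat.card_prod, hcard] at hle
  have hA := fr.card_A
  have hq : 2 ≤ Nat.card F := two_le_card_field
  obtain ⟨a, ha⟩ : ∃ a, a = Nat.card fr.A := ⟨_, rfl⟩
  obtain ⟨q, hq'⟩ : ∃ q, q = Nat.card F := ⟨_, rfl⟩
  obtain ⟨n, hn'⟩ : ∃ n, n = finrank F V := ⟨_, rfl⟩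
  rw [← ha, ← hq', ← hn'] at hle hA
  rw [← hq'] at hq
  rw [← hn'] at hn
  have h2 : q ^ (2 * n) ≤ q ^ (n + 3) := by
    calc q ^ (2 * n) = (a * q ^ 2) * (a * q ^ 2) := by rw [hA]; ring
      _ = (a * a) * q ^ 4 := by ring
      _ ≤ q ^ (n - 1) * q ^ 4 := Nat.mul_le_mul_right _ hle
      _ = q ^ (n + 3) := by rw [← pow_add]; congr 1; omega
  have h3 := (Nat.pow_le_pow_iff_right (by omega : 1 < q)).mp h2
  omega

/-- **SR**: `b c` (c ≠ 0) fixes no `Q_D`-orbit. -/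
theorem b_semiregular [Finite F] [Module.Finite F V] [Finite Ω] (hn : 4 ≤ finrank F V)
    (hcard : Nat.card Ω = Nat.card F ^ (finrank F V - 1)) (hNT : NoTvFix F V Ω)
    (c : F) (ω : Ω) (h : fr.rel (fr.b c • ω) ω) : c = 0 := by
  by_contra hc
  obtain ⟨p, hp, hp0⟩ := fr.exists_mem_R_ne_zero hn hcard ω
  have h1 := fr.mem_R_of_actsBy_of_rel (fr.actsBy_b c) h hp
  have h2 := fr.sub_mem_R h1 hp
  have h3 : ((p.1 + c • p.2, p.2) : fr.A × fr.A) - p = (c • p.2, (0 : F) • p.2) := by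
    ext <;> simp
  rw [h3] at h2
  have h4 := (fr.R_dep hNT ω p.2 c 0 h2).1
  have h5 : p.2 = 0 := by
    rcases smul_eq_zero.mp h4 with h | h
    · exact absurd h hc
    · exact h
  have h6 : p = ((1 : F) • p.1, (0 : F) • p.1) := by
    ext <;> simp [h5]
  rw [h6] at hp
  have h7 := (fr.R_dep hNT ω p.1 1 0 hp).1
  rw [one_smul] at h7
  apply hp0
  ext <;> simp [h5, h7]

/-- **T**: `Q_D · B` is transitive. -/
theorem exists_rel_b [Finite F] [Module.Finite F V] [Finite Ω] (hn : 4 ≤ finrank F V)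
    (hcard : Nat.card Ω = Nat.card F ^ (finrank F V - 1)) (hNT : NoTvFix F V Ω)
    (ω₀ ω : Ω) : ∃ c, fr.rel ω (fr.b c • ω₀) := by
  let Φ : F × fr.A → Ω := fun x => fr.u (0, x.2) • fr.b x.1 • ω₀
  have hinj : Function.Injective Φ := by
    rintro ⟨c, β⟩ ⟨c', β'⟩ h
    simp only [Φ] at h
    have hr : fr.rel (fr.b c • ω₀) (fr.b c' • ω₀) := by
      refine fr.rel_trans (fr.rel_u (0, β) _) ?_
      rw [h]
      exact fr.rel_symm (fr.rel_u (0, β') _)
    have hbc : fr.b c • ω₀ = fr.b (c - c') • fr.b c' • ω₀ := by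
      rw [← mul_smul, ← b_add, sub_add_cancel]
    rw [hbc] at hr
    have hcc := fr.b_semiregular hn hcard hNT _ _ hr
    have hcc' : c = c' := sub_eq_zero.mp hcc
    subst hcc'
    have h1 := fr.sub_mem_R_of_smul_eq h
    have h2 : ((0, β) : fr.A × fr.A) - (0, β') = ((0 : F) • (β - β'), (1 : F) • (β - β')) := by
      ext <;> simp
    rw [h2] at h1
    have h3 := (fr.R_dep hNT _ _ _ _ h1).2
    rw [one_smul] at h3
    have h4 : β = β' := (sub_eq_zero (a := β) (b := β')).mp h3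
    rw [h4]
  have hA := fr.card_A
  have hq : 2 ≤ Nat.card F := two_le_card_field
  have hcardle : Nat.card Ω ≤ Nat.card (F × fr.A) := by
    rw [Nat.card_prod, hcard]
    obtain ⟨a, ha⟩ : ∃ a, a = Nat.card fr.A := ⟨_, rfl⟩
    obtain ⟨q, hq'⟩ : ∃ q, q = Nat.card F := ⟨_, rfl⟩
    obtain ⟨n, hn'⟩ : ∃ n, n = finrank F V := ⟨_, rfl⟩
    rw [← ha, ← hq', ← hn'] at hA ⊢
    rw [← hq'] at hq
    rw [← hn'] at hn
    have h1 : q ^ n = q ^ (n - 1) * q := by
      rw [← pow_succ]; congr 1; omega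
    have h2 : (q * a) * q = q ^ (n - 1) * q := by
      rw [← h1, ← hA]; ring
    exact le_of_eq (Nat.eq_of_mul_eq_mul_right (by omega) h2).symm
  obtain ⟨x, hx⟩ := (hinj.bijective_of_nat_card_le hcardle).2 ω
  refine ⟨x.1, ?_⟩
  rw [← hx]
  exact fr.rel_symm (fr.rel_u _ _)

end action

end Frame

end Cfsg.Agent.Lib.H20.MinIdx
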