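import Cfsg.Agent.Lib.H26.MinIdxDefs

/-!
# S2140-D4 (helper20): definitions for the case `n ≥ 4` of "Case I is impossible"

`Frame F V` : two vectors `d₁ d₂` and two functionals `δ₁ δ₂` with `δᵢ dⱼ = δᵢⱼ`.
`fr.A` : the functionals vanishing on `d₁, d₂`.  `fr.u (α, β) = T(d₁,α) T(d₂,β)` (`x ↦ x + α x • d₁ + β x • d₂`).
`fr.b c = T(d₁, c δ₂)`, `fr.bm c = T(d₂, c δ₁)`.  `fr.N` : the subgroup of `g` with `g d₁ = d₁`, `g d₂ = d₂`,
`δ₂ ∘ g = δ₂`.  For an action of `SL(V)` on `Ω`: `fr.R ω` = the pairs `(α, β)` with `u (α, β) • ω = ω`,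
`fr.rel ω ω'` = "same `Q_D`-orbit".
-/

set_option autoImplicit false

namespace Cfsg.Agent.Lib.H20.MinIdx

open Module Cfsg.Agent.Lib.H26.MinIdx

variable {F V : Type*} [Field F] [AddCommGroup V] [Module F V]

/-- Two vectors and two functionals with `δᵢ dⱼ = δᵢⱼ`. -/
structure Frame (F V : Type*) [Field F] [AddCommGroup V] [Module F V] where
  d₁ : V
  d₂ : V
  δ₁ : Dual F V
  δ₂ : Dual F V
  h11 : δ₁ d₁ = 1
  h12 : δ₁ d₂ = 0
  h21 : δ₂ d₁ = 0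
  h22 : δ₂ d₂ = 1

namespace Frame

variable (fr : Frame F V)

/-- The functionals vanishing on `d₁` and `d₂`. -/
def A : Submodule F (Dual F V) where
  carrier := {α | α fr.d₁ = 0 ∧ α fr.d₂ = 0}
  add_mem' := by
    rintro α β ⟨h1, h2⟩ ⟨h3, h4⟩
    exact ⟨by simp [h1, h3], by simp [h2, h4]⟩
  zero_mem' := ⟨by simp, by simp⟩
  smul_mem' := by
    rintro c α ⟨h1, h2⟩
    exact ⟨by simp [h1], by simp [h2]⟩

theorem mem_A {α : Dual F V} : α ∈ fr.A ↔ α fr.d₁ = 0 ∧ α fr.d₂ = 0 := Iff.rfl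

/-- The swapped frame. -/
def swap : Frame F V where
  d₁ := fr.d₂
  d₂ := fr.d₁
  δ₁ := fr.δ₂
  δ₂ := fr.δ₁
  h11 := fr.h22
  h12 := fr.h21
  h21 := fr.h12
  h22 := fr.h11

/-- `u (α, β) = T(d₁, α) T(d₂, β)`. -/
noncomputable def u (p : fr.A × fr.A) : SpecialLinearGroup F V :=
  tv p.1.1 fr.d₁ p.1.2.1 * tv p.2.1 fr.d₂ p.2.2.2

/-- `b c = T(d₁, c δ₂)`. -/
noncomputable def b (c : F) : SpecialLinearGroup F V :=
  tv (c • fr.δ₂) fr.d₁ (by simp [fr.h21])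

/-- `bm c = T(d₂, c δ₁)`. -/
noncomputable def bm (c : F) : SpecialLinearGroup F V :=
  tv (c • fr.δ₁) fr.d₂ (by simp [fr.h12])

/-- The subgroup of the `g` with `g d₁ = d₁`, `g d₂ = d₂`, `δ₂ ∘ g = δ₂`. -/
def N : Subgroup (SpecialLinearGroup F V) where
  carrier := {g | g fr.d₁ = fr.d₁ ∧ g fr.d₂ = fr.d₂ ∧ ∀ x, fr.δ₂ (g x) = fr.δ₂ x}
  mul_mem' := by
    rintro g g' ⟨h1, h2, h3⟩ ⟨h1', h2', h3'⟩
    refine ⟨by simp [h1, h1'], by simp [h2, h2'], fun x => ?_⟩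
    rw [sl_mul_apply, h3, h3']
  one_mem' := ⟨rfl, rfl, fun _ => rfl⟩
  inv_mem' := by
    rintro g ⟨h1, h2, h3⟩
    refine ⟨?_, ?_, fun x => ?_⟩
    · conv_lhs => rw [← h1]
      simp
    · conv_lhs => rw [← h2]
      simp
    · have := h3 (g⁻¹ x)
      rw [sl_apply_inv_apply] at this
      exact this.symm

theorem mem_N {g : SpecialLinearGroup F V} :
    g ∈ fr.N ↔ g fr.d₁ = fr.d₁ ∧ g fr.d₂ = fr.d₂ ∧ ∀ x, fr.δ₂ (g x) = fr.δ₂ x := Iff.rfl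

variable {Ω : Type*} [MulAction (SpecialLinearGroup F V) Ω]

/-- The pairs `(α, β)` with `u (α, β) • ω = ω`, as a set (see `MinIdxD4Core` for the subgroup structure). -/
def R (ω : Ω) : Set (fr.A × fr.A) := {p | fr.u p • ω = ω}

/-- `ω, ω'` lie in the same orbit of `Q_D = {u p}`. -/
def rel (ω ω' : Ω) : Prop := ∃ p : fr.A × fr.A, fr.u p • ω = ω'

end Frame

/-- No non-trivial transvection fixes a point of `Ω`. -/
def NoTvFix (F V : Type*) [Field F] [AddCommGroup V] [Module F V]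
    (Ω : Type*) [MulAction (SpecialLinearGroup F V) Ω] : Prop :=
  ∀ (f : Dual F V) (v : V) (h : f v = 0), f ≠ 0 → v ≠ 0 → ∀ ω : Ω, tv f v h • ω ≠ ω

end Cfsg.Agent.Lib.H20.MinIdx
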