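import Cfsg.Agent.Lib.H20.MinIdxD4Core

/-!
# S2140-D4 (helper20): the shift homomorphism and the reduction to commutators (steps (3), (4))
-/

set_option autoImplicit false
set_option linter.unusedSimpArgs false
set_option linter.unusedVariables false
set_option linter.unusedSectionVars false

namespace Cfsg.Agent.Lib.H20.MinIdx

open Module Cfsg.Agent.Lib.H26.MinIdx

variable {F V : Type*} [Field F] [AddCommGroup V] [Module F V]

namespace Frame

variable (fr : Frame F V) (Ω : Type*) [MulAction (SpecialLinearGroup F V) Ω]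

/-- `g` maps `Q_D`-orbits to `Q_D`-orbits. -/
def Pres (g : SpecialLinearGroup F V) : Prop :=
  ∀ ω ω' : Ω, fr.rel ω ω' → fr.rel (g • ω) (g • ω')

/-- `g` acts on the `Q_D`-orbits like `b c`. -/
def Shift (g : SpecialLinearGroup F V) (c : F) : Prop :=
  ∀ ω : Ω, fr.rel (g • ω) (fr.b c • ω)

variable {Ω}

theorem pres_of_actsBy {g : SpecialLinearGroup F V} {L : fr.A × fr.A → fr.A × fr.A}
    (h : fr.ActsBy g L) : fr.Pres Ω g :=
  fun _ _ hr => fr.rel_smul_of_actsBy h hr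

theorem pres_b (c : F) : fr.Pres Ω (fr.b c) := fr.pres_of_actsBy (fr.actsBy_b c)

theorem pres_bm (c : F) : fr.Pres Ω (fr.bm c) := fr.pres_of_actsBy (fr.actsBy_bm c)

theorem pres_N {g : SpecialLinearGroup F V} (hg : g ∈ fr.N) : fr.Pres Ω g :=
  fr.pres_of_actsBy (fr.actsBy_N g hg)

theorem pres_mul {g g' : SpecialLinearGroup F V} (h : fr.Pres Ω g) (h' : fr.Pres Ω g') :
    fr.Pres Ω (g * g') := by
  intro ω ω' hr
  rw [mul_smul, mul_smul]
  exact h _ _ (h' _ _ hr)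

theorem shift_b (c : F) : fr.Shift Ω (fr.b c) c := fun ω => fr.rel_refl _

theorem shift_mul {g g' : SpecialLinearGroup F V} {c c' : F} (hp : fr.Pres Ω g)
    (h : fr.Shift Ω g c) (h' : fr.Shift Ω g' c') : fr.Shift Ω (g * g') (c + c') := by
  intro ω
  rw [mul_smul, b_add, mul_smul]
  exact fr.rel_trans (hp _ _ (h' ω)) (h _)

theorem shift_inv {g : SpecialLinearGroup F V} {c : F} (h : fr.Shift Ω g c) :
    fr.Shift Ω g⁻¹ (-c) := by
  intro ω
  have h1 := h (g⁻¹ • ω)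
  rw [smul_inv_smul] at h1
  have h2 := fr.pres_b (-c) _ _ h1
  rw [← mul_smul, ← b_add, neg_add_cancel, b_zero, one_smul] at h2
  exact fr.rel_symm h2

theorem rel_of_shift_zero {g : SpecialLinearGroup F V} (h : fr.Shift Ω g 0) (ω : Ω) :
    fr.rel (g • ω) ω := by
  have := h ω
  rwa [b_zero, one_smul] at this

section counting

variable [Finite F] [Module.Finite F V] [Finite Ω] (hn : 4 ≤ finrank F V)
  (hcard : Nat.card Ω = Nat.card F ^ (finrank F V - 1)) (hNT : NoTvFix F V Ω)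

include hn hcard hNT

theorem b_inj_of_rel {c c' : F} {ω₀ : Ω} (hr : fr.rel (fr.b c • ω₀) (fr.b c' • ω₀)) : c = c' := by
  have hbc : fr.b c • ω₀ = fr.b (c - c') • fr.b c' • ω₀ := by
    rw [← mul_smul, ← b_add, sub_add_cancel]
  rw [hbc] at hr
  exact sub_eq_zero.mp (fr.b_semiregular hn hcard hNT _ _ hr)

/-- step (3): every element of `fr.N` acts on the orbits as some `b c`. -/
theorem shift_N {g : SpecialLinearGroup F V} (hg : g ∈ fr.N) : ∃ c, fr.Shift Ω g c := by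
  rcases isEmpty_or_nonempty Ω with hΩ | ⟨⟨ω₀⟩⟩
  · exact ⟨0, fun ω => (hΩ.false ω).elim⟩
  obtain ⟨c, hc⟩ := fr.exists_rel_b hn hcard hNT ω₀ (g • ω₀)
  refine ⟨c, fun ω => ?_⟩
  obtain ⟨e, he⟩ := fr.exists_rel_b hn hcard hNT ω₀ ω
  -- g ω ~ g (b e ω₀) = b e (g ω₀) ~ b e (b c ω₀) = b c (b e ω₀) ~ b c ω
  have h1 : fr.rel (g • ω) (g • fr.b e • ω₀) := fr.pres_N hg _ _ he
  have h2 : g • fr.b e • ω₀ = fr.b e • g • ω₀ := by
    rw [← mul_smul, fr.commute_N_b g hg e, mul_smul]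
  have h3 : fr.rel (fr.b e • g • ω₀) (fr.b e • fr.b c • ω₀) := fr.pres_b e _ _ hc
  have h4 : fr.b e • fr.b c • ω₀ = fr.b c • fr.b e • ω₀ := by
    rw [← mul_smul, ← mul_smul, ← b_add, ← b_add, add_comm]
  have h5 : fr.rel (fr.b c • fr.b e • ω₀) (fr.b c • ω) := fr.pres_b c _ _ (fr.rel_symm he)
  rw [h2] at h1
  rw [h4] at h3
  exact fr.rel_trans h1 (fr.rel_trans h3 h5)

/-- commutators of elements of `fr.N` fix every `Q_D`-orbit. -/
theorem rel_comm_N {g g' : SpecialLinearGroup F V} (hg : g ∈ fr.N) (hg' : g' ∈ fr.N) (ω : Ω) :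
    fr.rel ((g * g' * g⁻¹ * g'⁻¹) • ω) ω := by
  obtain ⟨c, hc⟩ := fr.shift_N hn hcard hNT hg
  obtain ⟨c', hc'⟩ := fr.shift_N hn hcard hNT hg'
  have h1 : fr.Shift Ω (g * g') (c + c') := fr.shift_mul (fr.pres_N hg) hc hc'
  have h2 : fr.Shift Ω (g * g' * g⁻¹) (c + c' + -c) :=
    fr.shift_mul (fr.pres_N (fr.N.mul_mem hg hg')) h1 (fr.shift_inv hc)
  have h3 : fr.Shift Ω (g * g' * g⁻¹ * g'⁻¹) (c + c' + -c + -c') :=
    fr.shift_mul (fr.pres_N (fr.N.mul_mem (fr.N.mul_mem hg hg') (fr.N.inv_mem hg))) h2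
      (fr.shift_inv hc')
  have h4 : c + c' + -c + -c' = 0 := by ring
  rw [h4] at h3
  exact fr.rel_of_shift_zero h3 ω

/-- step (4): if `T(b,ψ)` fixes every orbit then the pairs of `R ω` vanish at `b`. -/
theorem apply_eq_zero_of_fix (bv : V) (ψ : Dual F V) (hb2 : fr.δ₂ bv = 0)
    (hψ : ψ ∈ fr.A) (hψb : ψ bv = 0) (hψ0 : ψ ≠ 0)
    (hfix : ∀ ω : Ω, fr.rel (tv ψ bv hψb • ω) ω) (ω : Ω) (p : fr.A × fr.A) (hp : p ∈ fr.R ω) :
    p.1.1 bv = 0 ∧ p.2.1 bv = 0 := by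
  have hs : tv ψ bv hψb ∈ fr.N := by
    rw [mem_N]
    refine ⟨?_, ?_, fun x => ?_⟩
    · rw [tv_apply, hψ.1, zero_smul, add_zero]
    · rw [tv_apply, hψ.2, zero_smul, add_zero]
    · rw [tv_apply, map_add, map_smul, hb2, smul_zero, add_zero]
  have h1 := fr.mem_R_of_actsBy_of_rel (fr.actsBy_N _ hs) (hfix ω) hp
  have h2 := fr.sub_mem_R hp h1
  have hconj : ∀ α : fr.A, α - fr.conjA _ hs α = (α.1 bv) • (⟨ψ, hψ⟩ : fr.A) := by
    intro α
    apply Subtype.ext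
    apply LinearMap.ext
    intro x
    have : (fr.conjA _ hs α).1 x = α.1 x - ψ x * α.1 bv := by
      rw [conjA_apply, tv_inv, tv_apply]
      simp
      ring
    simp only [Submodule.coe_sub, LinearMap.sub_apply, this, Submodule.coe_smul, LinearMap.smul_apply,
      smul_eq_mul]
    ring
  have h3 : p - (fr.conjA _ hs p.1, fr.conjA _ hs p.2)
      = ((p.1.1 bv) • (⟨ψ, hψ⟩ : fr.A), (p.2.1 bv) • (⟨ψ, hψ⟩ : fr.A)) := by
    ext1
    · exact hconj p.1
    · exact hconj p.2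
  rw [h3] at h2
  have h4 := fr.R_dep hNT ω _ _ _ h2
  have hψ' : (⟨ψ, hψ⟩ : fr.A) ≠ 0 := fun h => hψ0 (congrArg Subtype.val h)
  constructor
  · rcases smul_eq_zero.mp h4.1 with h | h
    · exact h
    · exact absurd h hψ'
  · rcases smul_eq_zero.mp h4.2 with h | h
    · exact h
    · exact absurd h hψ'

/-- **reduction**: if every `T(b,ψ)` (for some `ψ ≠ 0` depending on `b`) is a commutator of `fr.N`: contradiction. -/
theorem false_of_comm
    (h : ∀ bv : V, fr.δ₁ bv = 0 → fr.δ₂ bv = 0 → ∃ (ψ : Dual F V) (hψb : ψ bv = 0), ψ ∈ fr.A ∧ ψ ≠ 0 ∧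
      ∃ g ∈ fr.N, ∃ g' ∈ fr.N, tv ψ bv hψb = g * g' * g⁻¹ * g'⁻¹) : False := by
  have hpos : 0 < Nat.card Ω := by
    rw [hcard]
    exact Nat.pos_of_ne_zero (pow_ne_zero _ (by have := two_le_card_field (F := F); omega))
  obtain ⟨ω⟩ := (Nat.card_pos_iff.mp hpos).1
  obtain ⟨p, hp, hp0⟩ := fr.exists_mem_R_ne_zero hn hcard ω
  apply hp0
  have key : ∀ x : V, p.1.1 x = 0 ∧ p.2.1 x = 0 := by
    intro x
    obtain ⟨w, hw⟩ : ∃ w, w = x - fr.δ₁ x • fr.d₁ - fr.δ₂ x • fr.d₂ := ⟨_, rfl⟩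
    have hw1 : fr.δ₁ w = 0 := by
      rw [hw]; simp [fr.h11, fr.h12]
    have hw2 : fr.δ₂ w = 0 := by
      rw [hw]; simp [fr.h21, fr.h22]
    obtain ⟨ψ, hψb, hψ, hψ0, g, hg, g', hg', hcomm⟩ := h w hw1 hw2
    have hfix : ∀ ω : Ω, fr.rel (tv ψ w hψb • ω) ω := by
      intro ω
      rw [hcomm]
      exact fr.rel_comm_N hn hcard hNT hg hg' ω
    have h1 := fr.apply_eq_zero_of_fix hn hcard hNT w ψ hw2 hψ hψb hψ0 hfix ω p hp
    have hx : x = w + fr.δ₁ x • fr.d₁ + fr.δ₂ x • fr.d₂ := by rw [hw]; abel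
    constructor
    · rw [hx]
      simp [h1.1, p.1.2.1, p.1.2.2]
    · rw [hx]
      simp [h1.2, p.2.2.1, p.2.2.2]
  ext1
  · apply Subtype.ext
    apply LinearMap.ext
    intro x
    exact (key x).1
  · apply Subtype.ext
    apply LinearMap.ext
    intro x
    exact (key x).2

end counting

end Frame

end Cfsg.Agent.Lib.H20.MinIdx
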