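import Cfsg.Agent.Lib.H20.MinIdxD4Shift

/-!
# S2140-D4 (helper20): the case `q = 3` (step (5c))
-/

set_option autoImplicit false
set_option linter.unusedSimpArgs false
set_option linter.unusedVariables false
set_option linter.unusedSectionVars false

namespace Cfsg.Agent.Lib.H20.MinIdx

open Module Cfsg.Agent.Lib.H26.MinIdx

/-- a fixed-point-free injective self-map of `ZMod 3` is a translation. -/
theorem perm_zmod_three : ∀ π : ZMod 3 → ZMod 3, Function.Injective π → (∀ x, π x ≠ x) →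
    ∀ x, π x = x + π 0 := by
  decide

/-- the same for every field with three elements. -/
theorem perm_field_three {F : Type*} [Field F] [Finite F] (hq : Nat.card F = 3) (π : F → F)
    (hinj : Function.Injective π) (hfix : ∀ x, π x ≠ x) (x : F) : π x = x + π 0 := by
  haveI := Fintype.ofFinite F
  have hq' : Fintype.card F = 3 := by rw [← Nat.card_eq_fintype_card]; exact hq
  let e : ZMod 3 ≃+* F := ZMod.ringEquivOfPrime F Nat.prime_three hq'
  have h := perm_zmod_three (fun z => e.symm (π (e z)))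
    (fun z z' hzz' => e.injective (hinj (e.symm.injective hzz')))
    (fun z hz => hfix (e z) (by
      have := congrArg e hz
      simpa using this)) (e.symm x)
  have h2 := congrArg e h
  simpa using h2

variable {F V : Type*} [Field F] [AddCommGroup V] [Module F V]

namespace Frame

variable (fr : Frame F V) {Ω : Type*} [MulAction (SpecialLinearGroup F V) Ω]

theorem rel_swap {ω ω' : Ω} : fr.swap.rel ω ω' ↔ fr.rel ω ω' := by
  constructor
  · rintro ⟨p, hp⟩
    refine ⟨(⟨p.2.1, ⟨p.2.2.2, p.2.2.1⟩⟩, ⟨p.1.1, ⟨p.1.2.2, p.1.2.1⟩⟩), ?_⟩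
    rw [← hp]
    congr 1
    ext x
    rw [u_apply, u_apply]
    simp only [swap]
    abel
  · rintro ⟨p, hp⟩
    refine ⟨(⟨p.2.1, ⟨p.2.2.2, p.2.2.1⟩⟩, ⟨p.1.1, ⟨p.1.2.2, p.1.2.1⟩⟩), ?_⟩
    rw [← hp]
    congr 1
    ext x
    rw [u_apply, u_apply]
    simp only [swap]
    abel

section counting

variable [Finite F] [Module.Finite F V] [Finite Ω] (hn : 4 ≤ finrank F V)
  (hcard : Nat.card Ω = Nat.card F ^ (finrank F V - 1)) (hNT : NoTvFix F V Ω)

include hn hcard hNT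

theorem bm_semiregular (c : F) (ω : Ω) (h : fr.rel (fr.bm c • ω) ω) : c = 0 :=
  fr.swap.b_semiregular hn hcard hNT c ω (fr.rel_swap.mpr h)

theorem exists_shift_bm (hq : Nat.card F = 3) (c₀ : F) (hc₀ : c₀ ≠ 0) :
    ∃ ε, fr.Shift Ω (fr.bm c₀) ε := by
  rcases isEmpty_or_nonempty Ω with hΩ | ⟨⟨ω₀⟩⟩
  · exact ⟨0, fun ω => (hΩ.false ω).elim⟩
  have hπ : ∀ x : F, ∃ y : F, fr.rel (fr.bm c₀ • fr.b x • ω₀) (fr.b y • ω₀) :=
    fun x => fr.exists_rel_b hn hcard hNT ω₀ _
  choose π hπ using hπ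
  have hfix : ∀ x, π x ≠ x := by
    intro x hx
    have := hπ x
    rw [hx] at this
    exact hc₀ (fr.bm_semiregular hn hcard hNT c₀ _ this)
  have hinj : Function.Injective π := by
    intro x y hxy
    have h1 := hπ x
    have h2 := hπ y
    rw [hxy] at h1
    have h3 := fr.rel_trans h1 (fr.rel_symm h2)
    have h4 := fr.pres_bm (-c₀) _ _ h3
    have hcancel : ∀ ω' : Ω, fr.bm (-c₀) • fr.bm c₀ • ω' = ω' := by
      intro ω'
      rw [← mul_smul, ← bm_add, neg_add_cancel, bm_zero, one_smul]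
    rw [hcancel, hcancel] at h4
    exact fr.b_inj_of_rel hn hcard hNT h4
  have hall := perm_field_three hq π hinj hfix
  refine ⟨π 0, fun ω => ?_⟩
  obtain ⟨x, hx⟩ := fr.exists_rel_b hn hcard hNT ω₀ ω
  have h1 : fr.rel (fr.bm c₀ • ω) (fr.bm c₀ • fr.b x • ω₀) := fr.pres_bm c₀ _ _ hx
  have h2 := hπ x
  rw [hall x, add_comm, b_add, mul_smul] at h2
  have h3 : fr.rel (fr.b (π 0) • fr.b x • ω₀) (fr.b (π 0) • ω) := fr.pres_b _ _ _ (fr.rel_symm hx)
  exact fr.rel_trans h1 (fr.rel_trans h2 h3)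

include fr in
/-- **step (5c)**: `q = 3` is impossible. -/
theorem false_of_card_three (hq : Nat.card F = 3) : False := by
  have hpos : 0 < Nat.card Ω := by
    rw [hcard]
    exact Nat.pos_of_ne_zero (pow_ne_zero _ (by have := two_le_card_field (F := F); omega))
  obtain ⟨ω⟩ := (Nat.card_pos_iff.mp hpos).1
  obtain ⟨p, hp, hp0⟩ := fr.exists_mem_R_ne_zero hn hcard ω
  have h3 : (3 : F) = 0 := by
    haveI := Fintype.ofFinite F
    have := Nat.cast_card_eq_zero F
    rw [← Nat.card_eq_fintype_card, hq] at this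
    exact_mod_cast this
  obtain ⟨ε, hε⟩ := fr.exists_shift_bm hn hcard hNT hq 1 one_ne_zero
  have hε' : fr.Shift Ω (fr.bm (-1)) (-ε) := by
    rw [bm_neg]
    exact fr.shift_inv hε
  have hp1 : fr.Pres Ω (fr.b 1 * fr.bm 1) := fr.pres_mul (fr.pres_b 1) (fr.pres_bm 1)
  have hp1' : fr.Pres Ω (fr.b 1 * fr.bm (-1)) := fr.pres_mul (fr.pres_b 1) (fr.pres_bm (-1))
  have hs1 : fr.Shift Ω (fr.b 1 * fr.bm 1 * fr.b (-1) * fr.bm (-1)) (1 + ε + -1 + -ε) :=
    fr.shift_mul (fr.pres_mul hp1 (fr.pres_b (-1)))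
      (fr.shift_mul hp1 (fr.shift_mul (fr.pres_b 1) (fr.shift_b 1) hε) (fr.shift_b (-1))) hε'
  have hs2 : fr.Shift Ω (fr.b 1 * fr.bm (-1) * fr.b (-1) * fr.bm 1) (1 + -ε + -1 + ε) :=
    fr.shift_mul (fr.pres_mul hp1' (fr.pres_b (-1)))
      (fr.shift_mul hp1' (fr.shift_mul (fr.pres_b 1) (fr.shift_b 1) hε') (fr.shift_b (-1))) hε
  have e1 : 1 + ε + -1 + -ε = 0 := by ring
  have e2 : 1 + -ε + -1 + ε = 0 := by ring
  rw [e1] at hs1
  rw [e2] at hs2
  have ha1 := fr.actsBy_mul (fr.actsBy_mul (fr.actsBy_mul (fr.actsBy_b 1) (fr.actsBy_bm 1))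
    (fr.actsBy_b (-1))) (fr.actsBy_bm (-1))
  have ha2 := fr.actsBy_mul (fr.actsBy_mul (fr.actsBy_mul (fr.actsBy_b 1) (fr.actsBy_bm (-1)))
    (fr.actsBy_b (-1))) (fr.actsBy_bm 1)
  have m1 := fr.mem_R_of_actsBy_of_rel ha1 (fr.rel_of_shift_zero hs1 ω) hp
  have m2 := fr.mem_R_of_actsBy_of_rel ha2 (fr.rel_of_shift_zero hs2 ω) hp
  have hsum := fr.add_mem_R (fr.add_mem_R hp m1) m2
  have hsum_eq : p + ((fun p : fr.A × fr.A => (p.1 + (1 : F) • p.2, p.2)) ∘
        (fun p : fr.A × fr.A => (p.1, p.2 + (1 : F) • p.1)) ∘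
        (fun p : fr.A × fr.A => (p.1 + (-1 : F) • p.2, p.2)) ∘
        (fun p : fr.A × fr.A => (p.1, p.2 + (-1 : F) • p.1))) p +
      ((fun p : fr.A × fr.A => (p.1 + (1 : F) • p.2, p.2)) ∘
        (fun p : fr.A × fr.A => (p.1, p.2 + (-1 : F) • p.1)) ∘
        (fun p : fr.A × fr.A => (p.1 + (-1 : F) • p.2, p.2)) ∘
        (fun p : fr.A × fr.A => (p.1, p.2 + (1 : F) • p.1))) p
      = ((-1 : F) • p.1, (-1 : F) • p.1) + ((3 : F) • ((2 : F) • p.1), (3 : F) • (p.1 + p.2)) := by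
    ext1
    · simp only [Function.comp, Prod.fst_add, Prod.snd_add]
      module
    · simp only [Function.comp, Prod.fst_add, Prod.snd_add]
      module
  have hsum' : ((-1 : F) • p.1, (-1 : F) • p.1) ∈ fr.R ω := by
    have h := hsum
    simp only [Function.comp_assoc] at h
    rw [hsum_eq, h3, zero_smul, zero_smul] at h
    simpa using h
  have h4 := (fr.R_dep hNT ω p.1 (-1) (-1) hsum').1
  have h5 : p.1 = 0 := by
    rcases smul_eq_zero.mp h4 with h | h
    · exact absurd h (by simp)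
    · exact h
  have h6 : p = ((0 : F) • p.2, (1 : F) • p.2) := by
    ext <;> simp [h5]
  rw [h6] at hp
  have h7 := (fr.R_dep hNT ω p.2 0 1 hp).2
  rw [one_smul] at h7
  apply hp0
  ext <;> simp [h5, h7]

end counting

end Frame

end Cfsg.Agent.Lib.H20.MinIdx
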