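import Mathlib
import Cfsg.Agent.Lib.H20.TI
import Cfsg.Agent.Lib.H20.PowDecomp
import Cfsg.Agent.Lib.H1.SchurZassenhaus

set_option autoImplicit false

namespace Cfsg.Agent.Lib.H20

open scoped Pointwise

universe u

/-- If `|N_G(H) : C_G(H)|` is prime to `p`, every `p`-element of `N_G(H)` centralizes `H`. -/
theorem mem_centralizer_of_not_dvd_relIndex {G : Type*} [Group G] [Finite G] (p : ℕ)
    [Fact p.Prime] (H : Subgroup G)
    (hodd : ¬ p ∣ (Subgroup.centralizer (H : Set G)).relIndex (Subgroup.normalizer (H : Set G)))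
    (g : G) (hgN : g ∈ Subgroup.normalizer (H : Set G)) (hg : ∃ k : ℕ, orderOf g = p ^ k) :
    g ∈ Subgroup.centralizer (H : Set G) := by
  have hp : p.Prime := Fact.out
  obtain ⟨k, hk⟩ := hg
  -- image in Aut(H)
  have hker := Subgroup.normalizerMonoidHom_ker (H := H)
  have hcard : Nat.card (H.normalizerMonoidHom.range) =
      (Subgroup.centralizer (H : Set G)).relIndex (Subgroup.normalizer (H : Set G)) := by
    rw [Subgroup.relIndex, ← hker, Subgroup.index_ker]
  set φ := H.normalizerMonoidHom with hφ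
  have h1 : orderOf (φ ⟨g, hgN⟩) ∣ p ^ k := by
    have := orderOf_map_dvd φ (⟨g, hgN⟩ : Subgroup.normalizer (H : Set G))
    rwa [Subgroup.orderOf_mk, hk] at this
  have h2 : orderOf (φ ⟨g, hgN⟩) ∣ Nat.card φ.range := by
    have := orderOf_dvd_natCard (⟨φ ⟨g, hgN⟩, ⟨_, rfl⟩⟩ : φ.range)
    rwa [← Subgroup.orderOf_coe] at this
  have h3 : (p ^ k).Coprime (Nat.card φ.range) := by
    rw [hcard]
    exact Nat.Coprime.pow_left k ((Nat.Prime.coprime_iff_not_dvd hp).mpr hodd)
  have h4 : orderOf (φ ⟨g, hgN⟩) = 1 := Nat.eq_one_of_dvd_coprimes h3 h1 h2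
  have h5 : (⟨g, hgN⟩ : Subgroup.normalizer (H : Set G)) ∈ φ.ker := by
    rw [MonoidHom.mem_ker]; exact orderOf_eq_one_iff.mp h4
  rw [hker] at h5
  exact Subgroup.mem_subgroupOf.mp h5

/-- If every `p`-element of `N` lies in `C`, then `|N : C|` is prime to `p`. -/
theorem not_dvd_relIndex_of_forall_mem {G : Type*} [Group G] [Finite G] (p : ℕ)
    [Fact p.Prime] (C N : Subgroup G)
    (h : ∀ g ∈ N, (∃ k : ℕ, orderOf g = p ^ k) → g ∈ C) : ¬ p ∣ C.relIndex N := by
  obtain ⟨S⟩ : Nonempty (Sylow p N) := inferInstance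
  have hle : (S : Subgroup N) ≤ C.subgroupOf N := by
    intro s hs
    rw [Subgroup.mem_subgroupOf]
    apply h s.1 s.2
    obtain ⟨k, hk⟩ := (IsPGroup.iff_orderOf.mp S.isPGroup') ⟨s, hs⟩
    rw [Subgroup.orderOf_mk] at hk
    exact ⟨k, by rw [← hk, Subgroup.orderOf_coe]⟩
  intro hd
  exact S.not_dvd_index (hd.trans (Subgroup.index_dvd_of_le hle))

theorem conj_smul_eq_of_mem_normalizer {G : Type*} [Group G] [Finite G] (L : Subgroup G) (g : G)
    (hg : g ∈ Subgroup.normalizer (L : Set G)) : MulAut.conj g • L = L := by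
  ext x
  rw [mem_conj_smul_iff]
  have hginv := Subgroup.inv_mem _ hg
  have := Subgroup.mem_normalizer_iff.mp hginv x
  rw [inv_inv] at this
  exact this.symm

/-- Lifting normalizer elements through a quotient by a normal `p`-subgroup: if `Hbar` is a
`p'`-subgroup of `G ⧸ O` (`O` a normal `p`-subgroup), there is a `p'`-subgroup `H₀` of `G` mapping
isomorphically onto `Hbar`, such that every `p`-element of `N(Hbar)` is the image of a `p`-element
of `N_G(H₀)`. -/
theorem exists_lift_normalizer {G : Type u} [Group G] [Finite G] (p : ℕ) [Fact p.Prime]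
    (O : Subgroup G) [O.Normal] (hO : IsPGroup p O) (Hbar : Subgroup (G ⧸ O))
    (hHbar : ¬ p ∣ Nat.card Hbar) :
    ∃ H₀ : Subgroup G, Nat.card H₀ = Nat.card Hbar ∧ H₀.map (QuotientGroup.mk' O) = Hbar ∧
      ∀ gbar ∈ Subgroup.normalizer (Hbar : Set (G ⧸ O)), (∃ k : ℕ, orderOf gbar = p ^ k) →
        ∃ a ∈ Subgroup.normalizer (H₀ : Set G), (∃ k : ℕ, orderOf a = p ^ k) ∧
          QuotientGroup.mk' O a = gbar := by
  classical
  have hp : p.Prime := Fact.out
  set π := QuotientGroup.mk' O with hπ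
  have hπsurj : Function.Surjective π := QuotientGroup.mk'_surjective O
  set L := Hbar.comap π with hL
  have hOL : O ≤ L := by
    intro x hx
    rw [hL, Subgroup.mem_comap]
    have : π x = 1 := (QuotientGroup.eq_one_iff x).mpr hx
    rw [this]; exact Subgroup.one_mem _
  have hLmap : L.map π = Hbar := Subgroup.map_comap_eq_self_of_surjective hπsurj Hbar
  -- index of O in L
  have hrel : O.relIndex L = Nat.card Hbar := by
    have hkerπ' : π.ker = O := by rw [hπ, QuotientGroup.ker_mk']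
    have h1 : O = (⊥ : Subgroup (G ⧸ O)).comap π := hkerπ'.symm
    calc O.relIndex L = ((⊥ : Subgroup (G ⧸ O)).comap π).relIndex L := by rw [← h1]
      _ = (⊥ : Subgroup (G ⧸ O)).relIndex (L.map π) := Subgroup.relIndex_comap _ _ _
      _ = Nat.card Hbar := by rw [hLmap, Subgroup.relIndex_bot_left]
  obtain ⟨j, hj⟩ := hO.exists_card_eq
  have hcardO' : Nat.card (O.subgroupOf L) = p ^ j := by
    rw [← hj]
    exact Nat.card_congr (Subgroup.subgroupOfEquivOfLe hOL).toEquiv
  have hcop' : (Nat.card (O.subgroupOf L)).Coprime (O.subgroupOf L).index := by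
    rw [hcardO']
    change (p ^ j).Coprime (O.relIndex L)
    rw [hrel]
    exact Nat.Coprime.pow_left j ((Nat.Prime.coprime_iff_not_dvd hp).mpr hHbar)
  obtain ⟨K', hK'⟩ := Subgroup.exists_right_complement'_of_coprime hcop'
  set H₀ := K'.map L.subtype with hH₀
  have hH₀L : H₀ ≤ L := Subgroup.map_subtype_le _
  have hcardH₀ : Nat.card H₀ = Nat.card Hbar := by
    have h1 : Nat.card H₀ = Nat.card K' :=
      (Nat.card_congr (Subgroup.equivMapOfInjective _ L.subtype L.subtype_injective).toEquiv).symm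
    have h2 : (O.subgroupOf L).index = Nat.card K' := hK'.symm.index_eq_card
    rw [h1, ← h2]; exact hrel
  have hsupL : O ⊔ H₀ = L := by
    have h1 : O.subgroupOf L ⊔ K' = ⊤ := hK'.sup_eq_top
    have h2 := congrArg (Subgroup.map L.subtype) h1
    rw [Subgroup.map_sup, Subgroup.map_subgroupOf_eq_of_le hOL, ← MonoidHom.range_eq_map,
      Subgroup.range_subtype] at h2
    exact h2
  have hkerπ : π.ker = O := by rw [hπ, QuotientGroup.ker_mk']
  have hH₀map : H₀.map π = Hbar := by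
    rw [← hLmap, ← hsupL, Subgroup.map_sup]
    have : O.map π = ⊥ := by
      rw [Subgroup.map_eq_bot_iff, hkerπ]
    rw [this, bot_sup_eq]
  have hcopOH : (Nat.card O).Coprime (Nat.card H₀) := by
    rw [hj, hcardH₀]
    exact Nat.Coprime.pow_left j ((Nat.Prime.coprime_iff_not_dvd hp).mpr hHbar)
  refine ⟨H₀, hcardH₀, hH₀map, ?_⟩
  rintro gbar hgN ⟨k, hgk⟩
  obtain ⟨g, rfl⟩ := hπsurj gbar
  -- g normalizes L
  have hgL : g ∈ Subgroup.normalizer (L : Set G) := by
    apply Subgroup.mem_normalizer_fintype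
    intro l hl
    have hl' : π l ∈ Hbar := hl
    show π (g * l * g⁻¹) ∈ Hbar
    rw [map_mul, map_mul, map_inv]
    exact (Subgroup.mem_normalizer_iff.mp hgN (π l)).mp hl'
  have hgLeq : MulAut.conj g • L = L := conj_smul_eq_of_mem_normalizer L g hgL
  have hgOeq : MulAut.conj g • O = O := by
    apply conj_smul_eq_of_mem_normalizer
    rw [Subgroup.normalizer_eq_top]; trivial
  have hNtop : ∀ X : Subgroup G, X ≤ Subgroup.normalizer (O : Set G) := by
    intro X
    rw [Subgroup.normalizer_eq_top]; exact le_top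
  have hcardK₂ : Nat.card (MulAut.conj g • H₀ : Subgroup G) = Nat.card H₀ :=
    (Nat.card_congr (Subgroup.equivSMul (MulAut.conj g) H₀).toEquiv).symm
  have hsup₂ : O ⊔ H₀ = O ⊔ MulAut.conj g • H₀ := by
    calc O ⊔ H₀ = L := hsupL
      _ = MulAut.conj g • L := hgLeq.symm
      _ = MulAut.conj g • (O ⊔ H₀) := by rw [hsupL]
      _ = MulAut.conj g • O ⊔ MulAut.conj g • H₀ := Subgroup.smul_sup _ _ _
      _ = O ⊔ MulAut.conj g • H₀ := by rw [hgOeq]
  have hsolv : Group.IsSolvable O := by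
    haveI : Group.IsNilpotent O := hO.isNilpotent
    infer_instance
  obtain ⟨n, hnO, hn⟩ := Cfsg.Agent.Lib.H1.sz_conj_internal (N := O) (H := H₀)
    (K := MulAut.conj g • H₀) (hNtop _) (hNtop _) hcopOH
    (Subgroup.disjoint_of_coprime_natCard hcopOH)
    (Subgroup.disjoint_of_coprime_natCard (by rw [hcardK₂]; exact hcopOH)) hsup₂ (Or.inl hsolv)
  -- g' = n⁻¹ g normalizes H₀
  set g' := n⁻¹ * g with hg'
  have hg'H₀ : MulAut.conj g' • H₀ = H₀ := by
    rw [hg', map_mul, mul_smul, ← hn, ← mul_smul, ← map_mul, inv_mul_cancel, map_one, one_smul]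
  have hg'N : g' ∈ Subgroup.normalizer (H₀ : Set G) := by
    apply Subgroup.mem_normalizer_fintype
    intro x hx
    have : g' * x * g'⁻¹ ∈ MulAut.conj g' • H₀ := by
      rw [mem_conj_smul_iff]
      have e : g'⁻¹ * (g' * x * g'⁻¹) * g' = x := by group
      rw [e]; exact hx
    rw [hg'H₀] at this
    exact this
  have hπg' : π g' = π g := by
    rw [hg', map_mul, map_inv]
    have : π n = 1 := (QuotientGroup.eq_one_iff n).mpr hnO
    rw [this, inv_one, one_mul]
  -- take the p-part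
  obtain ⟨k₁, l₁, hkl, ⟨e, he⟩, hl⟩ :=
    exists_pPart_pPrimePart g' (isOfFinOrder_of_finite g') p hp
  have hb1 : π (g' ^ l₁) = 1 := by
    rw [← orderOf_eq_one_iff]
    have h1 : orderOf (π (g' ^ l₁)) ∣ orderOf (g' ^ l₁) := orderOf_map_dvd π _
    have h2 : orderOf (π (g' ^ l₁)) ∣ p ^ k := by
      rw [map_pow, hπg', ← hgk]; exact orderOf_pow_dvd l₁
    exact Nat.eq_one_of_dvd_coprimes (Nat.Coprime.pow_right k hl) h1 h2
  refine ⟨g' ^ k₁, Subgroup.pow_mem _ hg'N k₁, ⟨e, he⟩, ?_⟩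
  calc π (g' ^ k₁) = π (g' ^ k₁) * π (g' ^ l₁) := by rw [hb1, mul_one]
    _ = π (g' ^ k₁ * g' ^ l₁) := (map_mul π _ _).symm
    _ = π g := by rw [hkl, hπg']

end Cfsg.Agent.Lib.H20
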