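import Mathlib
import Cfsg.Agent.Lib.H26.NGPDefs
import Cfsg.Agent.Lib.H26.NGPF1

set_option autoImplicit false

/-!
# S1904 piece CASEII (helper20), hypothesis form: `B = ⊤` in case II (`n ≥ 3`)
-/

namespace Cfsg.Agent.Lib.H20.NGP

open Cfsg.Agent.Lib.H26.NGP

/-! ### the finite check in `End(F₂²)` -/

/-- the action of `ρ` on the indices of `U = {1, z, ρ z, ρ² z}` -/
def c2rho : Fin 4 → Fin 4
  | 0 => 0
  | 1 => 2
  | 2 => 3
  | 3 => 1

/-- the multiplication table of the four-group on indices -/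
def c2mul (i j : Fin 4) : Fin 4 :=
  ![![0, 1, 2, 3], ![1, 0, 3, 2], ![2, 3, 0, 1], ![3, 2, 1, 0]] i j

def c2get (a₁ a₂ a₃ : Fin 4) : Fin 4 → Fin 4
  | 0 => 0
  | 1 => a₁
  | 2 => a₂
  | 3 => a₃

def C2Idem (a₁ a₂ a₃ : Fin 4) : Prop :=
  ∀ i j : Fin 4, i ≠ 0 → j ≠ 0 → c2get a₁ a₂ a₃ i = j → c2get a₁ a₂ a₃ j = j

instance (a₁ a₂ a₃ : Fin 4) : Decidable (C2Idem a₁ a₂ a₃) := by
  unfold C2Idem
  infer_instance

theorem c2_fin_check : ∀ a₁ a₂ a₃ : Fin 4, c2mul a₁ (c2mul a₂ a₃) = 0 → C2Idem a₁ a₂ a₃ →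
    ¬ (a₁ = 0 ∧ a₂ = 0 ∧ a₃ = 0) →
    C2Idem (c2mul a₁ (c2rho a₃)) (c2mul a₂ (c2rho a₁)) (c2mul a₃ (c2rho a₂)) →
    a₁ = 1 ∧ a₂ = 2 ∧ a₃ = 3 := by
  decide


universe u

section general

variable {X : Type u} [Group X]

/-- `cm b x ∈ B` for `b` in a normal subgroup `B`. -/
theorem c2_cm_mem {B : Subgroup X} (hBn : B.Normal) {b : X} (hb : b ∈ B) (x : X) : cm b x ∈ B := by
  have : cm b x = b * (x * b⁻¹ * x⁻¹) := by simp only [cm_def]; group
  rw [this]
  exact B.mul_mem hb (hBn.conj_mem _ (B.inv_mem hb) x)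

/-- `b ↦ cm b x` is multiplicative on a normal abelian subgroup. -/
theorem c2_cm_mul {B : Subgroup X} (hBn : B.Normal) (hab : Ab B) {b b' : X} (hb : b ∈ B)
    (hb' : b' ∈ B) (x : X) : cm (b * b') x = cm b x * cm b' x := by
  have h1 : cm (b * b') x = b * cm b' x * b⁻¹ * cm b x := by simp only [cm_def]; group
  have h2 : b * cm b' x = cm b' x * b := hab b hb _ (c2_cm_mem hBn hb' x)
  rw [h1, h2, mul_inv_cancel_right]
  exact hab _ (c2_cm_mem hBn hb' x) _ (c2_cm_mem hBn hb x)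

theorem c2_cm_pow {B : Subgroup X} (hBn : B.Normal) (hab : Ab B) {b : X} (hb : b ∈ B) (x : X)
    (m : ℕ) : cm (b ^ m) x = (cm b x) ^ m := by
  induction m with
  | zero => simp [cm_def]
  | succ k ih => rw [pow_succ, c2_cm_mul hBn hab (B.pow_mem hb k) hb, ih, pow_succ]

theorem c2_pow_four (w : X) : w ^ 4 = (w * w) * (w * w) := by
  rw [show (4 : ℕ) = 2 + 2 from rfl, pow_add, pow_two]

theorem c2_fin4_forall (P : Fin 4 → Prop) (h0 : P 0) (h1 : P 1) (h2 : P 2) (h3 : P 3) :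
    ∀ k, P k := by
  intro k
  fin_cases k
  · exact h0
  · exact h1
  · exact h2
  · exact h3

theorem c2_cm_central {c : X} (hc : c ∈ Subgroup.center X) (x : X) : cm c x = 1 := by
  have h := Subgroup.mem_center_iff.mp hc x
  rw [cm_def, ← h]
  group

/-- `cm w (x * y) = cm w x * cm w y` when `cm w y` is central. -/
theorem c2_cm_mul_right (w x y : X) (hc : cm w y ∈ Subgroup.center X) :
    cm w (x * y) = cm w x * cm w y := by
  have h1 : cm w (x * y) = cm w x * (x * cm w y * x⁻¹) := by simp only [cm_def]; group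
  have h2 : x * cm w y = cm w y * x := Subgroup.mem_center_iff.mp hc x
  rw [h1, h2, mul_inv_cancel_right]

theorem c2_cm_map (ρ : MulAut X) (w x : X) : ρ (cm w x) = cm (ρ w) (ρ x) := by
  simp only [cm_def, map_mul, map_inv]

/-- the four elements of `U` -/
def c2u (ρ : MulAut X) (z : X) : Fin 4 → X
  | 0 => 1
  | 1 => z
  | 2 => ρ z
  | 3 => ρ (ρ z)

theorem c2u_facts {A : Subgroup (MulAut X)} {ρ : MulAut X} {z : X} {U : Subgroup X}
    (hU : USetup A ρ z U) :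
    (∀ x ∈ U, ∃ k, x = c2u ρ z k) ∧ Function.Injective (c2u ρ z) ∧
    (∀ i j, c2u ρ z (c2mul i j) = c2u ρ z i * c2u ρ z j) ∧
    (∀ k, ρ (c2u ρ z k) = c2u ρ z (c2rho k)) ∧ ∀ k, c2u ρ z k ∈ U := by
  have hz1 := hU.z1
  have hzz := hU.zz
  have hne := hU.ne
  have hcube := hU.cube
  have h2ne1 : ρ z ≠ 1 := fun h => hz1 ((map_eq_one_iff ρ ρ.injective).mp h)
  have h3ne1 : ρ (ρ z) ≠ 1 := fun h => h2ne1 ((map_eq_one_iff ρ ρ.injective).mp h)
  have h32 : ρ (ρ z) ≠ ρ z := fun h => hne (ρ.injective h)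
  have h31 : ρ (ρ z) ≠ z := by
    intro h
    apply hne
    have := congrArg ρ h
    rw [hcube] at this
    exact this.symm
  have h22 : ρ z * ρ z = 1 := by rw [← map_mul, hzz, map_one]
  have h33 : ρ (ρ z) * ρ (ρ z) = 1 := by rw [← map_mul, h22, map_one]
  have hzU : z ∈ U := (hU.memU z).mpr (Or.inr (Or.inl rfl))
  have h2U : ρ z ∈ U := (hU.memU _).mpr (Or.inr (Or.inr (Or.inl rfl)))
  have h3U : ρ (ρ z) ∈ U := (hU.memU _).mpr (Or.inr (Or.inr (Or.inr rfl)))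
  have hcomm : ∀ a ∈ U, ∀ b : X, a * b = b * a := fun a ha b =>
    (Subgroup.mem_center_iff.mp (hU.central ha) b).symm
  have h12 : z * ρ z = ρ (ρ z) := by
    rcases (hU.memU _).mp (U.mul_mem hzU h2U) with h | h | h | h
    · exfalso
      apply hne
      have : ρ z = z⁻¹ := (inv_eq_of_mul_eq_one_right h).symm
      rw [this]
      exact inv_eq_of_mul_eq_one_right hzz
    · exfalso
      exact h2ne1 (mul_eq_left.mp h)
    · exfalso
      exact hz1 (mul_eq_right.mp h)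
    · exact h
  have h21 : ρ z * z = ρ (ρ z) := by rw [← hcomm z hzU, h12]
  have h13 : z * ρ (ρ z) = ρ z := by rw [← h12, ← mul_assoc, hzz, one_mul]
  have h31' : ρ (ρ z) * z = ρ z := by rw [← hcomm z hzU, h13]
  have h23 : ρ z * ρ (ρ z) = z := by rw [← h21, ← mul_assoc, h22, one_mul]
  have h32' : ρ (ρ z) * ρ z = z := by rw [← hcomm (ρ z) h2U, h23]
  refine ⟨?_, ?_, ?_, ?_, ?_⟩
  · intro x hx
    rcases (hU.memU x).mp hx with h | h | h | h
    · exact ⟨0, h⟩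
    · exact ⟨1, h⟩
    · exact ⟨2, h⟩
    · exact ⟨3, h⟩
  · intro i j hij
    fin_cases i <;> fin_cases j <;> simp only [c2u] at hij <;>
      first
        | rfl
        | (exfalso; first
            | exact hz1 hij | exact hz1 hij.symm | exact h2ne1 hij | exact h2ne1 hij.symm
            | exact h3ne1 hij | exact h3ne1 hij.symm | exact hne hij | exact hne hij.symm
            | exact h31 hij | exact h31 hij.symm | exact h32 hij | exact h32 hij.symm)
  · intro i j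
    fin_cases i <;> fin_cases j <;> simp [c2u, c2mul, hzz, h22, h33, h12, h21, h13, h31', h23, h32']
  · intro k
    fin_cases k <;> simp [c2u, c2rho, hcube]
  · intro k
    fin_cases k
    · exact U.one_mem
    · exact hzU
    · exact h2U
    · exact h3U

end general

theorem c2mul_self : ∀ k : Fin 4, c2mul k k = 0 := by decide

theorem c2mul_M : ∀ a₁ a₂ : Fin 4, c2mul a₁ (c2mul a₂ (c2mul a₁ a₂)) = 0 := by decide

section main

variable {X : Type u} [Group X] [Finite X]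

/-- **CASEII**, with the pieces HC and IDEM as hypotheses. -/
theorem caseII_top_of {A : Subgroup (MulAut X)} (hC : Ctx A) {ρ : MulAut X} {z : X}
    {U B : Subgroup X} {n : ℕ} (hU : USetup A ρ z U) (hB : BSetup A U B n) (hn : 3 ≤ n)
    (hroot : ∀ k : ℕ, k ≤ n → ∀ b ∈ B, b ^ 2 ^ k = 1 → ∃ c ∈ B, c ^ 2 ^ (n - k) = b)
    (hpow : ∀ b ∈ B, b ^ 2 ^ n = 1)
    (hidem : ∀ x : X, x * x ∈ B → ∀ w ∈ B, w ^ 4 = 1 →
      ∃ c ∈ B, c ^ 4 = 1 ∧ c * c = cm w x ∧ cm c x = c * c)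
    (hC4 : ∀ x : X, (∀ b ∈ B, ∃ c ∈ B, cm b x = (c * c) * (c * c)) → x ∈ B)
    (hel : ∀ x y : X, cm x y ∈ B ∧ x * x ∈ B) : B = ⊤ := by
  have hBn := hB.normal
  have hab := hB.homo.ab
  have hρB : ∀ b ∈ B, ρ b ∈ B := hB.ainv ρ hU.mem
  have hUc := hU.central
  obtain ⟨hUk, huinj, humul, hurho, huU⟩ := c2u_facts hU
  have hu0 : c2u ρ z 0 = 1 := rfl
  have husq : ∀ k, c2u ρ z k * c2u ρ z k = 1 := by
    intro k
    rw [← humul, c2mul_self]
    rfl
  -- `cm w x ∈ U` for `w ∈ W₄`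
  have hT1 : ∀ x : X, ∀ w ∈ B, w ^ 4 = 1 → cm w x ∈ U := by
    intro x w hw hw4
    apply hB.invol _ (c2_cm_mem hBn hw x)
    rw [← c2_cm_mul hBn hab hw hw]
    apply c2_cm_central
    apply hUc
    apply hB.invol _ (B.mul_mem hw hw)
    rw [← c2_pow_four]
    exact hw4
  -- `cm w x` only depends on `w * w`
  have hT4 : ∀ x : X, ∀ w ∈ B, ∀ w' ∈ B, w * w = w' * w' → cm w x = cm w' x := by
    intro x w hw w' hw' hsq
    have hd : w * w'⁻¹ ∈ U := by
      apply hB.invol _ (B.mul_mem hw (B.inv_mem hw'))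
      have hc : w'⁻¹ * w = w * w'⁻¹ := hab _ (B.inv_mem hw') _ hw
      calc w * w'⁻¹ * (w * w'⁻¹) = w * (w'⁻¹ * w) * w'⁻¹ := by group
        _ = w * (w * w'⁻¹) * w'⁻¹ := by rw [hc]
        _ = (w * w) * (w' * w')⁻¹ := by group
        _ = 1 := by rw [hsq]; group
    have hw_eq : cm w x = cm ((w * w'⁻¹) * w') x := by
      congr 1
      group
    rw [hw_eq, c2_cm_mul hBn hab (B.mul_mem hw (B.inv_mem hw')) hw', c2_cm_central (hUc hd),
      one_mul]
  -- the element `w₁` with `w₁ * w₁ = z`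
  have hzB : z ∈ B := hB.UB ((hU.memU z).mpr (Or.inr (Or.inl rfl)))
  obtain ⟨c, hcB, hc⟩ := hroot 1 (by omega) z hzB
    (by rw [pow_one, pow_two]; exact hU.zz)
  obtain ⟨w₁, hw₁B, hw₁sq⟩ : ∃ w₁ ∈ B, w₁ * w₁ = z := by
    refine ⟨c ^ 2 ^ (n - 2), B.pow_mem hcB _, ?_⟩
    have e : 2 ^ (n - 2) + 2 ^ (n - 2) = 2 ^ (n - 1) := by
      have : n - 1 = (n - 2) + 1 := by omega
      rw [this, pow_succ]
      ring
    rw [← pow_add, e]
    exact hc
  -- the representatives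
  obtain ⟨wk, hwkB, hwksq, hwk1, hwk2, hwk3⟩ : ∃ wk : Fin 4 → X, (∀ k, wk k ∈ B) ∧
      (∀ k, wk k * wk k = c2u ρ z k) ∧ wk 1 = w₁ ∧ wk 2 = ρ w₁ ∧ wk 3 = ρ (ρ w₁) := by
    refine ⟨fun k => match k with
      | 0 => 1
      | 1 => w₁
      | 2 => ρ w₁
      | 3 => ρ (ρ w₁), ?_, ?_, rfl, rfl, rfl⟩
    · intro k
      fin_cases k
      · exact B.one_mem
      · exact hw₁B
      · exact hρB _ hw₁B
      · exact hρB _ (hρB _ hw₁B)
    · intro k
      fin_cases k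
      · simp [c2u]
      · simpa [c2u] using hw₁sq
      · simp only [c2u]
        rw [← map_mul, hw₁sq]
      · simp only [c2u]
        rw [← map_mul, ← map_mul, hw₁sq]
  have hwk4 : ∀ k, wk k ^ 4 = 1 := by
    intro k
    rw [c2_pow_four, hwksq, husq]
  -- the indices of an element
  have hex : ∀ x : X, ∃ a : Fin 4 → Fin 4, ∀ k, cm (wk k) x = c2u ρ z (a k) := by
    intro x
    have : ∀ k, ∃ j, cm (wk k) x = c2u ρ z j := fun k => hUk _ (hT1 x _ (hwkB k) (hwk4 k))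
    choose a ha using this
    exact ⟨a, ha⟩
  -- every `w ∈ W₄` behaves like one of the representatives
  have hrep : ∀ x : X, ∀ w ∈ B, ∀ k, w * w = c2u ρ z k → cm w x = cm (wk k) x := by
    intro x w hw k hk
    exact hT4 x w hw _ (hwkB k) (by rw [hk, hwksq])
  -- zero ⇒ in `B`
  have hwk0 : ∀ x : X, cm (wk 0) x = 1 := by
    intro x
    apply c2_cm_central
    apply hUc
    apply hB.invol _ (hwkB 0)
    rw [hwksq 0]
    rfl
  have hZ : ∀ x : X, cm (wk 1) x = 1 → cm (wk 2) x = 1 → cm (wk 3) x = 1 → x ∈ B := by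
    intro x hx1 hx2 hx3
    have hx : ∀ k, cm (wk k) x = 1 := c2_fin4_forall _ (hwk0 x) hx1 hx2 hx3
    apply hC4
    intro b hb
    have hbx : cm b x ∈ B := c2_cm_mem hBn hb x
    have hv4 : (b ^ 2 ^ (n - 2)) ^ 4 = 1 := by
      rw [← pow_mul]
      have : 2 ^ (n - 2) * 4 = 2 ^ n := by
        have : n = (n - 2) + 2 := by omega
        conv_rhs => rw [this, pow_add]
        norm_num
      rw [this]
      exact hpow b hb
    have hvB : b ^ 2 ^ (n - 2) ∈ B := B.pow_mem hb _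
    have hvv : (b ^ 2 ^ (n - 2)) * (b ^ 2 ^ (n - 2)) ∈ U := by
      apply hB.invol _ (B.mul_mem hvB hvB)
      rw [← c2_pow_four]
      exact hv4
    obtain ⟨k, hk⟩ := hUk _ hvv
    have h1 : cm (b ^ 2 ^ (n - 2)) x = 1 := by rw [hrep x _ hvB k hk, hx k]
    rw [c2_cm_pow hBn hab hb] at h1
    obtain ⟨c, hcB, hc⟩ := hroot (n - 2) (by omega) (cm b x) hbx h1
    refine ⟨c, hcB, ?_⟩
    have : n - (n - 2) = 2 := by omega
    rw [this] at hc
    rw [← hc, ← c2_pow_four]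
    norm_num
  -- multiplicativity in `x`
  have hmulx : ∀ x y : X, ∀ k, cm (wk k) (x * y) = cm (wk k) x * cm (wk k) y := by
    intro x y k
    exact c2_cm_mul_right _ _ _ (hUc (hT1 y _ (hwkB k) (hwk4 k)))
  -- the relation (M)
  have hM : ∀ x : X, ∀ a : Fin 4 → Fin 4, (∀ k, cm (wk k) x = c2u ρ z (a k)) →
      a 3 = c2mul (a 1) (a 2) := by
    intro x a ha
    apply huinj
    rw [humul, ← ha 1, ← ha 2, ← ha 3, ← c2_cm_mul hBn hab (hwkB 1) (hwkB 2)]
    apply hT4 x _ (hwkB 3) _ (B.mul_mem (hwkB 1) (hwkB 2))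
    have hc : wk 2 * wk 1 = wk 1 * wk 2 := hab _ (hwkB 2) _ (hwkB 1)
    calc wk 3 * wk 3 = c2u ρ z 3 := hwksq 3
      _ = c2u ρ z (c2mul 1 2) := rfl
      _ = c2u ρ z 1 * c2u ρ z 2 := humul 1 2
      _ = (wk 1 * wk 1) * (wk 2 * wk 2) := by rw [hwksq, hwksq]
      _ = wk 1 * (wk 1 * wk 2) * wk 2 := by group
      _ = wk 1 * (wk 2 * wk 1) * wk 2 := by rw [hc]
      _ = wk 1 * wk 2 * (wk 1 * wk 2) := by group
  -- idempotency (I)
  have hI : ∀ x : X, ∀ a : Fin 4 → Fin 4, (∀ k, cm (wk k) x = c2u ρ z (a k)) →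
      C2Idem (a 1) (a 2) (a 3) := by
    intro x a ha i j hi hj hij
    have hget : ∀ k : Fin 4, k ≠ 0 → c2get (a 1) (a 2) (a 3) k = a k := by
      intro k hk
      fin_cases k
      · exact absurd rfl hk
      · rfl
      · rfl
      · rfl
    rw [hget i hi] at hij
    rw [hget j hj]
    obtain ⟨c, hcB, hc4, hcc, hcx⟩ := hidem x (hel x x).2 (wk i) (hwkB i) (hwk4 i)
    have h1 : c * c = c2u ρ z j := by rw [hcc, ha i, hij]
    have h2 : cm c x = cm (wk j) x := hrep x c hcB j h1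
    apply huinj
    rw [← ha j, ← h2, hcx, h1]
  -- equivariance
  have hE : ∀ x : X, ∀ a : Fin 4 → Fin 4, (∀ k, cm (wk k) x = c2u ρ z (a k)) →
      cm (wk 1) (ρ x) = c2u ρ z (c2rho (a 3)) ∧ cm (wk 2) (ρ x) = c2u ρ z (c2rho (a 1)) ∧
      cm (wk 3) (ρ x) = c2u ρ z (c2rho (a 2)) := by
    intro x a ha
    refine ⟨?_, ?_, ?_⟩
    · have h1 : cm (wk 1) (ρ x) = cm (ρ (wk 3)) (ρ x) := by
        apply hT4 _ _ (hwkB 1) _ (hρB _ (hwkB 3))
        rw [← map_mul, hwksq, hwksq]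
        simp only [c2u]
        exact hU.cube.symm
      rw [h1, ← c2_cm_map, ha 3, hurho]
    · rw [hwk2, ← hwk1, ← c2_cm_map, ha 1, hurho]
    · rw [hwk3, ← hwk2, ← c2_cm_map, ha 2, hurho]
  -- the key claim
  have hK : ∀ x : X, x ∉ B → ∀ a : Fin 4 → Fin 4, (∀ k, cm (wk k) x = c2u ρ z (a k)) →
      a 1 = 1 ∧ a 2 = 2 ∧ a 3 = 3 := by
    intro x hx a ha
    obtain ⟨e1, e2, e3⟩ := hE x a ha
    obtain ⟨b, hb⟩ := hex (x * ρ x)
    have hb1 : b 1 = c2mul (a 1) (c2rho (a 3)) := by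
      apply huinj
      rw [← hb 1, hmulx, ha 1, e1, humul]
    have hb2 : b 2 = c2mul (a 2) (c2rho (a 1)) := by
      apply huinj
      rw [← hb 2, hmulx, ha 2, e2, humul]
    have hb3 : b 3 = c2mul (a 3) (c2rho (a 2)) := by
      apply huinj
      rw [← hb 3, hmulx, ha 3, e3, humul]
    have hIb := hI (x * ρ x) b hb
    rw [hb1, hb2, hb3] at hIb
    apply c2_fin_check (a 1) (a 2) (a 3) _ (hI x a ha) _ hIb
    · rw [hM x a ha]
      exact c2mul_M _ _
    · rintro ⟨h1, h2, h3⟩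
      apply hx
      apply hZ
      · rw [ha 1, h1]; rfl
      · rw [ha 2, h2]; rfl
      · rw [ha 3, h3]; rfl
  -- conclusion
  by_contra hne
  obtain ⟨x₀, hx₀⟩ : ∃ x₀, x₀ ∉ B := by
    by_contra hall
    push Not at hall
    exact hne (eq_top_iff.mpr fun g _ => hall g)
  have hprod : ∀ x y : X, x ∉ B → y ∉ B → x * y ∈ B := by
    intro x y hx hy
    obtain ⟨a, ha⟩ := hex x
    obtain ⟨b, hb⟩ := hex y
    obtain ⟨a1, a2, a3⟩ := hK x hx a ha
    obtain ⟨b1, b2, b3⟩ := hK y hy b hb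
    apply hZ
    · rw [hmulx, ha 1, hb 1, a1, b1, husq]
    · rw [hmulx, ha 2, hb 2, a2, b2, husq]
    · rw [hmulx, ha 3, hb 3, a3, b3, husq]
  have hidx : B.index = 2 := by
    rw [Subgroup.index_eq_two_iff_exists_notMem_and]
    refine ⟨x₀, hx₀, fun b => ?_⟩
    by_cases hb : b ∈ B
    · right; exact hb
    · left; exact hprod b x₀ hb hx₀
  exact hne (Cfsg.Agent.Lib.H26.NGP.eq_top_of_index_le_two hC.gen B hBn hB.ainv (by omega))

end main

end Cfsg.Agent.Lib.H20.NGP
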