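import Mathlib
import Cfsg.Agent.Lib.H26.NGPDefs
import Cfsg.Agent.Lib.H15.NGPHC
import Cfsg.Agent.Lib.H20.NGPCASEIIof

set_option autoImplicit false

/-!
# S1904 piece IDEM (helper20)
-/

namespace Cfsg.Agent.Lib.H20.NGP

open Cfsg.Agent.Lib.H26.NGP

universe u

variable {X : Type u} [Group X]

/-- `θ (θ b) = θ b * θ b` for `θ b = cm b x` when `x * x ∈ B` (`B` normal abelian). -/
theorem idem_theta_sq {B : Subgroup X} (hBn : B.Normal) (hab : Ab B) (x : X) (hxx : x * x ∈ B)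
    {b : X} (hb : b ∈ B) : cm (cm b x) x = cm b x * cm b x := by
  have h1 : (x * x) * b = b * (x * x) := hab _ hxx _ hb
  obtain ⟨t, ht⟩ : ∃ t, t = cm b x := ⟨_, rfl⟩
  obtain ⟨s, hs⟩ : ∃ s, s = cm t x := ⟨_, rfl⟩
  rw [← ht, ← hs]
  have e1 : x * b * x⁻¹ = t⁻¹ * b := by
    rw [ht, cm_def]; group
  have e2 : x * t * x⁻¹ = s⁻¹ * t := by
    rw [hs, cm_def]; group
  have e3 : x * (x * b * x⁻¹) * x⁻¹ = b := by
    calc x * (x * b * x⁻¹) * x⁻¹ = (x * x) * b * (x * x)⁻¹ := by group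
      _ = b * (x * x) * (x * x)⁻¹ := by rw [h1]
      _ = b := by group
  rw [e1] at e3
  have e4 : x * (t⁻¹ * b) * x⁻¹ = (x * t * x⁻¹)⁻¹ * (x * b * x⁻¹) := by group
  rw [e4, e2, e1] at e3
  have e6 : t⁻¹ * s * t⁻¹ = 1 := by
    have h := congrArg (· * b⁻¹) e3
    simp only [mul_inv_cancel] at h
    rw [← h]; group
  calc s = t * (t⁻¹ * s * t⁻¹) * t := by group
    _ = t * t := by rw [e6, mul_one]

variable [Finite X]

/-- **IDEM**. -/
theorem idem {A : Subgroup (MulAut X)} {U B : Subgroup X} {n : ℕ} (hB : BSetup A U B n) (hn : 3 ≤ n)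
    (hUc : U ≤ Subgroup.center X) (x : X) (hxx : x * x ∈ B) :
    ∀ w ∈ B, w ^ 4 = 1 → ∃ c ∈ B, c ^ 4 = 1 ∧ c * c = cm w x ∧ cm c x = c * c := by
  intro w hw hw4
  have hBn := hB.normal
  have hab := hB.homo.ab
  obtain ⟨b₀, hb₀B, hb₀⟩ := Cfsg.Agent.Lib.H15.NGP.homo_exists_root hB.homo 2 (by omega) w hw
    (by rw [show (2 : ℕ) ^ 2 = 4 from rfl]; exact hw4)
  obtain ⟨b, hbdef⟩ : ∃ b, b = b₀ ^ 2 ^ (n - 3) := ⟨_, rfl⟩
  have hbB : b ∈ B := by rw [hbdef]; exact B.pow_mem hb₀B _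
  have hbb : b * b = w := by
    rw [hbdef, ← pow_add]
    have e : 2 ^ (n - 3) + 2 ^ (n - 3) = 2 ^ (n - 2) := by
      have : n - 2 = (n - 3) + 1 := by omega
      rw [this, pow_succ]; ring
    rw [e]; exact hb₀
  refine ⟨cm b x, c2_cm_mem hBn hbB x, ?_, ?_, ?_⟩
  · rw [← c2_cm_pow hBn hab hbB]
    apply c2_cm_central
    apply hUc
    apply hB.invol _ (B.pow_mem hbB 4)
    rw [c2_pow_four, hbb, ← c2_pow_four]
    exact hw4
  · rw [← c2_cm_mul hBn hab hbB hbB, hbb]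
  · exact idem_theta_sq hBn hab x hxx hbB

/-- **CASEII** (exact signature). -/
theorem caseII_top {A : Subgroup (MulAut X)} (hC : Ctx A) {ρ : MulAut X} {z : X}
    {U B : Subgroup X} {n : ℕ} (hU : USetup A ρ z U) (hB : BSetup A U B n) (hn : 3 ≤ n)
    (hC4 : ∀ x : X, (∀ b ∈ B, ∃ c ∈ B, cm b x = (c * c) * (c * c)) → x ∈ B)
    (hel : ∀ x y : X, cm x y ∈ B ∧ x * x ∈ B) : B = ⊤ :=
  caseII_top_of hC hU hB hn (Cfsg.Agent.Lib.H15.NGP.homo_exists_root hB.homo)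
    (Cfsg.Agent.Lib.H15.NGP.homo_pow_eq_one hB.homo)
    (fun x hxx => idem hB hn hU.central x hxx) hC4 hel

end Cfsg.Agent.Lib.H20.NGP
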