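import Mathlib
import Cfsg.Agent.Lib.H26.NGPDefs
import Cfsg.Agent.Lib.H15.NGPHC
import Cfsg.Agent.Lib.H15.NGPX1
import Cfsg.Agent.Lib.H2.NGPKEY
import Cfsg.Agent.Lib.H20.NGPCASEIIof

set_option autoImplicit false

/-!
# S1904 piece N2 (helper20), with `top_of_rho_twist` (piece AR) as a hypothesis
-/

namespace Cfsg.Agent.Lib.H20.NGP

open Cfsg.Agent.Lib.H26.NGP

/-! ### finite checks -/

/-- the trace condition on the index tuple `(a₁, a₂, a₃)` of an element -/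
def N2Tr (a₁ a₂ a₃ : Fin 4) : Prop :=
  c2mul a₁ (c2mul (c2rho a₃) (c2rho (c2rho a₂))) = 0 ∧
  c2mul a₂ (c2mul (c2rho a₁) (c2rho (c2rho a₃))) = 0 ∧
  c2mul a₃ (c2mul (c2rho a₂) (c2rho (c2rho a₁))) = 0

instance (a₁ a₂ a₃ : Fin 4) : Decidable (N2Tr a₁ a₂ a₃) := by
  unfold N2Tr
  infer_instance

theorem n2_tr_zero : N2Tr 0 0 0 := by decide

theorem n2_tr_mul : ∀ a₁ a₂ b₁ b₂ : Fin 4, N2Tr a₁ a₂ (c2mul a₁ a₂) → N2Tr b₁ b₂ (c2mul b₁ b₂) →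
    N2Tr (c2mul a₁ b₁) (c2mul a₂ b₂) (c2mul (c2mul a₁ a₂) (c2mul b₁ b₂)) := by decide

theorem n2_tr_twist : ∀ a₁ a₂ : Fin 4,
    N2Tr (c2mul a₁ (c2rho (c2mul a₁ a₂))) (c2mul a₂ (c2rho a₁)) (c2mul (c2mul a₁ a₂) (c2rho a₂)) := by
  decide

theorem n2_fin_check : ∀ a₁ a₂ b₁ b₂ : Fin 4, N2Tr a₁ a₂ (c2mul a₁ a₂) → N2Tr b₁ b₂ (c2mul b₁ b₂) →
    ¬ (a₁ = 0 ∧ a₂ = 0) →
    (b₁ = 0 ∧ b₂ = 0) ∨ (b₁ = a₁ ∧ b₂ = a₂) ∨
    (b₁ = c2rho (c2mul a₁ a₂) ∧ b₂ = c2rho a₁) ∨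
    (b₁ = c2rho (c2rho a₂) ∧ b₂ = c2rho (c2rho (c2mul a₁ a₂))) := by decide

theorem n2_tr_sum : ∀ a₁ a₂ : Fin 4, N2Tr a₁ a₂ (c2mul a₁ a₂) →
    c2mul (c2mul a₁ (c2rho (c2mul a₁ a₂))) (c2rho (c2rho a₂)) = 0 ∧
    c2mul (c2mul a₂ (c2rho a₁)) (c2rho (c2rho (c2mul a₁ a₂))) = 0 := by decide

theorem c2mul_interchange : ∀ a₁ a₂ b₁ b₂ : Fin 4,
    c2mul (c2mul a₁ b₁) (c2mul a₂ b₂) = c2mul (c2mul a₁ a₂) (c2mul b₁ b₂) := by decide

theorem c2mul_twist3 : ∀ a₁ a₂ : Fin 4,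
    c2mul (c2mul a₁ (c2rho (c2mul a₁ a₂))) (c2mul a₂ (c2rho a₁)) =
      c2mul (c2mul a₁ a₂) (c2rho a₂) := by decide

theorem n2_L1 : ∀ a₁ a₂ : Fin 4, c2mul (c2rho (c2mul a₁ a₂)) (c2rho a₁) = c2rho a₂ := by decide

theorem n2_L2 : ∀ a₁ a₂ : Fin 4,
    c2mul (c2rho (c2rho a₂)) (c2rho (c2rho (c2mul a₁ a₂))) = c2rho (c2rho a₁) := by decide

theorem n2_tr_sum3 : ∀ a₁ a₂ : Fin 4, N2Tr a₁ a₂ (c2mul a₁ a₂) →
    c2mul (c2mul (c2mul a₁ a₂) (c2rho a₂)) (c2rho (c2rho a₁)) = 0 := by decide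

theorem c2mul_zero : ∀ a b : Fin 4, c2mul a b = 0 → a = b := by decide

theorem c2mul_comm : ∀ a b : Fin 4, c2mul a b = c2mul b a := by decide

theorem c2mul_rho : ∀ a b : Fin 4, c2rho (c2mul a b) = c2mul (c2rho a) (c2rho b) := by decide


universe u

section general

variable {X : Type u} [Group X]

theorem n2_cm_central_right (q : X) {c : X} (hc : c ∈ Subgroup.center X) : cm q c = 1 := by
  have h := Subgroup.mem_center_iff.mp hc q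
  rw [cm_def, h]
  group

theorem n2_cm_self (q : X) : cm q q = 1 := by
  rw [cm_def]; group

theorem n2_cm_inv_swap (q r : X) : (cm q r)⁻¹ = cm r q := by
  simp only [cm_def]; group

theorem n2_cm_one_right (q : X) : cm q 1 = 1 := by
  rw [cm_def]; group

end general

section main

variable {X : Type u} [Group X] [Finite X]

/-- **N2**, with `top_of_rho_twist` as a hypothesis. -/
theorem n2_comm_of {A : Subgroup (MulAut X)} (hC : Ctx A) {ρ : MulAut X} {z : X} {U B : Subgroup X}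
    (hU : USetup A ρ z U) (hB : BSetup A U B 2)
    (htop : ∀ N : Subgroup X, B ≤ N → (∀ x : X, x⁻¹ * ρ x ∈ N) → N = ⊤) :
    ∀ x y : X, cm x y ∈ U := by
  have hBn := hB.normal
  have hab := hB.homo.ab
  have hρB : ∀ b ∈ B, ρ b ∈ B := hB.ainv ρ hU.mem
  have hUc := hU.central
  obtain ⟨hUk, huinj, humul, hurho, huU⟩ := c2u_facts hU
  have husq : ∀ k, c2u ρ z k * c2u ρ z k = 1 := by
    intro k
    rw [← humul, c2mul_self]
    rfl
  have hU2 : ∀ v ∈ U, v * v = 1 := by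
    intro v hv
    obtain ⟨k, rfl⟩ := hUk v hv
    exact husq k
  have hpow4 : ∀ b ∈ B, b ^ 4 = 1 := by
    intro b hb
    have := Cfsg.Agent.Lib.H15.NGP.homo_pow_eq_one hB.homo b hb
    rwa [show (2 : ℕ) ^ 2 = 4 from rfl] at this
  obtain ⟨-, hfpf, -⟩ := Cfsg.Agent.Lib.H2.NGP.key hC.pg hU B hB.UB hρB hB.invol
  -- (a): `cm w x ∈ U` for `w ∈ B`
  have hT1 : ∀ x : X, ∀ w ∈ B, cm w x ∈ U := by
    intro x w hw
    apply hB.invol _ (c2_cm_mem hBn hw x)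
    rw [← c2_cm_mul hBn hab hw hw]
    apply c2_cm_central
    apply hUc
    apply hB.invol _ (B.mul_mem hw hw)
    rw [← c2_pow_four]
    exact hpow4 w hw
  -- (b): X1 for every element
  have hXB : ∀ g x : X, cm g x ∈ B := fun g x =>
    (Cfsg.Agent.Lib.H15.NGP.x1_props hB hUc hU2 x (fun b hb => hT1 x b hb)).1 g
  -- `cm w x` only depends on `w * w`
  have hT4 : ∀ x : X, ∀ w ∈ B, ∀ w' ∈ B, w * w = w' * w' → cm w x = cm w' x := by
    intro x w hw w' hw' hsq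
    have hd : w * w'⁻¹ ∈ U := by
      apply hB.invol _ (B.mul_mem hw (B.inv_mem hw'))
      have hc : w'⁻¹ * w = w * w'⁻¹ := hab _ (B.inv_mem hw') _ hw
      calc w * w'⁻¹ * (w * w'⁻¹) = w * (w'⁻¹ * w) * w'⁻¹ := by group
        _ = w * (w * w'⁻¹) * w'⁻¹ := by rw [hc]
        _ = (w * w) * (w' * w')⁻¹ := by group
        _ = 1 := by rw [hsq]; group
    have hw_eq : cm w x = cm ((w * w'⁻¹) * w') x := by
      congr 1
      group
    rw [hw_eq, c2_cm_mul hBn hab (B.mul_mem hw (B.inv_mem hw')) hw', c2_cm_central (hUc hd),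
      one_mul]
  -- the element `w₁` with `w₁ * w₁ = z`
  have hzB : z ∈ B := hB.UB ((hU.memU z).mpr (Or.inr (Or.inl rfl)))
  obtain ⟨w₁, hw₁B, hw₁sq⟩ : ∃ w₁ ∈ B, w₁ * w₁ = z := by
    obtain ⟨c, hcB, hc⟩ := Cfsg.Agent.Lib.H15.NGP.homo_exists_root hB.homo 1 (by omega) z hzB
      (by rw [pow_one, pow_two]; exact hU.zz)
    refine ⟨c, hcB, ?_⟩
    rw [show (2 : ℕ) - 1 = 1 from rfl, pow_one, pow_two] at hc
    exact hc
  -- the representatives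
  obtain ⟨wk, hwkB, hwksq, hwk1, hwk2, hwk3⟩ : ∃ wk : Fin 4 → X, (∀ k, wk k ∈ B) ∧
      (∀ k, wk k * wk k = c2u ρ z k) ∧ wk 1 = w₁ ∧ wk 2 = ρ w₁ ∧ wk 3 = ρ (ρ w₁) := by
    refine ⟨fun k => match k with
      | 0 => 1
      | 1 => w₁
      | 2 => ρ w₁
      | 3 => ρ (ρ w₁), ?_, ?_, rfl, rfl, rfl⟩
    · intro k
      fin_cases k
      · exact B.one_mem
      · exact hw₁B
      · exact hρB _ hw₁B
      · exact hρB _ (hρB _ hw₁B)
    · intro k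
      fin_cases k
      · simp [c2u]
      · simpa [c2u] using hw₁sq
      · simp only [c2u]
        rw [← map_mul, hw₁sq]
      · simp only [c2u]
        rw [← map_mul, ← map_mul, hw₁sq]
  -- the indices of an element
  have hex : ∀ x : X, ∃ a : Fin 4 → Fin 4, ∀ k, cm (wk k) x = c2u ρ z (a k) := by
    intro x
    have : ∀ k, ∃ j, cm (wk k) x = c2u ρ z j := fun k => hUk _ (hT1 x _ (hwkB k))
    choose a ha using this
    exact ⟨a, ha⟩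
  have hrep : ∀ x : X, ∀ w ∈ B, ∀ k, w * w = c2u ρ z k → cm w x = cm (wk k) x := by
    intro x w hw k hk
    exact hT4 x w hw _ (hwkB k) (by rw [hk, hwksq])
  have hwk0 : ∀ x : X, cm (wk 0) x = 1 := by
    intro x
    apply c2_cm_central
    apply hUc
    apply hB.invol _ (hwkB 0)
    rw [hwksq 0]
    rfl
  -- zero ⇒ in `B`
  have hZ : ∀ x : X, cm (wk 1) x = 1 → cm (wk 2) x = 1 → cm (wk 3) x = 1 → x ∈ B := by
    intro x hx1 hx2 hx3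
    have hx : ∀ k, cm (wk k) x = 1 := c2_fin4_forall _ (hwk0 x) hx1 hx2 hx3
    apply hB.cent
    intro b hb
    have hbb : b * b ∈ U := by
      apply hB.invol _ (B.mul_mem hb hb)
      rw [← c2_pow_four]
      exact hpow4 b hb
    obtain ⟨k, hk⟩ := hUk _ hbb
    have h1 : cm b x = 1 := by rw [hrep x b hb k hk, hx k]
    rw [cm_def] at h1
    have h2 : b * x = x * b := by
      calc b * x = (b * x * b⁻¹ * x⁻¹) * (x * b) := by group
        _ = x * b := by rw [h1, one_mul]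
    exact h2.symm
  -- multiplicativity in `x`
  have hmulx : ∀ x y : X, ∀ k, cm (wk k) (x * y) = cm (wk k) x * cm (wk k) y := by
    intro x y k
    exact c2_cm_mul_right _ _ _ (hUc (hT1 y _ (hwkB k)))
  have hinvx : ∀ x : X, ∀ k, cm (wk k) x⁻¹ = cm (wk k) x := by
    intro x k
    have h1 : cm (wk k) (x * x⁻¹) = 1 := by rw [mul_inv_cancel]; exact n2_cm_one_right _
    rw [hmulx] at h1
    have h2 : cm (wk k) x * cm (wk k) x = 1 := hU2 _ (hT1 x _ (hwkB k))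
    calc cm (wk k) x⁻¹ = (cm (wk k) x * cm (wk k) x) * cm (wk k) x⁻¹ := by rw [h2, one_mul]
      _ = cm (wk k) x * (cm (wk k) x * cm (wk k) x⁻¹) := by group
      _ = cm (wk k) x := by rw [h1, mul_one]
  -- the relation (M)
  have hM : ∀ x : X, ∀ a : Fin 4 → Fin 4, (∀ k, cm (wk k) x = c2u ρ z (a k)) →
      a 3 = c2mul (a 1) (a 2) := by
    intro x a ha
    apply huinj
    rw [humul, ← ha 1, ← ha 2, ← ha 3, ← c2_cm_mul hBn hab (hwkB 1) (hwkB 2)]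
    apply hT4 x _ (hwkB 3) _ (B.mul_mem (hwkB 1) (hwkB 2))
    have hc : wk 2 * wk 1 = wk 1 * wk 2 := hab _ (hwkB 2) _ (hwkB 1)
    calc wk 3 * wk 3 = c2u ρ z 3 := hwksq 3
      _ = c2u ρ z (c2mul 1 2) := rfl
      _ = c2u ρ z 1 * c2u ρ z 2 := humul 1 2
      _ = (wk 1 * wk 1) * (wk 2 * wk 2) := by rw [hwksq, hwksq]
      _ = wk 1 * (wk 1 * wk 2) * wk 2 := by group
      _ = wk 1 * (wk 2 * wk 1) * wk 2 := by rw [hc]
      _ = wk 1 * wk 2 * (wk 1 * wk 2) := by group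
  -- equivariance
  have hE : ∀ x : X, ∀ a : Fin 4 → Fin 4, (∀ k, cm (wk k) x = c2u ρ z (a k)) →
      cm (wk 1) (ρ x) = c2u ρ z (c2rho (a 3)) ∧ cm (wk 2) (ρ x) = c2u ρ z (c2rho (a 1)) ∧
      cm (wk 3) (ρ x) = c2u ρ z (c2rho (a 2)) := by
    intro x a ha
    refine ⟨?_, ?_, ?_⟩
    · have h1 : cm (wk 1) (ρ x) = cm (ρ (wk 3)) (ρ x) := by
        apply hT4 _ _ (hwkB 1) _ (hρB _ (hwkB 3))
        rw [← map_mul, hwksq, hwksq]
        simp only [c2u]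
        exact hU.cube.symm
      rw [h1, ← c2_cm_map, ha 3, hurho]
    · rw [hwk2, ← hwk1, ← c2_cm_map, ha 1, hurho]
    · rw [hwk3, ← hwk2, ← c2_cm_map, ha 2, hurho]
  -- tuple data: `T x a₁ a₂` says that the tuple of `x` is `(a₁, a₂, a₁ a₂)`
  have hT : ∀ x : X, ∃ a₁ a₂ : Fin 4, cm (wk 1) x = c2u ρ z a₁ ∧ cm (wk 2) x = c2u ρ z a₂ ∧
      cm (wk 3) x = c2u ρ z (c2mul a₁ a₂) := by
    intro x
    obtain ⟨a, ha⟩ := hex x
    exact ⟨a 1, a 2, ha 1, ha 2, by rw [ha 3, hM x a ha]⟩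
  have hTρ : ∀ x : X, ∀ a₁ a₂ : Fin 4, cm (wk 1) x = c2u ρ z a₁ → cm (wk 2) x = c2u ρ z a₂ →
      cm (wk 3) x = c2u ρ z (c2mul a₁ a₂) →
      cm (wk 1) (ρ x) = c2u ρ z (c2rho (c2mul a₁ a₂)) ∧ cm (wk 2) (ρ x) = c2u ρ z (c2rho a₁) ∧
      cm (wk 3) (ρ x) = c2u ρ z (c2rho a₂) := by
    intro x a₁ a₂ h1 h2 h3
    obtain ⟨a, ha⟩ := hex x
    have e1 : a 1 = a₁ := huinj (by rw [← ha 1, h1])
    have e2 : a 2 = a₂ := huinj (by rw [← ha 2, h2])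
    have e3 : a 3 = c2mul a₁ a₂ := huinj (by rw [← ha 3, h3])
    have := hE x a ha
    rw [e1, e2, e3] at this
    exact this
  -- the trace subgroup
  let N' : Subgroup X :=
    { carrier := {x | ∃ a₁ a₂ : Fin 4, cm (wk 1) x = c2u ρ z a₁ ∧ cm (wk 2) x = c2u ρ z a₂ ∧
        N2Tr a₁ a₂ (c2mul a₁ a₂)}
      one_mem' := ⟨0, 0, n2_cm_one_right _, n2_cm_one_right _, n2_tr_zero⟩
      mul_mem' := by
        rintro x y ⟨a₁, a₂, h1, h2, htr⟩ ⟨b₁, b₂, g1, g2, gtr⟩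
        refine ⟨c2mul a₁ b₁, c2mul a₂ b₂, ?_, ?_, ?_⟩
        · rw [hmulx, h1, g1, humul]
        · rw [hmulx, h2, g2, humul]
        · have := n2_tr_mul a₁ a₂ b₁ b₂ htr gtr
          rw [c2mul_interchange]
          exact this
      inv_mem' := by
        rintro x ⟨a₁, a₂, h1, h2, htr⟩
        exact ⟨a₁, a₂, by rw [hinvx, h1], by rw [hinvx, h2], htr⟩ }
  have hN'B : B ≤ N' := by
    intro b hb
    have h0 : ∀ k, cm (wk k) b = 1 := by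
      intro k
      have hc : wk k * b = b * wk k := hab _ (hwkB k) _ hb
      rw [cm_def, hc]
      group
    exact ⟨0, 0, h0 1, h0 2, n2_tr_zero⟩
  have hN'tw : ∀ x : X, x⁻¹ * ρ x ∈ N' := by
    intro x
    obtain ⟨a₁, a₂, h1, h2, h3⟩ := hT x
    obtain ⟨e1, e2, e3⟩ := hTρ x a₁ a₂ h1 h2 h3
    refine ⟨c2mul a₁ (c2rho (c2mul a₁ a₂)), c2mul a₂ (c2rho a₁), ?_, ?_, ?_⟩
    · rw [hmulx, hinvx, h1, e1, humul]
    · rw [hmulx, hinvx, h2, e2, humul]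
    · have := n2_tr_twist a₁ a₂
      rw [c2mul_twist3]
      exact this
  have hN'top : N' = ⊤ := htop N' hN'B hN'tw
  have hTr : ∀ x : X, ∀ a₁ a₂ : Fin 4, cm (wk 1) x = c2u ρ z a₁ → cm (wk 2) x = c2u ρ z a₂ →
      N2Tr a₁ a₂ (c2mul a₁ a₂) := by
    intro x a₁ a₂ h1 h2
    have hx : x ∈ N' := by rw [hN'top]; exact Subgroup.mem_top x
    obtain ⟨b₁, b₂, g1, g2, gtr⟩ := hx
    have e1 : b₁ = a₁ := huinj (by rw [← g1, h1])
    have e2 : b₂ = a₂ := huinj (by rw [← g2, h2])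
    rw [e1, e2] at gtr
    exact gtr
  -- the tuple of `ρ (ρ x)`
  have hTρρ : ∀ x : X, ∀ a₁ a₂ : Fin 4, cm (wk 1) x = c2u ρ z a₁ → cm (wk 2) x = c2u ρ z a₂ →
      cm (wk 3) x = c2u ρ z (c2mul a₁ a₂) →
      cm (wk 1) (ρ (ρ x)) = c2u ρ z (c2rho (c2rho a₂)) ∧
      cm (wk 2) (ρ (ρ x)) = c2u ρ z (c2rho (c2rho (c2mul a₁ a₂))) ∧
      cm (wk 3) (ρ (ρ x)) = c2u ρ z (c2rho (c2rho a₁)) := by
    intro x a₁ a₂ h1 h2 h3
    obtain ⟨e1, e2, e3⟩ := hTρ x a₁ a₂ h1 h2 h3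
    have e3' : cm (wk 3) (ρ x) = c2u ρ z (c2mul (c2rho (c2mul a₁ a₂)) (c2rho a₁)) := by
      rw [n2_L1]
      exact e3
    obtain ⟨f1, f2, f3⟩ := hTρ (ρ x) _ _ e1 e2 e3'
    rw [n2_L1] at f1
    exact ⟨f1, f2, f3⟩
  -- `x * ρ x * ρ (ρ x) ∈ B`
  have hp : ∀ x : X, x * ρ x * ρ (ρ x) ∈ B := by
    intro x
    obtain ⟨a₁, a₂, h1, h2, h3⟩ := hT x
    obtain ⟨e1, e2, e3⟩ := hTρ x a₁ a₂ h1 h2 h3
    obtain ⟨f1, f2, f3⟩ := hTρρ x a₁ a₂ h1 h2 h3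
    have htr := hTr x a₁ a₂ h1 h2
    obtain ⟨s1, s2⟩ := n2_tr_sum a₁ a₂ htr
    have s3 := n2_tr_sum3 a₁ a₂ htr
    apply hZ
    · rw [hmulx, hmulx, h1, e1, f1, ← humul, ← humul, s1]
      rfl
    · rw [hmulx, hmulx, h2, e2, f2, ← humul, ← humul, s2]
      rfl
    · rw [hmulx, hmulx, h3, e3, f3, ← humul, ← humul, s3]
      rfl
  -- elements with the same tuple differ by an element of `B`
  have hsame : ∀ y x' : X, cm (wk 1) y = cm (wk 1) x' → cm (wk 2) y = cm (wk 2) x' →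
      cm (wk 3) y = cm (wk 3) x' → ∃ b ∈ B, y = b * x' := by
    intro y x' g1 g2 g3
    refine ⟨y * x'⁻¹, ?_, by group⟩
    apply hZ
    · rw [hmulx, hinvx, g1]
      exact hU2 _ (hT1 x' _ (hwkB 1))
    · rw [hmulx, hinvx, g2]
      exact hU2 _ (hT1 x' _ (hwkB 2))
    · rw [hmulx, hinvx, g3]
      exact hU2 _ (hT1 x' _ (hwkB 3))
  -- the classes modulo `B`
  have hcls : ∀ x y : X, x ∉ B → ∃ b ∈ B, y = b ∨ y = b * x ∨ y = b * ρ x ∨ y = b * ρ (ρ x) := by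
    intro x y hx
    obtain ⟨a₁, a₂, h1, h2, h3⟩ := hT x
    obtain ⟨b₁, b₂, g1, g2, g3⟩ := hT y
    have hne : ¬ (a₁ = 0 ∧ a₂ = 0) := by
      rintro ⟨r1, r2⟩
      apply hx
      apply hZ
      · rw [h1, r1]; rfl
      · rw [h2, r2]; rfl
      · rw [h3, r1, r2]; rfl
    rcases n2_fin_check a₁ a₂ b₁ b₂ (hTr x a₁ a₂ h1 h2) (hTr y b₁ b₂ g1 g2) hne with
      ⟨r1, r2⟩ | ⟨r1, r2⟩ | ⟨r1, r2⟩ | ⟨r1, r2⟩
    · refine ⟨y, ?_, Or.inl rfl⟩
      apply hZ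
      · rw [g1, r1]; rfl
      · rw [g2, r2]; rfl
      · rw [g3, r1, r2]; rfl
    · obtain ⟨b, hb, hy⟩ := hsame y x (by rw [g1, h1, r1]) (by rw [g2, h2, r2])
        (by rw [g3, h3, r1, r2])
      exact ⟨b, hb, Or.inr (Or.inl hy)⟩
    · obtain ⟨e1, e2, e3⟩ := hTρ x a₁ a₂ h1 h2 h3
      obtain ⟨b, hb, hy⟩ := hsame y (ρ x) (by rw [g1, e1, r1]) (by rw [g2, e2, r2])
        (by rw [g3, e3, r1, r2, n2_L1])
      exact ⟨b, hb, Or.inr (Or.inr (Or.inl hy))⟩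
    · obtain ⟨f1, f2, f3⟩ := hTρρ x a₁ a₂ h1 h2 h3
      obtain ⟨b, hb, hy⟩ := hsame y (ρ (ρ x)) (by rw [g1, f1, r1]) (by rw [g2, f2, r2])
        (by rw [g3, f3, r1, r2, n2_L2])
      exact ⟨b, hb, Or.inr (Or.inr (Or.inr hy))⟩
  -- the quotient by `U`
  haveI : U.Normal := hU.normal
  obtain ⟨π, hπdef⟩ : ∃ π : X →* X ⧸ U, π = QuotientGroup.mk' U := ⟨_, rfl⟩
  have hπ1 : ∀ g : X, π g = 1 ↔ g ∈ U := by
    intro g
    rw [hπdef, ← MonoidHom.mem_ker, QuotientGroup.ker_mk']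
  have hπsurj : Function.Surjective π := by
    rw [hπdef]
    exact QuotientGroup.mk'_surjective U
  have hπcm : ∀ g h : X, π (cm g h) = cm (π g) (π h) := by
    intro g h
    simp only [cm_def, map_mul, map_inv]
  have hπBc : ∀ b ∈ B, π b ∈ Subgroup.center (X ⧸ U) := by
    intro b hb
    rw [Subgroup.mem_center_iff]
    intro q
    obtain ⟨k, rfl⟩ := hπsurj q
    have h1 : π (cm b k) = 1 := (hπ1 _).mpr (hT1 k b hb)
    rw [hπcm, cm_def] at h1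
    calc π k * π b = (π b * π k * (π b)⁻¹ * (π k)⁻¹)⁻¹ * (π b * π k) := by group
      _ = π b * π k := by rw [h1, inv_one, one_mul]
  have hQc : ∀ q r : X ⧸ U, cm q r ∈ Subgroup.center (X ⧸ U) := by
    intro q r
    obtain ⟨g, rfl⟩ := hπsurj q
    obtain ⟨h, rfl⟩ := hπsurj r
    rw [← hπcm]
    exact hπBc _ (hXB g h)
  have hQmul : ∀ q r s : X ⧸ U, cm q (r * s) = cm q r * cm q s := fun q r s =>
    c2_cm_mul_right q r s (hQc q s)
  have hQinv : ∀ q r : X ⧸ U, cm q r⁻¹ = (cm q r)⁻¹ := by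
    intro q r
    have h1 : cm q (r * r⁻¹) = 1 := by rw [mul_inv_cancel]; exact n2_cm_one_right _
    rw [hQmul] at h1
    exact eq_inv_of_mul_eq_one_right h1
  have hrel : ∀ x : X, π (ρ (ρ x)) = (π x * π (ρ x))⁻¹ * π (x * ρ x * ρ (ρ x)) := by
    intro x
    rw [← map_mul, ← map_inv, ← map_mul]
    congr 1
    group
  have hC3 : ∀ x : X, cm (π x) (π (ρ x)) = 1 := by
    intro x
    obtain ⟨c, hcdef⟩ : ∃ c, c = cm x (ρ x) := ⟨_, rfl⟩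
    have hcB : c ∈ B := by rw [hcdef]; exact hXB _ _
    have h1 : π (ρ c) = π c := by
      rw [hcdef, c2_cm_map, hπcm, hrel x, hQmul, n2_cm_central_right _ (hπBc _ (hp x)), mul_one,
        hQinv, hQmul, n2_cm_self, mul_one, n2_cm_inv_swap, hπcm]
    rw [hπdef, QuotientGroup.mk'_eq_mk'] at h1
    obtain ⟨v, hvU, hv⟩ := h1
    have hvc : ∀ g : X, g * v = v * g := fun g => Subgroup.mem_center_iff.mp (hUc hvU) g
    have hfix : ρ (c * c) = c * c := by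
      rw [map_mul]
      calc ρ c * ρ c = ρ c * ρ c * (v * v) := by rw [hU2 v hvU, mul_one]
        _ = ρ c * (ρ c * v) * v := by group
        _ = ρ c * (v * ρ c) * v := by rw [hvc (ρ c)]
        _ = (ρ c * v) * (ρ c * v) := by group
        _ = c * c := by rw [hv]
    have hcc : c * c = 1 := hfpf _ (B.mul_mem hcB hcB) hfix
    have hcU : c ∈ U := hB.invol c hcB hcc
    rw [← hπcm, ← hcdef]
    exact (hπ1 c).mpr hcU
  have hC4 : ∀ x : X, cm (π x) (π (ρ (ρ x))) = 1 := by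
    intro x
    rw [hrel x, hQmul, n2_cm_central_right _ (hπBc _ (hp x)), mul_one, hQinv, hQmul, n2_cm_self,
      one_mul, hC3, inv_one]
  -- conclusion
  intro x y
  by_cases hx : x ∈ B
  · exact hT1 y x hx
  · obtain ⟨b, hb, hy⟩ := hcls x y hx
    rw [← hπ1, hπcm]
    rcases hy with rfl | rfl | rfl | rfl
    · exact n2_cm_central_right _ (hπBc _ hb)
    · rw [map_mul, hQmul, n2_cm_central_right _ (hπBc _ hb), one_mul, n2_cm_self]
    · rw [map_mul, hQmul, n2_cm_central_right _ (hπBc _ hb), one_mul, hC3]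
    · rw [map_mul, hQmul, n2_cm_central_right _ (hπBc _ hb), one_mul, hC4]

end main

end Cfsg.Agent.Lib.H20.NGP
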