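import Mathlib
import Cfsg.Agent.Lib.H26.NGPDefs
import Cfsg.Agent.Lib.H9.NGPAR
import Cfsg.Agent.Lib.H20.NGPN2of

set_option autoImplicit false

/-!
# S1904 piece N2 (helper20), exact signature
-/

namespace Cfsg.Agent.Lib.H20.NGP

open Cfsg.Agent.Lib.H26.NGP

universe u

variable {X : Type u} [Group X] [Finite X]

/-- **N2**. -/
theorem n2_comm {A : Subgroup (MulAut X)} (hC : Ctx A) {ρ : MulAut X} {z : X} {U B : Subgroup X}
    (hU : USetup A ρ z U) (hB : BSetup A U B 2) : ∀ x y : X, cm x y ∈ U :=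
  n2_comm_of hC hU hB (fun N hBN hN => Cfsg.Agent.Lib.H9.NGP.top_of_rho_twist hC hU hB N hBN hN)

end Cfsg.Agent.Lib.H20.NGP
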