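import Mathlib
import Cfsg.Agent.Lib.H5.Ord.O4032a
import Cfsg.Agent.Lib.H5.Ord.BrVal1
import Cfsg.Agent.Lib.H5.Ord.BrGen
import Cfsg.Agent.Lib.H5.Ord.InvSelf
import Cfsg.Agent.Lib.H5.Ord.SylPrime3

set_option autoImplicit false
set_option linter.unusedSectionVars false

/-! # S0976, task T12 (case `n_7 = 288`): the part independent of T11. -/

namespace Cfsg.Agent.Lib.H20.O4032

open Subgroup MulAction Cfsg.Agent.Lib.H5 Cfsg.Agent.Lib.H5.SylPrime

/-- `2` is not a square in `ℚ`. -/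
theorem not_isSquare_two_rat : ¬ IsSquare (2 : ℚ) := by
  rw [Rat.isSquare_iff]; norm_num

/-- The Brauer numerics for `|G| = 4032`, `p = 7`, `t = 3`, dihedral normalizer. -/
theorem numerics_4032 (c : ℕ) (hc : c ≠ 0) (δ ε : ℤ) (d₀ x : ℕ) (a : ℚ)
    (hδ : δ = 1 ∨ δ = -1) (hε : ε = 1 ∨ ε = -1)
    (h1 : 1 + δ * (d₀ : ℤ) = ε * (x : ℤ)) (hd : d₀ ∣ 4032) (hx : x ∣ 4032) (hd1 : d₀ ≠ 1)
    (hdm : ∃ m : ℤ, (d₀ : ℤ) = δ + m * 7) (hxm : ∃ m : ℤ, (x : ℤ) = 2 * ε + m * 7)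
    (hle : 1 + d₀ ^ 2 + 3 * x ^ 2 ≤ 4032)
    (heq : (c : ℚ) ^ 2 * 7 = 4032 * (1 + (δ : ℚ) * a ^ 2 / (d₀ : ℚ)
      - (ε : ℚ) * (1 + (δ : ℚ) * a) ^ 2 / (x : ℚ))) : False := by
  obtain ⟨m₁, hm₁⟩ := hdm
  obtain ⟨m₂, hm₂⟩ := hxm
  have hdb : d₀ ≤ 63 := by nlinarith
  have hxb : x ≤ 36 := by nlinarith
  have key : δ = 1 ∧ ε = 1 ∧ d₀ = 8 ∧ x = 9 := by
    rcases hδ with rfl | rfl <;> rcases hε with rfl | rfl
    · -- x = d₀ + 1
      have hxe : x = d₀ + 1 := by omega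
      subst hxe
      have hdb' : d₀ ≤ 35 := by omega
      interval_cases d₀ <;> first | omega | (exfalso; omega) | (exfalso; revert hx; decide)
    · exfalso; omega
    · exfalso
      have hxe : d₀ = x + 1 := by omega
      subst hxe
      interval_cases x <;> first | omega | (revert hd; decide)
    · exfalso
      have hxe : d₀ = x + 1 := by omega
      subst hxe
      interval_cases x <;> first | omega | (revert hd; decide) | (revert hx; decide)
  obtain ⟨rfl, rfl, rfl, rfl⟩ := key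
  have h2 : (c : ℚ) ^ 2 = 8 * (a - 8) ^ 2 := by
    push_cast at heq
    linarith [heq]
  have hc0 : (c : ℚ) ≠ 0 := by exact_mod_cast hc
  have ha8 : a - 8 ≠ 0 := by
    intro h0
    rw [h0] at h2
    apply hc0
    have : (c : ℚ) ^ 2 = 0 := by rw [h2]; ring
    exact pow_eq_zero_iff (two_ne_zero) |>.mp this
  apply not_isSquare_two_rat
  refine ⟨(c : ℚ) / (2 * (a - 8)), ?_⟩
  field_simp
  linarith [h2]

variable {G : Type*} [Group G] [Finite G] [IsSimpleGroup G]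

/-- Group-theoretic set-up of case D. -/
theorem caseD_setup (hG : Nat.card G = 4032) [Fact (Nat.Prime 7)] (P : Sylow 7 G)
    (hP : Nat.card (P : Subgroup G) = 7)
    (hN : Nat.card (normalizer ((P : Subgroup G) : Set G)) = 14)
    (hC : Nat.card (centralizer ((P : Subgroup G) : Set G)) = 7) :
    centralizer ((P : Subgroup G) : Set G) = (P : Subgroup G) ∧
      Nat.card (normalizer ((P : Subgroup G) : Set G)) = 7 * 2 ∧ commutator G = ⊤ ∧
      ∃ s : G, s ∈ normalizer ((P : Subgroup G) : Set G) ∧ orderOf s = 2 := by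
  refine ⟨centralizer_eq_of_card (P : Subgroup G) hP hC, by rw [hN], ?_, ?_⟩
  · apply Cfsg.Agent.Lib.H24.BrP.commutator_eq_top_of_simple
    rw [hG]; norm_num
  · haveI : Fact (Nat.Prime 2) := ⟨Nat.prime_two⟩
    obtain ⟨s, hs⟩ := exists_prime_orderOf_dvd_card' (G := normalizer ((P : Subgroup G) : Set G)) 2
      (by rw [hN]; norm_num)
    exact ⟨(s : G), s.2, by rw [Subgroup.orderOf_coe]; exact hs⟩

end Cfsg.Agent.Lib.H20.O4032
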