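import Mathlib
import Cfsg.Agent.Lib.H20.O4032_T12a
import Cfsg.Agent.Lib.H18.O4032_T11

set_option autoImplicit false
set_option linter.unusedSectionVars false

/-! # S0976, task T12 (case `n_7 = 288`). -/

namespace Cfsg.Agent.Lib.H5.O4032

open Subgroup MulAction Cfsg.Agent.Lib.H5 Cfsg.Agent.Lib.H5.SylPrime

variable {G : Type*} [Group G] [Finite G] [IsSimpleGroup G]

/-- **T12** `n_7 = 288`. -/
theorem caseD (hG : Nat.card G = 4032) [Fact (Nat.Prime 7)] (P : Sylow 7 G)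
    (hP : Nat.card (P : Subgroup G) = 7) (hNtop : normalizer ((P : Subgroup G) : Set G) ≠ ⊤)
    (hn : Nat.card (Sylow 7 G) = 288)
    (hN : Nat.card (normalizer ((P : Subgroup G) : Set G)) = 14)
    (hC : Nat.card (centralizer ((P : Subgroup G) : Set G)) = 7) : False := by
  obtain ⟨hCP, hN', hperf, s, hsN, hs⟩ := Cfsg.Agent.Lib.H20.O4032.caseD_setup hG P hP hN hC
  obtain ⟨δ, ε, d₀, x, a, hδ, hε, h1, hd, hx, hd1, hdm, hxm, hle, heq⟩ :=
    Cfsg.Agent.Lib.H5.BrVal.dihedral_brauer (p := 7) (t := 3) (P : Subgroup G) hP hCP hN'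
      (by norm_num) le_rfl hperf hsN hs
  rw [hG] at hd hx hle
  rw [hG] at heq
  have hc : Nat.card (Subgroup.centralizer ({s} : Set G)) ≠ 0 := Nat.card_pos.ne'
  refine Cfsg.Agent.Lib.H20.O4032.numerics_4032 _ hc δ ε d₀ x a hδ hε h1 hd hx hd1 ?_ ?_ hle ?_
  · simpa using hdm
  · simpa using hxm
  · simpa using heq

end Cfsg.Agent.Lib.H5.O4032
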