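import Cfsg.Agent.Lib.H24.CharOrth

/-!
# S0980 piece (E5) `class_sum_eq` (helper20)

The class multiplication sum for the target `x` (an element of order 5 with `N/C` of order 2), computed from
the "principal 5-block" data of piece (E4).  See `tools/blueprints/S0980.md`.
-/

set_option autoImplicit false

namespace Cfsg.Agent.Lib.H20.O5760

open Cfsg Cfsg.Agent.Lib.L0 Cfsg.Agent.Lib.H24
open scoped BigOperators ComplexConjugate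

universe u

theorem class_sum_eq {G : Type u} [Group G] [Fintype G] [Fintype (IrrCharacter G)]
    {x : G} (hinv : IsConj x x⁻¹) (χ₀ χ₁ θ₁ θ₂ : IrrCharacter G) (ε η : ℤ) (h0 : (χ₀ : G → ℂ) = 1)
    (hε : ε = 1 ∨ ε = -1) (hη : η = 1 ∨ η = -1)
    (hsum : ∀ F : IrrCharacter G → ℂ, ∑ ψ : IrrCharacter G, F ψ * (ψ : G → ℂ) x =
        F χ₀ + (ε : ℂ) * F χ₁ + (θ₁ : G → ℂ) x * F θ₁ + (θ₂ : G → ℂ) x * F θ₂)
    (hθx : (θ₁ : G → ℂ) x + (θ₂ : G → ℂ) x = (η : ℂ))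
    (hoff : ∀ g : G, ¬ IsConj g x → ¬ IsConj g (x ^ 2) →
        (θ₁ : G → ℂ) g = (θ₂ : G → ℂ) g ∧ 1 + (ε : ℂ) * (χ₁ : G → ℂ) g + (η : ℂ) * (θ₁ : G → ℂ) g = 0)
    (hx1 : ¬ IsConj (1 : G) x) (hx2 : ¬ IsConj (1 : G) (x ^ 2))
    (g h : G) (hg : ¬ IsConj g x) (hg2 : ¬ IsConj g (x ^ 2)) (hh : ¬ IsConj h x) (hh2 : ¬ IsConj h (x ^ 2)) :
    (∑ ψ : IrrCharacter G, (ψ : G → ℂ) g * (ψ : G → ℂ) h * (ψ : G → ℂ) x⁻¹ / (ψ : G → ℂ) 1) *
        ((χ₁ : G → ℂ) 1 * ((χ₁ : G → ℂ) 1 + (ε : ℂ))) =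
      ((χ₁ : G → ℂ) 1 - (χ₁ : G → ℂ) g) * ((χ₁ : G → ℂ) 1 - (χ₁ : G → ℂ) h) := by
  -- rewrite the sum with `ψ x⁻¹ = ψ x`
  have hxinv : ∀ ψ : IrrCharacter G, (ψ : G → ℂ) x⁻¹ = (ψ : G → ℂ) x := fun ψ =>
    (isClassFunction_eq_of_isConj (isClassFunction_irr ψ) hinv).symm
  have hS : (∑ ψ : IrrCharacter G, (ψ : G → ℂ) g * (ψ : G → ℂ) h * (ψ : G → ℂ) x⁻¹ / (ψ : G → ℂ) 1) =
      ∑ ψ : IrrCharacter G, ((ψ : G → ℂ) g * (ψ : G → ℂ) h / (ψ : G → ℂ) 1) * (ψ : G → ℂ) x := by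
    refine Finset.sum_congr rfl fun ψ _ => ?_
    rw [hxinv ψ]; ring
  rw [hS, hsum (fun ψ => (ψ : G → ℂ) g * (ψ : G → ℂ) h / (ψ : G → ℂ) 1)]
  -- data
  obtain ⟨hg1, hg3⟩ := hoff g hg hg2
  obtain ⟨hh1, hh3⟩ := hoff h hh hh2
  obtain ⟨h11, h13⟩ := hoff 1 hx1 hx2
  set d : ℂ := (χ₁ : G → ℂ) 1 with hd
  set ug : ℂ := (χ₁ : G → ℂ) g with hug
  set uh : ℂ := (χ₁ : G → ℂ) h with huh
  set f : ℂ := (θ₁ : G → ℂ) 1 with hf
  set vg : ℂ := (θ₁ : G → ℂ) g with hvg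
  set vh : ℂ := (θ₁ : G → ℂ) h with hvh
  -- degrees are nonzero
  have hd0 : d ≠ 0 := by
    obtain ⟨n, hn⟩ := isCharacter_apply_one (isCharacter_of_irr χ₁.2)
    have hpos := H24.irr_one_ne_zero χ₁
    exact hpos
  have hf0 : f ≠ 0 := H24.irr_one_ne_zero θ₁
  have hεc : (ε : ℂ) * (ε : ℂ) = 1 := by
    rcases hε with h | h <;> simp [h]
  have hηc : (η : ℂ) * (η : ℂ) = 1 := by
    rcases hη with h | h <;> simp [h]
  have e0 : (χ₀ : G → ℂ) g * (χ₀ : G → ℂ) h / (χ₀ : G → ℂ) 1 = 1 := by simp [h0]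
  rw [e0]
  rw [← hg1, ← hh1, ← h11] at *
  -- now everything is in terms of d ug uh f vg vh
  have hθ : (θ₁ : G → ℂ) x * (vg * vh / f) + (θ₂ : G → ℂ) x * (vg * vh / f) = (η : ℂ) * (vg * vh / f) := by
    rw [← add_mul, hθx]
  -- solve for vg, vh, f
  have hvg' : vg = -(η : ℂ) * (1 + (ε : ℂ) * ug) := by
    have : (η : ℂ) * vg = -(1 + (ε : ℂ) * ug) := by linear_combination hg3
    calc vg = ((η : ℂ) * (η : ℂ)) * vg := by rw [hηc, one_mul]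
      _ = (η : ℂ) * ((η : ℂ) * vg) := by ring
      _ = -(η : ℂ) * (1 + (ε : ℂ) * ug) := by rw [this]; ring
  have hvh' : vh = -(η : ℂ) * (1 + (ε : ℂ) * uh) := by
    have : (η : ℂ) * vh = -(1 + (ε : ℂ) * uh) := by linear_combination hh3
    calc vh = ((η : ℂ) * (η : ℂ)) * vh := by rw [hηc, one_mul]
      _ = (η : ℂ) * ((η : ℂ) * vh) := by ring
      _ = -(η : ℂ) * (1 + (ε : ℂ) * uh) := by rw [this]; ring
  have hf' : f = -(η : ℂ) * (1 + (ε : ℂ) * d) := by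
    have : (η : ℂ) * f = -(1 + (ε : ℂ) * d) := by linear_combination h13
    calc f = ((η : ℂ) * (η : ℂ)) * f := by rw [hηc, one_mul]
      _ = (η : ℂ) * ((η : ℂ) * f) := by ring
      _ = -(η : ℂ) * (1 + (ε : ℂ) * d) := by rw [this]; ring
  have h1εd : (1 + (ε : ℂ) * d) ≠ 0 := by
    intro h0'
    apply hf0
    rw [hf', h0', mul_zero]
  have hη0 : (η : ℂ) ≠ 0 := by
    intro h0'
    rw [h0', mul_zero] at hηc
    exact zero_ne_one hηc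
  calc (1 + (ε : ℂ) * (ug * uh / d) + (θ₁ : G → ℂ) x * (vg * vh / f) + (θ₂ : G → ℂ) x * (vg * vh / f)) *
        (d * (d + (ε : ℂ)))
      = (1 + (ε : ℂ) * (ug * uh / d) + (η : ℂ) * (vg * vh / f)) * (d * (d + (ε : ℂ))) := by
        rw [add_assoc (1 + (ε : ℂ) * (ug * uh / d)), hθ]
    _ = (d - ug) * (d - uh) := by
        rw [hvg', hvh', hf']
        have hd' : d + (ε : ℂ) = (ε : ℂ) * (1 + (ε : ℂ) * d) := by
          have : (ε : ℂ) * ((ε : ℂ) * d) = d := by rw [← mul_assoc, hεc, one_mul]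
          rw [mul_add, mul_one, this, add_comm]
        rw [hd']
        field_simp
        have e2 : (ε : ℂ) ^ 2 = 1 := by rw [sq]; exact hεc
        have n2 : (η : ℂ) ^ 2 = 1 := by rw [sq]; exact hηc
        ring_nf
        simp only [e2, n2]
        ring_nf

end Cfsg.Agent.Lib.H20.O5760
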