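import Mathlib
import Cfsg.Agent.Lib.H13.O7Defs
import Cfsg.Agent.Lib.H25.LieCrit

/-!
# S2647 piece FL (helper20): the fusion-system conclusions from the abstract core
-/

set_option autoImplicit false

namespace Cfsg.Agent.Lib.H13.O7

open Matrix Equiv Cfsg

variable {F : Type*} [Field F]

open Cfsg.Agent.Lib.H26 Pointwise in
theorem conclusions_of_core {G : Type*} [Group G] [Finite G] (hG : Core G) (S : Sylow 2 G) :
    (groupFusionSystem (S : Subgroup G)).autGroup (S : Subgroup G) = Cfsg.Inn ↥(S : Subgroup G) ∧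
    (∀ T : Subgroup G, (groupFusionSystem (S : Subgroup G)).StronglyClosed T →
      T = ⊥ ∨ T = (S : Subgroup G)) ∧
    (groupFusionSystem (S : Subgroup G)).IsSimple 2 := by
  obtain ⟨S₀, hcard, hv2, hN, hsc⟩ := hG
  -- `S₀` is a Sylow subgroup, conjugate to `S`
  let P₀ : Sylow 2 G := Sylow.ofCard S₀ (by rw [hcard, hv2])
  obtain ⟨g, hg⟩ := MulAction.exists_smul_eq G P₀ S
  have hS : (S : Subgroup G) = cj g S₀ := by
    rw [← hg]
    ext x
    rw [mem_cj]
    show x ∈ MulAut.conj g • (P₀ : Subgroup G) ↔ _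
    rw [Subgroup.mem_pointwise_smul_iff_inv_smul_mem,
      MulAut.smul_def, ← map_inv, MulAut.conj_apply, inv_inv]
    rfl
  have hne : S₀ ≠ ⊥ := by
    intro h
    rw [h, Subgroup.card_bot] at hcard
    norm_num at hcard
  have hgen : Subgroup.normalizer (S₀ : Set G) ≤
      Subgroup.closure {h : G | Cfsg.Agent.Lib.H25.LieCrit.GoodElt 2 S₀ h} :=
    fun x hx => Subgroup.subset_closure (Or.inl (hN hx))
  -- the normalizer of `S` is `S`
  have hNS : Subgroup.normalizer ((S : Subgroup G) : Set G) ≤ (S : Subgroup G) := by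
    rw [hS, ← cj_normalizer]
    exact cj_mono g hN
  refine ⟨?_, ?_, Cfsg.Agent.Lib.H25.LieCrit.isSimple_of_gen_conj S S₀ g hS hne hsc hgen⟩
  · -- automorphism group
    apply le_antisymm
    · unfold FusionSystem.autGroup
      rw [Subgroup.closure_le]
      rintro α ⟨-, -, x, hx⟩
      have hx' : ∀ y : ↥(S : Subgroup G), ((α y : ↥(S : Subgroup G)) : G) = x * (y : G) * x⁻¹ :=
        fun y => hx y
      have hxN : x ∈ Subgroup.normalizer ((S : Subgroup G) : Set G) := by
        rw [Subgroup.mem_normalizer_iff]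
        intro h
        constructor
        · intro hh
          rw [← hx' ⟨h, hh⟩]
          exact (α ⟨h, hh⟩).2
        · intro hh
          obtain ⟨y, hy⟩ := α.surjective ⟨x * h * x⁻¹, hh⟩
          have h1 := hx' y
          rw [hy] at h1
          have h2 : h = (y : G) := by
            have h3 : x * h * x⁻¹ = x * (y : G) * x⁻¹ := h1
            exact mul_left_cancel (mul_right_cancel h3)
          rw [h2]
          exact y.2
      have hxS : x ∈ (S : Subgroup G) := hNS hxN
      show α ∈ (MulAut.conj : ↥(S : Subgroup G) →* MulAut ↥(S : Subgroup G)).range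
      refine ⟨⟨x, hxS⟩, ?_⟩
      ext y
      rw [hx' y]
      rfl
    · rintro α ⟨s, rfl⟩
      unfold FusionSystem.autGroup
      apply Subgroup.subset_closure
      refine ⟨le_refl _, fun y => ?_, (s : G), fun y => rfl⟩
      exact (MulAut.conj s y).2
  · -- strongly closed subgroups
    intro T hT0
    have hT : Cfsg.IsStronglyClosed T (S : Subgroup G) :=
      Cfsg.Agent.Lib.H25.SimpleCrit.isStronglyClosed_of_stronglyClosed hT0
    rw [hS] at hT ⊢
    have hT' : Cfsg.IsStronglyClosed (cj g⁻¹ T) S₀ := by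
      refine ⟨?_, ?_⟩
      · have := cj_mono g⁻¹ hT.1
        rwa [cj_inv_cj] at this
      · intro x hx k hk
        rw [mem_cj, inv_inv] at hx ⊢
        have h1 := hT.2 _ hx (g * k * g⁻¹)
        have e : g * k * g⁻¹ * (g * x * g⁻¹) * (g * k * g⁻¹)⁻¹ = g * (k * x * k⁻¹) * g⁻¹ := by
          group
        rw [e] at h1
        exact h1 (conj_mem_cj hk)
    rcases hsc _ hT' with h | h
    · left
      have := congrArg (cj g) h
      rw [cj_cj_inv] at this
      rw [this]
      exact Subgroup.map_bot _
    · right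
      have := congrArg (cj g) h
      rwa [cj_cj_inv] at this

end Cfsg.Agent.Lib.H13.O7
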