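import Mathlib
import Cfsg.Agent.Lib.H5.Ord.GenTests3
import Cfsg.Agent.Lib.H5.Ord.SylPrime
import Cfsg.Agent.Lib.H5.SubgroupCard
import Cfsg.Agent.Lib.H5.ConjCount
import Cfsg.Agent.S0111

set_option autoImplicit false

/-! # No simple group of order 4200 (helper20, piece of S0983; paper route of helper26, shortened)

`n_7 = 50`, `|N(P)| = 84`, `|C(P)|` even.  An involution `y ∈ C(P)` fixes exactly `22` cosets of `N(P)`
(`≡ 1 mod 7`, `≡ 50 mod 4`), so `|C(y)| * |y^G ∩ N(P)| = 22 * 84`, `|C(y)|` divides `gcd(4200, 1848) = 168`.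
If `8 ∣ |C(y)|` then `|C(y)| ∈ {56, 168}`, Sylow's theorem in `C(y)` gives `P ⊴ C(y)`, `C(y) ≤ N(P)` of order `84`:
impossible.  So `8 ∤ |C(y)|`; a Sylow `2`-subgroup `S ∋ y` is nonabelian of order `8`, has a cyclic subgroup
`Q` of order `4` whose involution `w` is central in `S`, and Thompson's transfer lemma makes `y` conjugate to `w`:
`8 ∣ |C(w)| = |C(y)|`. -/

namespace Cfsg.Agent.Lib.H20.O983

open Subgroup MulAction Cfsg.Agent.Lib.H5 Cfsg.Agent.Lib.H5.SylPrime Cfsg.Agent.Lib.H5.GenTests

universe u

variable {G : Type u} [Group G] [Finite G]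

/-- Conjugate elements have centralizers of the same order. -/
theorem card_centralizer_conj (y g : G) :
    Nat.card (centralizer ({g * y * g⁻¹} : Set G)) = Nat.card (centralizer ({y} : Set G)) := by
  have h1 := card_conj_mul_card_centralizer y
  have h2 := card_conj_mul_card_centralizer (g * y * g⁻¹)
  have hc : IsConj y (g * y * g⁻¹) := isConj_iff.mpr ⟨g, rfl⟩
  have e : {a : G // IsConj (g * y * g⁻¹) a} ≃ {a : G // IsConj y a} :=
    Equiv.subtypeEquivRight (fun a => ⟨fun h => hc.trans h, fun h => hc.symm.trans h⟩)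
  rw [Nat.card_congr e] at h2
  have hpos : 0 < Nat.card {a : G // IsConj y a} :=
    Nat.card_pos_iff.mpr ⟨⟨⟨y, IsConj.refl y⟩⟩, inferInstance⟩
  exact Nat.eq_of_mul_eq_mul_left hpos (h2.trans h1.symm)

/-- In a cyclic group of order `4` generated by `τ`, the only element of order `2` is `τ ^ 2`. -/
theorem eq_sq_of_mem_zpowers_of_orderOf_two {τ g : G} (hτ : orderOf τ = 4) (hg : g ∈ zpowers τ)
    (hg2 : orderOf g = 2) : g = τ ^ 2 := by
  have hτ0 : 0 < orderOf τ := by rw [hτ]; norm_num
  rw [← mem_powers_iff_mem_zpowers, Submonoid.mem_powers_iff] at hg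
  obtain ⟨n, rfl⟩ := hg
  rw [← pow_mod_orderOf, hτ] at hg2 ⊢
  have hlt : n % 4 < 4 := Nat.mod_lt _ (by norm_num)
  have h4 : τ ^ 4 = 1 := by rw [← hτ]; exact pow_orderOf_eq_one τ
  interval_cases h : n % 4
  · rw [pow_zero, orderOf_one] at hg2; omega
  · rw [pow_one, hτ] at hg2; omega
  · rfl
  · exfalso
    have h3 : orderOf (τ ^ 3) = 4 := by
      rw [orderOf_pow' τ (by norm_num : (3 : ℕ) ≠ 0), hτ]; norm_num
    rw [h3] at hg2; omega

theorem not_simple_4200 {G : Type*} [Group G] [Finite G] [IsSimpleGroup G] : Nat.card G ≠ 4200 := by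
  intro hn
  have hnc : ¬ IsMulCommutative G :=
    not_isMulCommutative_of_card_not_prime (by rw [hn]; norm_num)
  haveI : Fact (Nat.Prime 7) := ⟨by norm_num⟩
  haveI : Fact (Nat.Prime 2) := ⟨by norm_num⟩
  let P : Sylow 7 G := default
  obtain ⟨h1, h2, h3, h4, h5, h6, h7, h8, hP, hNd, hNtop, hPC, hcr, hfp⟩ :=
    prime_data_explicit hnc hn (p := 7) (m := 600) (by norm_num) (by norm_num) (by norm_num) P
  set N := normalizer ((P : Subgroup G) : Set G) with hNdef
  set C := centralizer ((P : Subgroup G) : Set G) with hCdef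
  set r := C.relIndex N with hr
  set c₀ := Nat.card C with hc₀
  have hd : Nat.card (Sylow 7 G) = 8 ∨ Nat.card (Sylow 7 G) = 15 ∨ Nat.card (Sylow 7 G) = 50 ∨
      Nat.card (Sylow 7 G) = 120 := by
    have hmem : Nat.card (Sylow 7 G) ∈ (Nat.divisors 600).filter (fun d => d % 7 = 1) := by
      rw [Finset.mem_filter, Nat.mem_divisors]
      exact ⟨⟨h1, by norm_num⟩, h2⟩
    have hfil : (Nat.divisors 600).filter (fun d => d % 7 = 1) = {1, 8, 15, 50, 120} := by decide
    rw [hfil] at hmem
    simp only [Finset.mem_insert, Finset.mem_singleton] at hmem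
    rcases hmem with h | h | h | h | h
    · exact absurd h h3
    · exact Or.inl h
    · exact Or.inr (Or.inl h)
    · exact Or.inr (Or.inr (Or.inl h))
    · exact Or.inr (Or.inr (Or.inr h))
  have hr6 : r ≤ 6 := Nat.le_of_dvd (by norm_num) h5
  have hd50 : Nat.card (Sylow 7 G) = 50 := by
    rcases hd with hd | hd | hd | hd
    · exfalso
      rw [hd] at h4
      revert h4
      decide
    · exfalso
      rw [hd] at h7 hfp
      have h2c : 2 ∣ c₀ := by
        interval_cases r <;> omega
      obtain ⟨f, hf1, hf2, hf3, hf4⟩ := hfp 2 (by norm_num) h2c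
      have := hf4 rfl
      omega
    · exact hd
    · exfalso
      rw [hd] at h7
      interval_cases r <;> omega
  rw [hd50] at h7 hNd hfp
  have hNcard : Nat.card N = 84 := by omega
  have h2c : 2 ∣ c₀ := by
    interval_cases r <;> omega
  have hCN : C ≤ N := centralizer_le_normalizer _
  -- an involution in C(P)
  obtain ⟨y0, hy0⟩ := exists_prime_orderOf_dvd_card' (G := C) 2 h2c
  set y : G := (y0 : G) with hy
  have hyo : orderOf y = 2 := by rw [hy, Subgroup.orderOf_coe]; exact hy0
  have hyC : y ∈ C := y0.2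
  have hyN : y ∈ N := hCN hyC
  -- it fixes exactly 22 cosets of N
  have hidx : N.index = 50 := by rw [hNdef, index_normalizer_eq_card_sylow P, hd50]
  have hf22 : Nat.card (fixedBy (G ⧸ N) y) = 22 := by
    have e1 := card_fixedBy_modEq_one 7 P hP hyC
    have e2 := four_dvd_index_sub_card_fixedBy (by rw [hn]; norm_num) N hyo
    have e3 := card_fixedBy_le_index N y
    have e4 : Nat.card (fixedBy (G ⧸ N) y) ≠ N.index := by
      intro h
      have := eq_one_of_card_fixedBy_eq N hNtop h
      rw [this, orderOf_one] at hyo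
      omega
    rw [hidx] at e2 e3 e4
    have e1' : Nat.card (fixedBy (G ⧸ N) y) % 7 = 1 := e1
    omega
  -- |C(y)| * k = 22 * 84
  set H := centralizer ({y} : Set G) with hHdef
  have hmul := card_fixedBy_mul_card N hyN
  rw [hf22, hNcard] at hmul
  set h := Nat.card H with hh
  have hhG : h ∣ 4200 := by rw [← hn]; exact Subgroup.card_subgroup_dvd_card H
  have hh1848 : h ∣ 1848 := ⟨_, hmul⟩
  have hh168 : h ∣ 168 := by
    have := Nat.dvd_gcd hhG hh1848
    norm_num at this
    exact this
  -- P ≤ C(y)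
  have hPH : (P : Subgroup G) ≤ H := by
    intro x hx
    rw [hHdef, Subgroup.mem_centralizer_iff]
    intro z hz
    rw [Set.mem_singleton_iff] at hz
    subst hz
    rw [hCdef, Subgroup.mem_centralizer_iff] at hyC
    exact (hyC x hx).symm
  have hyH : y ∈ H := by
    rw [hHdef, Subgroup.mem_centralizer_iff]
    intro z hz
    rw [Set.mem_singleton_iff] at hz
    subst hz
    rfl
  have h7h : 7 ∣ h := by
    have := Subgroup.card_dvd_of_le hPH
    rwa [hP] at this
  -- 8 ∤ |C(y)|
  have h8 : ¬ 8 ∣ h := by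
    intro h8
    -- Sylow's theorem in H
    let P' : Sylow 7 H := P.subtype hPH
    have hP'c : Nat.card (P' : Subgroup H) = 7 := by
      have : ((P' : Subgroup H) : Set H) = (((P : Subgroup G).subgroupOf H : Subgroup H) : Set H) := rfl
      have h' : (P' : Subgroup H) = (P : Subgroup G).subgroupOf H := SetLike.coe_injective this
      rw [h']
      exact (Nat.card_congr (Subgroup.subgroupOfEquivOfLe hPH).toEquiv).trans hP
    set NH := normalizer ((P' : Subgroup H) : Set H) with hNH
    have hn1 := card_sylow_modEq_one 7 H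
    have hn2 : Nat.card (Sylow 7 H) = NH.index := Sylow.card_eq_index_normalizer P'
    have hn3 : Nat.card NH * NH.index = h := NH.card_mul_index
    -- 14 ∣ |N_H(P)|
    have h7N : 7 ∣ Nat.card NH := by
      have := Subgroup.card_dvd_of_le (le_normalizer : (P' : Subgroup H) ≤ NH)
      rwa [hP'c] at this
    have h2N : 2 ∣ Nat.card NH := by
      have hy'N : (⟨y, hyH⟩ : H) ∈ NH := by
        rw [hNH, Subgroup.mem_normalizer_iff]
        intro g
        have hcomm : (⟨y, hyH⟩ : H) * g * (⟨y, hyH⟩ : H)⁻¹ = g := by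
          apply Subtype.ext
          have hg : (g : G) ∈ centralizer ({y} : Set G) := g.2
          have := (Subgroup.mem_centralizer_iff.mp hg) y (Set.mem_singleton y)
          show y * (g : G) * y⁻¹ = (g : G)
          rw [this, mul_inv_cancel_right]
        rw [hcomm]
      have ho : orderOf (⟨⟨y, hyH⟩, hy'N⟩ : NH) = 2 := by
        rw [← hyo]
        have := Subgroup.orderOf_mk (⟨y, hyH⟩ : H) hy'N
        rw [this]
        exact Subgroup.orderOf_mk y hyH
      rw [← ho]
      exact orderOf_dvd_natCard _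
    have h14 : 14 ∣ Nat.card NH := by omega
    have h56 : h = 56 ∨ h = 168 := by
      have hmem : h ∈ (Nat.divisors 168).filter (fun d => d % 8 = 0 ∧ d % 7 = 0) := by
        rw [Finset.mem_filter, Nat.mem_divisors]
        exact ⟨⟨hh168, by norm_num⟩, by omega, by omega⟩
      have hfil : (Nat.divisors 168).filter (fun d => d % 8 = 0 ∧ d % 7 = 0) = {56, 168} := by decide
      rw [hfil] at hmem
      simpa using hmem
    have key : ∀ n a h : ℕ, n % 7 = 1 → 14 * a * n = h → (h = 56 ∨ h = 168) → n = 1 := by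
      intro n a h hn ha hh
      rcases hh with rfl | rfl
      · have h4 : a * n = 4 := by
          have : 14 * (a * n) = 14 * 4 := by rw [← mul_assoc]; omega
          exact Nat.eq_of_mul_eq_mul_left (by norm_num) this
        have hle : n ≤ 4 := Nat.le_of_dvd (by norm_num) ⟨a, by rw [mul_comm]; exact h4.symm⟩
        interval_cases n <;> omega
      · have h12 : a * n = 12 := by
          have : 14 * (a * n) = 14 * 12 := by rw [← mul_assoc]; omega
          exact Nat.eq_of_mul_eq_mul_left (by norm_num) this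
        have hle : n ≤ 12 := Nat.le_of_dvd (by norm_num) ⟨a, by rw [mul_comm]; exact h12.symm⟩
        interval_cases n <;> omega
    have hidx1 : NH.index = 1 := by
      obtain ⟨a, ha⟩ := h14
      rw [← hn2]
      rw [← hn2, ha] at hn3
      exact key _ a h hn1 hn3 h56
    -- so H ≤ N
    have hNHtop : NH = ⊤ := Subgroup.index_eq_one.mp hidx1
    have hHN : H ≤ N := by
      intro g hg
      have hgN : (⟨g, hg⟩ : H) ∈ NH := by rw [hNHtop]; exact Subgroup.mem_top _
      rw [hNH, Subgroup.mem_normalizer_iff] at hgN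
      rw [hNdef, Subgroup.mem_normalizer_iff]
      intro x
      constructor
      · intro hx
        have hxH : x ∈ H := hPH hx
        have := (hgN ⟨x, hxH⟩).mp hx
        exact this
      · intro hx
        have hxH : g * x * g⁻¹ ∈ H := hPH hx
        have hxH' : x ∈ H := by
          have := H.mul_mem (H.mul_mem (H.inv_mem hg) hxH) hg
          simpa [mul_assoc] using this
        have := (hgN ⟨x, hxH'⟩).mpr hx
        exact this
    have h84 : h ∣ 84 := by
      have := Subgroup.card_dvd_of_le hHN
      rwa [hNcard] at this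
    rcases h56 with h' | h' <;> rw [h'] at h84 <;> omega
  -- a Sylow 2-subgroup containing y
  have hG8 : Nat.card G = 2 ^ 3 * 525 := by rw [hn]; norm_num
  have hyp : IsPGroup 2 (zpowers y) := by
    apply IsPGroup.of_card (n := 1)
    rw [Nat.card_zpowers, hyo, pow_one]
  obtain ⟨S, hyS'⟩ := hyp.exists_le_sylow
  have hyS : y ∈ (S : Subgroup G) := hyS' (mem_zpowers y)
  have hSc : Nat.card (S : Subgroup G) = 8 :=
    (sylow_card_and_index S (k := 3) (m := 525) hG8 (by norm_num)).1
  -- an element of S with 8 ∣ |C| is not conjugate to y; central elements of S have 8 ∣ |C|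
  have hcen8 : ∀ w : G, (∀ s ∈ (S : Subgroup G), s * w = w * s) → 8 ∣ Nat.card (centralizer ({w} : Set G)) := by
    intro w hw
    have hle : (S : Subgroup G) ≤ centralizer ({w} : Set G) := by
      intro s hs
      rw [Subgroup.mem_centralizer_iff]
      intro z hz
      rw [Set.mem_singleton_iff] at hz
      subst hz
      exact (hw s hs).symm
    have := Subgroup.card_dvd_of_le hle
    rwa [hSc] at this
  -- S is not abelian
  have hnab : ∃ a ∈ (S : Subgroup G), ∃ b ∈ (S : Subgroup G), a * b ≠ b * a := by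
    by_contra hcon
    push Not at hcon
    exact h8 (hcen8 y (fun s hs => hcon s hs y hyS))
  -- an element of order 4 in S
  obtain ⟨τ, hτS, hτ4⟩ : ∃ τ ∈ (S : Subgroup G), orderOf τ = 4 := by
    have hord : ∀ s ∈ (S : Subgroup G), orderOf s ∣ 8 := by
      intro s hs
      have := orderOf_dvd_natCard (⟨s, hs⟩ : (S : Subgroup G))
      rwa [hSc, Subgroup.orderOf_mk] at this
    by_contra hcon
    push Not at hcon
    -- every element of S has order 1 or 2
    have hsq : ∀ s ∈ (S : Subgroup G), s * s = 1 := by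
      intro s hs
      have h1 := hord s hs
      have h2 := hcon s hs
      have hmem : orderOf s ∈ Nat.divisors 8 := Nat.mem_divisors.mpr ⟨h1, by norm_num⟩
      have hdiv : Nat.divisors 8 = {1, 2, 4, 8} := by decide
      rw [hdiv] at hmem
      simp only [Finset.mem_insert, Finset.mem_singleton] at hmem
      rcases hmem with h | h | h | h
      · rw [orderOf_eq_one_iff] at h; rw [h, one_mul]
      · rw [← pow_two, ← h]; exact pow_orderOf_eq_one s
      · exact absurd h h2
      · exfalso
        have h4 : orderOf (s ^ 2) = 4 := by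
          rw [orderOf_pow' s (by norm_num : (2 : ℕ) ≠ 0), h]; norm_num
        exact hcon (s ^ 2) ((S : Subgroup G).pow_mem hs 2) h4
    obtain ⟨a, ha, b, hb, hab⟩ := hnab
    apply hab
    have h1 := hsq a ha
    have h2 := hsq b hb
    have h3 := hsq (a * b) ((S : Subgroup G).mul_mem ha hb)
    -- ab = (ab)⁻¹ = b⁻¹ a⁻¹ = b a
    have ha' : a⁻¹ = a := inv_eq_of_mul_eq_one_left h1
    have hb' : b⁻¹ = b := inv_eq_of_mul_eq_one_left h2
    have hab' : (a * b)⁻¹ = a * b := inv_eq_of_mul_eq_one_left h3
    rw [← hab', mul_inv_rev, ha', hb']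
  -- Q = ⟨τ⟩ of index 2 in S, normalized by S
  set Q : Subgroup G := zpowers τ with hQ
  have hQS : Q ≤ (S : Subgroup G) := by
    rw [hQ, zpowers_le]; exact hτS
  have hQc : Nat.card Q = 4 := by rw [hQ, Nat.card_zpowers, hτ4]
  have hQrel : Q.relIndex (S : Subgroup G) = 2 := by
    have := Cfsg.Agent.Lib.H5.card_mul_relIndex_of_le hQS
    rw [hQc, hSc] at this
    omega
  have hSNQ : (S : Subgroup G) ≤ normalizer (Q : Set G) :=
    le_normalizer_of_card_eq_two_mul hQS (by rw [hQc, hSc])
  -- w = τ² is central in S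
  set w : G := τ ^ 2 with hw
  have hwQ : w ∈ Q := by rw [hQ, hw]; exact Subgroup.pow_mem _ (mem_zpowers τ) 2
  have hwo : orderOf w = 2 := by
    rw [hw, orderOf_pow' τ (by norm_num : (2 : ℕ) ≠ 0), hτ4]; norm_num
  have hwcen : ∀ s ∈ (S : Subgroup G), s * w = w * s := by
    intro s hs
    have hsN := hSNQ hs
    rw [Subgroup.mem_normalizer_iff] at hsN
    have h1 : s * w * s⁻¹ ∈ Q := (hsN w).mp hwQ
    have h2 : orderOf (s * w * s⁻¹) = 2 := by
      rw [← hwo]
      have := (MulAut.conj s).orderOf_eq w
      simpa [MulAut.conj_apply] using this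
    have h3 := eq_sq_of_mem_zpowers_of_orderOf_two hτ4 h1 h2
    have : s * w * s⁻¹ = w := h3
    calc s * w = (s * w * s⁻¹) * s := by group
      _ = w * s := by rw [this]
  have hw8 : 8 ∣ Nat.card (centralizer ({w} : Set G)) := hcen8 w hwcen
  -- y ∉ Q
  have hyQ : y ∉ Q := by
    intro hy'
    have := eq_sq_of_mem_zpowers_of_orderOf_two hτ4 hy' hyo
    rw [← hw] at this
    apply h8
    rw [hh, hHdef, this]
    exact hw8
  -- Thompson transfer
  rcases Cfsg.Agent.S0111.result S Q hQS hQrel y hyo hyS hyQ with ⟨M, hMn, hMi, -⟩ | ⟨g, hg⟩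
  · rcases hMn.eq_bot_or_eq_top with hb | ht
    · rw [hb, Subgroup.index_bot, hn] at hMi
      omega
    · rw [ht, Subgroup.index_top] at hMi
      omega
  · have h2 : orderOf (g * y * g⁻¹) = 2 := by
      rw [← hyo]
      have := (MulAut.conj g).orderOf_eq y
      simpa [MulAut.conj_apply] using this
    have h3 := eq_sq_of_mem_zpowers_of_orderOf_two hτ4 hg h2
    have h4 := card_centralizer_conj y g
    rw [h3, ← hw] at h4
    apply h8
    rw [hh, hHdef, ← h4]
    exact hw8

end Cfsg.Agent.Lib.H20.O983
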