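import Mathlib
import Cfsg.Agent.Lib.H15.OmegaOdd
import Cfsg.Agent.Lib.H16.ClassTwo

/-!
# Coprime automorphisms of `2`-groups trivial on elements of order dividing `4` (helper20)

`commute_of_commute_omega_two`: an element `g` of odd order normalizing the `2`-subgroup `Q` and
commuting with every `x ∈ Q` with `x ^ 4 = 1` centralizes `Q`.  (The odd-`p` analogue is
`Cfsg.Agent.Lib.H15.commute_of_commute_omega`; the proof here follows the same pattern.)

`commute_of_commute_small`: the uniform statement for every prime `p`, in terms of elements of order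
`p` (and of order `4` when `p = 2`).
-/

set_option autoImplicit false

namespace Cfsg.Agent.Lib.H20

open scoped commutatorElement

/-- In a group where all commutators and all squares are central, the fourth power map is
multiplicative. -/
theorem mul_pow_four_of_central {Q : Type*} [Group Q]
    (hcomm : ∀ u v g : Q, g * (v * u * v⁻¹ * u⁻¹) = (v * u * v⁻¹ * u⁻¹) * g)
    (hpow : ∀ v g : Q, g * v ^ 2 = v ^ 2 * g) (u v : Q) : (u * v) ^ 4 = u ^ 4 * v ^ 4 := by
  obtain ⟨c, hc⟩ : ∃ c : Q, c = v⁻¹ * u⁻¹ * (v⁻¹)⁻¹ * (u⁻¹)⁻¹ := ⟨_, rfl⟩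
  have h : v * u = u * v * c := by rw [hc]; group
  have hcx : Commute c u := by
    rw [hc]; exact (hcomm u⁻¹ v⁻¹ u).symm
  have hcy : Commute c v := by
    rw [hc]; exact (hcomm u⁻¹ v⁻¹ v).symm
  have h4 := Cfsg.Agent.Lib.H16.mul_pow_of_central h hcx hcy 4
  have hc2 : c ^ 2 = 1 :=
    Cfsg.Agent.Lib.H16.pow_eq_one_of_pow_commute h hcy (n := 2) (hpow v u).symm
  rw [h4]
  have : 4 * (4 - 1) / 2 = 2 * 3 := by norm_num
  rw [this, pow_mul, hc2, one_pow, mul_one]

variable {G : Type*} [Group G] [Finite G]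

open Cfsg.Agent.Lib.H15 in
/-- **`p = 2`**: an element `g` of odd order normalizing the `2`-group `Q` and commuting with every
`x ∈ Q` with `x ^ 4 = 1` centralizes `Q`. -/
theorem commute_of_commute_omega_two_aux {g : G} (hg : (orderOf g).Coprime 2) :
    ∀ (n : ℕ) (Q : Subgroup G), Nat.card Q = n → IsPGroup 2 ↥Q →
      g ∈ Subgroup.normalizer (Q : Set G) → (∀ x ∈ Q, x ^ 4 = 1 → g * x = x * g) →
      ∀ x ∈ Q, g * x = x * g := by
  haveI : Fact (Nat.Prime 2) := ⟨Nat.prime_two⟩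
  intro n
  induction n using Nat.strong_induction_on with
  | _ n ih =>
  intro Q hn hQ hgN hΩ
  obtain ⟨Z, hZdef⟩ : ∃ Z : Subgroup G, Z = Subgroup.zpowers g := ⟨_, rfl⟩
  have hZN : Z ≤ Subgroup.normalizer (Q : Set G) := by rw [hZdef, Subgroup.zpowers_le]; exact hgN
  have hcopQ : ∀ R : Subgroup G, R ≤ Q → (orderOf g).Coprime (Nat.card R) := by
    intro R hR
    obtain ⟨k, hk⟩ := IsPGroup.iff_card.mp (hQ.to_le hR)
    rw [hk]; exact Nat.Coprime.pow_right k hg
  have hA : Cfsg.Agent.Lib.H1.CoprimeAction Z Q := by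
    refine ⟨hZN, ?_, Or.inr ?_⟩
    · rw [hZdef, Nat.card_zpowers]; exact hcopQ Q le_rfl
    · haveI : Group.IsNilpotent ↥Q := hQ.isNilpotent
      infer_instance
  by_cases hQbot : Q = ⊥
  · intro x hx
    rw [hQbot, Subgroup.mem_bot] at hx
    rw [hx, mul_one, one_mul]
  -- the Frattini subgroup
  obtain ⟨Φ, hΦdef⟩ : ∃ Φ : Subgroup G, Φ = (frattini ↥Q).map Q.subtype := ⟨_, rfl⟩
  have hΦQ : Φ ≤ Q := by rw [hΦdef]; exact Subgroup.map_subtype_le _
  have hΦne : Φ ≠ Q := by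
    intro h
    have h1 : frattini ↥Q = ⊤ := by
      rw [eq_top_iff]
      intro x _
      have hx : (x : G) ∈ Φ := by rw [h]; exact x.2
      rw [hΦdef] at hx
      obtain ⟨y, hy, hyx⟩ := hx
      have : y = x := Subtype.ext hyx
      rw [← this]; exact hy
    have h2 : (⊥ : Subgroup ↥Q) ⊔ frattini ↥Q = ⊤ := by rw [h1, bot_sup_eq]
    have h3 := frattini_nongenerating h2
    apply hQbot
    rw [eq_bot_iff]
    intro x hx
    have : (⟨x, hx⟩ : ↥Q) ∈ (⊥ : Subgroup ↥Q) := by rw [h3]; exact Subgroup.mem_top _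
    rw [Subgroup.mem_bot] at this
    rw [Subgroup.mem_bot]
    exact congrArg Subtype.val this
  have hcard_lt : ∀ R : Subgroup G, R ≤ Q → R ≠ Q → Nat.card R < n := by
    intro R hR hne
    rw [← hn]
    by_contra hlt
    push_neg at hlt
    exact hne (Subgroup.eq_of_le_of_card_ge hR hlt)
  have hΦN : Subgroup.normalizer (Q : Set G) ≤ Subgroup.normalizer (Φ : Set G) := by
    rw [hΦdef]
    exact Cfsg.Agent.Lib.H1.normalizer_le_normalizer_map_of_characteristic (frattini ↥Q)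
  have hgΦ : ∀ x ∈ Φ, g * x = x * g :=
    ih _ (hcard_lt Φ hΦQ hΦne) Φ rfl (hQ.to_le hΦQ) (hΦN hgN) (fun x hx hxp => hΩ x (hΦQ hx) hxp)
  obtain ⟨Q₁, hQ₁def⟩ : ∃ Q₁ : Subgroup G, Q₁ = ⁅Q, Z⁆ := ⟨_, rfl⟩
  have hQ₁Q : Q₁ ≤ Q := by rw [hQ₁def]; exact hA.commutator_le
  have hZQ₁ : Z ≤ Subgroup.normalizer (Q₁ : Set G) := by
    rw [hQ₁def]; exact Subgroup.normalizer_commutator_ge_right Q Z
  by_cases hQ₁ : Q₁ = Q
  · -- `Φ` is central in `Q`
    have h1 : ⁅Φ, Z⁆ = ⊥ := by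
      rw [Subgroup.commutator_eq_bot_iff_le_centralizer, hZdef, le_centralizer_zpowers_iff]
      exact hgΦ
    have hQΦ : Q ≤ Subgroup.normalizer (Φ : Set G) := Subgroup.le_normalizer.trans hΦN
    have h2 : ⁅⁅Q, Φ⁆, Z⁆ = ⊥ := by
      have : ⁅Q, Φ⁆ ≤ Φ := by
        rw [Subgroup.commutator_comm]
        exact Subgroup.le_normalizer_iff_commutator_le_left.mp hQΦ
      rw [eq_bot_iff, ← h1]
      exact Subgroup.commutator_mono this le_rfl
    have h3 : ⁅⁅Φ, Z⁆, Q⁆ = ⊥ := by rw [h1, Subgroup.commutator_bot_left]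
    have h4 : ⁅⁅Z, Q⁆, Φ⁆ = ⊥ := Subgroup.commutator_commutator_eq_bot_of_rotate h2 h3
    rw [Subgroup.commutator_comm Z Q, ← hQ₁def, hQ₁] at h4
    have hΦc : ∀ f ∈ Φ, ∀ q ∈ Q, q * f = f * q := by
      intro f hf q hq
      have := Subgroup.commutator_eq_bot_iff_le_centralizer.mp h4 hq
      exact ((Subgroup.mem_centralizer_iff.mp this) f hf).symm
    -- commutators and squares of `Q` lie in `Φ`
    have hcommΦ : ∀ u v : ↥Q, ((v * u * v⁻¹ * u⁻¹ : ↥Q) : G) ∈ Φ := by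
      intro u v
      rw [hΦdef]
      refine ⟨v * u * v⁻¹ * u⁻¹, ?_, rfl⟩
      apply Cfsg.Agent.Lib.H1.isPGroup_commutator_le_frattini hQ
      rw [commutator_def]
      exact Subgroup.commutator_mem_commutator (Subgroup.mem_top v) (Subgroup.mem_top u)
    have hpowΦ : ∀ v : ↥Q, ((v ^ 2 : ↥Q) : G) ∈ Φ := by
      intro v
      rw [hΦdef]
      exact ⟨v ^ 2, Cfsg.Agent.Lib.H1.isPGroup_pow_mem_frattini hQ v, rfl⟩
    have hmulpow : ∀ u v : ↥Q, (u * v) ^ 4 = u ^ 4 * v ^ 4 := by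
      apply mul_pow_four_of_central
      · intro u v w
        apply Subtype.ext
        exact hΦc _ (hcommΦ u v) w w.2
      · intro v w
        apply Subtype.ext
        exact hΦc _ (hpowΦ v) w w.2
    have hconj : ∀ x ∈ Q, g * x * g⁻¹ ∈ Q :=
      fun x hx => (Subgroup.mem_normalizer_iff.mp hgN x).mp hx
    have hstep : ∀ q ∈ Q, g * q * g⁻¹ * q⁻¹ ∈ Q ⊓ Subgroup.centralizer ({g} : Set G) := by
      intro q hq
      have hcQ : g * q * g⁻¹ * q⁻¹ ∈ Q := Q.mul_mem (hconj q hq) (Q.inv_mem hq)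
      refine Subgroup.mem_inf.mpr ⟨hcQ, ?_⟩
      have hp1 : (g * q * g⁻¹ * q⁻¹) ^ 4 = 1 := by
        have h5 := hmulpow ⟨g * q * g⁻¹, hconj q hq⟩ ⟨q, hq⟩⁻¹
        have h6 := congrArg (Subtype.val) h5
        simp only [Subgroup.coe_pow, Subgroup.coe_mul, Subgroup.coe_inv] at h6
        rw [h6, conj_pow]
        have h7 : g * q ^ 4 = q ^ 4 * g := by
          have h8 : q ^ 4 ∈ Φ := by
            have h9 := hpowΦ ⟨q, hq⟩
            have h10 : q ^ 4 = (q ^ 2) ^ 2 := by rw [← pow_mul]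
            rw [h10]
            exact Φ.pow_mem (by simpa using h9) 2
          exact hgΦ _ h8
        rw [h7, mul_inv_cancel_right, inv_pow, mul_inv_cancel]
      have := hΩ _ hcQ hp1
      rw [Subgroup.mem_centralizer_iff]
      intro y hy
      rw [Set.mem_singleton_iff] at hy
      rw [hy]; exact this
    exact Cfsg.Agent.Lib.H7.commute_of_stable_step (hcopQ _ inf_le_left) hstep
      (fun r hr => ((Subgroup.mem_centralizer_iff.mp hr.2) g rfl))
  · -- `[Q, g] < Q`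
    have hgQ₁ : ∀ x ∈ Q₁, g * x = x * g :=
      ih _ (hcard_lt Q₁ hQ₁Q hQ₁) Q₁ rfl (hQ.to_le hQ₁Q)
        (hZQ₁ (by rw [hZdef]; exact Subgroup.mem_zpowers g))
        (fun x hx hxp => hΩ x (hQ₁Q hx) hxp)
    have h1 : ⁅Q₁, Z⁆ = ⊥ := by
      rw [Subgroup.commutator_eq_bot_iff_le_centralizer, hZdef, le_centralizer_zpowers_iff]
      exact hgQ₁
    have h2 : ⁅⁅Q, Z⁆, Z⁆ = ⁅Q, Z⁆ := Cfsg.Agent.Lib.H1.coprime_commutator_commutator hA
    rw [← hQ₁def, h1] at h2
    have h3 : Q ≤ Subgroup.centralizer ((Z : Subgroup G) : Set G) :=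
      Subgroup.commutator_eq_bot_iff_le_centralizer.mp (hQ₁def ▸ h2.symm)
    rw [hZdef] at h3
    exact le_centralizer_zpowers_iff.mp h3

theorem commute_of_commute_omega_two {g : G} (hg : (orderOf g).Coprime 2) {Q : Subgroup G}
    (hQ : IsPGroup 2 ↥Q) (hgN : g ∈ Subgroup.normalizer (Q : Set G))
    (hΩ : ∀ x ∈ Q, x ^ 4 = 1 → g * x = x * g) : ∀ x ∈ Q, g * x = x * g :=
  commute_of_commute_omega_two_aux hg (Nat.card Q) Q rfl hQ hgN hΩ

/-- Uniform version: a `p'`-element `g` normalizing the `p`-subgroup `Q` and commuting with every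
element of `Q` of order `p` (and of order `4` when `p = 2`) centralizes `Q`. -/
theorem commute_of_commute_small {p : ℕ} [hp : Fact p.Prime] {g : G} (hg : (orderOf g).Coprime p)
    {Q : Subgroup G} (hQ : IsPGroup p ↥Q) (hgN : g ∈ Subgroup.normalizer (Q : Set G))
    (hΩ : ∀ x ∈ Q, (orderOf x = p ∨ (p = 2 ∧ orderOf x = 4)) → g * x = x * g) :
    ∀ x ∈ Q, g * x = x * g := by
  by_cases hp2 : p = 2
  · subst hp2
    apply commute_of_commute_omega_two hg hQ hgN
    intro x hx hx4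
    have hdvd : orderOf x ∣ 2 ^ 2 := by
      have := orderOf_dvd_of_pow_eq_one hx4
      norm_num
      exact this
    obtain ⟨k, hk, hkx⟩ := (Nat.dvd_prime_pow Nat.prime_two).mp hdvd
    interval_cases k
    · rw [pow_zero, orderOf_eq_one_iff] at hkx
      rw [hkx, mul_one, one_mul]
    · exact hΩ x hx (Or.inl (by simpa using hkx))
    · exact hΩ x hx (Or.inr ⟨rfl, by simpa using hkx⟩)
  · apply Cfsg.Agent.Lib.H15.commute_of_commute_omega hp2 hg hQ hgN
    intro x hx hxp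
    have hdvd : orderOf x ∣ p := orderOf_dvd_of_pow_eq_one hxp
    rcases (Nat.dvd_prime hp.out).mp hdvd with h1 | h1
    · rw [orderOf_eq_one_iff] at h1
      rw [h1, mul_one, one_mul]
    · exact hΩ x hx (Or.inl h1)

end Cfsg.Agent.Lib.H20
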