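import Mathlib

set_option autoImplicit false

/-!
# Groups with a family of splitting automorphisms of order 3

If a group `N` has a family `S` of automorphisms `σ` with `x * σ x * σ (σ x) = 1`,
`x * σ (σ x) * σ x = 1`, closed under composition with inner automorphisms, then every
triple commutator of `N` has cube `1`.
-/

namespace Cfsg.Agent.Lib.H20.O4

open scoped commutatorElement

variable {N : Type*} [Group N]

/-- A family of splitting automorphisms of order three, closed under inner twists. -/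
structure Split3 (S : Set (MulAut N)) : Prop where
  hA : ∀ σ ∈ S, ∀ x, x * σ x * σ (σ x) = 1
  hB : ∀ σ ∈ S, ∀ x, x * σ (σ x) * σ x = 1
  hC : ∀ σ ∈ S, ∀ g, MulAut.conj g * σ ∈ S

namespace Split3

variable {S : Set (MulAut N)} (h : Split3 S) {σ : MulAut N} (hσ : σ ∈ S)
include h hσ

theorem cube (x : N) : σ (σ (σ x)) = x := by
  have h1 := h.hA σ hσ x
  have h2 := h.hA σ hσ (σ x)
  have h3 : σ x * σ (σ x) = x⁻¹ := by
    rw [mul_assoc] at h1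
    exact eq_inv_of_mul_eq_one_right h1
  rw [h3] at h2
  exact (inv_mul_eq_one.mp h2).symm

theorem comm_apply (x : N) : Commute x (σ x) := by
  have key : ∀ y : N, Commute (σ y) (σ (σ y)) := by
    intro y
    have h1 := h.hA σ hσ y
    have h2 := h.hB σ hσ y
    have h3 : σ y * σ (σ y) = y⁻¹ := by
      rw [mul_assoc] at h1
      exact eq_inv_of_mul_eq_one_right h1
    have h4 : σ (σ y) * σ y = y⁻¹ := by
      rw [mul_assoc] at h2
      exact eq_inv_of_mul_eq_one_right h2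
    exact h3.trans h4.symm
  have := key (σ (σ x))
  rwa [h.cube hσ] at this

theorem comm_conj_apply (x g : N) : Commute x (g * σ x * g⁻¹) := by
  have := h.comm_apply (h.hC σ hσ g) x
  simpa [MulAut.mul_apply, MulAut.conj_apply] using this

theorem comm_apply_conj (x g : N) : Commute (σ x) (g * x * g⁻¹) := by
  have h1 := h.comm_conj_apply hσ x g⁻¹
  have h2 := h1.map (MulAut.conj g)
  simp only [MulAut.conj_apply, inv_inv] at h2
  have h3 : g * (g⁻¹ * σ x * g) * g⁻¹ = σ x := by group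
  rw [h3] at h2
  exact h2.symm

theorem comm_conj_apply2 (x g : N) : Commute x (g * σ (σ x) * g⁻¹) := by
  have := h.comm_apply_conj hσ (σ (σ x)) g
  rwa [h.cube hσ] at this

theorem inv_eq (x : N) : x⁻¹ = σ x * σ (σ x) := by
  have h1 := h.hA σ hσ x
  rw [mul_assoc] at h1
  exact (eq_inv_of_mul_eq_one_right h1).symm

theorem engel (x g : N) : Commute x (g * x * g⁻¹) := by
  have h1 : g * x⁻¹ * g⁻¹ = (g * σ x * g⁻¹) * (g * σ (σ x) * g⁻¹) := by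
    rw [h.inv_eq hσ x]; group
  have h2 : Commute x (g * x⁻¹ * g⁻¹) := by
    rw [h1]
    exact (h.comm_conj_apply hσ x g).mul_right (h.comm_conj_apply2 hσ x g)
  have h3 : g * x * g⁻¹ = (g * x⁻¹ * g⁻¹)⁻¹ := by group
  rw [h3]
  exact h2.inv_right

theorem engel2 (x k g : N) : Commute (k * x * k⁻¹) (g * x * g⁻¹) := by
  have h1 := h.engel hσ x (k⁻¹ * g)
  have h2 := h1.map (MulAut.conj k)
  simp only [MulAut.conj_apply] at h2
  have h3 : k * (k⁻¹ * g * x * (k⁻¹ * g)⁻¹) * k⁻¹ = g * x * g⁻¹ := by group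
  rwa [h3] at h2

/-- (D) -/
theorem comm_swap (x y : N) : ⁅y, σ x⁆ = ⁅σ y, x⁆ := by
  obtain ⟨a, ha⟩ : ∃ a, a = x := ⟨_, rfl⟩
  obtain ⟨b, hb⟩ : ∃ b, b = y := ⟨_, rfl⟩
  obtain ⟨c, hc⟩ : ∃ c, c = σ x := ⟨_, rfl⟩
  obtain ⟨d, hd⟩ : ∃ d, d = σ y := ⟨_, rfl⟩
  have hac : Commute a c := by rw [ha, hc]; exact h.comm_apply hσ x
  have hbd : Commute b d := by rw [hb, hd]; exact h.comm_apply hσ y
  have habcd : Commute (a * b) (c * d) := by
    rw [ha, hb, hc, hd, ← map_mul]; exact h.comm_apply hσ (x * y)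
  have h1 : Commute a ⁅b, c⁆ := by
    rw [commutatorElement_def]
    refine Commute.mul_right ?_ hac.inv_right
    rw [ha, hb, hc]; exact h.comm_conj_apply hσ x y
  have h2 : Commute c ⁅d, a⁆ := by
    rw [commutatorElement_def]
    refine Commute.mul_right ?_ hac.symm.inv_right
    rw [ha, hc, hd]; exact h.comm_apply_conj hσ x (σ y)
  have e1 : a * b * (c * d) = ⁅b, c⁆ * (a * c * b * d) := by
    calc a * b * (c * d) = a * ⁅b, c⁆ * (c * b * d) := by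
          simp only [commutatorElement_def]; group
      _ = ⁅b, c⁆ * a * (c * b * d) := by rw [h1.eq]
      _ = _ := by group
  have e2 : c * d * (a * b) = ⁅d, a⁆ * (a * c * b * d) := by
    calc c * d * (a * b) = c * ⁅d, a⁆ * (a * d * b) := by
          simp only [commutatorElement_def]; group
      _ = ⁅d, a⁆ * c * (a * d * b) := by rw [h2.eq]
      _ = ⁅d, a⁆ * (c * a) * (d * b) := by group
      _ = ⁅d, a⁆ * (a * c) * (b * d) := by rw [hac.eq, hbd.eq]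
      _ = _ := by group
  have e3 : ⁅b, c⁆ * (a * c * b * d) = ⁅d, a⁆ * (a * c * b * d) := by
    rw [← e1, ← e2]; exact habcd.eq
  have e4 := mul_right_cancel e3
  rw [hb, hc, hd, ha] at e4
  exact e4

theorem E1 (x y : N) : σ ⁅y, x⁆ = ⁅σ (σ y), x⁆ := by
  rw [map_commutatorElement, h.comm_swap hσ x (σ y)]

theorem E2 (x y : N) : ⁅σ y, x⁆ = σ (σ ⁅y, x⁆) := by
  rw [h.E1 hσ x y, h.E1 hσ x (σ (σ y)), h.cube hσ]

theorem E2' (x y : N) : ⁅y, σ x⁆ = σ (σ ⁅y, x⁆) :=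
  (h.comm_swap hσ x y).trans (h.E2 hσ x y)

/-- (F) -/
theorem F (x y g : N) :
    ⁅g * σ y * g⁻¹, x⁆ = (g * σ g) * ⁅σ y, x⁆ * (g * σ g)⁻¹ := by
  have hτ := h.hC σ hσ g
  have h1 := h.E2 hτ x y
  simp only [MulAut.mul_apply, MulAut.conj_apply, map_mul, map_inv] at h1
  rw [h1, h.E2 hσ x y]
  group

theorem F2 (x y g : N) :
    ⁅σ y, g⁻¹ * x * g⁆ = σ g * ⁅σ y, x⁆ * (σ g)⁻¹ := by
  have h1 := h.F hσ x y g
  have h2 : ⁅g * σ y * g⁻¹, x⁆ = g * ⁅σ y, g⁻¹ * x * g⁆ * g⁻¹ := by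
    simp only [commutatorElement_def]; group
  rw [h2] at h1
  have h3 : ⁅σ y, g⁻¹ * x * g⁆ = g⁻¹ * (g * ⁅σ y, g⁻¹ * x * g⁆ * g⁻¹) * g := by group
  rw [h3, h1]; group

theorem odd_left (a b : N) : ⁅a⁻¹, b⁆ = ⁅b, a⁆ := by
  have h1 : Commute a ⁅b, a⁆ := by
    rw [commutatorElement_def]
    exact (h.engel hσ a b).mul_right (Commute.refl a).inv_right
  have h2 : ⁅a⁻¹, b⁆ = a⁻¹ * ⁅b, a⁆ * a := by
    simp only [commutatorElement_def]; group
  rw [h2, mul_assoc, ← h1.eq, inv_mul_cancel_left]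

theorem odd_right (a b : N) : ⁅a, b⁻¹⁆ = ⁅b, a⁆ := by
  have h1 : Commute b ⁅b, a⁆ := by
    have e : ⁅b, a⁆ = b * (a * b * a⁻¹)⁻¹ := by
      simp only [commutatorElement_def]; group
    rw [e]
    exact (Commute.refl b).mul_right (h.engel hσ b a).inv_right
  have h2 : ⁅a, b⁻¹⁆ = b⁻¹ * ⁅b, a⁆ * b := by
    simp only [commutatorElement_def]; group
  rw [h2, mul_assoc, ← h1.eq, inv_mul_cancel_left]

/-- (G) -/
theorem G (x y g : N) : ⁅σ y, ⁅g⁻¹, x⁆⁆ = ⁅σ g, ⁅σ y, x⁆⁆ := by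
  obtain ⟨Y, hY⟩ : ∃ Y, Y = σ y := ⟨_, rfl⟩
  obtain ⟨c, hc⟩ : ∃ c, c = ⁅g⁻¹, x⁆ := ⟨_, rfl⟩
  obtain ⟨w, hw⟩ : ∃ w, w = ⁅Y, x⁆ := ⟨_, rfl⟩
  have hcw : Commute c w := by
    have ec : c = (g⁻¹ * x * g⁻¹⁻¹) * x⁻¹ := by
      rw [hc]; simp only [commutatorElement_def]
    have ew : w = (Y * x * Y⁻¹) * x⁻¹ := by
      rw [hw]; simp only [commutatorElement_def]
    rw [ec, ew]
    have k1 : Commute (g⁻¹ * x * g⁻¹⁻¹) (Y * x * Y⁻¹) := h.engel2 hσ x g⁻¹ Y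
    have k2 : Commute (g⁻¹ * x * g⁻¹⁻¹) x := (h.engel hσ x g⁻¹).symm
    have k3 : Commute x (Y * x * Y⁻¹) := h.engel hσ x Y
    exact (k1.mul_right k2.inv_right).mul_left
      (k3.inv_left.mul_right (Commute.refl x).inv_left.inv_right)
  have h1 : g⁻¹ * x * g = c * x := by
    rw [hc]; simp only [commutatorElement_def]; group
  have h2 : ⁅Y, c * x⁆ = ⁅Y, c⁆ * (c * ⁅Y, x⁆ * c⁻¹) := by
    simp only [commutatorElement_def]; group
  have h3 : c * ⁅Y, x⁆ * c⁻¹ = w := by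
    rw [← hw, hcw.eq, mul_inv_cancel_right]
  have h4 := h.F2 hσ x y g
  rw [← hY, h1, h2, h3, ← hw] at h4
  have h5 : σ g * w * (σ g)⁻¹ = ⁅σ g, w⁆ * w := by
    simp only [commutatorElement_def]; group
  rw [h5] at h4
  have h6 := mul_right_cancel h4
  rw [hc, hw, hY] at h6
  exact h6

/-- (G2): cyclic rotation -/
theorem G2 (x y g : N) : ⁅σ y, ⁅x, g⁆⁆ = σ (σ ⁅g, ⁅σ y, x⁆⁆) := by
  rw [← h.odd_left hσ g x, h.G hσ x y g, h.E2 hσ]

theorem S1 (a b c : N) : ⁅a, ⁅b, c⁆⁆ = (⁅a, ⁅c, b⁆⁆)⁻¹ := by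
  rw [← commutatorElement_inv c b, h.odd_right hσ, commutatorElement_inv]

theorem fixed (x y g : N) : σ ⁅σ y, ⁅x, g⁆⁆ = ⁅σ y, ⁅x, g⁆⁆ := by
  have r1 := h.G2 hσ x y g
  have r2 : ⁅g, ⁅σ y, x⁆⁆ = (⁅g, ⁅x, σ y⁆⁆)⁻¹ := h.S1 hσ g (σ y) x
  have r3 : ⁅g, ⁅x, σ y⁆⁆ = σ (σ ⁅σ y, ⁅g, x⁆⁆) := by
    have := h.G2 hσ x (σ (σ g)) (σ y)
    rwa [h.cube hσ] at this
  have r4 : ⁅σ y, ⁅g, x⁆⁆ = (⁅σ y, ⁅x, g⁆⁆)⁻¹ := h.S1 hσ (σ y) g x
  rw [r2, r3, r4] at r1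
  simp only [map_inv, inv_inv] at r1
  rw [h.cube hσ] at r1
  exact r1.symm

theorem triple_pow_three (a b c : N) : ⁅a, ⁅b, c⁆⁆ ^ 3 = 1 := by
  have h0 : a = σ (σ (σ a)) := (h.cube hσ a).symm
  obtain ⟨w, hw⟩ : ∃ w, w = ⁅σ (σ (σ a)), ⁅b, c⁆⁆ := ⟨_, rfl⟩
  have h1 : σ w = w := by rw [hw]; exact h.fixed hσ b (σ (σ a)) c
  have h2 := h.hA σ hσ w
  rw [h1, h1] at h2
  rw [h0, ← hw, pow_succ, pow_two]
  exact h2

end Split3

end Cfsg.Agent.Lib.H20.O4
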