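import Mathlib
import Cfsg.Agent.Lib.H20.Ord1234_1

set_option autoImplicit false

/-!
# Groups all of whose elements have order at most 4: basic facts
-/

namespace Cfsg.Agent.Lib.H20.O4

open scoped commutatorElement

/-- every element has order 1, 2, 3 or 4 -/
def Ord4 (G : Type*) [Group G] : Prop := ∀ g : G, g ^ 2 = 1 ∨ g ^ 3 = 1 ∨ g ^ 4 = 1

theorem eq_one_of_pow_two_pow_three {M : Type*} [Monoid M] {x : M} (h2 : x ^ 2 = 1)
    (h3 : x ^ 3 = 1) : x = 1 := by
  have : x ^ 3 = x ^ 2 * x := pow_succ x 2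
  rw [h2, one_mul] at this
  rw [← this, h3]

theorem eq_one_of_pow_four_pow_three {M : Type*} [Monoid M] {x : M} (h4 : x ^ 4 = 1)
    (h3 : x ^ 3 = 1) : x = 1 := by
  have : x ^ 4 = x ^ 3 * x := pow_succ x 3
  rw [h3, one_mul] at this
  rw [← this, h4]

theorem eq_one_of_pow_two_pow_pow_three {M : Type*} [Monoid M] {x : M} {k : ℕ}
    (h2 : x ^ 2 ^ k = 1) (h3 : x ^ 3 = 1) : x = 1 := by
  have h1 : orderOf x ∣ 2 ^ k := orderOf_dvd_of_pow_eq_one h2
  have h2' : orderOf x ∣ 3 := orderOf_dvd_of_pow_eq_one h3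
  have hc : Nat.Coprime (2 ^ k) 3 := Nat.Coprime.pow_left k (by norm_num)
  have : orderOf x ∣ 1 := by
    have := Nat.dvd_gcd h1 h2'
    rwa [hc] at this
  exact orderOf_eq_one_iff.mp (Nat.dvd_one.mp this)

theorem eq_one_of_pow_three_pow_pow_two {M : Type*} [Monoid M] {x : M} {k : ℕ}
    (h3 : x ^ 3 ^ k = 1) (h2 : x ^ 2 = 1) : x = 1 := by
  have h1 : orderOf x ∣ 3 ^ k := orderOf_dvd_of_pow_eq_one h3
  have h2' : orderOf x ∣ 2 := orderOf_dvd_of_pow_eq_one h2
  have hc : Nat.Coprime (3 ^ k) 2 := Nat.Coprime.pow_left k (by norm_num)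
  have : orderOf x ∣ 1 := by
    have := Nat.dvd_gcd h1 h2'
    rwa [hc] at this
  exact orderOf_eq_one_iff.mp (Nat.dvd_one.mp this)

section

variable {G : Type*} [Group G]

theorem Ord4.quotient (hO : Ord4 G) (N : Subgroup G) [N.Normal] : Ord4 (G ⧸ N) := by
  intro q
  obtain ⟨g, rfl⟩ := QuotientGroup.mk_surjective q
  rcases hO g with h | h | h
  · left; rw [← QuotientGroup.mk_pow, h]; rfl
  · right; left; rw [← QuotientGroup.mk_pow, h]; rfl
  · right; right; rw [← QuotientGroup.mk_pow, h]; rfl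

theorem Ord4.subgroup (hO : Ord4 G) (H : Subgroup G) : Ord4 H := by
  intro g
  rcases hO (g : G) with h | h | h
  · left; exact Subtype.ext (by simpa using h)
  · right; left; exact Subtype.ext (by simpa using h)
  · right; right; exact Subtype.ext (by simpa using h)

theorem Ord4.pow_twelve (hO : Ord4 G) (g : G) : g ^ 12 = 1 := by
  rcases hO g with h | h | h
  · rw [show 12 = 2 * 6 from rfl, pow_mul, h, one_pow]
  · rw [show 12 = 3 * 4 from rfl, pow_mul, h, one_pow]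
  · rw [show 12 = 4 * 3 from rfl, pow_mul, h, one_pow]

/-- an element outside a normal subgroup `N` whose image in `G / N` has order 3 has order 3 -/
theorem Ord4.pow_three_of_not_mem (hO : Ord4 G) {N : Subgroup G} [N.Normal] {g : G}
    (hg : g ∉ N) (hg3 : g ^ 3 = 1) {n : G} (hn : n ∈ N) : (n * g) ^ 3 = 1 := by
  have hπ : (QuotientGroup.mk (n * g) : G ⧸ N) = QuotientGroup.mk g := by
    rw [QuotientGroup.mk_mul, (QuotientGroup.eq_one_iff n).mpr hn, one_mul]
  have hg1 : (QuotientGroup.mk g : G ⧸ N) ≠ 1 := fun hh => hg ((QuotientGroup.eq_one_iff g).mp hh)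
  have hq3 : (QuotientGroup.mk g : G ⧸ N) ^ 3 = 1 := by
    rw [← QuotientGroup.mk_pow, hg3]; rfl
  rcases hO (n * g) with h | h | h
  · exfalso
    apply hg1
    refine eq_one_of_pow_two_pow_three ?_ hq3
    rw [← hπ, ← QuotientGroup.mk_pow, h]; rfl
  · exact h
  · exfalso
    apply hg1
    refine eq_one_of_pow_four_pow_three ?_ hq3
    rw [← hπ, ← QuotientGroup.mk_pow, h]; rfl

/-- an element outside a normal subgroup `N` whose image in `G / N` is an involution has order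
dividing 4 -/
theorem Ord4.pow_four_of_sq_mem (hO : Ord4 G) {N : Subgroup G} [N.Normal] {g : G}
    (hg : g ∉ N) (hg2 : g ^ 2 ∈ N) {n : G} (hn : n ∈ N) : (n * g) ^ 4 = 1 := by
  have hπ : (QuotientGroup.mk (n * g) : G ⧸ N) = QuotientGroup.mk g := by
    rw [QuotientGroup.mk_mul, (QuotientGroup.eq_one_iff n).mpr hn, one_mul]
  have hg1 : (QuotientGroup.mk g : G ⧸ N) ≠ 1 := fun hh => hg ((QuotientGroup.eq_one_iff g).mp hh)
  have hq2 : (QuotientGroup.mk g : G ⧸ N) ^ 2 = 1 := by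
    rw [← QuotientGroup.mk_pow]; exact (QuotientGroup.eq_one_iff _).mpr hg2
  rcases hO (n * g) with h | h | h
  · rw [show 4 = 2 * 2 from rfl, pow_mul, h, one_pow]
  · exfalso
    apply hg1
    refine eq_one_of_pow_two_pow_three hq2 ?_
    rw [← hπ, ← QuotientGroup.mk_pow, h]; rfl
  · exact h

/-- the family of conjugations by elements of order 3 outside `N` -/
def conjFamily (N : Subgroup G) [N.Normal] : Set (MulAut N) :=
  {τ | ∃ g : G, g ∉ N ∧ g ^ 3 = 1 ∧ τ = MulAut.conjNormal g}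

theorem split3_conjFamily (hO : Ord4 G) (N : Subgroup G) [N.Normal] :
    Split3 (conjFamily N) := by
  refine ⟨?_, ?_, ?_⟩
  · rintro τ ⟨g, hg, hg3, rfl⟩ x
    apply Subtype.ext
    simp only [Subgroup.coe_mul, MulAut.conjNormal_apply, Subgroup.coe_one]
    have h3 := hO.pow_three_of_not_mem hg hg3 x.2
    rw [pow_three'] at h3 hg3
    have e : (x : G) * (g * x * g⁻¹) * (g * (g * x * g⁻¹) * g⁻¹) =
        ((x : G) * g * (x * g) * (x * g)) * (g * g * g)⁻¹ := by
      group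
    rw [e, h3, hg3]; simp
  · rintro τ ⟨g, hg, hg3, rfl⟩ x
    apply Subtype.ext
    simp only [Subgroup.coe_mul, MulAut.conjNormal_apply, Subgroup.coe_one]
    have hgi : g⁻¹ ∉ N := fun hh => hg (by simpa using N.inv_mem hh)
    have hgi3 : g⁻¹ ^ 3 = 1 := by rw [inv_pow, hg3, inv_one]
    have h3 := hO.pow_three_of_not_mem hgi hgi3 x.2
    have hk2 : g * g = g⁻¹ := by
      apply eq_inv_of_mul_eq_one_left
      rw [← hg3, pow_three']
    have e1 : (x : G) * (g * (g * x * g⁻¹) * g⁻¹) * (g * x * g⁻¹) =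
        x * (g * g) * x * (g * g)⁻¹ * (g * g) * (g * g)⁻¹ * g * x * g⁻¹ := by group
    have e2 : (x : G) * g⁻¹ * x * g⁻¹⁻¹ * g⁻¹ * g⁻¹⁻¹ * g * x * g⁻¹ =
        x * g⁻¹ * x * (g * g) * x * g⁻¹ := by group
    have e3 : (x : G) * g⁻¹ * x * g⁻¹ * x * g⁻¹ = (x * g⁻¹) ^ 3 := by
      rw [pow_three']; group
    rw [e1, hk2, e2, hk2, e3, h3]
  · rintro τ ⟨g, hg, hg3, rfl⟩ m
    refine ⟨m * g, ?_, hO.pow_three_of_not_mem hg hg3 m.2, ?_⟩
    · intro hh
      apply hg
      have := N.mul_mem (N.inv_mem m.2) hh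
      simpa using this
    · rw [map_mul, MulAut.conjNormal_val]

theorem triple_comm_eq_one (hO : Ord4 G) (N : Subgroup G) [N.Normal] (hN : IsPGroup 2 N)
    {g : G} (hg : g ∉ N) (hg3 : g ^ 3 = 1) (a b c : N) : ⁅a, ⁅b, c⁆⁆ = 1 := by
  have hS := split3_conjFamily hO N
  have hmem : MulAut.conjNormal g ∈ conjFamily N := ⟨g, hg, hg3, rfl⟩
  have h3 := hS.triple_pow_three hmem a b c
  obtain ⟨k, hk⟩ := hN ⁅a, ⁅b, c⁆⁆
  exact eq_one_of_pow_two_pow_pow_three hk h3

theorem nilpotencyClass_le_two [Finite G] (hO : Ord4 G) (N : Subgroup G) [N.Normal]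
    (hN : IsPGroup 2 N) {g : G} (hg : g ∉ N) (hg3 : g ^ 3 = 1) :
    Group.nilpotencyClass N ≤ 2 := by
  have : Fact (Nat.Prime 2) := ⟨Nat.prime_two⟩
  have : Group.IsNilpotent N := hN.isNilpotent
  rw [← Subgroup.lowerCentralSeries_eq_bot_iff_nilpotencyClass_le]
  apply Subgroup.lowerCentralSeries_succ_eq_bot
  rw [Subgroup.lowerCentralSeries_succ, Subgroup.lowerCentralSeries_zero, Subgroup.commutator_le]
  intro a _ b _
  rw [Subgroup.mem_center_iff]
  intro c
  have h1 := triple_comm_eq_one hO N hN hg hg3 c a b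
  rw [commutatorElement_eq_one_iff_commute] at h1
  exact h1.eq

end

end Cfsg.Agent.Lib.H20.O4
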