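import Mathlib
import Cfsg.Agent.Lib.H20.Ord1234_2

set_option autoImplicit false

/-!
# Groups with element orders at most 4: the Sylow 3-subgroup when `O_2(G) ≠ 1`
-/

namespace Cfsg.Agent.Lib.H20.O4

open scoped commutatorElement

theorem eq_one_of_coprime_pow {M : Type*} [Monoid M] {x : M} {m n : ℕ} (hm : x ^ m = 1)
    (hn : x ^ n = 1) (hc : Nat.Coprime m n) : x = 1 := by
  have h1 : orderOf x ∣ m := orderOf_dvd_of_pow_eq_one hm
  have h2 : orderOf x ∣ n := orderOf_dvd_of_pow_eq_one hn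
  have : orderOf x ∣ 1 := by
    have := Nat.dvd_gcd h1 h2
    rwa [hc] at this
  exact orderOf_eq_one_iff.mp (Nat.dvd_one.mp this)

theorem pow_three_of_nine {A : Type*} [Group A] (hc : ∀ a b : A, a * b = b * a) (α β : A → A)
    (hαβ : ∀ u, α (β u) = β (α u)) (hβ3 : ∀ u, β (β (β u)) = u) (v : A)
    (h1 : v * α v * α (α v) = 1) (h2 : ∀ u, u * β u * β (β u) = 1)
    (h3 : v * α (β v) * α (β (α (β v))) = 1)
    (h4 : v * α (β (β v)) * α (β (β (α (β (β v))))) = 1) : v ^ 3 = 1 := by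
  haveI : Std.Commutative (α := A) (· * ·) := ⟨hc⟩
  simp only [hαβ] at h3 h4
  simp only [hβ3] at h4
  obtain ⟨p, hp⟩ : ∃ p, p = α v := ⟨_, rfl⟩
  rw [← hp] at h1 h3 h4
  obtain ⟨q, hq⟩ : ∃ q, q = α p := ⟨_, rfl⟩
  rw [← hq] at h1 h3 h4
  have key : v ^ 3 * ((p * β p * β (β p)) * (q * β q * β (β q))) =
      (v * p * q) * (v * β p * β (β q)) * (v * β (β p) * β q) := by
    rw [pow_three']; ac_rfl
  rw [h2 p, h2 q, h1, h3, h4] at key
  simpa using key

section

variable {G : Type*} [Group G]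

theorem Ord4.pow_three_of_isPGroup (hO : Ord4 G) {H : Subgroup G} (hH : IsPGroup 3 H) {x : G}
    (hx : x ∈ H) : x ^ 3 = 1 := by
  obtain ⟨k, hk⟩ := hH ⟨x, hx⟩
  have hk' : x ^ 3 ^ k = 1 := by
    have := congrArg Subtype.val hk
    simpa using this
  rcases hO x with h | h | h
  · rw [eq_one_of_coprime_pow hk' h (Nat.Coprime.pow_left k (by norm_num)), one_pow]
  · exact h
  · rw [eq_one_of_coprime_pow hk' h (Nat.Coprime.pow_left k (by norm_num)), one_pow]

theorem Ord4.pow_four_of_isPGroup (hO : Ord4 G) {H : Subgroup G} (hH : IsPGroup 2 H) {x : G}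
    (hx : x ∈ H) : x ^ 4 = 1 := by
  obtain ⟨k, hk⟩ := hH ⟨x, hx⟩
  have hk' : x ^ 2 ^ k = 1 := by
    have := congrArg Subtype.val hk
    simpa using this
  rcases hO x with h | h | h
  · rw [show 4 = 2 * 2 from rfl, pow_mul, h, one_pow]
  · rw [eq_one_of_coprime_pow hk' h (Nat.Coprime.pow_left k (by norm_num)), one_pow]
  · exact h

theorem eq_one_of_mem_two_of_pow_three {H : Subgroup G} (hH : IsPGroup 2 H) {x : G}
    (hx : x ∈ H) (h3 : x ^ 3 = 1) : x = 1 := by
  obtain ⟨k, hk⟩ := hH ⟨x, hx⟩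
  have hk' : x ^ 2 ^ k = 1 := by
    have := congrArg Subtype.val hk
    simpa using this
  exact eq_one_of_coprime_pow hk' h3 (Nat.Coprime.pow_left k (by norm_num))

theorem eq_one_of_mem_three_of_pow_two {H : Subgroup G} (hH : IsPGroup 3 H) {x : G}
    (hx : x ∈ H) (h2 : x ^ 2 = 1) : x = 1 := by
  obtain ⟨k, hk⟩ := hH ⟨x, hx⟩
  have hk' : x ^ 3 ^ k = 1 := by
    have := congrArg Subtype.val hk
    simpa using this
  exact eq_one_of_coprime_pow hk' h2 (Nat.Coprime.pow_left k (by norm_num))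

/-- the splitting identity for an element of order three outside a normal subgroup -/
theorem Ord4.split_identity (hO : Ord4 G) {N : Subgroup G} [N.Normal] {s : G} (hs : s ∉ N)
    (hs3 : s ^ 3 = 1) {n : G} (hn : n ∈ N) :
    n * (s * n * s⁻¹) * (s * (s * n * s⁻¹) * s⁻¹) = 1 := by
  have h := (split3_conjFamily hO N).hA (MulAut.conjNormal s) ⟨s, hs, hs3, rfl⟩ ⟨n, hn⟩
  have := congrArg Subtype.val h
  simpa [MulAut.conjNormal_apply] using this

/-- Two commuting elements of order three generate a cyclic group, if there is a nontrivial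
abelian normal 2-subgroup. -/
theorem mem_zpowers_of_commute (hO : Ord4 G) (V : Subgroup G) [V.Normal] (hV2 : IsPGroup 2 V)
    (hVc : ∀ u ∈ V, ∀ w ∈ V, u * w = w * u) (hV1 : V ≠ ⊥) {a b : G} (ha3 : a ^ 3 = 1)
    (hb3 : b ^ 3 = 1) (hab : a * b = b * a) (ha1 : a ≠ 1) : b ∈ Subgroup.zpowers a := by
  by_contra hb
  have hS := split3_conjFamily hO V
  have hmem : ∀ s : G, s ^ 3 = 1 → s ≠ 1 → MulAut.conjNormal s ∈ conjFamily V := by
    intro s hs3 hs1
    exact ⟨s, fun hsV => hs1 (eq_one_of_mem_two_of_pow_three hV2 hsV hs3), hs3, rfl⟩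
  have hb1 : b ≠ 1 := fun hh => hb (hh ▸ Subgroup.one_mem _)
  have hab3 : (a * b) ^ 3 = 1 := by
    rw [(show Commute a b from hab).mul_pow, ha3, hb3, one_mul]
  have hab1 : a * b ≠ 1 := by
    intro hh
    apply hb
    have : b = a⁻¹ := (eq_inv_of_mul_eq_one_right hh)
    rw [this]; exact Subgroup.inv_mem _ (Subgroup.mem_zpowers a)
  have habb3 : (a * b * b) ^ 3 = 1 := by
    have hc : Commute (a * b) b := (show Commute a b from hab).mul_left (Commute.refl b)
    rw [hc.mul_pow, hab3, hb3, one_mul]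
  have habb1 : a * b * b ≠ 1 := by
    intro hh
    apply hb
    have h1 : b * b = a⁻¹ := by
      rw [mul_assoc] at hh
      exact eq_inv_of_mul_eq_one_right hh
    have h2 : b = (b * b)⁻¹ := by
      apply eq_inv_of_mul_eq_one_left
      rw [← hb3, pow_three]
    rw [h2, h1, inv_inv]; exact Subgroup.mem_zpowers a
  obtain ⟨v, hv, hv1⟩ := (Subgroup.ne_bot_iff_exists_ne_one.mp hV1 : ∃ x : V, x ≠ 1)
    |> fun ⟨x, hx⟩ => (⟨(x : G), x.2, fun h' => hx (Subtype.ext h')⟩ : ∃ x : G, x ∈ V ∧ x ≠ 1)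
  have hcV : ∀ u w : V, u * w = w * u := fun u w => Subtype.ext (hVc u u.2 w w.2)
  have hαβ : ∀ u : V, MulAut.conjNormal a (MulAut.conjNormal b u) =
      MulAut.conjNormal b (MulAut.conjNormal a u) := by
    intro u
    rw [← MulAut.mul_apply, ← MulAut.mul_apply, ← map_mul, ← map_mul, hab]
  have hβ3 : ∀ u : V, MulAut.conjNormal b (MulAut.conjNormal b (MulAut.conjNormal b u)) = u := by
    intro u
    rw [← MulAut.mul_apply, ← MulAut.mul_apply, ← map_mul, ← map_mul, ← pow_three', hb3, map_one,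
      MulAut.one_apply]
  have h1 := hS.hA _ (hmem a ha3 ha1) ⟨v, hv⟩
  have h2 := fun u => hS.hA _ (hmem b hb3 hb1) u
  have h3 := hS.hA _ (hmem (a * b) hab3 hab1) ⟨v, hv⟩
  have h4 := hS.hA _ (hmem (a * b * b) habb3 habb1) ⟨v, hv⟩
  simp only [map_mul, MulAut.mul_apply] at h3 h4
  have h5 := pow_three_of_nine hcV (MulAut.conjNormal a) (MulAut.conjNormal b) hαβ hβ3 ⟨v, hv⟩
    h1 h2 h3 h4
  have h6 : v ^ 3 = 1 := by
    have := congrArg Subtype.val h5
    simpa using this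
  exact hv1 (eq_one_of_mem_two_of_pow_three hV2 hv h6)

theorem card_sylow_three [Finite G] (hO : Ord4 G) (V : Subgroup G) [V.Normal]
    (hV2 : IsPGroup 2 V) (hVc : ∀ u ∈ V, ∀ w ∈ V, u * w = w * u) (hV1 : V ≠ ⊥)
    (R : Sylow 3 G) (hR : (R : Subgroup G) ≠ ⊥) : Nat.card R = 3 := by
  haveI : Fact (Nat.Prime 3) := ⟨Nat.prime_three⟩
  haveI : Nontrivial R := by
    rw [Subgroup.nontrivial_iff_ne_bot]
    exact hR
  haveI := R.isPGroup'.center_nontrivial
  obtain ⟨z, hz⟩ := exists_ne (1 : Subgroup.center R)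
  obtain ⟨a, ha⟩ : ∃ a : G, a = ((z : R) : G) := ⟨_, rfl⟩
  have haR : a ∈ (R : Subgroup G) := by rw [ha]; exact (z : R).2
  have ha1 : a ≠ 1 := by
    intro hh
    apply hz
    apply Subtype.ext
    apply Subtype.ext
    rw [← ha, hh]; rfl
  have ha3 : a ^ 3 = 1 := hO.pow_three_of_isPGroup R.isPGroup' haR
  have hle : (R : Subgroup G) ≤ Subgroup.zpowers a := by
    intro b hbR
    have hb3 : b ^ 3 = 1 := hO.pow_three_of_isPGroup R.isPGroup' hbR
    have hab : a * b = b * a := by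
      have h1 := Subgroup.mem_center_iff.mp z.2 ⟨b, hbR⟩
      have := congrArg Subtype.val h1
      rw [ha]
      simpa using this.symm
    exact mem_zpowers_of_commute hO V hV2 hVc hV1 ha3 hb3 hab ha1
  have hge : Subgroup.zpowers a ≤ (R : Subgroup G) := by
    rw [Subgroup.zpowers_le]; exact haR
  have heq : (R : Subgroup G) = Subgroup.zpowers a := le_antisymm hle hge
  have : Nat.card (R : Subgroup G) = 3 := by
    rw [heq, Nat.card_zpowers, orderOf_eq_prime ha3 ha1]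
  exact this

end

end Cfsg.Agent.Lib.H20.O4
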