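import Mathlib
import Cfsg.Agent.Lib.H20.Ord1234_3

set_option autoImplicit false

/-!
# Groups with element orders at most 4: the quotient by `O_2(G)` when `O_2(G) ≠ 1`
-/

namespace Cfsg.Agent.Lib.H20.O4

section

variable {G : Type*} [Group G]

theorem Ord4.prime_dvd_card [Finite G] (hO : Ord4 G) {p : ℕ} (hp : p.Prime)
    (h : p ∣ Nat.card G) : p = 2 ∨ p = 3 := by
  haveI : Fact p.Prime := ⟨hp⟩
  obtain ⟨x, hx⟩ := exists_prime_orderOf_dvd_card' p h
  have h12 : p ∣ 12 := by
    rw [← hx]; exact orderOf_dvd_of_pow_eq_one (hO.pow_twelve x)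
  have h12' : p ∣ 2 * (2 * 3) := h12
  rcases (Nat.Prime.dvd_mul hp).mp h12' with h2 | h6
  · left; exact (Nat.prime_dvd_prime_iff_eq hp Nat.prime_two).mp h2
  · rcases (Nat.Prime.dvd_mul hp).mp h6 with h2 | h3
    · left; exact (Nat.prime_dvd_prime_iff_eq hp Nat.prime_two).mp h2
    · right; exact (Nat.prime_dvd_prime_iff_eq hp Nat.prime_three).mp h3

theorem index_sylow_two [Finite G] (hO : Ord4 G) (P : Sylow 2 G) (R : Sylow 3 G)
    (hR : Nat.card R = 3) : (P : Subgroup G).index = 3 := by
  haveI : Fact (Nat.Prime 2) := ⟨Nat.prime_two⟩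
  haveI : Fact (Nat.Prime 3) := ⟨Nat.prime_three⟩
  have h0 : (P : Subgroup G).index ≠ 0 := Subgroup.index_ne_zero_of_finite
  have h2 : ¬ 2 ∣ (P : Subgroup G).index := P.not_dvd_index
  have hpow := Nat.eq_prime_pow_of_unique_prime_dvd (p := 3) h0 (by
    intro d hd hdvd
    rcases hO.prime_dvd_card hd (hdvd.trans (Subgroup.index_dvd_card _)) with h | h
    · exfalso; exact h2 (h ▸ hdvd)
    · exact h)
  obtain ⟨k, hk⟩ : ∃ k, (P : Subgroup G).index = 3 ^ k := ⟨_, hpow⟩
  have hk1 : 3 ^ k ∣ 3 := by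
    have h1 : 3 ^ k ∣ Nat.card G := hk ▸ Subgroup.index_dvd_card _
    have h2 := R.pow_dvd_card_of_pow_dvd_card h1
    rwa [hR] at h2
  have h3G : 3 ∣ Nat.card G := by
    have := Subgroup.card_subgroup_dvd_card (R : Subgroup G)
    rwa [hR] at this
  have h3idx : 3 ∣ (P : Subgroup G).index := by
    have h1 : Nat.card G = Nat.card P * (P : Subgroup G).index :=
      ((P : Subgroup G).card_mul_index).symm
    obtain ⟨m, hm⟩ := IsPGroup.iff_card.mp P.isPGroup'
    rw [h1, hm] at h3G
    exact (Nat.Coprime.pow_right m (by norm_num : Nat.Coprime 3 2)).dvd_of_dvd_mul_left h3G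
  have hkle : k ≤ 1 := by
    by_contra hcon
    push Not at hcon
    have : 3 ^ 2 ∣ 3 := (pow_dvd_pow 3 hcon).trans hk1
    norm_num at this
  have hkge : 1 ≤ k := by
    by_contra hcon
    push Not at hcon
    have hk0 : k = 0 := by omega
    rw [hk, hk0] at h3idx
    norm_num at h3idx
  have : k = 1 := le_antisymm hkle hkge
  rw [hk, this, pow_one]

/-- The quotient by the largest normal 2-subgroup, when the Sylow 3-subgroup has order 3. -/
theorem exists_normal_two_subgroup [Finite G] (hO : Ord4 G) (R : Sylow 3 G)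
    (hR : Nat.card R = 3) :
    ∃ (N : Subgroup G) (_ : N.Normal), IsPGroup 2 N ∧
      (N.index = 3 ∨ Nonempty (G ⧸ N ≃* Equiv.Perm (Fin 3))) := by
  haveI : Fact (Nat.Prime 2) := ⟨Nat.prime_two⟩
  obtain ⟨P⟩ : Nonempty (Sylow 2 G) := inferInstance
  have hidx := index_sylow_two hO P R hR
  refine ⟨(P : Subgroup G).normalCore, inferInstance, P.isPGroup'.to_le (Subgroup.normalCore_le _), ?_⟩
  obtain ⟨f, hf⟩ : ∃ f, f = MulAction.toPermHom G (G ⧸ (P : Subgroup G)) := ⟨_, rfl⟩
  have hker : (P : Subgroup G).normalCore = f.ker := by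
    rw [hf]; exact Subgroup.normalCore_eq_ker _
  have hcardX : Nat.card (G ⧸ (P : Subgroup G)) = 3 := by
    rw [← Subgroup.index_eq_card, hidx]
  have hcardPerm : Nat.card (Equiv.Perm (G ⧸ (P : Subgroup G))) = 6 := by
    rw [Nat.card_perm, hcardX]; rfl
  have hidxN : (P : Subgroup G).normalCore.index = Nat.card f.range := by
    rw [hker, Subgroup.index_ker]
  have h6 : (P : Subgroup G).normalCore.index ∣ 6 := by
    rw [hidxN, ← hcardPerm]
    exact Subgroup.card_subgroup_dvd_card _
  have h3 : 3 ∣ (P : Subgroup G).normalCore.index := by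
    rw [← hidx]
    exact Subgroup.index_dvd_of_le (Subgroup.normalCore_le _)
  have hcases : (P : Subgroup G).normalCore.index = 3 ∨ (P : Subgroup G).normalCore.index = 6 := by
    have hle : (P : Subgroup G).normalCore.index ≤ 6 := Nat.le_of_dvd (by norm_num) h6
    have hpos : (P : Subgroup G).normalCore.index ≠ 0 := Subgroup.index_ne_zero_of_finite
    obtain ⟨m, hm⟩ := h3
    obtain ⟨j, hj⟩ := h6
    have : m = 1 ∨ m = 2 := by
      have hm2 : m ≤ 2 := by omega
      have hm0 : m ≠ 0 := by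
        intro h0; rw [h0] at hm; omega
      omega
    rcases this with h | h
    · left; omega
    · right; omega
  rcases hcases with h | h
  · left; exact h
  · right
    have hrange : f.range = ⊤ := by
      apply (Subgroup.card_eq_iff_eq_top _).mp
      rw [← hidxN, h, hcardPerm]
    have hsurj : Function.Surjective f := MonoidHom.range_eq_top.mp hrange
    have e : (G ⧸ (P : Subgroup G)) ≃ Fin 3 :=
      (Finite.equivFin _).trans (finCongr hcardX)
    exact ⟨(QuotientGroup.quotientMulEquivOfEq hker).trans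
      ((QuotientGroup.quotientKerEquivOfSurjective f hsurj).trans e.permCongrHom)⟩

end

end Cfsg.Agent.Lib.H20.O4
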