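import Mathlib
import Cfsg.Agent.Lib.H20.Ord1234_4

set_option autoImplicit false

/-!
# Groups with element orders at most 4: `G / N ≅ S₃` forces `N` elementary abelian
-/

namespace Cfsg.Agent.Lib.H20.O4

open scoped commutatorElement

theorem sq_mul_eq {N : Type*} [Group N] (a b : N) (h : Commute a ⁅b, a⁆) :
    (a * b) ^ 2 = ⁅b, a⁆ * a ^ 2 * b ^ 2 := by
  have e1 : (a * b) ^ 2 = a * ⁅b, a⁆ * (a * b * b) := by
    rw [pow_two]; simp only [commutatorElement_def]; group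
  rw [e1, h.eq, pow_two, pow_two]; group

theorem comm_mul_left_of_central {N : Type*} [Group N] (a b n : N)
    (h : ∀ u : N, Commute u ⁅b, n⁆) : ⁅a * b, n⁆ = ⁅b, n⁆ * ⁅a, n⁆ := by
  have e1 : ⁅a * b, n⁆ = a * ⁅b, n⁆ * a⁻¹ * ⁅a, n⁆ := by
    simp only [commutatorElement_def]; group
  rw [e1, (h a).eq, mul_inv_cancel_right]

/-- abstract form of the final computation -/
theorem sq_eq_one_of_three_involutions {N : Type*} [Group N]
    (hcl : ∀ a b c : N, Commute a ⁅b, c⁆) (δ₁ δ₂ δ₃ : MulAut N)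
    (h1 : ∀ n, (n * δ₁ n) ^ 2 = 1) (h2 : ∀ n, (n * δ₂ n) ^ 2 = 1) (h3 : ∀ n, (n * δ₃ n) ^ 2 = 1)
    (hprod : ∀ n, δ₁ n * δ₂ n * δ₃ n = 1) (n : N) (h4 : n ^ 4 = 1) : n ^ 2 = 1 := by
  obtain ⟨z, hz⟩ : ∃ z, z = n ^ 2 := ⟨_, rfl⟩
  have key : ∀ δ : MulAut N, (n * δ n) ^ 2 = 1 → δ z = (⁅δ n, n⁆ * z)⁻¹ := by
    intro δ hδ
    rw [sq_mul_eq n (δ n) (hcl _ _ _)] at hδ
    rw [hz, map_pow]
    exact eq_inv_of_mul_eq_one_right hδ
  obtain ⟨c₁, hc₁⟩ : ∃ c, c = ⁅δ₁ n, n⁆ := ⟨_, rfl⟩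
  obtain ⟨c₂, hc₂⟩ : ∃ c, c = ⁅δ₂ n, n⁆ := ⟨_, rfl⟩
  obtain ⟨c₃, hc₃⟩ : ∃ c, c = ⁅δ₃ n, n⁆ := ⟨_, rfl⟩
  have hcen₁ : ∀ u : N, Commute u c₁ := fun u => hc₁ ▸ hcl u _ _
  have hcen₂ : ∀ u : N, Commute u c₂ := fun u => hc₂ ▸ hcl u _ _
  have hcen₃ : ∀ u : N, Commute u c₃ := fun u => hc₃ ▸ hcl u _ _
  have hp := hprod z
  rw [key δ₁ (h1 n), key δ₂ (h2 n), key δ₃ (h3 n), ← hc₁, ← hc₂, ← hc₃] at hp
  have hp2 : c₃ * z * (c₂ * z) * (c₁ * z) = 1 := by
    have : (c₁ * z)⁻¹ * (c₂ * z)⁻¹ * (c₃ * z)⁻¹ = (c₃ * z * (c₂ * z) * (c₁ * z))⁻¹ := by group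
    rw [this] at hp
    exact inv_eq_one.mp hp
  have hp3 : c₃ * z * (c₂ * z) * (c₁ * z) = c₃ * c₂ * c₁ * (z * z * z) := by
    calc c₃ * z * (c₂ * z) * (c₁ * z) = c₃ * (z * c₂) * (z * c₁) * z := by group
      _ = c₃ * (c₂ * z) * (c₁ * z) * z := by rw [(hcen₂ z).eq, (hcen₁ z).eq]
      _ = c₃ * c₂ * (z * c₁) * (z * z) := by group
      _ = c₃ * c₂ * (c₁ * z) * (z * z) := by rw [(hcen₁ z).eq]
      _ = _ := by group
  have hc321 : c₃ * c₂ * c₁ = 1 := by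
    have e1 : ⁅δ₁ n * δ₂ n * δ₃ n, n⁆ = c₃ * (c₂ * c₁) := by
      rw [comm_mul_left_of_central _ _ _ (fun u => hcl u _ _),
        comm_mul_left_of_central _ _ _ (fun u => hcl u _ _), ← hc₁, ← hc₂, ← hc₃]
    rw [hprod n] at e1
    rw [mul_assoc, ← e1]
    simp [commutatorElement_def]
  rw [hp3, hc321, one_mul] at hp2
  have h6 : n ^ 6 = 1 := by
    rw [show 6 = 2 + 2 + 2 from rfl, pow_add, pow_add, ← hz]; exact hp2
  have : n ^ 6 = n ^ 4 * n ^ 2 := by rw [← pow_add]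
  rw [h4, one_mul] at this
  rw [← this, h6]

section

variable {G : Type*} [Group G]

theorem centralizer_trivial (hO : Ord4 G) {N : Subgroup G} [N.Normal] (hN : IsPGroup 2 N)
    {x : G} (hx : x ∉ N) (hx3 : x ^ 3 = 1) {n : G} (hn : n ∈ N) (hc : n * x = x * n) : n = 1 := by
  have h3 := hO.pow_three_of_not_mem hx hx3 hn
  rw [(show Commute n x from hc).mul_pow, hx3, mul_one] at h3
  exact eq_one_of_mem_two_of_pow_three hN hn h3

theorem perm3_facts : ∀ a b : Equiv.Perm (Fin 3), a ^ 3 = 1 → a ≠ 1 → b ^ 2 = 1 → b ≠ 1 →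
    (b * a * b⁻¹ * a = 1 ∧ a * b ≠ 1 ∧ a * a * b ≠ 1 ∧ a ^ 2 ≠ 1 ∧ a ^ 4 ≠ 1) := by decide

/-- If `G / N ≅ S₃` with `N` a normal 2-subgroup, then `N` has exponent 2. -/
theorem sq_eq_one_of_quot_S3 [Finite G] (hO : Ord4 G) (N : Subgroup G) [N.Normal]
    (hN : IsPGroup 2 N) (φ : G ⧸ N ≃* Equiv.Perm (Fin 3)) : ∀ n ∈ N, n ^ 2 = 1 := by
  obtain ⟨π, hπ⟩ : ∃ π : G →* Equiv.Perm (Fin 3), π = φ.toMonoidHom.comp (QuotientGroup.mk' N) :=
    ⟨_, rfl⟩
  have hker : ∀ g, π g = 1 ↔ g ∈ N := by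
    intro g
    rw [hπ]
    show φ (QuotientGroup.mk g) = 1 ↔ _
    rw [MulEquiv.map_eq_one_iff, QuotientGroup.eq_one_iff]
  have hsurj : ∀ p, ∃ g, π g = p := by
    intro p
    obtain ⟨q, hq⟩ := φ.surjective p
    obtain ⟨g, rfl⟩ := QuotientGroup.mk_surjective q
    exact ⟨g, by rw [hπ]; exact hq⟩
  obtain ⟨x, hx⟩ := hsurj (Equiv.swap (0 : Fin 3) 1 * Equiv.swap 1 2)
  obtain ⟨y, hy⟩ := hsurj (Equiv.swap (0 : Fin 3) 1)
  have hc3 : (π x) ^ 3 = 1 := by rw [hx]; decide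
  have hc1 : π x ≠ 1 := by rw [hx]; decide
  have ht2 : (π y) ^ 2 = 1 := by rw [hy]; decide
  have ht1 : π y ≠ 1 := by rw [hy]; decide
  obtain ⟨f1, f2, f3, f4, f5⟩ := perm3_facts (π x) (π y) hc3 hc1 ht2 ht1
  have hxN : x ∉ N := fun hh => hc1 ((hker x).mpr hh)
  have hyN : y ∉ N := fun hh => ht1 ((hker y).mpr hh)
  have hx3 : x ^ 3 = 1 := by
    rcases hO x with h | h | h
    · exfalso; apply f4; rw [← map_pow, h, map_one]
    · exact h
    · exfalso; apply f5; rw [← map_pow, h, map_one]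
  have hmN : y * x * y⁻¹ * x ∈ N := by
    rw [← hker]; simpa using f1
  -- centralizer of x in N is trivial
  have hcent : ∀ n ∈ N, n * x = x * n → n = 1 := fun n hn hc =>
    centralizer_trivial hO hN hxN hx3 hn hc
  -- find k
  have hinj : Function.Injective (fun k : N => (⟨(k : G)⁻¹ * (x⁻¹ * k * x),
      N.mul_mem (N.inv_mem k.2) (by
        have := ‹N.Normal›.conj_mem k k.2 x⁻¹
        simpa using this)⟩ : N)) := by
    intro k l hkl
    have h1 : (k : G)⁻¹ * (x⁻¹ * k * x) = (l : G)⁻¹ * (x⁻¹ * l * x) := congrArg Subtype.val hkl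
    have h2 : ((l : G) * (k : G)⁻¹) * x = x * ((l : G) * (k : G)⁻¹) := by
      have e : x⁻¹ * ((l : G) * (k : G)⁻¹) * x =
          l * ((l : G)⁻¹ * (x⁻¹ * l * x)) * ((k : G)⁻¹ * (x⁻¹ * k * x))⁻¹ * (k : G)⁻¹ := by group
      rw [h1, mul_inv_cancel_right] at e
      have e2 : ((l : G) * (k : G)⁻¹) * x = x * (x⁻¹ * ((l : G) * (k : G)⁻¹) * x) := by group
      rw [e2, e]
    have h3 := hcent _ (N.mul_mem l.2 (N.inv_mem k.2)) h2
    apply Subtype.ext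
    have : (l : G) = k := by
      have := mul_inv_eq_one.mp h3
      exact this
    exact this.symm
  have hsur := Finite.injective_iff_surjective.mp hinj
  obtain ⟨k, hk⟩ := hsur ⟨y * x * y⁻¹ * x, hmN⟩
  have hk' : (k : G)⁻¹ * (x⁻¹ * k * x) = y * x * y⁻¹ * x := congrArg Subtype.val hk
  obtain ⟨t, ht⟩ : ∃ t, t = (k : G) * y := ⟨_, rfl⟩
  have htx : t * x * t⁻¹ = x⁻¹ := by
    have e1 : t * x * t⁻¹ = k * (y * x * y⁻¹ * x) * x⁻¹ * (k : G)⁻¹ := by rw [ht]; group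
    rw [e1, ← hk']; group
  have hπt : π t = π y := by
    rw [ht, map_mul, (hker k).mpr k.2, one_mul]
  have htN : t ∉ N := fun hh => ht1 (hπt ▸ (hker t).mpr hh)
  have ht2N : t ^ 2 ∈ N := by
    rw [← hker, map_pow, hπt, ht2]
  have htt : t * t = 1 := by
    rw [← pow_two]
    apply hcent _ ht2N
    have e1 : t ^ 2 * x = t * (t * x * t⁻¹) * t := by rw [pow_two]; group
    have e2 : x * t ^ 2 = t * (t⁻¹ * x * t) * t := by rw [pow_two]; group
    have e3 : t⁻¹ * x * t = x⁻¹ := by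
      have : t⁻¹ * x * t = t⁻¹ * (t * x * t⁻¹)⁻¹ * t := by rw [htx, inv_inv]
      rw [this]; group
    rw [e1, e2, htx, e3]
  have htinv : t⁻¹ = t := inv_eq_of_mul_eq_one_left htt
  -- the three involutions
  have hd2 : (x * t) * (x * t) = 1 := by
    have e1 : (x * t) * (x * t) = x * (t * x * t⁻¹) * (t * t) := by group
    rw [e1, htx, htt]; group
  have hd3 : (x * x * t) * (x * x * t) = 1 := by
    have e1 : (x * x * t) * (x * x * t) = x * x * (t * x * t⁻¹) * (t * x * t⁻¹) * (t * t) := by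
      group
    rw [e1, htx, htt]; group
  have hd2N : x * t ∉ N := by
    intro hh
    apply f2
    rw [← hπt, ← map_mul]; exact (hker _).mpr hh
  have hd3N : x * x * t ∉ N := by
    intro hh
    apply f3
    rw [← hπt, ← map_mul, ← map_mul]; exact (hker _).mpr hh
  have hinvol : ∀ d : G, d ∉ N → d * d = 1 → ∀ n : N,
      (n * MulAut.conjNormal d n) ^ 2 = 1 := by
    intro d hdN hdd n
    have hd2' : d ^ 2 ∈ N := by rw [pow_two, hdd]; exact N.one_mem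
    have h4 := hO.pow_four_of_sq_mem hdN hd2' n.2
    apply Subtype.ext
    simp only [Subgroup.coe_pow, Subgroup.coe_mul, MulAut.conjNormal_apply, Subgroup.coe_one]
    have e1 : ((n : G) * (d * n * d⁻¹)) = (n * d) ^ 2 * (d * d)⁻¹ := by rw [pow_two]; group
    rw [e1, hdd, inv_one, mul_one, ← pow_mul]
    exact h4
  have hcl : ∀ a b c : N, Commute a ⁅b, c⁆ := by
    intro a b c
    have := triple_comm_eq_one hO N hN hxN hx3 a b c
    rwa [commutatorElement_eq_one_iff_commute] at this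
  have hprod : ∀ n : N, MulAut.conjNormal t n * MulAut.conjNormal (x * t) n *
      MulAut.conjNormal (x * x * t) n = 1 := by
    intro n
    apply Subtype.ext
    simp only [Subgroup.coe_mul, MulAut.conjNormal_apply, Subgroup.coe_one]
    have hmem : t * n * t⁻¹ ∈ N := ‹N.Normal›.conj_mem n n.2 t
    have := hO.split_identity hxN hx3 hmem
    rw [← this]; group
  intro n hn
  have h4 : (⟨n, hn⟩ : N) ^ 4 = 1 := Subtype.ext (hO.pow_four_of_isPGroup hN hn)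
  have := sq_eq_one_of_three_involutions hcl (MulAut.conjNormal t) (MulAut.conjNormal (x * t))
    (MulAut.conjNormal (x * x * t)) (hinvol t htN htt) (hinvol _ hd2N hd2) (hinvol _ hd3N hd3)
    hprod ⟨n, hn⟩ h4
  have := congrArg Subtype.val this
  simpa using this

end

end Cfsg.Agent.Lib.H20.O4
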