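import Mathlib
import Cfsg.Agent.Lib.H20.Ord1234_4
import Cfsg.Agent.Lib.H1.SolvableBasic
import Cfsg.Agent.Lib.H22.UniqueInvolution

set_option autoImplicit false

/-!
# Groups with element orders at most 4: the case `O_2(G) = 1`
-/

namespace Cfsg.Agent.Lib.H20.O4

open scoped Pointwise

section

variable {G : Type*} [Group G]

theorem normal_le_sylow [Finite G] {p : ℕ} [Fact p.Prime] {K : Subgroup G} [hKn : K.Normal]
    (hK : IsPGroup p K) (Q : Sylow p G) : K ≤ Q := by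
  obtain ⟨Q', hQ'⟩ := hK.exists_le_sylow
  obtain ⟨g, hg⟩ := MulAction.exists_smul_eq G Q' Q
  intro k hk
  have h1 : k ∈ ((g • Q' : Sylow p G) : Subgroup G) := by
    rw [Sylow.smul_def, Sylow.pointwise_smul_def,
      Subgroup.mem_pointwise_smul_iff_inv_smul_mem, MulAut.smul_def, MulAut.conj_inv_apply]
    apply hQ'
    have := hKn.conj_mem k hk g⁻¹
    simpa using this
  rw [hg] at h1
  exact h1

/-- every involution inverts a normal 3-subgroup -/
theorem Ord4.involution_inverts (hO : Ord4 G) {N : Subgroup G} [N.Normal] (hN : IsPGroup 3 N)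
    {s : G} (hs2 : s ^ 2 = 1) (hs1 : s ≠ 1) {n : G} (hn : n ∈ N) : s * n * s⁻¹ = n⁻¹ := by
  have hsN : s ∉ N := fun hh => hs1 (eq_one_of_mem_three_of_pow_two hN hh hs2)
  have hs2N : s ^ 2 ∈ N := by rw [hs2]; exact N.one_mem
  have h4 := hO.pow_four_of_sq_mem hsN hs2N hn
  have hss : s * s = 1 := by rw [← pow_two]; exact hs2
  have e1 : (n * s) ^ 2 = n * (s * n * s⁻¹) := by
    have : (n * s) ^ 2 = n * (s * n * s⁻¹) * (s * s) := by rw [pow_two]; group
    rw [this, hss, mul_one]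
  have h5 : (n * (s * n * s⁻¹)) ^ 2 = 1 := by
    rw [← e1, ← pow_mul]; exact h4
  have hmem : n * (s * n * s⁻¹) ∈ N := N.mul_mem hn (‹N.Normal›.conj_mem n hn s)
  have h6 := eq_one_of_mem_three_of_pow_two hN hmem h5
  exact (eq_inv_of_mul_eq_one_right h6)

theorem caseA [Finite G] (hO : Ord4 G) [hsolv : Group.IsSolvable G]
    (hO2 : ∀ K : Subgroup G, K.Normal → IsPGroup 2 K → K = ⊥)
    {z : G} (hz1 : z ≠ 1) (hz2 : z ^ 2 = 1) {g4 : G} (hg42 : g4 ^ 2 ≠ 1) (hg44 : g4 ^ 4 = 1) :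
    ∃ (N : Subgroup G) (_ : N.Normal), (∀ a ∈ N, ∀ b ∈ N, a * b = b * a) ∧ (∀ a ∈ N, a ^ 3 = 1) ∧
      ((IsCyclic (G ⧸ N) ∧ N.index = 4) ∨ Nonempty (G ⧸ N ≃* QuaternionGroup 2)) := by
  have : Nontrivial G := ⟨⟨z, 1, hz1⟩⟩
  have : Fact (Nat.Prime 2) := ⟨Nat.prime_two⟩
  have : Fact (Nat.Prime 3) := ⟨Nat.prime_three⟩
  obtain ⟨p, hp, K, hKn, hKp, hK1⟩ :=
    Cfsg.Agent.Lib.H1.exists_normal_isPGroup_ne_bot_of_isSolvable (G := G)
  have hp3 : p = 3 := by
    obtain ⟨m, hm⟩ := IsPGroup.iff_card.mp hKp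
    have hm0 : m ≠ 0 := by
      intro h0
      rw [h0, pow_zero] at hm
      exact hK1 (Subgroup.card_eq_one.mp hm)
    have hdvd : p ∣ Nat.card G := by
      have h1 : p ∣ Nat.card K := by rw [hm]; exact dvd_pow_self p hm0
      exact h1.trans (Subgroup.card_subgroup_dvd_card K)
    rcases hO.prime_dvd_card hp.out hdvd with h | h
    · exfalso
      subst h
      exact hK1 (hO2 K hKn hKp)
    · exact h
  subst hp3
  obtain ⟨R⟩ : Nonempty (Sylow 3 G) := inferInstance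
  obtain ⟨N, hNdef⟩ : ∃ N, N = (R : Subgroup G).normalCore := ⟨_, rfl⟩
  haveI hNn : N.Normal := by rw [hNdef]; infer_instance
  have hN3 : IsPGroup 3 N := by
    rw [hNdef]; exact R.isPGroup'.to_le (Subgroup.normalCore_le _)
  have hle_of : ∀ C : Subgroup G, C.Normal → IsPGroup 3 C → C ≤ N := by
    intro C hCn hC3
    rw [hNdef, Subgroup.normal_le_normalCore]
    exact normal_le_sylow hC3 R
  have hKN : K ≤ N := hle_of K hKn hKp
  have hN1 : N ≠ ⊥ := fun hh => hK1 (le_bot_iff.mp (hh ▸ hKN))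
  obtain ⟨n₀, hn₀, hn₀1⟩ := (Subgroup.ne_bot_iff_exists_ne_one.mp hN1 : ∃ x : N, x ≠ 1)
    |> fun ⟨x, hx⟩ => (⟨(x : G), x.2, fun h' => hx (Subtype.ext h')⟩ : ∃ x : G, x ∈ N ∧ x ≠ 1)
  have hinv : ∀ s : G, s ^ 2 = 1 → s ≠ 1 → ∀ n ∈ N, s * n * s⁻¹ = n⁻¹ :=
    fun s hs2 hs1 n hn => hO.involution_inverts hN3 hs2 hs1 hn
  -- N abelian of exponent 3
  have hNab : ∀ a ∈ N, ∀ b ∈ N, a * b = b * a := by
    intro a ha b hb
    have h1 := hinv z hz2 hz1 (a * b) (N.mul_mem ha hb)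
    have h2 := hinv z hz2 hz1 a ha
    have h3 := hinv z hz2 hz1 b hb
    have h4 : z * (a * b) * z⁻¹ = (z * a * z⁻¹) * (z * b * z⁻¹) := by group
    rw [h4, h2, h3] at h1
    have h5 : (a⁻¹ * b⁻¹)⁻¹ = ((a * b)⁻¹)⁻¹ := by rw [h1]
    simpa using h5.symm
  have hNexp : ∀ a ∈ N, a ^ 3 = 1 := fun a ha => hO.pow_three_of_isPGroup hN3 ha
  refine ⟨N, hNn, hNab, hNexp, ?_⟩
  -- the centralizer of N
  obtain ⟨C, hCdef⟩ : ∃ C, C = Subgroup.centralizer (N : Set G) := ⟨_, rfl⟩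
  haveI hCn : C.Normal := by rw [hCdef]; infer_instance
  have hCinv : ∀ s ∈ C, s ^ 2 = 1 → s = 1 := by
    intro s hsC hs2
    by_contra hs1
    have h1 := hinv s hs2 hs1 n₀ hn₀
    have h2 : s * n₀ = n₀ * s := by
      rw [hCdef, Subgroup.mem_centralizer_iff] at hsC
      exact (hsC n₀ hn₀).symm
    rw [h2, mul_inv_cancel_right] at h1
    have h3 : n₀ ^ 2 = 1 := by
      rw [pow_two]
      nth_rewrite 1 [h1]
      exact inv_mul_cancel n₀
    exact hn₀1 (eq_one_of_mem_three_of_pow_two hN3 hn₀ h3)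
  have hC3 : IsPGroup 3 C := by
    intro c
    refine ⟨1, ?_⟩
    rw [pow_one]
    apply Subtype.ext
    simp only [Subgroup.coe_pow, Subgroup.coe_one]
    rcases hO (c : G) with h | h | h
    · rw [hCinv c c.2 h, one_pow]
    · exact h
    · have h2 : ((c : G) ^ 2) ^ 2 = 1 := by rw [← pow_mul]; exact h
      have h3 := hCinv _ (C.pow_mem c.2 2) h2
      rw [hCinv c c.2 h3, one_pow]
  have hCN : C ≤ N := hle_of C hCn hC3
  -- all involutions have the same image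
  have hzN : z ∉ N := fun hh => hz1 (eq_one_of_mem_three_of_pow_two hN3 hh hz2)
  have hsame : ∀ s : G, s ^ 2 = 1 → s ≠ 1 →
      (QuotientGroup.mk s : G ⧸ N) = QuotientGroup.mk z := by
    intro s hs2 hs1
    have hszC : s * z ∈ C := by
      rw [hCdef, Subgroup.mem_centralizer_iff]
      intro n hn
      have h1 := hinv z hz2 hz1 n hn
      have h2 := hinv s hs2 hs1 n⁻¹ (N.inv_mem hn)
      rw [inv_inv] at h2
      have h3 : s * z * n = s * (z * n * z⁻¹) * s⁻¹ * (s * z) := by group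
      rw [h3, h1, h2]
    have h1 : (QuotientGroup.mk (s * z) : G ⧸ N) = 1 :=
      (QuotientGroup.eq_one_iff _).mpr (hCN hszC)
    have h2 : (QuotientGroup.mk z : G ⧸ N) ^ 2 = 1 := by
      rw [← QuotientGroup.mk_pow, hz2]; rfl
    rw [QuotientGroup.mk_mul] at h1
    have h3 : (QuotientGroup.mk s : G ⧸ N) = (QuotientGroup.mk z)⁻¹ :=
      eq_inv_of_mul_eq_one_left h1
    rw [h3]
    apply inv_eq_of_mul_eq_one_left
    rw [← pow_two]; exact h2
  obtain ⟨zb, hzb⟩ : ∃ zb : G ⧸ N, zb = QuotientGroup.mk z := ⟨_, rfl⟩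
  have hzb1 : zb ≠ 1 := by
    rw [hzb]; intro hh; exact hzN ((QuotientGroup.eq_one_iff z).mp hh)
  have hzb2 : zb ^ 2 = 1 := by
    rw [hzb, ← QuotientGroup.mk_pow, hz2]; rfl
  have hzbc : ∀ q : G ⧸ N, q * zb = zb * q := by
    intro q
    obtain ⟨g, rfl⟩ := QuotientGroup.mk_surjective q
    have h1 : (g * z * g⁻¹) ^ 2 = 1 := by
      have : (g * z * g⁻¹) ^ 2 = g * z ^ 2 * g⁻¹ := by rw [pow_two, pow_two]; group
      rw [this, hz2]; group
    have h2 : g * z * g⁻¹ ≠ 1 := by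
      intro hh
      apply hz1
      have : z = g⁻¹ * (g * z * g⁻¹) * g := by group
      rw [this, hh]; group
    have h3 := hsame _ h1 h2
    rw [QuotientGroup.mk_mul, QuotientGroup.mk_mul, QuotientGroup.mk_inv, ← hzb] at h3
    have h4 : (QuotientGroup.mk g : G ⧸ N) * zb =
        ((QuotientGroup.mk g : G ⧸ N) * zb * (QuotientGroup.mk g : G ⧸ N)⁻¹) *
          (QuotientGroup.mk g : G ⧸ N) := by group
    rw [h4, h3]
  have hOQ : Ord4 (G ⧸ N) := hO.quotient N
  have hno3 : ∀ u : G ⧸ N, u ^ 3 = 1 → u = 1 := by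
    intro u hu3
    by_contra hu1
    have hc : Commute u zb := hzbc u
    have hu2 : u ^ 2 ≠ 1 := fun hh => hu1 (eq_one_of_pow_two_pow_three hh hu3)
    have hu4 : u ^ 4 ≠ 1 := fun hh => hu1 (eq_one_of_pow_four_pow_three hh hu3)
    have hzb3 : zb ^ 3 = zb := by rw [pow_succ, hzb2, one_mul]
    have hzb4 : zb ^ 4 = 1 := by rw [show 4 = 2 * 2 from rfl, pow_mul, hzb2, one_pow]
    rcases hOQ (u * zb) with h | h | h
    · rw [hc.mul_pow, hzb2, mul_one] at h; exact hu2 h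
    · rw [hc.mul_pow, hu3, one_mul, hzb3] at h; exact hzb1 h
    · rw [hc.mul_pow, hzb4, mul_one] at h; exact hu4 h
  have hQ4 : ∀ q : G ⧸ N, q ^ 4 = 1 := by
    intro q
    rcases hOQ q with h | h | h
    · rw [show 4 = 2 * 2 from rfl, pow_mul, h, one_pow]
    · rw [hno3 q h, one_pow]
    · exact h
  have hQ2 : IsPGroup 2 (G ⧸ N) := fun q => ⟨2, hQ4 q⟩
  have huniq : ∀ y : G ⧸ N, y ^ 2 = 1 → y ≠ 1 → y = zb := by
    intro yb hy2 hy1
    obtain ⟨y, rfl⟩ := QuotientGroup.mk_surjective yb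
    have hyN : y ∉ N := fun hh => hy1 ((QuotientGroup.eq_one_iff y).mpr hh)
    have hy2N : y ^ 2 ∈ N := by
      rw [← QuotientGroup.eq_one_iff, QuotientGroup.mk_pow]; exact hy2
    have hy1' : y ≠ 1 := fun hh => hyN (hh ▸ N.one_mem)
    have hyy : y ^ 2 = 1 := by
      rcases hO y with h | h | h
      · exact h
      · exfalso
        apply hy1
        refine eq_one_of_pow_two_pow_three hy2 ?_
        rw [← QuotientGroup.mk_pow, h]; rfl
      · have : (y ^ 2) ^ 2 = 1 := by rw [← pow_mul]; exact h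
        exact eq_one_of_mem_three_of_pow_two hN3 hy2N this
    rw [hzb]
    exact hsame y hyy hy1'
  have hamo : Cfsg.Agent.Lib.H22.AtMostOneOrderP 2 (G ⧸ N) := by
    have key : ∀ H : Subgroup (G ⧸ N), Nat.card H = 2 → H = Subgroup.zpowers zb := by
      intro H hH
      have hHne : H ≠ ⊥ := by
        intro hh; rw [hh, Subgroup.card_bot] at hH; omega
      obtain ⟨h, hhH, hh1⟩ := (Subgroup.ne_bot_iff_exists_ne_one.mp hHne : ∃ x : H, x ≠ 1)
        |> fun ⟨x, hx⟩ => (⟨(x : G ⧸ N), x.2, fun h' => hx (Subtype.ext h')⟩ :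
          ∃ x : G ⧸ N, x ∈ H ∧ x ≠ 1)
      have hh2 : h ^ 2 = 1 := by
        have := pow_card_eq_one' (G := H) (x := ⟨h, hhH⟩)
        rw [hH] at this
        have := congrArg Subtype.val this
        simpa using this
      have hhz := huniq h hh2 hh1
      have hle : Subgroup.zpowers zb ≤ H := by
        rw [Subgroup.zpowers_le, ← hhz]; exact hhH
      symm
      apply Subgroup.eq_of_le_of_card_ge hle
      rw [hH, Nat.card_zpowers, orderOf_eq_prime hzb2 hzb1]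
    intro H K hH hK
    rw [key H hH, key K hK]
  -- an element of order 4 in the quotient
  obtain ⟨gb, hgb⟩ : ∃ gb : G ⧸ N, gb = QuotientGroup.mk g4 := ⟨_, rfl⟩
  have hgb2 : gb ^ 2 ≠ 1 := by
    intro hh
    rw [hgb, ← QuotientGroup.mk_pow, QuotientGroup.eq_one_iff] at hh
    have : (g4 ^ 2) ^ 2 = 1 := by rw [← pow_mul]; exact hg44
    exact hg42 (eq_one_of_mem_three_of_pow_two hN3 hh this)
  rcases Cfsg.Agent.Lib.H22.cyclic_or_quaternion_of_atMostOne hQ2 hamo with hcyc | ⟨n, hn1, ⟨e⟩⟩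
  · left
    refine ⟨hcyc, ?_⟩
    rw [Subgroup.index_eq_card]
    obtain ⟨γ, hγ⟩ := IsCyclic.exists_generator (α := G ⧸ N)
    have hcard : orderOf γ = Nat.card (G ⧸ N) := orderOf_eq_card_of_forall_mem_zpowers hγ
    have hdvd : Nat.card (G ⧸ N) ∣ 4 := by
      rw [← hcard]; exact orderOf_dvd_of_pow_eq_one (hQ4 γ)
    have hle : Nat.card (G ⧸ N) ≤ 4 := Nat.le_of_dvd (by norm_num) hdvd
    have hne2 : ¬ Nat.card (G ⧸ N) ∣ 2 := by
      intro hh
      apply hgb2
      obtain ⟨j, hj⟩ := hh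
      rw [hj, pow_mul, pow_card_eq_one', one_pow]
    have hpos : Nat.card (G ⧸ N) ≠ 0 := Nat.card_pos.ne'
    obtain ⟨j, hj⟩ := hdvd
    by_contra hcon
    apply hne2
    have : Nat.card (G ⧸ N) = 1 ∨ Nat.card (G ⧸ N) = 2 := by
      have hj2 : 2 ≤ j := by
        by_contra hj2
        have : j = 0 ∨ j = 1 := by omega
        rcases this with h | h
        · rw [h] at hj; omega
        · rw [h] at hj; omega
      have : Nat.card (G ⧸ N) * j ≥ Nat.card (G ⧸ N) * 2 := Nat.mul_le_mul_left _ hj2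
      omega
    rcases this with h | h
    · rw [h]; exact one_dvd 2
    · rw [h]
  · right
    have h4 : (QuaternionGroup.a 1 : QuaternionGroup (2 ^ n)) ^ 4 = 1 := by
      have := hQ4 (e.symm (QuaternionGroup.a 1))
      rw [← map_pow] at this
      exact (MulEquiv.map_eq_one_iff e.symm).mp this
    have hdvd : 2 * 2 ^ n ∣ 4 := by
      rw [← QuaternionGroup.orderOf_a_one]; exact orderOf_dvd_of_pow_eq_one h4
    have hn : n = 1 := by
      by_contra hcon
      have hn2 : 2 ≤ n := by omega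
      have h8 : 2 * 2 ^ 2 ∣ 2 * 2 ^ n := Nat.mul_dvd_mul_left 2 (pow_dvd_pow 2 hn2)
      have := h8.trans hdvd
      norm_num at this
    subst hn
    exact ⟨e⟩

end

end Cfsg.Agent.Lib.H20.O4
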