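import Mathlib
import Cfsg.Agent.Lib.H20.Ord1234_5
import Cfsg.Agent.Lib.H20.Ord1234_6
import Cfsg.Agent.Lib.H23.BurnsidePQ

set_option autoImplicit false

/-!
# Groups with element orders exactly 1, 2, 3, 4: assembling the cases
-/

namespace Cfsg.Agent.Lib.H20.O4

section

variable {G : Type*} [Group G]

theorem Ord4.card_eq [Finite G] (hO : Ord4 G) : ∃ a b : ℕ, Nat.card G = 2 ^ a * 3 ^ b := by
  have : Fact (Nat.Prime 2) := ⟨Nat.prime_two⟩
  obtain ⟨P⟩ : Nonempty (Sylow 2 G) := inferInstance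
  have h0 : (P : Subgroup G).index ≠ 0 := Subgroup.index_ne_zero_of_finite
  have h2 : ¬ 2 ∣ (P : Subgroup G).index := P.not_dvd_index
  have hpow := Nat.eq_prime_pow_of_unique_prime_dvd (p := 3) h0 (by
    intro d hd hdvd
    rcases hO.prime_dvd_card hd (hdvd.trans (Subgroup.index_dvd_card _)) with h | h
    · exfalso; exact h2 (h ▸ hdvd)
    · exact h)
  obtain ⟨m, hm⟩ := IsPGroup.iff_card.mp P.isPGroup'
  refine ⟨m, (P : Subgroup G).index.primeFactorsList.length, ?_⟩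
  rw [← (P : Subgroup G).card_mul_index, hm, ← hpow]

theorem Ord4.isSolvable [Finite G] (hO : Ord4 G) : Group.IsSolvable G := by
  obtain ⟨a, b, hab⟩ := hO.card_eq
  exact Cfsg.Agent.Lib.H23.isSolvable_of_card_eq_prime_pow_mul_prime_pow 2 3 a b Nat.prime_two
    Nat.prime_three hab

/-- the case `O_2(G) ≠ 1` -/
theorem caseB [Finite G] (hO : Ord4 G) {K : Subgroup G} [hKn : K.Normal] (hK2 : IsPGroup 2 K)
    (hK1 : K ≠ ⊥) {x3 : G} (hx31 : x3 ≠ 1) (hx33 : x3 ^ 3 = 1) {g4 : G} (hg4 : orderOf g4 = 4) :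
    ∃ (N : Subgroup G) (_ : N.Normal),
      (IsPGroup 2 ↥N ∧ Monoid.exponent ↥N = 4 ∧ Group.nilpotencyClass ↥N ≤ 2 ∧ N.index = 3) ∨
      ((∀ a ∈ N, a ^ 2 = 1) ∧ Nonempty (G ⧸ N ≃* Equiv.Perm (Fin 3))) := by
  have : Fact (Nat.Prime 2) := ⟨Nat.prime_two⟩
  have : Fact (Nat.Prime 3) := ⟨Nat.prime_three⟩
  -- the centre of K
  obtain ⟨V, hVdef⟩ : ∃ V, V = K ⊓ Subgroup.centralizer (K : Set G) := ⟨_, rfl⟩
  haveI hVn : V.Normal := by rw [hVdef]; infer_instance
  have hV2 : IsPGroup 2 V := by rw [hVdef]; exact hK2.to_le inf_le_left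
  have hVc : ∀ u ∈ V, ∀ w ∈ V, u * w = w * u := by
    intro u hu w hw
    rw [hVdef] at hu hw
    have h1 := (Subgroup.mem_centralizer_iff.mp hu.2) w hw.1
    exact h1.symm
  have hV1 : V ≠ ⊥ := by
    haveI : Nontrivial K := by
      rw [Subgroup.nontrivial_iff_ne_bot]; exact hK1
    haveI := hK2.center_nontrivial
    obtain ⟨c, hc⟩ := exists_ne (1 : Subgroup.center K)
    intro hbot
    apply hc
    have hmem : ((c : K) : G) ∈ V := by
      rw [hVdef]
      refine ⟨(c : K).2, ?_⟩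
      show ((c : K) : G) ∈ Subgroup.centralizer (K : Set G)
      rw [Subgroup.mem_centralizer_iff]
      intro k hk
      have h1 := Subgroup.mem_center_iff.mp c.2 ⟨k, hk⟩
      exact congrArg Subtype.val h1
    rw [hbot, Subgroup.mem_bot] at hmem
    apply Subtype.ext
    apply Subtype.ext
    exact hmem
  obtain ⟨R⟩ : Nonempty (Sylow 3 G) := inferInstance
  have h3G : 3 ∣ Nat.card G := by
    rw [← orderOf_eq_prime hx33 hx31]; exact orderOf_dvd_natCard x3
  have hR := card_sylow_three hO V hV2 hVc hV1 R (R.ne_bot_of_dvd_card h3G)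
  obtain ⟨N, hNn, hN2, hcase⟩ := exists_normal_two_subgroup hO R hR
  refine ⟨N, hNn, ?_⟩
  have hx3N : x3 ∉ N := fun hh => hx31 (eq_one_of_mem_two_of_pow_three hN2 hh hx33)
  rcases hcase with hidx | ⟨⟨φ⟩⟩
  · left
    refine ⟨hN2, ?_, nilpotencyClass_le_two hO N hN2 hx3N hx33, hidx⟩
    have hg44 : g4 ^ 4 = 1 := by rw [← hg4]; exact pow_orderOf_eq_one g4
    have hg4N : g4 ∈ N := by
      rw [← QuotientGroup.eq_one_iff]
      have h3 : (QuotientGroup.mk g4 : G ⧸ N) ^ 3 = 1 := by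
        have := pow_card_eq_one' (G := G ⧸ N) (x := QuotientGroup.mk g4)
        rwa [← Subgroup.index_eq_card, hidx] at this
      have h4 : (QuotientGroup.mk g4 : G ⧸ N) ^ 4 = 1 := by
        rw [← QuotientGroup.mk_pow, hg44]; rfl
      exact eq_one_of_pow_four_pow_three h4 h3
    apply Nat.dvd_antisymm
    · apply Monoid.exponent_dvd_of_forall_pow_eq_one
      intro n
      exact Subtype.ext (hO.pow_four_of_isPGroup hN2 n.2)
    · have h1 : orderOf (⟨g4, hg4N⟩ : N) = 4 := by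
        rw [← hg4]; exact Subgroup.orderOf_mk g4 hg4N
      rw [← h1]; exact Monoid.order_dvd_exponent _
  · right
    exact ⟨sq_eq_one_of_quot_S3 hO N hN2 φ, ⟨φ⟩⟩

end

end Cfsg.Agent.Lib.H20.O4
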