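import Mathlib

set_option autoImplicit false

/-!
# Two general counting lemmas

* saturated sets and quotients;
* fixed-point congruence for invariant subsets.
-/

namespace Cfsg.Agent.Lib.H20.OrdCnt

variable {G : Type*} [Group G]

/-- A set saturated under left multiplication by a normal subgroup `N` has `|N|` times as many
elements as its image in `G ⧸ N`. -/
theorem card_eq_mul_card_image [Finite G] (N : Subgroup G) [N.Normal] (S : Set G)
    (hS : ∀ x ∈ S, ∀ u ∈ N, u * x ∈ S) :
    Nat.card S = Nat.card N * Nat.card ((QuotientGroup.mk : G → G ⧸ N) '' S) := by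
  have hpre : S = (QuotientGroup.mk : G → G ⧸ N) ⁻¹' ((QuotientGroup.mk : G → G ⧸ N) '' S) := by
    ext x'
    constructor
    · intro h; exact ⟨x', h, rfl⟩
    · rintro ⟨x, hx, hxx⟩
      rw [QuotientGroup.eq] at hxx
      -- `x⁻¹ * x' ∈ N`
      have h1 : x' = (x * (x⁻¹ * x') * x⁻¹) * x := by group
      rw [h1]
      exact hS x hx _ (Subgroup.Normal.conj_mem inferInstance _ hxx x)
  have h2 := Nat.card_congr (QuotientGroup.preimageMkEquivSubgroupProdSet N
    ((QuotientGroup.mk : G → G ⧸ N) '' S))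
  rw [← hpre, Nat.card_prod] at h2
  exact h2

/-- Fixed-point congruence relative to invariant subsets: if `S ⊆ A` are invariant under a
`p`-group `Q` and `S` contains every fixed point in `A`, then `|A| ≡ |S| (mod p)`. -/
theorem card_modEq_card_of_fixed_mem {Q α : Type*} [Group Q] [MulAction Q α] [Finite α] {p : ℕ}
    [Fact p.Prime] (hQ : IsPGroup p Q) (A S : Set α) (hSA : S ⊆ A)
    (hA : ∀ q : Q, ∀ a ∈ A, q • a ∈ A) (hS : ∀ q : Q, ∀ a ∈ S, q • a ∈ S)
    (hfix : ∀ a ∈ A, (∀ q : Q, q • a = a) → a ∈ S) :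
    Nat.card A ≡ Nat.card S [MOD p] := by
  classical
  let D : SubMulAction Q α :=
    { carrier := A \ S
      smul_mem' := by
        intro q a ha
        refine ⟨hA q a ha.1, fun h => ha.2 ?_⟩
        have := hS q⁻¹ _ h
        rwa [inv_smul_smul] at this }
  have h1 := hQ.card_modEq_card_fixedPoints (↥D)
  have h2 : IsEmpty (MulAction.fixedPoints Q ↥D) := by
    constructor
    rintro ⟨⟨a, ha⟩, hfa⟩
    apply ha.2
    apply hfix a ha.1
    intro q
    have := hfa q
    exact congrArg Subtype.val this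
  have h3 : Nat.card (MulAction.fixedPoints Q ↥D) = 0 := by
    rw [Nat.card_eq_zero]; left; exact h2
  rw [h3] at h1
  have h4 : Nat.card ↥D = (A \ S).ncard := by
    rw [← _root_.Nat.card_coe_set_eq]; rfl
  have h5 : (A \ S).ncard + S.ncard = A.ncard :=
    Set.ncard_sdiff_add_ncard_of_subset hSA (Set.toFinite A)
  rw [_root_.Nat.card_coe_set_eq, _root_.Nat.card_coe_set_eq, ← h5]
  rw [h4] at h1
  have : (A \ S).ncard + S.ncard ≡ 0 + S.ncard [MOD p] := Nat.ModEq.add_right _ h1
  rwa [zero_add] at this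

end Cfsg.Agent.Lib.H20.OrdCnt
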