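import Mathlib
import Cfsg.Agent.Lib.H16.OmegaQuotA
import Cfsg.Agent.Lib.H16.RkOmegaA
import Cfsg.Agent.Lib.H16.ClassTwo
import Cfsg.Agent.Lib.H20.OrderCount1
import Cfsg.Agent.Lib.H20.OrderCount2

set_option autoImplicit false

/-!
# Miller's theorem for `p`-groups

In a non-cyclic `p`-group, `p` odd, the number of elements of order `p ^ s` (`s ≥ 2`) is divisible
by `p ^ s`, and the number of cyclic subgroups of order `p ^ s` is divisible by `p`.
-/

namespace Cfsg.Agent.Lib.H20.OrdCnt

open Cfsg.Agent.Lib.H16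

variable {P : Type*} [Group P] [Finite P] {p : ℕ} [hp : Fact p.Prime]

/-- A subgroup of the center is normal. -/
theorem normal_of_le_center' {G : Type*} [Group G] (H : Subgroup G)
    (h : H ≤ Subgroup.center G) : H.Normal := by
  constructor
  intro n hn g
  have : g * n * g⁻¹ = n := by
    rw [(Subgroup.mem_center_iff.mp (h hn) g), mul_inv_cancel_right]
  rw [this]; exact hn

/-- Commutators of a normal subgroup of order `p ^ 2` with the `p`-group are central. -/
theorem comm_central_of_normal_sq (hP : IsPGroup p P) (U : Subgroup P) [U.Normal]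
    (hUcard : Nat.card U = p ^ 2) {u : P} (hu : u ∈ U) (x : P) :
    x⁻¹ * u⁻¹ * x * u ∈ Subgroup.center P := by
  have hUne : U ≠ ⊥ := by
    intro h
    rw [h, Subgroup.card_bot] at hUcard
    have := Nat.one_lt_pow (n := 2) (by norm_num) hp.out.one_lt
    omega
  obtain ⟨z, hzU, hzc, hzo⟩ := OmegaQuot.exists_central_prime_order hP U hUne
  have hZle : Subgroup.zpowers z ≤ Subgroup.center P := by
    rw [Subgroup.zpowers_le]; exact hzc
  haveI hZn : (Subgroup.zpowers z).Normal := normal_of_le_center' _ hZle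
  have hZU : Subgroup.zpowers z ≤ U := by rw [Subgroup.zpowers_le]; exact hzU
  have hZcard : Nat.card (Subgroup.zpowers z) = p := by rw [Nat.card_zpowers, hzo]
  -- the image of `U` in the quotient has order `p`
  set π := QuotientGroup.mk' (Subgroup.zpowers z) with hπ
  have hπs : Function.Surjective π := QuotientGroup.mk'_surjective _
  haveI : (U.map π).Normal := Subgroup.Normal.map inferInstance π hπs
  have hidx : (U.map π).index = U.index := by
    rw [Subgroup.index_map, MonoidHom.range_eq_top.mpr hπs, Subgroup.index_top, mul_one,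
      QuotientGroup.ker_mk', sup_eq_left.mpr hZU]
  have hcardq : Nat.card (P ⧸ Subgroup.zpowers z) * p = Nat.card P := by
    rw [← hZcard]
    exact (Subgroup.card_eq_card_quotient_mul_card_subgroup (Subgroup.zpowers z)).symm
  have hUbar : Nat.card (U.map π) = p := by
    have h1 : Nat.card (U.map π) * (U.map π).index = Nat.card (P ⧸ Subgroup.zpowers z) :=
      Subgroup.card_mul_index _
    have h2 : Nat.card U * U.index = Nat.card P := Subgroup.card_mul_index _
    rw [hidx] at h1
    rw [hUcard] at h2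
    have h3 : Nat.card (U.map π) * U.index * p = p ^ 2 * U.index := by
      rw [h1, hcardq, h2]
    have hpos : 0 < U.index := Nat.pos_of_ne_zero Subgroup.index_ne_zero_of_finite
    have h4 : Nat.card (U.map π) * (U.index * p) = p * (U.index * p) := by
      rw [← mul_assoc, h3]; ring
    exact Nat.eq_of_mul_eq_mul_right (Nat.mul_pos hpos hp.out.pos) h4
  have hcen := RkOmega.central_of_normal_card_prime (hP.to_quotient (Subgroup.zpowers z))
    (U.map π) hUbar
  have hπu : π u ∈ Subgroup.center (P ⧸ Subgroup.zpowers z) :=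
    hcen (Subgroup.mem_map_of_mem π hu)
  have h5 : π (x⁻¹ * u⁻¹ * x * u) = 1 := by
    rw [map_mul, map_mul, map_mul, map_inv, map_inv]
    have := Subgroup.mem_center_iff.mp hπu (π x)
    calc (π x)⁻¹ * (π u)⁻¹ * π x * π u = (π x)⁻¹ * (π u)⁻¹ * (π x * π u) := by group
      _ = (π x)⁻¹ * (π u)⁻¹ * (π u * π x) := by rw [this]
      _ = 1 := by group
  have h6 : x⁻¹ * u⁻¹ * x * u ∈ Subgroup.zpowers z := by
    rw [← QuotientGroup.ker_mk' (Subgroup.zpowers z), MonoidHom.mem_ker]
    exact h5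
  exact hZle h6

/-- Multiplying by an element of a normal elementary abelian subgroup of order `p ^ 2` does not
change `p`-th powers (`p` odd). -/
theorem mul_pow_prime_of_normal_sq (hp2 : p ≠ 2) (hP : IsPGroup p P) (U : Subgroup P) [U.Normal]
    (hUc : ∀ a ∈ U, ∀ b ∈ U, a * b = b * a) (hUe : ∀ a ∈ U, a ^ p = 1)
    (hUcard : Nat.card U = p ^ 2) {u : P} (hu : u ∈ U) (x : P) : (u * x) ^ p = x ^ p := by
  set c := x⁻¹ * u⁻¹ * x * u with hc
  have hcen := comm_central_of_normal_sq hP U hUcard hu x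
  have hcU : c ∈ U := by
    have h1 : x⁻¹ * u⁻¹ * x ∈ U := by
      have := Subgroup.Normal.conj_mem (inferInstance : U.Normal) u⁻¹ (U.inv_mem hu) x⁻¹
      rwa [inv_inv] at this
    exact U.mul_mem h1 hu
  have hrel : x * u = u * x * c := by rw [hc]; group
  have hcu : Commute c u := hUc c hcU u hu
  have hcx : Commute c x := (Subgroup.mem_center_iff.mp hcen x).symm
  rw [mul_pow_of_central hrel hcu hcx p, hUe u hu, one_mul]
  have hodd : Odd p := hp.out.odd_of_ne_two hp2
  obtain ⟨k, hk⟩ := hodd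
  have : p * (p - 1) / 2 = p * k := by
    rw [hk]
    have : (2 * k + 1) * (2 * k + 1 - 1) = 2 * ((2 * k + 1) * k) := by
      simp; ring
    rw [this, Nat.mul_div_cancel_left _ (by norm_num : 0 < 2)]
  rw [this, pow_mul, hUe c hcU, one_pow, mul_one]

theorem pow_div_self' {q s : ℕ} (hq : 0 < q) (hs : 0 < s) : q ^ s / q = q ^ (s - 1) := by
  obtain ⟨j, rfl⟩ : ∃ j, s = j + 1 := ⟨s - 1, by omega⟩
  rw [pow_succ, Nat.mul_div_cancel _ hq, Nat.add_sub_cancel]

/-- In a `p`-group, if `g ^ p = x ^ p` and `x` has order `p ^ s` with `s ≥ 2`, so has `g`. -/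
theorem orderOf_eq_of_pow_prime_eq (hP : IsPGroup p P) {g x : P} (hgx : g ^ p = x ^ p) {s : ℕ}
    (hx : orderOf x = p ^ s) (hs : 2 ≤ s) : orderOf g = p ^ s := by
  have hp0 : p ≠ 0 := hp.out.ne_zero
  have h1 : orderOf (x ^ p) = p ^ (s - 1) := by
    rw [orderOf_pow_of_dvd hp0 (by rw [hx]; exact dvd_pow_self p (by omega)), hx,
      pow_div_self' hp.out.pos (by omega)]
  obtain ⟨k, hk⟩ := (IsPGroup.iff_orderOf.mp hP) g
  rcases Nat.eq_zero_or_pos k with hk0 | hkpos
  · exfalso
    rw [hk0, pow_zero, orderOf_eq_one_iff] at hk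
    rw [← hgx, hk, one_pow, orderOf_one] at h1
    have : 1 < p ^ (s - 1) := Nat.one_lt_pow (by omega) hp.out.one_lt
    omega
  · have h2 : orderOf (g ^ p) = p ^ (k - 1) := by
      rw [orderOf_pow_of_dvd hp0 (by rw [hk]; exact dvd_pow_self p (by omega)), hk,
        pow_div_self' hp.out.pos hkpos]
    rw [hgx, h1] at h2
    have h3 : s - 1 = k - 1 := Nat.pow_right_injective hp.out.two_le h2
    rw [hk]
    congr 1
    omega

/-- The image in `P ⧸ U` of an element of order `p ^ s` has order `p ^ t` with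
`s - 1 ≤ t ≤ s`, when `U` has exponent `p`. -/
theorem exists_orderOf_mk_eq (U : Subgroup P) [U.Normal] (hUe : ∀ a ∈ U, a ^ p = 1) {x : P}
    {s : ℕ} (hx : orderOf x = p ^ s) :
    ∃ t, orderOf (QuotientGroup.mk x : P ⧸ U) = p ^ t ∧ t ≤ s ∧ s ≤ t + 1 := by
  have h1 : orderOf (QuotientGroup.mk x : P ⧸ U) ∣ p ^ s := by
    rw [← hx]
    exact orderOf_map_dvd (QuotientGroup.mk' U) x
  obtain ⟨t, hts, ht⟩ := (Nat.dvd_prime_pow hp.out).mp h1
  refine ⟨t, ht, hts, ?_⟩
  have h2 : (QuotientGroup.mk x : P ⧸ U) ^ (p ^ t) = 1 := by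
    rw [← ht]; exact pow_orderOf_eq_one _
  rw [← QuotientGroup.mk_pow, QuotientGroup.eq_one_iff] at h2
  have h3 := hUe _ h2
  rw [← pow_mul, ← pow_succ] at h3
  have h4 : p ^ s ∣ p ^ (t + 1) := by
    rw [← hx]; exact orderOf_dvd_of_pow_eq_one h3
  exact (Nat.pow_dvd_pow_iff_le_right hp.out.one_lt).mp h4

/-- **Miller's theorem** for `p`-groups, elements: in a non-cyclic `p`-group with `p` odd the
number of elements of order `p ^ s`, `s ≥ 2`, is divisible by `p ^ s`. -/
theorem pow_dvd_card_orderOf_of_not_isCyclic (hp2 : p ≠ 2) (hP : IsPGroup p P)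
    (hnc : ¬ IsCyclic P) {s : ℕ} (hs : 2 ≤ s) :
    p ^ s ∣ Nat.card {x : P // orderOf x = p ^ s} := by
  obtain ⟨U, hUn, hUc, hUe, hUcard⟩ := OmegaQuot.exists_normal_sq_of_not_cyclic hp2 hP hnc
  haveI := hUn
  set E : Set P := {x | orderOf x = p ^ s} with hE
  have hsat : ∀ x ∈ E, ∀ u ∈ U, u * x ∈ E := by
    intro x hx u hu
    rw [hE, Set.mem_ofPred_eq] at hx ⊢
    exact orderOf_eq_of_pow_prime_eq hP
      (mul_pow_prime_of_normal_sq hp2 hP U hUc hUe hUcard hu x) hx hs
  have h1 := card_eq_mul_card_image U E hsat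
  have h2 : p ^ (s - 2) ∣ Nat.card ((QuotientGroup.mk : P → P ⧸ U) '' E) := by
    apply dvd_card_of_gen_closed
    · rintro _ ⟨x, hx, rfl⟩ y' hy'
      rw [hE, Set.mem_ofPred_eq] at hx
      obtain ⟨t, ht, hts, hst⟩ := exists_orderOf_mk_eq U hUe hx
      have hmem : y' ∈ Subgroup.zpowers (QuotientGroup.mk x : P ⧸ U) := by
        rw [← hy']; exact Subgroup.mem_zpowers y'
      rw [← (isOfFinOrder_of_finite _).mem_powers_iff_mem_zpowers,
        Submonoid.mem_powers_iff] at hmem
      obtain ⟨k, rfl⟩ := hmem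
      refine ⟨x ^ k, ?_, QuotientGroup.mk_pow U x k⟩
      rw [hE, Set.mem_ofPred_eq]
      -- `k` is prime to `p`
      have ho : orderOf ((QuotientGroup.mk x : P ⧸ U) ^ k) = orderOf (QuotientGroup.mk x : P ⧸ U) := by
        rw [← Nat.card_zpowers, hy', Nat.card_zpowers]
      rw [orderOf_pow, ht] at ho
      have hgcd : (p ^ t).gcd k = 1 := by
        have hpos : 0 < p ^ t := pow_pos hp.out.pos t
        rcases (Nat.div_eq_self.mp ho) with h | h
        · omega
        · exact h
      have hpk : ¬ p ∣ k := by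
        intro hpk
        have : p ∣ (p ^ t).gcd k := Nat.dvd_gcd (dvd_pow_self p (by omega)) hpk
        rw [hgcd] at this
        exact hp.out.one_lt.ne' (Nat.dvd_one.mp this)
      rw [orderOf_pow, hx]
      have : (p ^ s).gcd k = 1 :=
        Nat.Coprime.pow_left s ((Nat.Prime.coprime_iff_not_dvd hp.out).mpr hpk)
      rw [this, Nat.div_one]
    · rintro _ ⟨x, hx, rfl⟩
      rw [hE, Set.mem_ofPred_eq] at hx
      obtain ⟨t, ht, hts, hst⟩ := exists_orderOf_mk_eq U hUe hx
      rw [ht, Nat.totient_prime_pow hp.out (by omega)]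
      exact Dvd.dvd.mul_right (pow_dvd_pow p (by omega)) _
  have h3 : Nat.card {x : P // orderOf x = p ^ s} = Nat.card E := rfl
  rw [h3, h1, hUcard]
  have : p ^ s = p ^ 2 * p ^ (s - 2) := by rw [← pow_add]; congr 1; omega
  rw [this]
  exact Nat.mul_dvd_mul_left _ h2

/-- **Miller's theorem** for `p`-groups, cyclic subgroups. -/
theorem prime_dvd_card_cyclic_of_not_isCyclic (hp2 : p ≠ 2) (hP : IsPGroup p P)
    (hnc : ¬ IsCyclic P) {s : ℕ} (hs : 2 ≤ s) :
    p ∣ Nat.card {T : Subgroup P // IsCyclic T ∧ Nat.card T = p ^ s} := by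
  have h1 := pow_dvd_card_orderOf_of_not_isCyclic hp2 hP hnc hs
  rw [card_orderOf_eq_totient_mul, Nat.totient_prime_pow hp.out (by omega)] at h1
  generalize Nat.card {T : Subgroup P // IsCyclic T ∧ Nat.card T = p ^ s} = c at h1 ⊢
  have h2 : p ^ s = p ^ (s - 1) * p := by rw [← pow_succ]; congr 1; omega
  rw [h2, mul_assoc] at h1
  have h3 := Nat.dvd_of_mul_dvd_mul_left (pow_pos hp.out.pos (s - 1)) h1
  have hcop : Nat.Coprime p (p - 1) := by
    rw [Nat.coprime_comm]
    apply Nat.Coprime.symm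
    rw [Nat.Prime.coprime_iff_not_dvd hp.out]
    intro h
    have := Nat.le_of_dvd (by have := hp.out.one_lt; omega) h
    have := hp.out.one_lt
    omega
  exact hcop.dvd_of_dvd_mul_left h3

end Cfsg.Agent.Lib.H20.OrdCnt
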