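import Mathlib
import Cfsg.Agent.Lib.H20.OrderCount3

set_option autoImplicit false

/-!
# Miller's theorem for groups with a non-cyclic Sylow `p`-subgroup (`p` odd), `p`-elements
-/

namespace Cfsg.Agent.Lib.H20.OrdCnt

variable {H : Type*} [Group H]

/-- The conjugation action of a subgroup on the set of all subgroups. -/
@[reducible] def conjSubgroupAction (Q : Subgroup H) : MulAction Q (Subgroup H) where
  smul q T := T.map (MulAut.conj (q : H)).toMonoidHom
  one_smul T := by
    change T.map (MulAut.conj ((1 : Q) : H)).toMonoidHom = T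
    rw [Subgroup.coe_one, map_one]
    exact Subgroup.map_id T
  mul_smul q q' T := by
    change T.map (MulAut.conj ((q * q' : Q) : H)).toMonoidHom =
      (T.map (MulAut.conj (q' : H)).toMonoidHom).map (MulAut.conj (q : H)).toMonoidHom
    rw [Subgroup.map_map, Subgroup.coe_mul, map_mul]
    rfl

theorem isCyclic_map_conj (T : Subgroup H) (g : H) [IsCyclic T] :
    IsCyclic (T.map (MulAut.conj g).toMonoidHom) := by
  have e := Subgroup.equivMapOfInjective T (MulAut.conj g).toMonoidHom (MulAut.conj g).injective
  exact isCyclic_of_surjective e.toMonoidHom e.surjective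

theorem card_map_conj (T : Subgroup H) (g : H) :
    Nat.card (T.map (MulAut.conj g).toMonoidHom) = Nat.card T :=
  Subgroup.card_map_of_injective (MulAut.conj g).injective

/-- Cyclic subgroups of order `d` of a subgroup `Q`, viewed inside the big group. -/
noncomputable def cyclicSubEquiv (Q : Subgroup H) (d : ℕ) :
    {T' : Subgroup Q // IsCyclic T' ∧ Nat.card T' = d} ≃
      {T : Subgroup H // T ≤ Q ∧ IsCyclic T ∧ Nat.card T = d} where
  toFun T' := ⟨T'.1.map Q.subtype, Subgroup.map_subtype_le _, by
      haveI := T'.2.1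
      have e := Subgroup.equivMapOfInjective T'.1 Q.subtype Q.subtype_injective
      exact isCyclic_of_surjective e.toMonoidHom e.surjective, by
      rw [Subgroup.card_map_of_injective Q.subtype_injective]; exact T'.2.2⟩
  invFun T := ⟨T.1.subgroupOf Q, by
      haveI := T.2.2.1
      have e := (Subgroup.subgroupOfEquivOfLe T.2.1).symm
      exact isCyclic_of_surjective e.toMonoidHom e.surjective, by
      rw [Nat.card_congr (Subgroup.subgroupOfEquivOfLe T.2.1).toEquiv]; exact T.2.2.2⟩
  left_inv T' := by
    apply Subtype.ext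
    exact Subgroup.comap_map_eq_self_of_injective Q.subtype_injective T'.1
  right_inv T := by
    apply Subtype.ext
    exact Subgroup.map_subgroupOf_eq_of_le T.2.1

variable [Finite H] {p : ℕ} [hp : Fact p.Prime]

/-- The number of cyclic subgroups of order `p ^ s` is congruent mod `p` to the number of those
inside a fixed Sylow `p`-subgroup. -/
theorem card_cyclic_modEq (Q : Sylow p H) (s : ℕ) :
    Nat.card {T : Subgroup H // IsCyclic T ∧ Nat.card T = p ^ s} ≡
      Nat.card {T' : Subgroup (Q : Subgroup H) // IsCyclic T' ∧ Nat.card T' = p ^ s} [MOD p] := by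
  letI := conjSubgroupAction (Q : Subgroup H)
  have hsmul : ∀ (q : (Q : Subgroup H)) (T : Subgroup H),
      q • T = T.map (MulAut.conj (q : H)).toMonoidHom := fun q T => rfl
  have key := card_modEq_card_of_fixed_mem (Q := (Q : Subgroup H)) (α := Subgroup H) (p := p)
    Q.isPGroup' {T : Subgroup H | IsCyclic T ∧ Nat.card T = p ^ s}
    {T : Subgroup H | T ≤ Q ∧ IsCyclic T ∧ Nat.card T = p ^ s}
    (fun T hT => hT.2)
    (by
      rintro q T ⟨hc, hcard⟩
      rw [hsmul]
      exact ⟨isCyclic_map_conj T q, by rw [card_map_conj]; exact hcard⟩)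
    (by
      rintro q T ⟨hle, hc, hcard⟩
      rw [hsmul]
      refine ⟨?_, isCyclic_map_conj T q, by rw [card_map_conj]; exact hcard⟩
      rintro _ ⟨t, ht, rfl⟩
      change (q : H) * t * (q : H)⁻¹ ∈ (Q : Subgroup H)
      exact Subgroup.mul_mem _ (Subgroup.mul_mem _ q.2 (hle ht)) (Subgroup.inv_mem _ q.2))
    (by
      rintro T ⟨hc, hcard⟩ hfix
      refine ⟨?_, hc, hcard⟩
      have hTp : IsPGroup p T := IsPGroup.of_card hcard
      have hnorm : (Q : Subgroup H) ≤ Subgroup.normalizer (T : Set H) := by
        intro q hq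
        have h1 := hfix ⟨q, hq⟩
        rw [hsmul] at h1
        rw [Subgroup.mem_normalizer_iff]
        intro h
        constructor
        · intro hh
          rw [← h1]
          exact ⟨h, hh, rfl⟩
        · intro hh
          rw [← h1] at hh
          obtain ⟨t, ht, hteq⟩ := hh
          have : t = h := by
            have h2 : (q : H) * t * (q : H)⁻¹ = q * h * q⁻¹ := hteq
            exact mul_left_cancel (mul_right_cancel h2)
          rw [← this]; exact ht
      have hsup := IsPGroup.to_sup_of_normal_left' hTp Q.isPGroup' hnorm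
      have := Q.is_maximal' hsup le_sup_right
      rw [← this]
      exact le_sup_left)
  have h2 : Nat.card {T' : Subgroup (Q : Subgroup H) // IsCyclic T' ∧ Nat.card T' = p ^ s} =
      Nat.card ↥{T : Subgroup H | T ≤ Q ∧ IsCyclic T ∧ Nat.card T = p ^ s} :=
    Nat.card_congr (cyclicSubEquiv (Q : Subgroup H) (p ^ s))
  rw [h2]
  exact key

/-- **Miller's theorem** for `p`-elements: if the Sylow `p`-subgroups of `H` are not cyclic, `p` odd,
the number of elements of order `p ^ s`, `s ≥ 2`, is divisible by `p ^ s`. -/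
theorem pow_dvd_card_orderOf_of_sylow (hp2 : p ≠ 2) (Q : Sylow p H)
    (hnc : ¬ IsCyclic (Q : Subgroup H)) {s : ℕ} (hs : 2 ≤ s) :
    p ^ s ∣ Nat.card {x : H // orderOf x = p ^ s} := by
  have h1 := card_cyclic_modEq Q s
  have h2 := prime_dvd_card_cyclic_of_not_isCyclic hp2 Q.isPGroup' hnc hs
  have h3 : p ∣ Nat.card {T : Subgroup H // IsCyclic T ∧ Nat.card T = p ^ s} := by
    rw [Nat.dvd_iff_mod_eq_zero] at h2 ⊢
    rw [h1, h2]
  rw [card_orderOf_eq_totient_mul, Nat.totient_prime_pow hp.out (by omega)]
  obtain ⟨c, hc⟩ := h3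
  rw [hc]
  have : p ^ s = p ^ (s - 1) * p := by rw [← pow_succ]; congr 1; omega
  rw [this]
  exact ⟨(p - 1) * c, by ring⟩

end Cfsg.Agent.Lib.H20.OrdCnt
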