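import Mathlib
import Cfsg.Agent.Lib.H20.OrderCount4
import Cfsg.Agent.Lib.H20.FrobeniusDiv

set_option autoImplicit false

/-!
# Miller's theorem: elements of order `p ^ s * m`
-/

namespace Cfsg.Agent.Lib.H20.OrdCnt

open Finset

variable {G : Type*} [Group G]

/-- A subgroup of index prime to `p` has Sylow `p`-subgroups isomorphic to those of `G`; in
particular they are non-cyclic if those of `G` are. -/
theorem sylow_not_isCyclic_of_not_dvd_index [Finite G] {p : ℕ} [hp : Fact p.Prime] (P : Sylow p G)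
    (hP : ¬ IsCyclic (P : Subgroup G)) (C : Subgroup G) (hC : ¬ p ∣ C.index) (Q' : Sylow p C) :
    ¬ IsCyclic (Q' : Subgroup C) := by
  intro hcyc
  apply hP
  have hfac : (Nat.card C).factorization p = (Nat.card G).factorization p := by
    have h1 : Nat.card C * C.index = Nat.card G := Subgroup.card_mul_index C
    rw [← h1, Nat.factorization_mul Nat.card_pos.ne' Subgroup.index_ne_zero_of_finite]
    simp [Nat.factorization_eq_zero_of_not_dvd hC]
  have hcard : Nat.card ((Q' : Subgroup C).map C.subtype) = p ^ (Nat.card G).factorization p := by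
    rw [Subgroup.card_map_of_injective C.subtype_injective, Q'.card_eq_multiplicity, hfac]
  let P' : Sylow p G := Sylow.ofCard ((Q' : Subgroup C).map C.subtype) hcard
  have e1 : (P : Subgroup G) ≃* (P' : Subgroup G) := Sylow.equiv P P'
  have e2 : (Q' : Subgroup C) ≃* ((Q' : Subgroup C).map C.subtype) :=
    Subgroup.equivMapOfInjective _ C.subtype C.subtype_injective
  have e3 : (Q' : Subgroup C) ≃* (P : Subgroup G) := e2.trans e1.symm
  exact isCyclic_of_surjective e3.toMonoidHom e3.surjective

/-- Orders of commuting elements with coprime exponents. -/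
theorem orderOf_mul_eq_iff {a b : ℕ} (hab : a.Coprime b) (ha : 0 < a) (hb : 0 < b) {u v : G}
    (hu : u ^ a = 1) (hv : v ^ b = 1) (hc : Commute u v) :
    orderOf (u * v) = b * a ↔ orderOf u = a ∧ orderOf v = b := by
  have hua : orderOf u ∣ a := orderOf_dvd_of_pow_eq_one hu
  have hvb : orderOf v ∣ b := orderOf_dvd_of_pow_eq_one hv
  have hco : (orderOf u).Coprime (orderOf v) := Nat.Coprime.coprime_dvd_left hua
    (Nat.Coprime.coprime_dvd_right hvb hab)
  rw [hc.orderOf_mul_eq_mul_orderOf_of_coprime hco]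
  constructor
  · intro h
    have h1 : orderOf u ≤ a := Nat.le_of_dvd ha hua
    have h2 : orderOf v ≤ b := Nat.le_of_dvd hb hvb
    have hu0 : 0 < orderOf u := Nat.pos_of_dvd_of_pos hua ha
    have hv0 : 0 < orderOf v := Nat.pos_of_dvd_of_pos hvb hb
    by_contra hcon
    rw [not_and_or] at hcon
    rcases hcon with h3 | h3
    · have : orderOf u < a := lt_of_le_of_ne h1 h3
      have : orderOf u * orderOf v < a * b :=
        Nat.mul_lt_mul_of_lt_of_le this h2 hb
      rw [h, mul_comm] at this
      exact lt_irrefl _ this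
    · have : orderOf v < b := lt_of_le_of_ne h2 h3
      have : orderOf u * orderOf v < a * b :=
        Nat.mul_lt_mul_of_le_of_lt h1 this ha
      rw [h, mul_comm] at this
      exact lt_irrefl _ this
  · rintro ⟨h1, h2⟩
    rw [h1, h2, mul_comm]

theorem card_filter_orderOf_centralizer [Fintype G] [DecidableEq G] (y : G) (d : ℕ) :
    (univ.filter (fun v : G => orderOf v = d ∧ y * v = v * y)).card =
      Nat.card {z : Subgroup.centralizer ({y} : Set G) // orderOf z = d} := by
  rw [← Cfsg.Agent.Lib.H20.card_subtype_eq_card_filter]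
  apply Nat.card_congr
  refine ⟨fun v => ⟨⟨v.1, ?_⟩, ?_⟩, fun z => ⟨z.1.1, ?_, ?_⟩, ?_, ?_⟩
  · rw [Subgroup.mem_centralizer_singleton_iff]; exact v.2.2.symm
  · rw [← Subgroup.orderOf_coe]; exact v.2.1
  · rw [Subgroup.orderOf_coe]; exact z.2
  · have := Subgroup.mem_centralizer_singleton_iff.mp z.1.2
    exact this.symm
  · intro v; rfl
  · intro z; rfl

/-- **Miller's theorem.** -/
theorem miller [Finite G] (p : ℕ) [hp : Fact p.Prime] (hodd : p ≠ 2) (P : Sylow p G)
    (hP : ¬ IsCyclic (P : Subgroup G)) (s m : ℕ) (hs : 1 < s) (hm : Nat.Coprime p m) :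
    p ^ s ∣ Nat.card {g : G // orderOf g = p ^ s * m} := by
  classical
  haveI : Fintype G := Fintype.ofFinite G
  have hm0 : 0 < m := by
    rcases Nat.eq_zero_or_pos m with h | h
    · subst h
      rw [Nat.coprime_zero_right] at hm
      exact absurd hm hp.out.one_lt.ne'
    · exact h
  have hps0 : 0 < p ^ s := pow_pos hp.out.pos s
  have hcop : m.Coprime (p ^ s) := (Nat.Coprime.pow_left s hm).symm
  rw [Cfsg.Agent.Lib.H20.card_subtype_eq_card_filter]
  have h1 : univ.filter (fun g : G => orderOf g = p ^ s * m) =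
      univ.filter (fun g : G => g ^ (m * p ^ s) = 1 ∧ orderOf g = p ^ s * m) := by
    ext g
    simp only [mem_filter, mem_univ, true_and]
    constructor
    · intro h
      refine ⟨?_, h⟩
      rw [mul_comm, ← h]; exact pow_orderOf_eq_one g
    · intro h; exact h.2
  rw [h1, Cfsg.Agent.Lib.H20.card_decomp hcop (fun g => orderOf g = p ^ s * m)]
  apply Cfsg.Agent.Lib.H20.dvd_sum_of_conj_invariant (p ^ s) (fun u => u ^ m = 1)
    (fun u => (univ.filter (fun v : G => v ^ (p ^ s) = 1 ∧ u * v = v * u ∧
      orderOf (u * v) = p ^ s * m)).card)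
  · intro g y hy
    rw [conj_pow, hy]; group
  · intro g y _
    apply Finset.card_nbij' (fun v => g⁻¹ * v * g) (fun v => g * v * g⁻¹)
    · intro v hv
      simp only [coe_filter, mem_univ, true_and, Set.mem_ofPred_eq] at hv ⊢
      obtain ⟨hv1, hv2, hv3⟩ := hv
      refine ⟨?_, ?_, ?_⟩
      · have : g⁻¹ * v * g = g⁻¹ * v * g⁻¹⁻¹ := by rw [inv_inv]
        rw [this, conj_pow, hv1]; group
      · have e1 : y * (g⁻¹ * v * g) = g⁻¹ * (g * y * g⁻¹ * v) * g := by group
        have e2 : g⁻¹ * v * g * y = g⁻¹ * (v * (g * y * g⁻¹)) * g := by group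
        rw [e1, e2, hv2]
      · have e1 : y * (g⁻¹ * v * g) = MulAut.conj g⁻¹ (g * y * g⁻¹ * v) := by
          rw [MulAut.conj_apply]; group
        rw [e1, MulEquiv.orderOf_eq, hv3]
    · intro v hv
      simp only [coe_filter, mem_univ, true_and, Set.mem_ofPred_eq] at hv ⊢
      obtain ⟨hv1, hv2, hv3⟩ := hv
      refine ⟨?_, ?_, ?_⟩
      · rw [conj_pow, hv1]; group
      · have e1 : g * y * g⁻¹ * (g * v * g⁻¹) = g * (y * v) * g⁻¹ := by group
        have e2 : g * v * g⁻¹ * (g * y * g⁻¹) = g * (v * y) * g⁻¹ := by group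
        rw [e1, e2, hv2]
      · have e1 : g * y * g⁻¹ * (g * v * g⁻¹) = MulAut.conj g (y * v) := by
          rw [MulAut.conj_apply]; group
        rw [e1, MulEquiv.orderOf_eq, hv3]
    · intro v _; simp only; group
    · intro v _; simp only; group
  · intro y hy
    beta_reduce at hy ⊢
    by_cases hoy : orderOf y = m
    · have hfy : (univ.filter (fun v : G => v ^ (p ^ s) = 1 ∧ y * v = v * y ∧
          orderOf (y * v) = p ^ s * m)) =
          univ.filter (fun v : G => orderOf v = p ^ s ∧ y * v = v * y) := by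
        ext v
        simp only [mem_filter, mem_univ, true_and]
        constructor
        · rintro ⟨hv1, hv2, hv3⟩
          exact ⟨((orderOf_mul_eq_iff hcop hm0 hps0 hy hv1 hv2).mp hv3).2, hv2⟩
        · rintro ⟨hv1, hv2⟩
          have hv0 : v ^ (p ^ s) = 1 := by rw [← hv1]; exact pow_orderOf_eq_one v
          exact ⟨hv0, hv2, (orderOf_mul_eq_iff hcop hm0 hps0 hy hv0 hv2).mpr ⟨hoy, hv1⟩⟩
      rw [hfy, card_filter_orderOf_centralizer]
      by_cases hidx : p ∣ (Subgroup.centralizer ({y} : Set G)).index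
      · have h2 : p ^ (s - 1) ∣
            Nat.card {z : Subgroup.centralizer ({y} : Set G) // orderOf z = p ^ s} := by
          rw [card_orderOf_eq_totient_mul, Nat.totient_prime_pow hp.out (by omega), mul_assoc]
          exact Dvd.intro _ rfl
        have : p ^ s = p * p ^ (s - 1) := by rw [← pow_succ']; congr 1; omega
        calc p ^ s = p * p ^ (s - 1) := this
          _ ∣ _ := Nat.mul_dvd_mul hidx h2
      · obtain ⟨Q'⟩ : Nonempty (Sylow p (Subgroup.centralizer ({y} : Set G))) := inferInstance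
        have hnc := sylow_not_isCyclic_of_not_dvd_index P hP _ hidx Q'
        exact Dvd.dvd.mul_left (pow_dvd_card_orderOf_of_sylow hodd Q' hnc (by omega)) _
    · have hfy : (univ.filter (fun v : G => v ^ (p ^ s) = 1 ∧ y * v = v * y ∧
          orderOf (y * v) = p ^ s * m)) = ∅ := by
        rw [Finset.filter_eq_empty_iff]
        rintro v _ ⟨hv1, hv2, hv3⟩
        exact hoy ((orderOf_mul_eq_iff hcop hm0 hps0 hy hv1 hv2).mp hv3).1
      rw [hfy, Finset.card_empty, mul_zero]
      exact dvd_zero _

end Cfsg.Agent.Lib.H20.OrdCnt
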