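import Mathlib

set_option autoImplicit false

/-!
# Restricted `p`-by-cyclic subgroups: applying the hypothesis
-/

namespace Cfsg.Agent.Lib.H20.PBC

variable {G : Type*} [Group G]

/-- The hypothesis "restricted `p`-by-cyclic subgroups". -/
def RPC (p : ℕ) [Fact p.Prime] (G : Type*) [Group G] : Prop :=
  ∀ H : Subgroup G, (∀ S : Sylow p ↥H, (S : Subgroup ↥H).Normal) →
    (∀ (S : Sylow p ↥H) [(S : Subgroup ↥H).Normal], IsCyclic (↥H ⧸ (S : Subgroup ↥H))) →
    IsCyclic H ∨ (∃ n : ℕ, Nonempty (H ≃* DihedralGroup (p ^ n)))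

variable [Finite G] {p : ℕ} [hp : Fact p.Prime]

/-- If `H = S ⟨w⟩` with `S` a `p`-subgroup normalized by `H` and `w` a `p'`-element, then the
quotient of `H` by `S` is cyclic of order prime to `p`. -/
theorem quotient_cyclic (H S : Subgroup G) (hSH : S ≤ H)
    [hn : (S.subgroupOf H).Normal] (w : G) (hw : (orderOf w).Coprime p)
    (hgen : H = S ⊔ Subgroup.zpowers w) :
    IsCyclic (↥H ⧸ S.subgroupOf H) ∧ ¬ p ∣ (S.subgroupOf H).index := by
  have hwH : w ∈ H := by
    rw [hgen]; exact (le_sup_right : Subgroup.zpowers w ≤ _) (Subgroup.mem_zpowers w)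
  set φ : ↥H →* ↥H ⧸ S.subgroupOf H := QuotientGroup.mk' (S.subgroupOf H) with hφ
  set wH : ↥H := ⟨w, hwH⟩ with hwHdef
  have hZ : (Subgroup.zpowers (φ wH)).comap φ = ⊤ := by
    rw [eq_top_iff]
    intro h _
    have h1 : H ≤ ((Subgroup.zpowers (φ wH)).comap φ).map H.subtype := by
      conv_lhs => rw [hgen]
      apply sup_le
      · intro s hs
        refine ⟨⟨s, hSH hs⟩, ?_, rfl⟩
        rw [SetLike.mem_coe, Subgroup.mem_comap]
        have : φ ⟨s, hSH hs⟩ = 1 := by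
          rw [hφ, QuotientGroup.mk'_apply, QuotientGroup.eq_one_iff, Subgroup.mem_subgroupOf]
          exact hs
        rw [this]; exact Subgroup.one_mem _
      · rw [Subgroup.zpowers_le]
        refine ⟨wH, ?_, rfl⟩
        rw [SetLike.mem_coe, Subgroup.mem_comap]
        exact Subgroup.mem_zpowers _
    obtain ⟨h', hh', hh'eq⟩ := h1 h.2
    have : h' = h := Subtype.ext hh'eq
    rw [← this]; exact hh'
  have hgenQ : ∀ q : ↥H ⧸ S.subgroupOf H, q ∈ Subgroup.zpowers (φ wH) := by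
    intro q
    obtain ⟨h, rfl⟩ := QuotientGroup.mk'_surjective (S.subgroupOf H) q
    have : h ∈ (Subgroup.zpowers (φ wH)).comap φ := by rw [hZ]; exact Subgroup.mem_top h
    exact this
  refine ⟨⟨⟨φ wH, hgenQ⟩⟩, ?_⟩
  rw [Subgroup.index_eq_card, ← orderOf_eq_card_of_forall_mem_zpowers hgenQ]
  have h1 : orderOf (φ wH) ∣ orderOf w := by
    have := orderOf_map_dvd φ wH
    rwa [hwHdef, Subgroup.orderOf_mk] at this
  intro h2
  have h3 : p ∣ (orderOf w).gcd p := Nat.dvd_gcd (h2.trans h1) dvd_rfl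
  rw [hw] at h3
  exact hp.out.one_lt.ne' (Nat.dvd_one.mp h3)

/-- Applying the hypothesis to `H = S ⟨w⟩`. -/
theorem RPC.apply (h : RPC p G) (H S : Subgroup G) (hSH : S ≤ H) (hS : IsPGroup p S)
    (hn : H ≤ Subgroup.normalizer (S : Set G)) (w : G) (hw : (orderOf w).Coprime p)
    (hgen : H = S ⊔ Subgroup.zpowers w) :
    IsCyclic H ∨ ∃ n : ℕ, Nonempty (H ≃* DihedralGroup (p ^ n)) := by
  haveI hnorm : (S.subgroupOf H).Normal :=
    (Subgroup.normal_subgroupOf_iff_le_normalizer hSH).mpr hn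
  obtain ⟨hcyc, hidx⟩ := quotient_cyclic H S hSH w hw hgen
  have hS' : IsPGroup p (S.subgroupOf H) :=
    hS.of_equiv (Subgroup.subgroupOfEquivOfLe hSH).symm
  let T₀ : Sylow p ↥H := hS'.toSylow hidx
  have hT₀ : (T₀ : Subgroup ↥H) = S.subgroupOf H := IsPGroup.toSylow_coe hS' hidx
  have hT₀n : (T₀ : Subgroup ↥H).Normal := by rw [hT₀]; exact hnorm
  haveI : Unique (Sylow p ↥H) := Sylow.unique_of_normal T₀ hT₀n
  have huniq : ∀ T : Sylow p ↥H, T = T₀ := fun T => Subsingleton.elim _ _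
  apply h H
  · intro T
    rw [huniq T]; exact hT₀n
  · intro T hTn
    obtain rfl : T = T₀ := huniq T
    have e : ↥H ⧸ (T₀ : Subgroup ↥H) ≃* ↥H ⧸ S.subgroupOf H :=
      QuotientGroup.quotientMulEquivOfEq hT₀
    exact isCyclic_of_surjective e.symm.toMonoidHom e.symm.surjective

end Cfsg.Agent.Lib.H20.PBC
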