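import Mathlib
import Cfsg.Agent.Lib.H20.PByCyclic1
import Cfsg.Agent.Lib.H20.SylowExtra
import Cfsg.Agent.Lib.H20.FrobeniusDiv
import Cfsg.Agent.Lib.H5.ThompsonDihedral
import Cfsg.Agent.Lib.H15.NormComm

set_option autoImplicit false

/-!
# Restricted `p`-by-cyclic subgroups: the forward direction
-/

namespace Cfsg.Agent.Lib.H20.PBC

variable {G : Type*} [Group G]

/-- Decomposition of an element into its `p`-part and `p'`-part. -/
theorem exists_p_decomp [Finite G] (p : ℕ) [hp : Fact p.Prime] (x : G) :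
    ∃ (u w : G) (e : ℕ), u ∈ Subgroup.zpowers x ∧ w ∈ Subgroup.zpowers x ∧ u * w = x ∧
      orderOf u = p ^ e ∧ (orderOf w).Coprime p := by
  have hn0 : orderOf x ≠ 0 := (orderOf_pos x).ne'
  set r := p ^ (orderOf x).factorization p with hr
  set s := orderOf x / p ^ (orderOf x).factorization p with hs
  have hrs : r * s = orderOf x := Nat.ordProj_mul_ordCompl_eq_self (orderOf x) p
  have hcop : r.Coprime s := (Nat.coprime_ordCompl hp.out hn0).pow_left _
  obtain ⟨α, β, h1, -⟩ := Cfsg.Agent.Lib.H20.exists_decomp_exponents (G := G) hcop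
  obtain ⟨ha, hb, hab⟩ := h1 x (by rw [hrs]; exact pow_orderOf_eq_one x)
  have hu : orderOf (x ^ α) ∣ p ^ (orderOf x).factorization p := orderOf_dvd_of_pow_eq_one ha
  obtain ⟨e, -, he⟩ := (Nat.dvd_prime_pow hp.out).mp hu
  refine ⟨x ^ α, x ^ β, e, Subgroup.pow_mem _ (Subgroup.mem_zpowers x) α,
    Subgroup.pow_mem _ (Subgroup.mem_zpowers x) β, hab, he, ?_⟩
  have hw : orderOf (x ^ β) ∣ s := orderOf_dvd_of_pow_eq_one hb
  exact Nat.Coprime.coprime_dvd_left hw (Nat.coprime_ordCompl hp.out hn0).symm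

/-- Subgroups of a cyclic subgroup are cyclic. -/
theorem isCyclic_of_le {K L : Subgroup G} (hL : IsCyclic L) (hKL : K ≤ L) : IsCyclic K := by
  have e := Subgroup.subgroupOfEquivOfLe hKL
  exact isCyclic_of_surjective e.toMonoidHom e.surjective

/-- Elements of a cyclic subgroup commute. -/
theorem commute_of_isCyclic {L : Subgroup G} (hL : IsCyclic L) {a b : G} (ha : a ∈ L)
    (hb : b ∈ L) : Commute a b := by
  obtain ⟨g, hg⟩ := hL.exists_generator
  obtain ⟨i, hi⟩ := Subgroup.mem_zpowers_iff.mp (hg ⟨a, ha⟩)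
  obtain ⟨j, hj⟩ := Subgroup.mem_zpowers_iff.mp (hg ⟨b, hb⟩)
  have h1 : a = (g : G) ^ i := by
    have := congrArg Subtype.val hi; simpa using this.symm
  have h2 : b = (g : G) ^ j := by
    have := congrArg Subtype.val hj; simpa using this.symm
  rw [h1, h2]
  exact (Commute.refl (g : G)).zpow_zpow i j

variable [Finite G] {p : ℕ} [hp : Fact p.Prime]

/-- The Sylow `p`-subgroups are cyclic. -/
theorem RPC.isCyclic_sylow (hp2 : p ≠ 2) (h : RPC p G) (P : Sylow p G) :
    IsCyclic (P : Subgroup G) := by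
  have h1 := h.apply (P : Subgroup G) (P : Subgroup G) le_rfl P.isPGroup' Subgroup.le_normalizer 1
    (by rw [orderOf_one]; exact Nat.coprime_one_left p)
    (by rw [Subgroup.zpowers_one_eq_bot, sup_bot_eq])
  rcases h1 with h1 | ⟨n, ⟨e⟩⟩
  · exact h1
  · exfalso
    obtain ⟨k, hk⟩ := IsPGroup.iff_card.mp P.isPGroup'
    have h2 : Nat.card (P : Subgroup G) = 2 * p ^ n := by
      rw [Nat.card_congr e.toEquiv, DihedralGroup.nat_card]
    rw [hk] at h2
    have hodd : Odd (p ^ k) := (hp.out.odd_of_ne_two hp2).pow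
    rw [h2] at hodd
    exact (Nat.not_odd_iff_even.mpr (even_two_mul _)) hodd

/-- In the non-cyclic case all elements outside the `p`-part are involutions. -/
theorem RPC.outside_involution (h : RPC p G) (H S : Subgroup G) (hSH : S ≤ H)
    (hS : IsPGroup p S) (hScyc : IsCyclic S) (hn : H ≤ Subgroup.normalizer (S : Set G)) (w : G)
    (hw : (orderOf w).Coprime p) (hgen : H = S ⊔ Subgroup.zpowers w) (hnc : ¬ IsCyclic H) :
    ∀ y ∈ H, y ∉ S → orderOf y = 2 := by
  rcases h.apply H S hSH hS hn w hw hgen with h1 | ⟨n, ⟨e⟩⟩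
  · exact absurd h1 hnc
  · have hcardH : Nat.card H = 2 * p ^ n := by
      rw [Nat.card_congr e.toEquiv, DihedralGroup.nat_card]
    rcases Nat.eq_zero_or_pos n with hn0 | hnpos
    · exfalso
      apply hnc
      rw [hn0, pow_zero, mul_one] at hcardH
      haveI : Fact (Nat.Prime 2) := ⟨Nat.prime_two⟩
      exact isCyclic_of_prime_card hcardH
    · haveI hnorm : (S.subgroupOf H).Normal :=
        (Subgroup.normal_subgroupOf_iff_le_normalizer hSH).mpr hn
      obtain ⟨-, hidx⟩ := quotient_cyclic H S hSH w hw hgen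
      have hri : S.relIndex H = 2 := by
        have h1 : Nat.card (S.subgroupOf H) * (S.subgroupOf H).index = Nat.card H :=
          Subgroup.card_mul_index _
        have h2 : Nat.card (S.subgroupOf H) = Nat.card S :=
          Nat.card_congr (Subgroup.subgroupOfEquivOfLe hSH).toEquiv
        obtain ⟨k, hk⟩ := IsPGroup.iff_card.mp hS
        rw [h2, hk, hcardH] at h1
        have hcop : ((S.subgroupOf H).index).Coprime (p ^ n) :=
          ((Nat.Prime.coprime_iff_not_dvd hp.out).mpr hidx).symm.pow_right n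
        have h3 : (S.subgroupOf H).index ∣ 2 * p ^ n := Dvd.intro_left _ h1
        have h4 : (S.subgroupOf H).index ∣ 2 := hcop.dvd_of_dvd_mul_right h3
        have h5 : (S.subgroupOf H).index ≠ 1 := by
          intro h5
          apply hnc
          rw [Subgroup.index_eq_one, Subgroup.subgroupOf_eq_top] at h5
          have : H = S := le_antisymm h5 hSH
          rw [this]; exact hScyc
        have h6 := (Nat.dvd_prime Nat.prime_two).mp h4
        rcases h6 with h6 | h6
        · exact absurd h6 h5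
        · exact h6
      have h2le : 2 ≤ p ^ n := by
        calc 2 ≤ p := hp.out.two_le
          _ = p ^ 1 := (pow_one p).symm
          _ ≤ p ^ n := Nat.pow_le_pow_right hp.out.pos hnpos
      exact Cfsg.Agent.Lib.H5.TD.outside_involution H S (p ^ n) h2le e hSH hScyc hri

end Cfsg.Agent.Lib.H20.PBC
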