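import Mathlib
import Cfsg.Agent.Lib.H20.PByCyclic2

set_option autoImplicit false

/-!
# Restricted `p`-by-cyclic subgroups: the forward direction, continued
-/

namespace Cfsg.Agent.Lib.H20.PBC

variable {G : Type*} [Group G]

/-- If `w` and `w * c` are involutions then `w` inverts `c`. -/
theorem conj_eq_inv_of_involutions {w c : G} (hw : w ^ 2 = 1) (hwc : (w * c) ^ 2 = 1) :
    w * c * w⁻¹ = c⁻¹ := by
  have h1 : w⁻¹ = w := by
    rw [inv_eq_iff_mul_eq_one, ← pow_two]; exact hw
  have h2 : w * c * (w * c) = 1 := by rw [← pow_two]; exact hwc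
  rw [h1]
  calc w * c * w = w * c * (w * c) * c⁻¹ := by group
    _ = c⁻¹ := by rw [h2, one_mul]

theorem pow_two_eq_one_of_orderOf {x : G} (h : orderOf x = 2) : x ^ 2 = 1 := by
  rw [← h]; exact pow_orderOf_eq_one x

variable [Finite G] {p : ℕ} [hp : Fact p.Prime]

/-- Elements of `N_G(P)` outside `C_G(P)` are involutions inverting `P`. -/
theorem RPC.inverts_sylow (hp2 : p ≠ 2) (h : RPC p G) (P : Sylow p G) {x : G}
    (hxN : x ∈ Subgroup.normalizer ((P : Subgroup G) : Set G))
    (hxC : x ∉ Subgroup.centralizer ((P : Subgroup G) : Set G)) :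
    orderOf x = 2 ∧ ∀ c ∈ (P : Subgroup G), x * c * x⁻¹ = c⁻¹ := by
  have hPcyc := h.isCyclic_sylow hp2 P
  obtain ⟨u, w, e, hux, hwx, huw, hue, hwcop⟩ := exists_p_decomp p x
  have hxle : Subgroup.zpowers x ≤ Subgroup.normalizer ((P : Subgroup G) : Set G) :=
    Subgroup.zpowers_le_of_mem hxN
  have huP : u ∈ (P : Subgroup G) :=
    Cfsg.Agent.Lib.H20.mem_sylow_of_mem_normalizer P hue (hxle hux)
  have hwN : w ∈ Subgroup.normalizer ((P : Subgroup G) : Set G) := hxle hwx
  have hcomm_uw : Commute u w := by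
    obtain ⟨i, rfl⟩ := Subgroup.mem_zpowers_iff.mp hux
    obtain ⟨j, rfl⟩ := Subgroup.mem_zpowers_iff.mp hwx
    exact (Commute.refl x).zpow_zpow i j
  set H : Subgroup G := (P : Subgroup G) ⊔ Subgroup.zpowers w with hH
  have hPH : (P : Subgroup G) ≤ H := le_sup_left
  have hwH : w ∈ H := (le_sup_right : Subgroup.zpowers w ≤ H) (Subgroup.mem_zpowers w)
  have hHn : H ≤ Subgroup.normalizer ((P : Subgroup G) : Set G) :=
    sup_le Subgroup.le_normalizer (Subgroup.zpowers_le_of_mem hwN)
  have hnc : ¬ IsCyclic H := by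
    intro hc
    apply hxC
    rw [Subgroup.mem_centralizer_iff]
    intro c hc'
    have h1 : Commute w c := commute_of_isCyclic hc hwH (hPH hc')
    have h2 : Commute u c := commute_of_isCyclic hPcyc huP hc'
    rw [← huw]
    exact ((h2.mul_left h1).eq).symm
  have hout := h.outside_involution H (P : Subgroup G) hPH P.isPGroup' hPcyc hHn w hwcop rfl hnc
  have hwP : w ∉ (P : Subgroup G) := by
    intro hwP
    apply hxC
    rw [Subgroup.mem_centralizer_iff]
    intro c hc'
    have hxP : x ∈ (P : Subgroup G) := by rw [← huw]; exact Subgroup.mul_mem _ huP hwP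
    exact ((commute_of_isCyclic hPcyc hxP hc').eq).symm
  have hw2 : w ^ 2 = 1 := pow_two_eq_one_of_orderOf (hout w hwH hwP)
  have hwinv : ∀ c ∈ (P : Subgroup G), w * c * w⁻¹ = c⁻¹ := by
    intro c hc'
    apply conj_eq_inv_of_involutions hw2
    apply pow_two_eq_one_of_orderOf
    apply hout _ (Subgroup.mul_mem _ hwH (hPH hc'))
    intro hcon
    apply hwP
    have : w = w * c * c⁻¹ := by group
    rw [this]
    exact Subgroup.mul_mem _ hcon (Subgroup.inv_mem _ hc')
  -- `u = 1`
  have hu1 : u = 1 := by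
    have h1 := hwinv u huP
    have h2 : w * u * w⁻¹ = u := by rw [← hcomm_uw.eq]; group
    rw [h2] at h1
    have h3 : u ^ 2 = 1 := by
      rw [pow_two]
      nth_rewrite 1 [h1]
      exact inv_mul_cancel u
    have h4 : orderOf u ∣ 2 := orderOf_dvd_of_pow_eq_one h3
    rw [hue] at h4
    have h5 : e = 0 := by
      by_contra he
      have : p ∣ 2 := (dvd_pow_self p he).trans h4
      have := (Nat.prime_dvd_prime_iff_eq hp.out Nat.prime_two).mp this
      exact hp2 this
    rw [h5, pow_zero, orderOf_eq_one_iff] at hue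
    exact hue
  have hxw : x = w := by rw [← huw, hu1, one_mul]
  rw [hxw]
  exact ⟨hout w hwH hwP, hwinv⟩

/-- `|N_G(P) : C_G(P)| = 2` if it is not one. -/
theorem RPC.relIndex_eq_two (hp2 : p ≠ 2) (h : RPC p G) (P : Sylow p G)
    (hne : Subgroup.normalizer ((P : Subgroup G) : Set G) ≠
      Subgroup.centralizer ((P : Subgroup G) : Set G)) :
    (Subgroup.centralizer ((P : Subgroup G) : Set G)).relIndex
      (Subgroup.normalizer ((P : Subgroup G) : Set G)) = 2 := by
  set N := Subgroup.normalizer ((P : Subgroup G) : Set G) with hN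
  set C := Subgroup.centralizer ((P : Subgroup G) : Set G) with hC
  have hCN : C ≤ N := Subgroup.centralizer_le_normalizer _
  obtain ⟨a, haN, haC⟩ : ∃ a ∈ N, a ∉ C := by
    by_contra hcon
    push_neg at hcon
    exact hne (le_antisymm hcon hCN)
  have hinv := fun {x : G} (hx : x ∈ N) (hx' : x ∉ C) => (h.inverts_sylow hp2 P hx hx').2
  rw [Subgroup.relIndex, Subgroup.index_eq_two_iff]
  refine ⟨⟨a, haN⟩, ?_⟩
  intro b
  rw [Subgroup.mem_subgroupOf, Subgroup.mem_subgroupOf]
  by_cases hb : (b : G) ∈ C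
  · right
    refine ⟨hb, ?_⟩
    intro hba
    apply haC
    have : a = (b : G)⁻¹ * ((b : G) * a) := by group
    rw [this]
    exact Subgroup.mul_mem _ (Subgroup.inv_mem _ hb) hba
  · left
    refine ⟨?_, hb⟩
    change (b : G) * a ∈ C
    rw [hC, Subgroup.mem_centralizer_iff]
    intro c hc
    have h1 := hinv haN haC c hc
    have h2 := hinv b.2 hb c⁻¹ (Subgroup.inv_mem _ hc)
    rw [inv_inv] at h2
    -- `(b a) c (b a)⁻¹ = c`
    have h3 : (b : G) * a * c * ((b : G) * a)⁻¹ = c := by
      calc (b : G) * a * c * ((b : G) * a)⁻¹ = (b : G) * (a * c * a⁻¹) * (b : G)⁻¹ := by group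
        _ = c := by rw [h1, h2]
    calc c * ((b : G) * a) = ((b : G) * a * c * ((b : G) * a)⁻¹) * ((b : G) * a) := by rw [h3]
      _ = (b : G) * a * c := by group

end Cfsg.Agent.Lib.H20.PBC
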