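import Mathlib
import Cfsg.Agent.Lib.H20.PByCyclic3

set_option autoImplicit false

/-!
# Restricted `p`-by-cyclic subgroups: the forward direction, normalizers of `p`-subgroups
-/

namespace Cfsg.Agent.Lib.H20.PBC

variable {G : Type*} [Group G] [Finite G] {p : ℕ} [hp : Fact p.Prime]

/-- Elements of `N_G(Q)` outside `C_G(Q)` are involutions, for every `p`-subgroup `Q`. -/
theorem RPC.involution_of_normalizes (hp2 : p ≠ 2) (h : RPC p G) (Q : Subgroup G)
    (hQ : IsPGroup p Q) {x : G} (hxN : x ∈ Subgroup.normalizer (Q : Set G))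
    (hxC : x ∉ Subgroup.centralizer (Q : Set G)) : orderOf x = 2 := by
  obtain ⟨u, w, e, hux, hwx, huw, hue, hwcop⟩ := exists_p_decomp p x
  have hxle : Subgroup.zpowers x ≤ Subgroup.normalizer (Q : Set G) :=
    Subgroup.zpowers_le_of_mem hxN
  have hcomm_uw : Commute u w := by
    obtain ⟨i, rfl⟩ := Subgroup.mem_zpowers_iff.mp hux
    obtain ⟨j, rfl⟩ := Subgroup.mem_zpowers_iff.mp hwx
    exact (Commute.refl x).zpow_zpow i j
  have hzu : IsPGroup p (Subgroup.zpowers u) := by
    apply IsPGroup.of_card (n := e)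
    rw [Nat.card_zpowers, hue]
  set S : Subgroup G := Q ⊔ Subgroup.zpowers u with hS
  have hSp : IsPGroup p S :=
    hQ.to_sup_of_normal_left' hzu (Subgroup.zpowers_le_of_mem (hxle hux))
  obtain ⟨P', hSP'⟩ := hSp.exists_le_sylow
  have hScyc : IsCyclic S := isCyclic_of_le (h.isCyclic_sylow hp2 P') hSP'
  set H : Subgroup G := S ⊔ Subgroup.zpowers w with hH
  have hSH : S ≤ H := le_sup_left
  have hQS : Q ≤ S := le_sup_left
  have huS : u ∈ S := (le_sup_right : Subgroup.zpowers u ≤ S) (Subgroup.mem_zpowers u)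
  have hwH : w ∈ H := (le_sup_right : Subgroup.zpowers w ≤ H) (Subgroup.mem_zpowers w)
  have hxH : x ∈ H := by rw [← huw]; exact Subgroup.mul_mem _ (hSH huS) hwH
  have hwnu : w ∈ Subgroup.normalizer ((Subgroup.zpowers u : Subgroup G) : Set G) := by
    rw [Subgroup.mem_normalizer_iff]
    intro g
    have hconj : ∀ g ∈ Subgroup.zpowers u, w * g * w⁻¹ = g := by
      intro g hg
      obtain ⟨i, rfl⟩ := Subgroup.mem_zpowers_iff.mp hg
      have := (hcomm_uw.symm.zpow_right i).eq
      rw [this]; group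
    have hconj' : ∀ g ∈ Subgroup.zpowers u, w⁻¹ * g * w = g := by
      intro g hg
      have := hconj g hg
      calc w⁻¹ * g * w = w⁻¹ * (w * g * w⁻¹) * w := by rw [this]
        _ = g := by group
    constructor
    · intro hg
      rw [hconj g hg]; exact hg
    · intro hg
      have h1 := hconj' _ hg
      have h2 : w⁻¹ * (w * g * w⁻¹) * w = g := by group
      rw [h2] at h1
      rw [h1]; exact hg
  have hHn : H ≤ Subgroup.normalizer (S : Set G) :=
    sup_le Subgroup.le_normalizer (Subgroup.zpowers_le_of_mem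
      (Cfsg.Agent.Lib.H15.mem_normalizer_sup (hxle hwx) hwnu))
  have hnc : ¬ IsCyclic H := by
    intro hc
    apply hxC
    rw [Subgroup.mem_centralizer_iff]
    intro q hq
    exact ((commute_of_isCyclic hc hxH (hSH (hQS hq))).eq).symm
  have hout := h.outside_involution H S hSH hSp hScyc hHn w hwcop rfl hnc
  apply hout x hxH
  intro hxS
  apply hxC
  rw [Subgroup.mem_centralizer_iff]
  intro q hq
  exact ((commute_of_isCyclic hScyc hxS (hQS hq)).eq).symm

/-- Elements of `N_G(Q)` outside `C_G(Q)` invert `C_G(Q)`. -/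
theorem RPC.inverts_centralizer (hp2 : p ≠ 2) (h : RPC p G) (Q : Subgroup G)
    (hQ : IsPGroup p Q) {x : G} (hxN : x ∈ Subgroup.normalizer (Q : Set G))
    (hxC : x ∉ Subgroup.centralizer (Q : Set G)) :
    ∀ c ∈ Subgroup.centralizer (Q : Set G), x * c * x⁻¹ = c⁻¹ := by
  intro c hc
  have h1 := h.involution_of_normalizes hp2 Q hQ hxN hxC
  have hxcN : x * c ∈ Subgroup.normalizer (Q : Set G) :=
    Subgroup.mul_mem _ hxN (Subgroup.centralizer_le_normalizer _ hc)
  have hxcC : x * c ∉ Subgroup.centralizer (Q : Set G) := by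
    intro hcon
    apply hxC
    have : x = x * c * c⁻¹ := by group
    rw [this]
    exact Subgroup.mul_mem _ hcon (Subgroup.inv_mem _ hc)
  have h2 := h.involution_of_normalizes hp2 Q hQ hxcN hxcC
  exact conj_eq_inv_of_involutions (pow_two_eq_one_of_orderOf h1) (pow_two_eq_one_of_orderOf h2)

/-- `C_G(Q)` is abelian as soon as `N_G(Q) ≠ C_G(Q)`. -/
theorem RPC.centralizer_comm (hp2 : p ≠ 2) (h : RPC p G) (Q : Subgroup G)
    (hQ : IsPGroup p Q) {x : G} (hxN : x ∈ Subgroup.normalizer (Q : Set G))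
    (hxC : x ∉ Subgroup.centralizer (Q : Set G)) :
    IsMulCommutative (Subgroup.centralizer (Q : Set G)) := by
  have hinv := h.inverts_centralizer hp2 Q hQ hxN hxC
  refine ⟨⟨fun c d => Subtype.ext ?_⟩⟩
  have h1 := hinv c c.2
  have h2 := hinv d d.2
  have h3 := hinv (c * d) (Subgroup.mul_mem _ c.2 d.2)
  have h4 : x * ((c : G) * d) * x⁻¹ = (x * c * x⁻¹) * (x * d * x⁻¹) := by group
  rw [h4, h1, h2, mul_inv_rev] at h3
  -- `c⁻¹ d⁻¹ = d⁻¹ c⁻¹`
  change (c : G) * d = d * c
  have h5 : ((c : G)⁻¹ * (d : G)⁻¹)⁻¹ = ((d : G)⁻¹ * (c : G)⁻¹)⁻¹ := by rw [h3]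
  rw [mul_inv_rev, mul_inv_rev, inv_inv, inv_inv] at h5
  exact h5.symm

/-- The forward direction of the characterization. -/
theorem forward (hp2 : p ≠ 2) (P : Sylow p G) (h : RPC p G) :
    IsCyclic (P : Subgroup G) ∧
      (Subgroup.normalizer ((P : Subgroup G) : Set G) =
          Subgroup.centralizer ((P : Subgroup G) : Set G) ∨
       ((Subgroup.centralizer ((P : Subgroup G) : Set G)).relIndex
          (Subgroup.normalizer ((P : Subgroup G) : Set G)) = 2 ∧
        ∀ Q : Subgroup G, Q ≤ P → Nat.card Q = p →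
          IsMulCommutative ↥(Subgroup.centralizer (Q : Set G)) ∧
          ∀ x : G, x ∈ Subgroup.normalizer (Q : Set G) → x ∉ Subgroup.centralizer (Q : Set G) →
            orderOf x = 2 ∧ ∀ c : G, c ∈ Subgroup.centralizer (Q : Set G) → x * c * x⁻¹ = c⁻¹)) := by
  refine ⟨h.isCyclic_sylow hp2 P, ?_⟩
  by_cases hNC : Subgroup.normalizer ((P : Subgroup G) : Set G) =
      Subgroup.centralizer ((P : Subgroup G) : Set G)
  · left; exact hNC
  right
  refine ⟨h.relIndex_eq_two hp2 P hNC, ?_⟩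
  intro Q hQP hQcard
  have hQp : IsPGroup p Q := P.isPGroup'.to_le hQP
  -- an element of `N(P)` outside `C(P)`
  obtain ⟨a, haN, haC⟩ : ∃ a ∈ Subgroup.normalizer ((P : Subgroup G) : Set G),
      a ∉ Subgroup.centralizer ((P : Subgroup G) : Set G) := by
    by_contra hcon
    push_neg at hcon
    exact hNC (le_antisymm hcon (Subgroup.centralizer_le_normalizer _))
  obtain ⟨ha2, hainv⟩ := h.inverts_sylow hp2 P haN haC
  have haNQ : a ∈ Subgroup.normalizer (Q : Set G) := by
    rw [Subgroup.mem_normalizer_iff]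
    intro g
    constructor
    · intro hg
      rw [hainv g (hQP hg)]; exact Subgroup.inv_mem _ hg
    · intro hg
      have h1 := hainv _ (hQP (Subgroup.inv_mem _ hg))
      rw [inv_inv] at h1
      -- `h1 : a * (a g a⁻¹)⁻¹ * a⁻¹ = a g a⁻¹`
      have h2 : g = (a * g * a⁻¹)⁻¹ := by
        calc g = a⁻¹ * (a * g * a⁻¹) * a := by group
          _ = a⁻¹ * (a * (a * g * a⁻¹)⁻¹ * a⁻¹) * a := by rw [h1]
          _ = (a * g * a⁻¹)⁻¹ := by group
      rw [h2]; exact Subgroup.inv_mem _ hg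
  have haCQ : a ∉ Subgroup.centralizer (Q : Set G) := by
    intro hcon
    rw [Subgroup.mem_centralizer_iff] at hcon
    -- a nontrivial element of `Q`
    have hQnt : Nontrivial Q := by
      rw [← Finite.one_lt_card_iff_nontrivial, hQcard]; exact hp.out.one_lt
    obtain ⟨⟨q, hq⟩, hq1⟩ := exists_ne (1 : Q)
    have hq1' : q ≠ 1 := fun hh => hq1 (Subtype.ext hh)
    have h1 := hainv q (hQP hq)
    have h2 := hcon q hq
    have h3 : a * q * a⁻¹ = q := by rw [← h2]; group
    rw [h3] at h1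
    have h4 : q ^ 2 = 1 := by
      rw [pow_two]; nth_rewrite 1 [h1]; exact inv_mul_cancel q
    have h5 : orderOf q ∣ 2 := orderOf_dvd_of_pow_eq_one h4
    have h6 : orderOf q ∣ p := by
      rw [← hQcard, ← Subgroup.orderOf_mk q hq]; exact orderOf_dvd_natCard _
    have h7 : orderOf q ∣ Nat.gcd 2 p := Nat.dvd_gcd h5 h6
    have h8 : Nat.gcd 2 p = 1 := by
      rw [Nat.coprime_primes Nat.prime_two hp.out |>.mpr (Ne.symm hp2)]
    rw [h8, Nat.dvd_one, orderOf_eq_one_iff] at h7
    exact hq1' h7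
  refine ⟨h.centralizer_comm hp2 Q hQp haNQ haCQ, ?_⟩
  intro x hxN hxC
  exact ⟨h.involution_of_normalizes hp2 Q hQp hxN hxC, h.inverts_centralizer hp2 Q hQp hxN hxC⟩

end Cfsg.Agent.Lib.H20.PBC
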