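import Mathlib
import Cfsg.Agent.Lib.H20.PByCyclic2
import Cfsg.Agent.Lib.H16.SylowBasic
import Cfsg.Agent.Lib.L0.DihedralSylow

set_option autoImplicit false

/-!
# Restricted `p`-by-cyclic subgroups: conjugation-invariant forms of the right-hand side
-/

namespace Cfsg.Agent.Lib.H20.PBC

variable {G : Type*} [Group G] [Finite G] {p : ℕ} [hp : Fact p.Prime]

/-- All Sylow `p`-subgroups are cyclic if one is. -/
theorem isCyclic_sylow_of_isCyclic (P : Sylow p G) (hP : IsCyclic (P : Subgroup G))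
    (P' : Sylow p G) : IsCyclic (P' : Subgroup G) := by
  have e : (P : Subgroup G) ≃* (P' : Subgroup G) := Sylow.equiv P P'
  exact isCyclic_of_surjective e.toMonoidHom e.surjective

/-- Every `p`-subgroup is cyclic. -/
theorem isCyclic_of_isPGroup (P : Sylow p G) (hP : IsCyclic (P : Subgroup G)) (S : Subgroup G)
    (hS : IsPGroup p S) : IsCyclic S := by
  obtain ⟨P', hSP'⟩ := hS.exists_le_sylow
  exact isCyclic_of_le (isCyclic_sylow_of_isCyclic P hP P') hSP'

/-- Case `N_G(P) = C_G(P)` with `P` abelian: normalizers of `p`-subgroups centralize them. -/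
theorem commute_of_normalizer_eq_centralizer (P : Sylow p G) (hP : IsCyclic (P : Subgroup G))
    (hNC : Subgroup.normalizer ((P : Subgroup G) : Set G) =
      Subgroup.centralizer ((P : Subgroup G) : Set G))
    (S : Subgroup G) (hS : IsPGroup p S) {h : G} (hh : h ∈ Subgroup.normalizer (S : Set G))
    {s : G} (hs : s ∈ S) : h * s * h⁻¹ = s := by
  obtain ⟨g, hg⟩ := Cfsg.Agent.Lib.H16.exists_conj_mem_sylow S hS P
  have hPC : (P : Subgroup G) ≤ Subgroup.centralizer ((P : Subgroup G) : Set G) := by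
    intro a ha
    rw [Subgroup.mem_centralizer_iff]
    intro b hb
    exact (commute_of_isCyclic hP hb ha).eq
  have hs' : h * s * h⁻¹ ∈ S := ((Subgroup.mem_normalizer_iff.mp hh) s).mp hs
  set x := g * s * g⁻¹ with hx
  set k := g * h⁻¹ * g⁻¹ with hk
  have hxP : x ∈ (P : Subgroup G) := hg s hs
  have hy : k⁻¹ * x * k = g * (h * s * h⁻¹) * g⁻¹ := by rw [hk, hx]; group
  have hyP : k⁻¹ * x * k ∈ (P : Subgroup G) := by rw [hy]; exact hg _ hs'
  obtain ⟨n, hn, hn'⟩ := Sylow.conj_eq_normalizer_conj_of_mem_centralizer P x k (hPC hxP)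
    (hPC hyP)
  have hn2 : n ∈ Subgroup.normalizer ((P : Subgroup G) : Set G) := hn
  rw [hNC, Subgroup.mem_centralizer_iff] at hn2
  have hn := hn2
  have h1 : n⁻¹ * x * n = x := by
    rw [mul_assoc, hn x hxP]; group
  rw [h1, hy, hx] at hn'
  -- `g (h s h⁻¹) g⁻¹ = g s g⁻¹`
  calc h * s * h⁻¹ = g⁻¹ * (g * (h * s * h⁻¹) * g⁻¹) * g := by group
    _ = g⁻¹ * (g * s * g⁻¹) * g := by rw [hn']
    _ = s := by group

/-- The element-wise form of the condition on subgroups of order `p`. -/
def ZCond (G : Type*) [Group G] (z : G) : Prop :=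
  (∀ c d : G, Commute c z → Commute d z → Commute c d) ∧
    ∀ x : G, x * z * x⁻¹ ∈ Subgroup.zpowers z → ¬ Commute x z →
      orderOf x = 2 ∧ ∀ c : G, Commute c z → x * c * x⁻¹ = c⁻¹

theorem mem_centralizer_zpowers_iff {z c : G} :
    c ∈ Subgroup.centralizer ((Subgroup.zpowers z : Subgroup G) : Set G) ↔ Commute c z := by
  rw [Subgroup.mem_centralizer_iff]
  constructor
  · intro h
    exact (h z (Subgroup.mem_zpowers z)).symm
  · intro h y hy
    obtain ⟨i, rfl⟩ := Subgroup.mem_zpowers_iff.mp hy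
    exact ((h.zpow_right i).eq).symm

/-- The subgroup condition implies the element-wise condition for every element of order `p`. -/
theorem zCond_of_cond (P : Sylow p G)
    (hcond : ∀ Q : Subgroup G, Q ≤ P → Nat.card Q = p →
      IsMulCommutative ↥(Subgroup.centralizer (Q : Set G)) ∧
      ∀ x : G, x ∈ Subgroup.normalizer (Q : Set G) → x ∉ Subgroup.centralizer (Q : Set G) →
        orderOf x = 2 ∧ ∀ c : G, c ∈ Subgroup.centralizer (Q : Set G) → x * c * x⁻¹ = c⁻¹)
    {z : G} (hz : orderOf z = p) : ZCond G z := by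
  have hzp : IsPGroup p (Subgroup.zpowers z) := by
    apply IsPGroup.of_card (n := 1)
    rw [Nat.card_zpowers, hz, pow_one]
  obtain ⟨g, hg⟩ := Cfsg.Agent.Lib.H16.exists_conj_mem_sylow (Subgroup.zpowers z) hzp P
  set z' := g * z * g⁻¹ with hz'
  have hz'P : z' ∈ (P : Subgroup G) := hg z (Subgroup.mem_zpowers z)
  have hz'o : orderOf z' = p := by
    have : z' = MulAut.conj g z := by rw [MulAut.conj_apply]
    rw [this, MulEquiv.orderOf_eq, hz]
  obtain ⟨hcomm, hx⟩ := hcond (Subgroup.zpowers z') (by rw [Subgroup.zpowers_le]; exact hz'P)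
    (by rw [Nat.card_zpowers, hz'o])
  have hconjcomm : ∀ c : G, Commute c z → Commute (g * c * g⁻¹) z' := by
    intro c hc
    have h1 : g * c * g⁻¹ * z' = g * (c * z) * g⁻¹ := by rw [hz']; group
    have h2 : z' * (g * c * g⁻¹) = g * (z * c) * g⁻¹ := by rw [hz']; group
    change g * c * g⁻¹ * z' = z' * (g * c * g⁻¹)
    rw [h1, h2, hc.eq]
  constructor
  · intro c d hc hd
    have h1 := hcomm.is_comm.comm
      ⟨g * c * g⁻¹, mem_centralizer_zpowers_iff.mpr (hconjcomm c hc)⟩
      ⟨g * d * g⁻¹, mem_centralizer_zpowers_iff.mpr (hconjcomm d hd)⟩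
    have h2 : g * c * g⁻¹ * (g * d * g⁻¹) = g * d * g⁻¹ * (g * c * g⁻¹) :=
      congrArg Subtype.val h1
    have h3 : g * (c * d) * g⁻¹ = g * (d * c) * g⁻¹ := by
      calc g * (c * d) * g⁻¹ = g * c * g⁻¹ * (g * d * g⁻¹) := by group
        _ = g * d * g⁻¹ * (g * c * g⁻¹) := h2
        _ = g * (d * c) * g⁻¹ := by group
    exact mul_left_cancel (mul_right_cancel h3)
  · intro x hxn hxc
    set x' := g * x * g⁻¹ with hx'
    have hx'N : x' ∈ Subgroup.normalizer ((Subgroup.zpowers z' : Subgroup G) : Set G) := by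
      apply Cfsg.Agent.Lib.L0.mem_normalizer_of_forall_conj_mem
      intro y hy
      obtain ⟨i, rfl⟩ := Subgroup.mem_zpowers_iff.mp hy
      have h1 : x' * z' ^ i * x'⁻¹ = (x' * z' * x'⁻¹) ^ i :=
        (conj_zpow (a := x') (b := z') (i := i)).symm
      rw [h1]
      apply Subgroup.zpow_mem
      obtain ⟨j, hj⟩ := Subgroup.mem_zpowers_iff.mp hxn
      have h2 : x' * z' * x'⁻¹ = g * (x * z * x⁻¹) * g⁻¹ := by rw [hx', hz']; group
      rw [h2, ← hj]
      have h3 : g * z ^ j * g⁻¹ = z' ^ j := (conj_zpow (a := g) (b := z) (i := j)).symm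
      rw [h3]
      exact Subgroup.zpow_mem _ (Subgroup.mem_zpowers z') j
    have hx'C : x' ∉ Subgroup.centralizer ((Subgroup.zpowers z' : Subgroup G) : Set G) := by
      rw [mem_centralizer_zpowers_iff]
      intro hcon
      apply hxc
      have h1 : g * (x * z) * g⁻¹ = g * (z * x) * g⁻¹ := by
        calc g * (x * z) * g⁻¹ = x' * z' := by rw [hx', hz']; group
          _ = z' * x' := hcon.eq
          _ = g * (z * x) * g⁻¹ := by rw [hx', hz']; group
      exact mul_left_cancel (mul_right_cancel h1)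
    obtain ⟨ho, hinv⟩ := hx x' hx'N hx'C
    constructor
    · have : x' = MulAut.conj g x := by rw [MulAut.conj_apply]
      rw [this, MulEquiv.orderOf_eq] at ho
      exact ho
    · intro c hc
      have h1 := hinv (g * c * g⁻¹) (mem_centralizer_zpowers_iff.mpr (hconjcomm c hc))
      have h2 : g * (x * c * x⁻¹) * g⁻¹ = g * c⁻¹ * g⁻¹ := by
        calc g * (x * c * x⁻¹) * g⁻¹ = x' * (g * c * g⁻¹) * x'⁻¹ := by rw [hx']; group
          _ = (g * c * g⁻¹)⁻¹ := h1
          _ = g * c⁻¹ * g⁻¹ := by group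
      exact mul_left_cancel (mul_right_cancel h2)

end Cfsg.Agent.Lib.H20.PBC
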