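import Mathlib
import Cfsg.Agent.Lib.H20.PByCyclic5
import Cfsg.Agent.Lib.H20.Cyclic
import Cfsg.Agent.Lib.H22.DihQuatRecog

set_option autoImplicit false

/-!
# Restricted `p`-by-cyclic subgroups: the backward direction
-/

namespace Cfsg.Agent.Lib.H20.PBC

/-- recognition of a dihedral group from a cyclic subgroup of index two inverted by an
involution (after helper5) -/
theorem dihedral_of_index_two' {G : Type*} [Group G] [Finite G] (T : Subgroup G) [IsCyclic T]
    (s : G) (hs : s ∉ T) (hss : s * s = 1) (hinv : ∀ y ∈ T, s * y * s⁻¹ = y⁻¹)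
    (hG : Nat.card G = 2 * Nat.card T) :
    Nonempty (G ≃* DihedralGroup (Nat.card T)) := by
  have hcpos : 0 < Nat.card T := Nat.card_pos
  haveI : NeZero (Nat.card T) := ⟨by omega⟩
  obtain ⟨r, hr⟩ := IsCyclic.exists_generator (α := T)
  have hr_ord : orderOf (r : G) = Nat.card T := by
    rw [Subgroup.orderOf_coe, orderOf_eq_card_of_forall_mem_zpowers hr]
  apply Cfsg.Agent.Lib.H22.dihedral_equiv_of_gens (Nat.card T) (r : G) s
  · rw [← hr_ord]; exact pow_orderOf_eq_one _
  · exact hss
  · exact hinv _ r.2
  · have hT : T ≤ Subgroup.closure ({(r : G), s} : Set G) := by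
      intro y hy
      obtain ⟨n, hn⟩ := Subgroup.mem_zpowers_iff.mp (hr ⟨y, hy⟩)
      have : y = (r : G) ^ n := by
        have := congrArg Subtype.val hn
        simpa using this.symm
      rw [this]
      exact zpow_mem (Subgroup.subset_closure (by simp)) n
    have hsC : s ∈ Subgroup.closure ({(r : G), s} : Set G) := Subgroup.subset_closure (by simp)
    have h1 : Nat.card T ∣ Nat.card (Subgroup.closure ({(r : G), s} : Set G)) :=
      Subgroup.card_dvd_of_le hT
    have h2 : Nat.card (Subgroup.closure ({(r : G), s} : Set G)) ∣ Nat.card G :=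
      Subgroup.card_subgroup_dvd_card _
    have h3 : Nat.card T < Nat.card (Subgroup.closure ({(r : G), s} : Set G)) := by
      have hlt : (T : Set G) ⊂ (Subgroup.closure ({(r : G), s} : Set G) : Set G) := by
        rw [Set.ssubset_iff_of_subset (fun y hy => hT hy)]
        exact ⟨s, hsC, hs⟩
      exact Set.ncard_lt_ncard hlt (Set.toFinite _)
    apply Subgroup.eq_top_of_card_eq
    rw [hG] at h2 ⊢
    obtain ⟨a, ha⟩ := h1
    obtain ⟨b, hb⟩ := h2
    rw [ha] at hb h3 ⊢
    have ha2 : 2 ≤ a := by
      by_contra h
      push Not at h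
      interval_cases a
      · omega
      · omega
    have hb1 : 1 ≤ b := by
      rcases Nat.eq_zero_or_pos b with h | h
      · subst h
        simp at hb
        omega
      · exact h
    have : 2 = a * b := by
      have : Nat.card T * 2 = Nat.card T * (a * b) := by
        rw [mul_comm, hb]; ring
      exact Nat.eq_of_mul_eq_mul_left hcpos this
    have hab : a = 2 := by nlinarith
    rw [hab]; ring
  · exact hG

variable {p : ℕ} [hp : Fact p.Prime]

/-- A commutative group with a cyclic normal Sylow `p`-subgroup and cyclic quotient is cyclic. -/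
theorem isCyclic_of_comm_of_sylow {K : Type*} [Group K] [Finite K] (T : Sylow p K)
    [hTn : (T : Subgroup K).Normal] (hT : IsCyclic (T : Subgroup K))
    (hq : IsCyclic (K ⧸ (T : Subgroup K))) (hc : IsMulCommutative K) : IsCyclic K := by
  haveI := hT
  haveI := hq
  have hcop : (Nat.card (T : Subgroup K)).Coprime (Nat.card (K ⧸ (T : Subgroup K))) := by
    obtain ⟨k, hk⟩ := IsPGroup.iff_card.mp T.isPGroup'
    rw [hk, ← Subgroup.index_eq_card]
    exact ((Nat.Prime.coprime_iff_not_dvd hp.out).mpr T.not_dvd_index).pow_left k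
  haveI : IsZGroup K := isZGroup_of_coprime (f := (T : Subgroup K).subtype)
    (f' := QuotientGroup.mk' (T : Subgroup K))
    (by rw [QuotientGroup.ker_mk', Subgroup.range_subtype]) hcop
  haveI : Group.IsNilpotent K := ⟨⟨1, Subgroup.upperCentralSeries_one_eq_top_iff.mpr hc⟩⟩
  exact inferInstance

/-- In a cyclic group, an element of order dividing two is `1` or a given involution. -/
theorem eq_one_or_eq_of_sq_eq_one {C : Type*} [Group C] [Finite C] [IsCyclic C] {a b : C}
    (ha : a ^ 2 = 1) (hb : b ^ 2 = 1) (hb1 : b ≠ 1) : a = 1 ∨ a = b := by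
  classical
  haveI : Fintype C := Fintype.ofFinite C
  by_contra hcon
  push_neg at hcon
  have h1 : (Finset.univ.filter (fun c : C => c ^ 2 = 1)).card ≤ 2 :=
    IsCyclic.card_pow_eq_one_le (by norm_num)
  have h2 : ({1, b, a} : Finset C) ⊆ Finset.univ.filter (fun c : C => c ^ 2 = 1) := by
    intro c hc
    simp only [Finset.mem_insert, Finset.mem_singleton] at hc
    simp only [Finset.mem_filter, Finset.mem_univ, true_and]
    rcases hc with rfl | rfl | rfl
    · exact one_pow 2
    · exact hb
    · exact ha
  have h3 : ({1, b, a} : Finset C).card = 3 := by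
    rw [Finset.card_insert_of_notMem, Finset.card_insert_of_notMem, Finset.card_singleton]
    · rw [Finset.mem_singleton]; exact fun h => hcon.2 h.symm
    · simp only [Finset.mem_insert, Finset.mem_singleton]
      rintro (h | h)
      · exact hb1 h.symm
      · exact hcon.1 h.symm
  have := Finset.card_le_card h2
  omega

end Cfsg.Agent.Lib.H20.PBC
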