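import Mathlib
import Cfsg.Agent.Lib.H20.PByCyclic6

set_option autoImplicit false

/-!
# Restricted `p`-by-cyclic subgroups: the backward direction, main argument
-/

namespace Cfsg.Agent.Lib.H20.PBC

theorem commute_of_isCyclic_type {C : Type*} [Group C] [IsCyclic C] (a b : C) : Commute a b := by
  obtain ⟨g, hg⟩ := IsCyclic.exists_generator (α := C)
  obtain ⟨i, rfl⟩ := Subgroup.mem_zpowers_iff.mp (hg a)
  obtain ⟨j, rfl⟩ := Subgroup.mem_zpowers_iff.mp (hg b)
  exact (Commute.refl g).zpow_zpow i j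

variable {G : Type*} [Group G] [Finite G] {p : ℕ} [hp : Fact p.Prime]

/-- The dihedral case of the backward direction, phrased inside the group `K = H`. -/
theorem dihedral_case {K : Type*} [Group K] [Finite K] (T : Sylow p K)
    [hTn : (T : Subgroup K).Normal] (hTcyc : IsCyclic (T : Subgroup K))
    (hquot : IsCyclic (K ⧸ (T : Subgroup K))) (z : K) (hzT : z ∈ (T : Subgroup K))
    (hE2 : ∀ x : K, ¬ Commute x z → x * x = 1 ∧ ∀ c : K, Commute c z → x * c * x⁻¹ = c⁻¹)
    (x : K) (hxz : ¬ Commute x z) :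
    ∃ n : ℕ, Nonempty (K ≃* DihedralGroup (p ^ n)) := by
  haveI := hTcyc
  haveI := hquot
  obtain ⟨hxx, hxinv⟩ := hE2 x hxz
  have hTz : ∀ t ∈ (T : Subgroup K), Commute t z := fun t ht => commute_of_isCyclic hTcyc ht hzT
  have hxT : x ∉ (T : Subgroup K) := fun h => hxz (hTz x h)
  set π := QuotientGroup.mk' (T : Subgroup K) with hπ
  have hπx1 : π x ≠ 1 := by
    rw [hπ, QuotientGroup.mk'_apply, Ne, QuotientGroup.eq_one_iff]; exact hxT
  have hπx2 : π x ^ 2 = 1 := by
    rw [← map_pow, pow_two, hxx, map_one]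
  have key1 : ∀ h₀ : K, Commute h₀ z → π h₀ = 1 := by
    intro h₀ hh₀
    have h1 := hxinv h₀ hh₀
    have h2 : π h₀ = (π h₀)⁻¹ := by
      have := congrArg π h1
      rw [map_mul, map_mul, map_inv, map_inv] at this
      rw [← this, (commute_of_isCyclic_type (π x) (π h₀)).eq]
      group
    have h3 : π h₀ ^ 2 = 1 := by
      rw [pow_two]; nth_rewrite 1 [h2]; exact inv_mul_cancel _
    rcases eq_one_or_eq_of_sq_eq_one h3 hπx2 hπx1 with h4 | h4
    · exact h4
    · exfalso
      have h5 : π (x⁻¹ * h₀) = 1 := by rw [map_mul, map_inv, h4, inv_mul_cancel]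
      rw [hπ, QuotientGroup.mk'_apply, QuotientGroup.eq_one_iff] at h5
      have h6 := hTz _ h5
      apply hxz
      have h7 : Commute x⁻¹ z := by
        have : x⁻¹ = x⁻¹ * h₀ * h₀⁻¹ := by group
        rw [this]
        exact h6.mul_left hh₀.inv_left
      have := h7.inv_left
      rwa [inv_inv] at this
  have key2 : ∀ h : K, ¬ Commute h z → π h = π x := by
    intro h hh
    obtain ⟨-, hhinv⟩ := hE2 h hh
    have h1 := hhinv z (Commute.refl z)
    have h2 := hxinv z (Commute.refl z)
    have h3 : Commute (x * h) z := by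
      have : x * h * z * (x * h)⁻¹ = z := by
        calc x * h * z * (x * h)⁻¹ = x * (h * z * h⁻¹) * x⁻¹ := by group
          _ = x * z⁻¹ * x⁻¹ := by rw [h1]
          _ = (x * z * x⁻¹)⁻¹ := by group
          _ = z := by rw [h2, inv_inv]
      change x * h * z = z * (x * h)
      calc x * h * z = (x * h * z * (x * h)⁻¹) * (x * h) := by group
        _ = z * (x * h) := by rw [this]
    have h4 := key1 _ h3
    rw [map_mul] at h4
    have h5 : π h = (π x)⁻¹ := by
      rw [eq_inv_iff_mul_eq_one, (commute_of_isCyclic_type (π h) (π x)).eq]; exact h4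
    have h6 : (π x)⁻¹ = π x := by
      rw [inv_eq_iff_mul_eq_one, ← pow_two]; exact hπx2
    rw [h5, h6]
  have hcardq : Nat.card (K ⧸ (T : Subgroup K)) = 2 := by
    rw [Nat.card_eq_two_iff' (1 : K ⧸ (T : Subgroup K))]
    refine ⟨π x, hπx1, ?_⟩
    intro q hq
    obtain ⟨h, rfl⟩ := QuotientGroup.mk'_surjective (T : Subgroup K) q
    by_cases hh : Commute h z
    · exact absurd (key1 h hh) hq
    · exact key2 h hh
  have hcard : Nat.card K = 2 * Nat.card (T : Subgroup K) := by
    rw [← hcardq, mul_comm]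
    exact (Subgroup.card_eq_card_quotient_mul_card_subgroup _).trans (mul_comm _ _)
  obtain ⟨k, hk⟩ := IsPGroup.iff_card.mp T.isPGroup'
  have hdih := dihedral_of_index_two' (T : Subgroup K) x hxT hxx
    (fun y hy => hxinv y (hTz y hy)) hcard
  rw [hk] at hdih
  exact ⟨k, hdih⟩

end Cfsg.Agent.Lib.H20.PBC
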