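import Mathlib
import Cfsg.Agent.Lib.H20.PByCyclic7
import Cfsg.Agent.Lib.H20.PByCyclic4

set_option autoImplicit false

/-!
# Restricted `p`-by-cyclic subgroups: the backward direction and the equivalence
-/

namespace Cfsg.Agent.Lib.H20.PBC

variable {G : Type*} [Group G] [Finite G] {p : ℕ} [hp : Fact p.Prime]

theorem backward (P : Sylow p G) (hcyc : IsCyclic (P : Subgroup G))
    (hcond : Subgroup.normalizer ((P : Subgroup G) : Set G) =
          Subgroup.centralizer ((P : Subgroup G) : Set G) ∨
       ((Subgroup.centralizer ((P : Subgroup G) : Set G)).relIndex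
          (Subgroup.normalizer ((P : Subgroup G) : Set G)) = 2 ∧
        ∀ Q : Subgroup G, Q ≤ P → Nat.card Q = p →
          IsMulCommutative ↥(Subgroup.centralizer (Q : Set G)) ∧
          ∀ x : G, x ∈ Subgroup.normalizer (Q : Set G) → x ∉ Subgroup.centralizer (Q : Set G) →
            orderOf x = 2 ∧ ∀ c : G, c ∈ Subgroup.centralizer (Q : Set G) → x * c * x⁻¹ = c⁻¹)) :
    RPC p G := by
  intro H hyp1 hyp2
  classical
  let T : Sylow p ↥H := default
  haveI hTn : (T : Subgroup ↥H).Normal := hyp1 T
  have hquot : IsCyclic (↥H ⧸ (T : Subgroup ↥H)) := hyp2 T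
  set S : Subgroup G := (T : Subgroup ↥H).map H.subtype with hS
  have hSp : IsPGroup p S := T.isPGroup'.map H.subtype
  have hScyc : IsCyclic S := isCyclic_of_isPGroup P hcyc S hSp
  have eTS : (T : Subgroup ↥H) ≃* S :=
    Subgroup.equivMapOfInjective _ H.subtype H.subtype_injective
  have hTcyc : IsCyclic (T : Subgroup ↥H) :=
    isCyclic_of_surjective eTS.symm.toMonoidHom eTS.symm.surjective
  have hmemS : ∀ t : ↥H, t ∈ (T : Subgroup ↥H) ↔ (t : G) ∈ S := by
    intro t
    constructor
    · intro ht; exact ⟨t, ht, rfl⟩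
    · rintro ⟨t', ht', htt'⟩
      have : t' = t := Subtype.ext htt'
      rw [← this]; exact ht'
  have hnormS : ∀ h ∈ H, ∀ s ∈ S, h * s * h⁻¹ ∈ S := by
    rintro h hh _ ⟨t, ht, rfl⟩
    exact ⟨⟨h, hh⟩ * t * ⟨h, hh⟩⁻¹, hTn.conj_mem t ht ⟨h, hh⟩, rfl⟩
  rcases hcond with hNC | ⟨-, hQ⟩
  · -- Case `N_G(P) = C_G(P)`
    left
    have hcentral : (T : Subgroup ↥H) ≤ Subgroup.center ↥H := by
      intro t ht
      rw [Subgroup.mem_center_iff]
      intro h
      apply Subtype.ext
      have hhn : (h : G) ∈ Subgroup.normalizer (S : Set G) :=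
        Cfsg.Agent.Lib.L0.mem_normalizer_of_forall_conj_mem S h (hnormS h h.2)
      have h1 := commute_of_normalizer_eq_centralizer P hcyc hNC S hSp hhn ((hmemS t).mp ht)
      change (h : G) * (t : G) = (t : G) * (h : G)
      calc (h : G) * (t : G) = ((h : G) * (t : G) * (h : G)⁻¹) * (h : G) := by group
        _ = (t : G) * (h : G) := by rw [h1]
    have hcomm : IsMulCommutative ↥H :=
      (QuotientGroup.mk' (T : Subgroup ↥H)).isMulCommutative_of_isCyclic_of_ker_le_center
        (by rw [QuotientGroup.ker_mk']; exact hcentral)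
    exact isCyclic_of_comm_of_sylow T hTcyc hquot hcomm
  · -- Case of index two
    by_cases hTbot : (T : Subgroup ↥H) = ⊥
    · left
      have e1 : ↥H ⧸ (T : Subgroup ↥H) ≃* ↥H ⧸ (⊥ : Subgroup ↥H) :=
        QuotientGroup.quotientMulEquivOfEq hTbot
      have e2 : ↥H ⧸ (⊥ : Subgroup ↥H) ≃* ↥H := QuotientGroup.quotientBot
      exact isCyclic_of_surjective (e1.trans e2).toMonoidHom (e1.trans e2).surjective
    · have hpT : p ∣ Nat.card (T : Subgroup ↥H) := by
        obtain ⟨k, hk⟩ := IsPGroup.iff_card.mp T.isPGroup'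
        rw [hk]
        apply dvd_pow_self
        rintro rfl
        rw [pow_zero, Subgroup.card_eq_one] at hk
        exact hTbot hk
      obtain ⟨zT, hzT⟩ := exists_prime_orderOf_dvd_card' (G := ↥(T : Subgroup ↥H)) p hpT
      obtain ⟨zH, hzHT⟩ := zT
      have hzHo : orderOf zH = p := by
        rw [← hzT]; exact (Subgroup.orderOf_mk zH hzHT).symm
      set z : G := (zH : G) with hz
      have hzo : orderOf z = p := by
        rw [hz, Subgroup.orderOf_coe, hzHo]
      have hzS : z ∈ S := (hmemS zH).mp hzHT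
      obtain ⟨hE1, hE2⟩ := zCond_of_cond P hQ hzo
      have hcommH : ∀ a : ↥H, Commute a zH ↔ Commute (a : G) z := by
        intro a
        constructor
        · intro h; exact congrArg Subtype.val h.eq
        · intro h; exact Subtype.ext h.eq
      have hnz : ∀ h ∈ H, h * z * h⁻¹ ∈ Subgroup.zpowers z := by
        intro h hh
        have h1 : h * z * h⁻¹ ∈ S := hnormS h hh z hzS
        haveI := hScyc
        have h2 := Cfsg.Agent.Lib.H20.mem_zpowers_of_orderOf_dvd_of_isCyclic (C := ↥S)
          (x := ⟨h * z * h⁻¹, h1⟩) (y := ⟨z, hzS⟩) (by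
            rw [Subgroup.orderOf_mk, Subgroup.orderOf_mk]
            have : h * z * h⁻¹ = MulAut.conj h z := by rw [MulAut.conj_apply]
            rw [this, MulEquiv.orderOf_eq])
        obtain ⟨k, hk⟩ := Subgroup.mem_zpowers_iff.mp h2
        rw [Subgroup.mem_zpowers_iff]
        refine ⟨k, ?_⟩
        have := congrArg Subtype.val hk
        simpa using this
      by_cases hall : ∀ h ∈ H, Commute h z
      · left
        have hcomm : IsMulCommutative ↥H :=
          ⟨⟨fun a b => Subtype.ext (hE1 a b (hall a a.2) (hall b b.2)).eq⟩⟩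
        exact isCyclic_of_comm_of_sylow T hTcyc hquot hcomm
      · right
        push_neg at hall
        obtain ⟨x, hxH, hxz⟩ := hall
        apply dihedral_case T hTcyc hquot zH hzHT _ ⟨x, hxH⟩ ((hcommH ⟨x, hxH⟩).not.mpr hxz)
        intro y hy
        rw [hcommH] at hy
        obtain ⟨hy2, hyinv⟩ := hE2 (y : G) (hnz y y.2) hy
        constructor
        · apply Subtype.ext
          change (y : G) * (y : G) = 1
          rw [← pow_two, ← hy2]; exact pow_orderOf_eq_one _
        · intro c hc
          apply Subtype.ext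
          exact hyinv (c : G) ((hcommH c).mp hc)

/-- The characterization of groups with restricted `p`-by-cyclic subgroups, `p` odd. -/
theorem rpc_iff (hp2 : p ≠ 2) (P : Sylow p G) :
    RPC p G ↔
    (IsCyclic (P : Subgroup G) ∧
      (Subgroup.normalizer ((P : Subgroup G) : Set G) =
          Subgroup.centralizer ((P : Subgroup G) : Set G) ∨
       ((Subgroup.centralizer ((P : Subgroup G) : Set G)).relIndex
          (Subgroup.normalizer ((P : Subgroup G) : Set G)) = 2 ∧
        ∀ Q : Subgroup G, Q ≤ P → Nat.card Q = p →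
          IsMulCommutative ↥(Subgroup.centralizer (Q : Set G)) ∧
          ∀ x : G, x ∈ Subgroup.normalizer (Q : Set G) → x ∉ Subgroup.centralizer (Q : Set G) →
            orderOf x = 2 ∧ ∀ c : G, c ∈ Subgroup.centralizer (Q : Set G) → x * c * x⁻¹ = c⁻¹))) :=
  ⟨forward hp2 P, fun h => backward P h.1 h.2⟩

end Cfsg.Agent.Lib.H20.PBC
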