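import Mathlib

set_option autoImplicit false

/-!
# Groups in which every `p`-element has class size prime to `p` (part 1)

`PC p G` : every element of `p`-power order has centralizer of index prime to `p`.
`PCS p G` : every element of `p`-power order is centralized by some Sylow `p`-subgroup.
These are equivalent, and pass to normal subgroups and quotients.
-/

open scoped Pointwise

namespace Cfsg.Agent.Lib.H20.PCen

variable {G : Type*} [Group G] [Finite G] {p : ℕ} [Fact p.Prime]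

/-- every element of `p`-power order has centralizer of index prime to `p` -/
def PC (p : ℕ) (G : Type*) [Group G] : Prop :=
  ∀ x : G, (∃ k : ℕ, orderOf x = p ^ k) → ¬ p ∣ (Subgroup.centralizer ({x} : Set G)).index

/-- every element of `p`-power order is centralized by a Sylow `p`-subgroup -/
def PCS (p : ℕ) (G : Type*) [Group G] : Prop :=
  ∀ x : G, (∃ k : ℕ, orderOf x = p ^ k) →
    ∃ Q : Sylow p G, (Q : Subgroup G) ≤ Subgroup.centralizer ({x} : Set G)

omit [Finite G] [Fact p.Prime] in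
theorem mem_smul_sylow (g x : G) (Q : Sylow p G) :
    x ∈ ((g • Q : Sylow p G) : Subgroup G) ↔ g⁻¹ * x * g ∈ (Q : Subgroup G) := by
  rw [Sylow.smul_def, Sylow.pointwise_smul_def,
    Subgroup.mem_pointwise_smul_iff_inv_smul_mem, MulAut.smul_def, MulAut.conj_inv_apply]

/-- A subgroup of index prime to `p` contains a conjugate of each Sylow `p`-subgroup. -/
theorem exists_smul_le_of_not_dvd_index (P : Sylow p G) (C : Subgroup G) (hC : ¬ p ∣ C.index) :
    ∃ g : G, ((g • P : Sylow p G) : Subgroup G) ≤ C := by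
  have hfix := (P.isPGroup').nonempty_fixed_point_of_prime_not_dvd_card (G ⧸ C)
    (by rwa [← Subgroup.index])
  obtain ⟨q, hq⟩ := hfix
  obtain ⟨g, rfl⟩ := QuotientGroup.mk_surjective q
  refine ⟨g⁻¹, fun x hx => ?_⟩
  rw [mem_smul_sylow, inv_inv] at hx
  have h1 := hq ⟨g * x * g⁻¹, hx⟩
  have h2 : (g * x * g⁻¹) • (QuotientGroup.mk g : G ⧸ C) = QuotientGroup.mk g := h1
  rw [MulAction.Quotient.smul_mk, QuotientGroup.eq] at h2
  have h3 : (g * x * g⁻¹ * g)⁻¹ * g = x⁻¹ := by group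
  rw [smul_eq_mul, h3] at h2
  simpa using C.inv_mem h2

theorem pcs_of_pc (h : PC p G) : PCS p G := by
  intro x hx
  obtain ⟨P⟩ : Nonempty (Sylow p G) := inferInstance
  obtain ⟨g, hg⟩ := exists_smul_le_of_not_dvd_index P _ (h x hx)
  exact ⟨g • P, hg⟩

theorem pc_of_pcs (h : PCS p G) : PC p G := by
  intro x hx
  obtain ⟨Q, hQ⟩ := h x hx
  intro hdvd
  exact Q.not_dvd_index (hdvd.trans (Subgroup.index_dvd_of_le hQ))

/-- `PCS` passes to normal subgroups. -/
theorem pcs_normal (h : PCS p G) (N : Subgroup G) [N.Normal] : PCS p N := by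
  intro x hx
  have hx' : ∃ k : ℕ, orderOf (x : G) = p ^ k := by
    obtain ⟨k, hk⟩ := hx
    exact ⟨k, by rw [Subgroup.orderOf_coe, hk]⟩
  obtain ⟨Q, hQ⟩ := h (x : G) hx'
  obtain ⟨R₀⟩ : Nonempty (Sylow p N) := inferInstance
  -- `R₀` lies in a Sylow subgroup of `G`
  obtain ⟨Q₀, hQ₀⟩ := (R₀.isPGroup'.map N.subtype).exists_le_sylow
  obtain ⟨g, hg⟩ := MulAction.exists_smul_eq G Q₀ Q
  -- g • Q₀ = Q
  refine ⟨(MulAut.conjNormal g : MulAut N) • R₀, ?_⟩
  intro r hr
  rw [Sylow.pointwise_smul_def, Subgroup.mem_pointwise_smul_iff_inv_smul_mem, MulAut.smul_def] at hr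
  -- r₀ := conjNormal g⁻¹ r ∈ R₀
  have hr0 : (((MulAut.conjNormal g : MulAut N)⁻¹ r : N) : G) ∈ (Q₀ : Subgroup G) :=
    hQ₀ (Subgroup.mem_map_of_mem N.subtype hr)
  have hval : (((MulAut.conjNormal g : MulAut N)⁻¹ r : N) : G) = g⁻¹ * (r : G) * g := by
    rw [← map_inv, MulAut.conjNormal_apply, inv_inv]
  rw [hval] at hr0
  -- so r ∈ g • Q₀ = Q
  have hrQ : (r : G) ∈ (Q : Subgroup G) := by
    rw [← hg, mem_smul_sylow]; exact hr0
  have hcomm := hQ hrQ
  rw [Subgroup.mem_centralizer_singleton_iff] at hcomm ⊢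
  exact Subtype.ext hcomm

/-- `PCS` passes to quotients. -/
theorem pcs_quotient (h : PCS p G) (N : Subgroup G) [N.Normal] : PCS p (G ⧸ N) := by
  intro x hx
  have hsurj : Function.Surjective (QuotientGroup.mk' N) := QuotientGroup.mk'_surjective N
  obtain ⟨P⟩ : Nonempty (Sylow p G) := inferInstance
  -- `x` lies in some Sylow subgroup of the quotient
  have hzp : IsPGroup p (Subgroup.zpowers x) := by
    obtain ⟨k, hk⟩ := hx
    refine IsPGroup.of_card (n := k) ?_
    rw [Nat.card_zpowers, hk]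
  obtain ⟨Pb, hPb⟩ := hzp.exists_le_sylow
  obtain ⟨gb, hgb⟩ := MulAction.exists_smul_eq (G ⧸ N) (P.mapSurjective hsurj) Pb
  have hxPb : x ∈ (Pb : Subgroup (G ⧸ N)) := hPb (Subgroup.mem_zpowers x)
  rw [← hgb, mem_smul_sylow, Sylow.coe_mapSurjective] at hxPb
  obtain ⟨u, hu, hux⟩ := Subgroup.mem_map.mp hxPb
  -- `u` is a `p`-element
  have hup : ∃ k : ℕ, orderOf u = p ^ k := by
    obtain ⟨k, hk⟩ := P.isPGroup' ⟨u, hu⟩
    have hk' : u ^ p ^ k = 1 := by simpa using congrArg Subtype.val hk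
    obtain ⟨j, -, hj⟩ := (Nat.dvd_prime_pow Fact.out).mp (orderOf_dvd_of_pow_eq_one hk')
    exact ⟨j, hj⟩
  obtain ⟨Q, hQ⟩ := h u hup
  refine ⟨gb • Q.mapSurjective hsurj, ?_⟩
  intro y hy
  rw [mem_smul_sylow, Sylow.coe_mapSurjective] at hy
  obtain ⟨v, hv, hvy⟩ := Subgroup.mem_map.mp hy
  have hcomm := hQ hv
  rw [Subgroup.mem_centralizer_singleton_iff] at hcomm ⊢
  -- y = gb * mk v * gb⁻¹, x = gb * mk u * gb⁻¹
  have hy' : y = gb * (QuotientGroup.mk' N v) * gb⁻¹ := by rw [hvy]; group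
  have hx' : x = gb * (QuotientGroup.mk' N u) * gb⁻¹ := by rw [hux]; group
  rw [hy', hx']
  have : (QuotientGroup.mk' N v) * (QuotientGroup.mk' N u) =
      (QuotientGroup.mk' N u) * (QuotientGroup.mk' N v) := by
    rw [← map_mul, ← map_mul, hcomm]
  calc gb * (QuotientGroup.mk' N v) * gb⁻¹ * (gb * (QuotientGroup.mk' N u) * gb⁻¹)
      = gb * ((QuotientGroup.mk' N v) * (QuotientGroup.mk' N u)) * gb⁻¹ := by group
    _ = gb * ((QuotientGroup.mk' N u) * (QuotientGroup.mk' N v)) * gb⁻¹ := by rw [this]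
    _ = _ := by group

end Cfsg.Agent.Lib.H20.PCen
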