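import Mathlib
import Cfsg.Agent.Lib.H20.PCentral1

set_option autoImplicit false

/-!
# Groups in which every `p`-element has class size prime to `p` (part 2)

If `N ⊴ G`, the Sylow `p`-subgroups of `N` and of `G ⧸ N` are abelian and every `p`-element of `G`
is centralized by a Sylow `p`-subgroup, then the Sylow `p`-subgroups of `G` are abelian.
-/

open scoped Pointwise

namespace Cfsg.Agent.Lib.H20.PCen

variable {G : Type*} [Group G] [Finite G] {p : ℕ} [Fact p.Prime]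

omit [Finite G] in
/-- a `p`-element centralizing a Sylow `p`-subgroup lies in it -/
theorem mem_sylow_of_centralizes (P : Sylow p G) {z : G} (hz : ∃ k : ℕ, orderOf z = p ^ k)
    (hc : ∀ u ∈ (P : Subgroup G), u * z = z * u) : z ∈ (P : Subgroup G) := by
  have hpg : IsPGroup p (Subgroup.zpowers z) := by
    obtain ⟨k, hk⟩ := hz
    refine IsPGroup.of_card (n := k) ?_
    rw [Nat.card_zpowers, hk]
  have hzN : z ∈ Subgroup.normalizer ((P : Subgroup G) : Set G) := by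
    rw [Subgroup.mem_normalizer_iff]
    intro u
    constructor
    · intro hu
      have : z * u * z⁻¹ = u := by rw [← hc u hu]; group
      rw [this]; exact hu
    · intro hu
      have h1 := hc _ hu
      have : u = z * u * z⁻¹ := by
        have h2 : z * u * z⁻¹ * z = z * (z * u * z⁻¹) := h1
        have h3 : z * u = z * (z * u * z⁻¹) := by
          rw [← h2]; group
        exact mul_left_cancel h3
      rw [this]; exact hu
  have h1 := hpg.inf_normalizer_sylow P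
  have h2 : z ∈ Subgroup.zpowers z ⊓ Subgroup.normalizer ((P : Subgroup G) : Set G) :=
    ⟨Subgroup.mem_zpowers z, hzN⟩
  exact (h1.le h2).2

section main

variable (N : Subgroup G) [N.Normal] (hPCS : PCS p G)
  (hNab : ∀ R : Sylow p N, ∀ a b : R, a * b = b * a)
  (hQab : ∀ R : Sylow p (G ⧸ N), ∀ a b : R, a * b = b * a)
  (P : Sylow p G)

include hQab in
theorem stepA {u v : G} (hu : u ∈ (P : Subgroup G)) (hv : v ∈ (P : Subgroup G)) :
    (QuotientGroup.mk' N u) * (QuotientGroup.mk' N v) =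
      (QuotientGroup.mk' N v) * (QuotientGroup.mk' N u) := by
  have hsurj : Function.Surjective (QuotientGroup.mk' N) := QuotientGroup.mk'_surjective N
  have h1 : QuotientGroup.mk' N u ∈ ((P.mapSurjective hsurj : Sylow p (G ⧸ N)) : Subgroup (G ⧸ N)) := by
    rw [Sylow.coe_mapSurjective]; exact Subgroup.mem_map_of_mem _ hu
  have h2 : QuotientGroup.mk' N v ∈ ((P.mapSurjective hsurj : Sylow p (G ⧸ N)) : Subgroup (G ⧸ N)) := by
    rw [Sylow.coe_mapSurjective]; exact Subgroup.mem_map_of_mem _ hv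
  have := hQab (P.mapSurjective hsurj) ⟨_, h1⟩ ⟨_, h2⟩
  exact congrArg Subtype.val this

include hNab in
omit [N.Normal] [Finite G] [Fact p.Prime] in
theorem stepB {a b : G} (ha : a ∈ (P : Subgroup G)) (haN : a ∈ N) (hb : b ∈ (P : Subgroup G))
    (hbN : b ∈ N) : a * b = b * a := by
  have hpg : IsPGroup p ((P : Subgroup G).subgroupOf N) :=
    P.isPGroup'.comap_subtype
  obtain ⟨R, hR⟩ := hpg.exists_le_sylow
  have h1 : (⟨a, haN⟩ : N) ∈ (R : Subgroup N) := hR (by rw [Subgroup.mem_subgroupOf]; exact ha)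
  have h2 : (⟨b, hbN⟩ : N) ∈ (R : Subgroup N) := hR (by rw [Subgroup.mem_subgroupOf]; exact hb)
  have := hNab R ⟨_, h1⟩ ⟨_, h2⟩
  have h3 := congrArg Subtype.val this
  exact congrArg Subtype.val h3

include hPCS hQab in
theorem stepC {x : G} (hx : x ∈ (P : Subgroup G)) :
    ∃ z a : G, z ∈ (P : Subgroup G) ∧ (∀ u ∈ (P : Subgroup G), u * z = z * u) ∧
      a ∈ (P : Subgroup G) ∧ a ∈ N ∧ x = z * a := by
  -- `x` is a `p`-element
  have hxp : ∃ k : ℕ, orderOf x = p ^ k := by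
    obtain ⟨k, hk⟩ := P.isPGroup' ⟨x, hx⟩
    have hk' : x ^ p ^ k = 1 := by simpa using congrArg Subtype.val hk
    obtain ⟨j, -, hj⟩ := (Nat.dvd_prime_pow Fact.out).mp (orderOf_dvd_of_pow_eq_one hk')
    exact ⟨j, hj⟩
  obtain ⟨Q, hQ⟩ := hPCS x hxp
  obtain ⟨g, hg⟩ := MulAction.exists_smul_eq G Q P
  -- x' = g x g⁻¹ is centralized by P
  have hx'c : ∀ u ∈ (P : Subgroup G), u * (g * x * g⁻¹) = (g * x * g⁻¹) * u := by
    intro u hu
    rw [← hg, mem_smul_sylow] at hu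
    have h1 := hQ hu
    rw [Subgroup.mem_centralizer_singleton_iff] at h1
    -- h1 : g⁻¹ * u * g * x = x * (g⁻¹ * u * g)
    have e1 : u * (g * x * g⁻¹) = g * (g⁻¹ * u * g * x) * g⁻¹ := by group
    rw [e1, h1]; group
  have hx'p : ∃ k : ℕ, orderOf (g * x * g⁻¹) = p ^ k := by
    obtain ⟨k, hk⟩ := hxp
    refine ⟨k, ?_⟩
    rw [← hk]
    have := MulEquiv.orderOf_eq (MulAut.conj g) x
    rwa [MulAut.conj_apply] at this
  have hx'P : g * x * g⁻¹ ∈ (P : Subgroup G) := mem_sylow_of_centralizes P hx'p hx'c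
  obtain ⟨x', hx'def⟩ : ∃ x' : G, x' = g * x * g⁻¹ := ⟨_, rfl⟩
  rw [← hx'def] at hx'c hx'P
  clear hx'p
  -- the subgroup `C`
  set π := QuotientGroup.mk' N with hπ
  obtain ⟨C, hCdef⟩ : ∃ C : Subgroup G,
      C = (Subgroup.centralizer ({π x'} : Set (G ⧸ N))).comap π := ⟨_, rfl⟩
  have hmemC : ∀ c : G, c ∈ C ↔ π c * π x' = π x' * π c := by
    intro c
    rw [hCdef, Subgroup.mem_comap, Subgroup.mem_centralizer_singleton_iff]
  have hPC : (P : Subgroup G) ≤ C := by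
    intro u hu
    rw [hmemC]
    exact stepA N hQab P hu hx'P
  have hP2C : ((g • P : Sylow p G) : Subgroup G) ≤ C := by
    intro u hu
    rw [mem_smul_sylow] at hu
    rw [hmemC]
    have h1 := stepA N hQab P hu hx
    have e1 : π u = π g * π (g⁻¹ * u * g) * (π g)⁻¹ := by
      rw [← map_inv, ← map_mul, ← map_mul]; congr 1; group
    have e2 : π x' = π g * π x * (π g)⁻¹ := by
      rw [hx'def, ← map_inv, ← map_mul, ← map_mul]
    rw [e1, e2]
    calc π g * π (g⁻¹ * u * g) * (π g)⁻¹ * (π g * π x * (π g)⁻¹)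
        = π g * (π (g⁻¹ * u * g) * π x) * (π g)⁻¹ := by group
      _ = π g * (π x * π (g⁻¹ * u * g)) * (π g)⁻¹ := by rw [h1]
      _ = _ := by group
  -- conjugate in `C`
  obtain ⟨c, hc⟩ := MulAction.exists_smul_eq C ((g • P).subtype hP2C) (P.subtype hPC)
  rw [Sylow.smul_subtype] at hc
  have hc' : (c : G) • (g • P) = P := Sylow.subtype_injective hc
  have hh : ((c : G) * g) • P = P := by rw [mul_smul]; exact hc'
  have hhN : (c : G) * g ∈ Subgroup.normalizer ((P : Subgroup G) : Set G) :=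
    Sylow.smul_eq_iff_mem_normalizer.mp hh
  -- h x h⁻¹ = c x' c⁻¹
  have hcC := (hmemC c).mp c.2
  -- a' = x'⁻¹ * (c x' c⁻¹) ∈ N
  have ha'N : x'⁻¹ * ((c : G) * x' * (c : G)⁻¹) ∈ N := by
    rw [← QuotientGroup.eq_one_iff, ← QuotientGroup.mk'_apply, ← hπ]
    rw [map_mul, map_inv, map_mul, map_mul, map_inv, hcC]
    group
  have hhx : ((c : G) * g) * x * ((c : G) * g)⁻¹ ∈ (P : Subgroup G) :=
    (Subgroup.mem_normalizer_iff.mp hhN x).mp hx
  have hhx' : ((c : G) * g) * x * ((c : G) * g)⁻¹ = (c : G) * x' * (c : G)⁻¹ := by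
    rw [hx'def]; group
  have ha'P : x'⁻¹ * ((c : G) * x' * (c : G)⁻¹) ∈ (P : Subgroup G) := by
    rw [← hhx']
    exact (P : Subgroup G).mul_mem ((P : Subgroup G).inv_mem hx'P) hhx
  -- now conjugate back by h⁻¹
  have hinvN : ((c : G) * g)⁻¹ ∈ Subgroup.normalizer ((P : Subgroup G) : Set G) :=
    Subgroup.inv_mem _ hhN
  have hconjP : ∀ y ∈ (P : Subgroup G), ((c : G) * g)⁻¹ * y * ((c : G) * g) ∈ (P : Subgroup G) := by
    intro y hy
    have := (Subgroup.mem_normalizer_iff.mp hinvN y).mp hy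
    rwa [inv_inv] at this
  refine ⟨((c : G) * g)⁻¹ * x' * ((c : G) * g),
    ((c : G) * g)⁻¹ * (x'⁻¹ * ((c : G) * x' * (c : G)⁻¹)) * ((c : G) * g),
    hconjP _ hx'P, ?_, hconjP _ ha'P, ?_, ?_⟩
  · intro u hu
    -- u = h⁻¹ (h u h⁻¹) h and h u h⁻¹ ∈ P commutes with x'
    have hu' : ((c : G) * g) * u * ((c : G) * g)⁻¹ ∈ (P : Subgroup G) :=
      (Subgroup.mem_normalizer_iff.mp hhN u).mp hu
    have h1 := hx'c _ hu'
    have e1 : u * (((c : G) * g)⁻¹ * x' * ((c : G) * g)) =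
        ((c : G) * g)⁻¹ * (((c : G) * g) * u * ((c : G) * g)⁻¹ * x') * ((c : G) * g) := by
      group
    rw [e1, h1]; group
  · have := ‹N.Normal›.conj_mem _ ha'N (((c : G) * g)⁻¹)
    rwa [inv_inv] at this
  · rw [hx'def]; group

include hPCS hNab hQab in
theorem sylow_comm {u v : G} (hu : u ∈ (P : Subgroup G)) (hv : v ∈ (P : Subgroup G)) :
    u * v = v * u := by
  obtain ⟨z₁, a₁, hz₁, hz₁c, ha₁, ha₁N, rfl⟩ := stepC N hPCS hQab P hu
  obtain ⟨z₂, a₂, hz₂, hz₂c, ha₂, ha₂N, rfl⟩ := stepC N hPCS hQab P hv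
  have e1 : a₁ * z₂ = z₂ * a₁ := hz₂c a₁ ha₁
  have e2 : a₂ * z₁ = z₁ * a₂ := hz₁c a₂ ha₂
  have e3 : z₁ * z₂ = z₂ * z₁ := hz₂c z₁ hz₁
  have e4 : a₁ * a₂ = a₂ * a₁ := stepB N hNab P ha₁ ha₁N ha₂ ha₂N
  calc z₁ * a₁ * (z₂ * a₂) = z₁ * (a₁ * z₂) * a₂ := by group
    _ = z₁ * (z₂ * a₁) * a₂ := by rw [e1]
    _ = (z₁ * z₂) * (a₁ * a₂) := by group
    _ = (z₂ * z₁) * (a₂ * a₁) := by rw [e3, e4]
    _ = z₂ * (z₁ * a₂) * a₁ := by group
    _ = z₂ * (a₂ * z₁) * a₁ := by rw [e2]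
    _ = z₂ * a₂ * (z₁ * a₁) := by group

end main

end Cfsg.Agent.Lib.H20.PCen
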