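import Mathlib

/-! Coprime fixed-point inequality, abelian case (helper20).

For a finite `p`-group `P` acting on a finite abelian `p'`-group `V`:
`(∏_{x ∈ P} |C_V(x)|)^p ≤ |C_V(P)|^(|P|(p-1)) * |V|^|P|`. -/

set_option autoImplicit false

namespace Cfsg.Agent.Lib.H20.PEl

open MulAction

universe u v

/-- the coprime fixed-point inequality for an action of `P` on `V` -/
def CalAb (p : ℕ) (P : Type u) (V : Type v) [Group P] [Group V] [MulDistribMulAction P V] : Prop :=
  (∏ᶠ x : P, Nat.card (fixedBy V x)) ^ p ≤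
    Nat.card (fixedPoints P V) ^ (Nat.card P * (p - 1)) * Nat.card V ^ Nat.card P

section Setup

variable {p : ℕ} [hp : Fact p.Prime]
variable {P : Type u} {V : Type v} [Group P] [CommGroup V] [MulDistribMulAction P V]

/-- the subgroup of fixed points of a single element -/
def fixSub (V : Type v) [CommGroup V] [MulDistribMulAction P V] (y : P) : Subgroup V where
  carrier := fixedBy V y
  one_mem' := smul_one y
  mul_mem' := fun {a b} ha hb => by
    show y • (a * b) = a * b
    rw [smul_mul', show y • a = a from ha, show y • b = b from hb]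
  inv_mem' := fun {a} ha => by
    show y • a⁻¹ = a⁻¹
    rw [smul_inv', show y • a = a from ha]

theorem mem_fixSub {y : P} {v : V} : v ∈ fixSub V y ↔ y • v = v := Iff.rfl

theorem card_fixSub (y : P) : Nat.card (fixSub V y) = Nat.card (fixedBy V y) := rfl

/-- `z ^ j.val` for `j : ZMod p` -/
def zp (z : P) (j : ZMod p) : P := z ^ j.val

theorem zp_zero (z : P) : zp z (0 : ZMod p) = 1 := by
  simp [zp]

theorem zp_add {z : P} (hz : z ^ p = 1) (i j : ZMod p) : zp z (i + j) = zp z i * zp z j := by
  unfold zp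
  rw [← pow_add, ZMod.val_add]
  exact (pow_eq_pow_mod _ hz).symm

theorem zp_mul {z : P} (hz : z ^ p = 1) (i j : ZMod p) : zp z (i * j) = (zp z i) ^ j.val := by
  unfold zp
  rw [← pow_mul, ZMod.val_mul]
  exact (pow_eq_pow_mod _ hz).symm

theorem zp_one (z : P) : zp z (1 : ZMod p) = z := by
  unfold zp
  rw [ZMod.val_one, pow_one]

theorem zp_mem_zpowers (z : P) (j : ZMod p) : zp z j ∈ Subgroup.zpowers z :=
  Subgroup.pow_mem _ (Subgroup.mem_zpowers z) _

theorem zp_injective {z : P} (hz : orderOf z = p) : Function.Injective (zp (p := p) z) := by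
  intro i j hij
  unfold zp at hij
  have h1 : i.val < orderOf z := hz ▸ ZMod.val_lt i
  have h2 : j.val < orderOf z := hz ▸ ZMod.val_lt j
  exact ZMod.val_injective p (pow_injOn_Iio_orderOf h1 h2 hij)

/-- the norm map of `z` -/
def nu (V : Type v) [CommGroup V] [MulDistribMulAction P V] (p : ℕ) [Fact p.Prime] (z : P) :
    V →* V where
  toFun v := ∏ j : ZMod p, zp z j • v
  map_one' := by simp
  map_mul' a b := by
    simp only [smul_mul']
    exact Finset.prod_mul_distrib

theorem nu_apply (z : P) (v : V) : nu V p z v = ∏ j : ZMod p, zp z j • v := rfl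

theorem smul_nu {z : P} (y : P) (hy : Commute y z) (v : V) :
    y • nu V p z v = nu V p z (y • v) := by
  rw [nu_apply, nu_apply, Finset.smul_prod']
  refine Finset.prod_congr rfl (fun j _ => ?_)
  rw [smul_smul, smul_smul]
  congr 1
  exact (hy.pow_right j.val).eq

theorem nu_fixed {z : P} (hz : z ^ p = 1) (v : V) : z • nu V p z v = nu V p z v := by
  rw [nu_apply, Finset.smul_prod']
  have : ∀ j : ZMod p, z • zp z j • v = zp z (j + 1) • v := by
    intro j
    rw [smul_smul, zp_add hz, zp_one]
    congr 1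
    exact ((Commute.refl z).pow_right j.val).eq
  simp only [this]
  exact Fintype.prod_equiv (Equiv.addRight (1 : ZMod p)) _ _ (fun j => rfl)

theorem zp_smul_of_fixed {z : P} {v : V} (hv : z • v = v) (j : ZMod p) : zp z j • v = v := by
  unfold zp
  have : v ∈ fixedBy V z := hv
  have h := MulAction.mem_fixedBy_zpow this (j.val : ℤ)
  rwa [zpow_natCast] at h

theorem nu_of_fixed {z : P} {v : V} (hv : z • v = v) : nu V p z v = v ^ p := by
  rw [nu_apply]
  simp only [zp_smul_of_fixed hv]
  rw [Finset.prod_const, Finset.card_univ, ZMod.card]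

theorem nu_mem_fixSub {z : P} (hz : z ^ p = 1) (v : V) : nu V p z v ∈ fixSub V z :=
  nu_fixed hz v

/-- `|C| * |W| ≤ |V|` -/
theorem card_fix_mul_card_ker_le [Finite V] {z : P} (hV : (Nat.card V).Coprime p) :
    Nat.card (fixSub V z) * Nat.card (nu V p z).ker ≤ Nat.card V := by
  have h1 : Nat.card V = Nat.card (nu V p z).ker * Nat.card (nu V p z).range := by
    rw [← Subgroup.index_ker, Subgroup.card_mul_index]
  have h2 : fixSub V z ≤ (nu V p z).range := by
    intro c hc
    have hcop : (Nat.card (fixSub V z)).Coprime p :=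
      Nat.Coprime.coprime_dvd_left (Subgroup.card_subgroup_dvd_card _) hV
    obtain ⟨d, hd⟩ := (powCoprime hcop).surjective ⟨c, hc⟩
    refine ⟨(d : V), ?_⟩
    rw [nu_of_fixed (show z • (d : V) = d from d.2)]
    have := congrArg Subtype.val hd
    simpa [powCoprime] using this
  rw [h1, mul_comm]
  exact Nat.mul_le_mul_left _ (Subgroup.card_le_of_le h2)

/-- `|C_V(y)| ≤ |C_V(y) ∩ C| * |C_V(y) ∩ W|` for `y` commuting with `z` -/
theorem card_fixSub_le [Finite V] {z : P} (hz : z ^ p = 1) (y : P) (hy : Commute y z) :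
    Nat.card (fixSub V y) ≤
      Nat.card (fixSub V y ⊓ fixSub V z : Subgroup V) *
        Nat.card (fixSub V y ⊓ (nu V p z).ker : Subgroup V) := by
  set f : fixSub V y →* V := (nu V p z).comp (fixSub V y).subtype with hf
  have h1 : Nat.card (fixSub V y) = Nat.card f.ker * Nat.card f.range := by
    rw [← Subgroup.index_ker, Subgroup.card_mul_index]
  have h2 : f.range ≤ fixSub V y ⊓ fixSub V z := by
    rintro _ ⟨v, rfl⟩
    refine ⟨?_, nu_mem_fixSub hz _⟩
    show y • nu V p z (v : V) = nu V p z v
    rw [smul_nu y hy, show y • (v : V) = v from v.2]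
  have h3 : Nat.card f.ker ≤ Nat.card (fixSub V y ⊓ (nu V p z).ker : Subgroup V) := by
    refine Nat.card_le_card_of_injective
      (fun v => ⟨((v : fixSub V y) : V), ⟨(v : fixSub V y).2, ?_⟩⟩) ?_
    · have := v.2
      rw [MonoidHom.mem_ker] at this
      exact MonoidHom.mem_ker.mpr this
    · intro a b hab
      have := congrArg Subtype.val hab
      exact Subtype.ext (Subtype.ext this)
  rw [h1, mul_comm]
  exact Nat.mul_le_mul (Subgroup.card_le_of_le h2) h3

theorem pow_smul_eq_of_commute {g h : P} {v : V} (hgh : Commute g h) (hv : g • v = h • v) (k : ℕ) :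
    g ^ k • v = h ^ k • v := by
  induction k with
  | zero => simp
  | succ k ih =>
    rw [pow_succ, mul_smul, hv, ← mul_smul, (hgh.pow_left k).eq, mul_smul, ih, ← mul_smul,
      ← pow_succ']

/-- the averaging operator along `T` -/
theorem avg_eq [Finite V] {z : P} (hz : z ^ p = 1) (hzc : ∀ y : P, Commute y z) (x : P)
    (i j : ZMod p) {w : V} (hwf : (x * zp z j) • w = w) (hwk : nu V p z w = 1) :
    ∏ k : ZMod p, (x * zp z i) ^ k.val • w = if j = i then w ^ p else 1 := by
  have hcz : ∀ (y : P) (d : ZMod p), Commute y (zp z d) := fun y d => (hzc y).pow_right _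
  set d : ZMod p := i - j with hd
  have hi : zp z i = zp z j * zp z d := by
    rw [← zp_add hz, hd]; congr 1; ring
  have hT : (x * zp z i) • w = zp z d • w := by
    calc (x * zp z i) • w = ((x * zp z j) * zp z d) • w := by rw [hi, mul_assoc]
      _ = (zp z d * (x * zp z j)) • w := by rw [(hcz (x * zp z j) d).eq]
      _ = zp z d • ((x * zp z j) • w) := mul_smul _ _ _
      _ = zp z d • w := by rw [hwf]
  have hk : ∀ k : ZMod p, (x * zp z i) ^ k.val • w = zp z (d * k) • w := by
    intro k
    rw [pow_smul_eq_of_commute (hcz _ d) hT, zp_mul hz]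
  simp only [hk]
  split_ifs with hji
  · have hd0 : d = 0 := by rw [hd, hji, sub_self]
    simp only [hd0, zero_mul, zp_zero, one_smul]
    rw [Finset.prod_const, Finset.card_univ, ZMod.card]
  · have hd0 : d ≠ 0 := by
      rw [hd]; intro h; exact hji (sub_eq_zero.mp h).symm
    have := Fintype.prod_equiv (Equiv.mulLeft₀ d hd0) (fun k => zp z (d * k) • w)
      (fun k => zp z k • w) (fun k => rfl)
    rw [this]
    exact hwk

theorem eq_one_of_pow_eq_one [Finite V] (hV : (Nat.card V).Coprime p) {v : V} (hv : v ^ p = 1) :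
    v = 1 := by
  have h1 : orderOf v ∣ p := orderOf_dvd_of_pow_eq_one hv
  have h2 : (orderOf v).Coprime p :=
    Nat.Coprime.coprime_dvd_left (orderOf_dvd_natCard v) hV
  exact orderOf_eq_one_iff.mp (Nat.Coprime.eq_one_of_dvd h2 h1)

/-- independence of the fixed-point subgroups of `x z^j` inside `W` -/
theorem prod_card_fix_inf_ker_le [Finite V] {z : P} (hz : z ^ p = 1) (hzc : ∀ y : P, Commute y z)
    (hV : (Nat.card V).Coprime p) (x : P) :
    ∏ j : ZMod p, Nat.card (fixSub V (x * zp z j) ⊓ (nu V p z).ker : Subgroup V) ≤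
      Nat.card (nu V p z).ker := by
  rw [← Nat.card_pi]
  let Φ : (∀ j : ZMod p, (fixSub V (x * zp z j) ⊓ (nu V p z).ker : Subgroup V)) →* V :=
    { toFun := fun w => ∏ j, (w j : V)
      map_one' := by simp
      map_mul' := fun a b => by simp [Finset.prod_mul_distrib] }
  have hΦ : ∀ w, Φ w = ∏ j, (w j : V) := fun _ => rfl
  have hker : ∀ w, Φ w ∈ (nu V p z).ker := fun w => by
    rw [hΦ]
    exact Subgroup.prod_mem _ (fun j _ => (w j).2.2)
  have hinj : Function.Injective Φ := by
    rw [injective_iff_map_eq_one]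
    intro w hw
    funext i
    apply Subtype.ext
    rw [hΦ] at hw
    have h1 : ∏ k : ZMod p, (x * zp z i) ^ k.val • (∏ j, (w j : V)) = 1 := by
      rw [hw]; simp
    simp only [Finset.smul_prod'] at h1
    rw [Finset.prod_comm] at h1
    have h2 : ∀ j : ZMod p, ∏ k : ZMod p, (x * zp z i) ^ k.val • (w j : V) =
        if j = i then (w j : V) ^ p else 1 := fun j =>
      avg_eq hz hzc x i j (w j).2.1 (MonoidHom.mem_ker.mp (w j).2.2)
    simp only [h2] at h1
    rw [Finset.prod_ite_eq' Finset.univ i (fun j => (w j : V) ^ p)] at h1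
    simp only [Finset.mem_univ, if_true] at h1
    exact eq_one_of_pow_eq_one hV h1
  exact Nat.card_le_card_of_injective (fun w => (⟨Φ w, hker w⟩ : (nu V p z).ker))
    (fun a b hab => hinj (congrArg Subtype.val hab))

theorem fixedPointsSubgroup_zpowers (z : P) :
    FixedPoints.subgroup (Subgroup.zpowers z) V = fixSub V z := by
  ext v
  rw [FixedPoints.mem_subgroup, mem_fixSub]
  constructor
  · intro h
    exact h ⟨z, Subgroup.mem_zpowers z⟩
  · rintro h ⟨m, hm⟩
    obtain ⟨k, rfl⟩ := Subgroup.mem_zpowers_iff.mp hm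
    exact MulAction.mem_fixedBy_zpow (show v ∈ fixedBy V z from h) k

theorem fixSub_mul_inf {z : P} (x : P) (j : ZMod p) :
    (fixSub V (x * zp z j) ⊓ fixSub V z : Subgroup V) = fixSub V x ⊓ fixSub V z := by
  ext v
  simp only [Subgroup.mem_inf, mem_fixSub]
  constructor
  · rintro ⟨h1, h2⟩
    refine ⟨?_, h2⟩
    rwa [mul_smul, zp_smul_of_fixed h2] at h1
  · rintro ⟨h1, h2⟩
    refine ⟨?_, h2⟩
    rw [mul_smul, zp_smul_of_fixed h2, h1]

theorem card_fixedBy_quot {z : P} [(Subgroup.zpowers z).Normal] (q : P ⧸ Subgroup.zpowers z) :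
    Nat.card (fixedBy (FixedPoints.subgroup (Subgroup.zpowers z) V) q) =
      Nat.card (fixSub V q.out ⊓ fixSub V z : Subgroup V) := by
  have hq : ∀ c : FixedPoints.subgroup (Subgroup.zpowers z) V,
      ((q • c : FixedPoints.subgroup (Subgroup.zpowers z) V) : V) = q.out • (c : V) := by
    intro c
    conv_lhs => rw [← q.out_eq]
    rfl
  refine Nat.card_congr
    { toFun := fun c => ⟨((c : FixedPoints.subgroup (Subgroup.zpowers z) V) : V), ⟨?_, ?_⟩⟩
      invFun := fun v => ⟨⟨(v : V), ?_⟩, ?_⟩
      left_inv := fun c => rfl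
      right_inv := fun v => rfl }
  · show q.out • ((c : FixedPoints.subgroup (Subgroup.zpowers z) V) : V) = _
    rw [← hq]
    exact congrArg Subtype.val c.2
  · rw [← fixedPointsSubgroup_zpowers]
    exact (c : FixedPoints.subgroup (Subgroup.zpowers z) V).2
  · rw [fixedPointsSubgroup_zpowers]
    exact v.2.2
  · show q • _ = _
    apply Subtype.ext
    rw [hq]
    exact v.2.1

theorem card_fixedPoints_quot {z : P} [(Subgroup.zpowers z).Normal] :
    Nat.card (fixedPoints (P ⧸ Subgroup.zpowers z) (FixedPoints.subgroup (Subgroup.zpowers z) V)) =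
      Nat.card (fixedPoints P V) := by
  refine Nat.card_congr
    { toFun := fun c => ⟨((c : FixedPoints.subgroup (Subgroup.zpowers z) V) : V), ?_⟩
      invFun := fun v => ⟨⟨(v : V), ?_⟩, ?_⟩
      left_inv := fun c => rfl
      right_inv := fun v => rfl }
  · intro g
    have := c.2 (g : P ⧸ Subgroup.zpowers z)
    exact congrArg Subtype.val this
  · intro m
    exact v.2 m
  · intro q
    induction q using QuotientGroup.induction_on with
    | H g =>
      apply Subtype.ext
      exact v.2 g

/-- decomposition of a product over `P` along the cosets of `⟨z⟩` -/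
theorem finprod_eq_prod_cosets [Finite P] {z : P} (hz : orderOf z = p)
    [Fintype (P ⧸ Subgroup.zpowers z)] {M : Type*} [CommMonoid M] (f : P → M) :
    ∏ᶠ x : P, f x = ∏ q : P ⧸ Subgroup.zpowers z, ∏ j : ZMod p, f (q.out * zp z j) := by
  classical
  haveI := Fintype.ofFinite P
  rw [finprod_eq_prod_of_fintype, ← Fintype.prod_prod_type']
  let φ : (P ⧸ Subgroup.zpowers z) × ZMod p → P := fun a => a.1.out * zp z a.2
  have hinj : Function.Injective φ := by
    rintro ⟨q, j⟩ ⟨q', j'⟩ h
    simp only [φ] at h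
    have h1 : ∀ (q : P ⧸ Subgroup.zpowers z) (j : ZMod p),
        ((q.out * zp z j : P) : P ⧸ Subgroup.zpowers z) = q := by
      intro q j
      conv_rhs => rw [← q.out_eq]
      rw [QuotientGroup.eq]
      simp only [mul_inv_rev, inv_mul_cancel_right]
      exact Subgroup.inv_mem _ (zp_mem_zpowers z j)
    have h2 : q = q' := by
      rw [← h1 q j, ← h1 q' j', h]
    subst h2
    have h3 : zp z j = zp z j' := mul_left_cancel h
    rw [zp_injective hz h3]
  have hcard : Nat.card P ≤ Nat.card ((P ⧸ Subgroup.zpowers z) × ZMod p) := by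
    rw [Nat.card_prod, Nat.card_zmod, Subgroup.card_eq_card_quotient_mul_card_subgroup
      (Subgroup.zpowers z), Nat.card_zpowers, hz]
  have hbij : Function.Bijective φ := hinj.bijective_of_nat_card_le hcard
  exact (Fintype.prod_bijective φ hbij _ _ (fun a => rfl)).symm

end Setup

section Main

variable {p : ℕ} [hp : Fact p.Prime]

theorem calAb_of_subsingleton {P : Type u} {V : Type v} [Group P] [CommGroup V]
    [MulDistribMulAction P V] [Finite V] [Subsingleton P] : CalAb p P V := by
  unfold CalAb
  haveI : Unique P := ⟨⟨1⟩, fun a => Subsingleton.elim _ _⟩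
  have h1 : ∀ x : P, fixedBy V x = Set.univ := by
    intro x
    rw [Subsingleton.elim x 1, MulAction.fixedBy_one_eq_univ]
  have h2 : fixedPoints P V = Set.univ := by
    ext v
    simp only [mem_fixedPoints, Set.mem_univ, iff_true]
    intro x
    rw [Subsingleton.elim x 1, one_smul]
  have hcu : Nat.card (Set.univ : Set V) = Nat.card V := Nat.card_congr (Equiv.Set.univ V)
  have hcP : Nat.card P = 1 := Nat.card_unique
  rw [finprod_unique, h1, h2, hcu, hcP, one_mul, pow_one, ← pow_succ]
  have := hp.out.pos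
  rw [Nat.sub_add_cancel this]

theorem calAb_aux : ∀ (n : ℕ) (P : Type u) (V : Type v) [Group P] [CommGroup V]
    [MulDistribMulAction P V] [Finite P] [Finite V], Nat.card P = n → IsPGroup p P →
    (Nat.card V).Coprime p → CalAb p P V := by
  intro n
  induction n using Nat.strong_induction_on with
  | _ n ih =>
  intro P V _ _ _ _ _ hn hP hV
  rcases subsingleton_or_nontrivial P with hs | hnt
  · exact calAb_of_subsingleton
  -- a central element of order p
  haveI : Nontrivial (Subgroup.center P) := hP.center_nontrivial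
  have hpc : p ∣ Nat.card (Subgroup.center P) := by
    obtain ⟨k, hk⟩ := (hP.to_subgroup (Subgroup.center P)).exists_card_eq
    rcases k with _ | k
    · rw [pow_zero] at hk
      haveI := (Nat.card_eq_one_iff_unique.mp hk).1
      exact absurd ‹Nontrivial (Subgroup.center P)› (not_nontrivial _)
    · rw [hk, pow_succ]; exact dvd_mul_left _ _
  obtain ⟨z0, hz0⟩ := exists_prime_orderOf_dvd_card' p hpc
  set z : P := (z0 : P) with hzdef
  have hz : orderOf z = p := by rw [hzdef, Subgroup.orderOf_coe, hz0]
  have hzp : z ^ p = 1 := by rw [← hz]; exact pow_orderOf_eq_one z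
  have hzc : ∀ y : P, Commute y z := fun y => (Subgroup.mem_center_iff.mp z0.2 y)
  haveI hZn : (Subgroup.zpowers z).Normal := by
    refine ⟨fun m hm g => ?_⟩
    obtain ⟨k, rfl⟩ := Subgroup.mem_zpowers_iff.mp hm
    have : g * z ^ k * g⁻¹ = z ^ k := by
      rw [((hzc g).zpow_right k).eq, mul_inv_cancel_right]
    rw [this]
    exact Subgroup.zpow_mem_zpowers z k
  classical
  haveI := Fintype.ofFinite (P ⧸ Subgroup.zpowers z)
  set m := Nat.card (P ⧸ Subgroup.zpowers z) with hm
  have hcardP : Nat.card P = m * p := by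
    rw [Subgroup.card_eq_card_quotient_mul_card_subgroup (Subgroup.zpowers z), Nat.card_zpowers, hz]
  have hmlt : m < n := by
    rw [← hn, hcardP]
    have hm0 : 0 < m := Nat.card_pos
    nlinarith [hp.out.two_le]
  -- induction hypothesis
  have hVC : (Nat.card (FixedPoints.subgroup (Subgroup.zpowers z) V)).Coprime p :=
    Nat.Coprime.coprime_dvd_left (Subgroup.card_subgroup_dvd_card _) hV
  have IH := ih m hmlt (P ⧸ Subgroup.zpowers z) (FixedPoints.subgroup (Subgroup.zpowers z) V) rfl
    (hP.to_quotient _) hVC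
  unfold CalAb at IH ⊢
  rw [finprod_eq_prod_of_fintype, card_fixedPoints_quot] at IH
  simp only [card_fixedBy_quot] at IH
  rw [fixedPointsSubgroup_zpowers] at IH
  rw [finprod_eq_prod_cosets hz]
  set a : P ⧸ Subgroup.zpowers z → ℕ :=
    fun q => Nat.card (fixSub V q.out ⊓ fixSub V z : Subgroup V) with ha
  set cW := Nat.card (nu V p z).ker with hcW
  set cC := Nat.card (fixSub V z) with hcC
  set F := Nat.card (fixedPoints P V) with hF
  have hstep : ∏ q : P ⧸ Subgroup.zpowers z, ∏ j : ZMod p,
      Nat.card (fixedBy V (q.out * zp z j)) ≤ (∏ q, a q) ^ p * cW ^ m := by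
    calc ∏ q : P ⧸ Subgroup.zpowers z, ∏ j : ZMod p, Nat.card (fixedBy V (q.out * zp z j))
        ≤ ∏ q : P ⧸ Subgroup.zpowers z, (a q ^ p * cW) := by
          refine Finset.prod_le_prod' (fun q _ => ?_)
          calc ∏ j : ZMod p, Nat.card (fixedBy V (q.out * zp z j))
              ≤ ∏ j : ZMod p, (a q *
                  Nat.card (fixSub V (q.out * zp z j) ⊓ (nu V p z).ker : Subgroup V)) := by
                refine Finset.prod_le_prod' (fun j _ => ?_)
                have h := card_fixSub_le (V := V) hzp (q.out * zp z j) (hzc _)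
                rw [fixSub_mul_inf, card_fixSub] at h
                exact h
            _ = a q ^ p *
                  ∏ j : ZMod p,
                    Nat.card (fixSub V (q.out * zp z j) ⊓ (nu V p z).ker : Subgroup V) := by
                rw [Finset.prod_mul_distrib, Finset.prod_const, Finset.card_univ, ZMod.card]
            _ ≤ a q ^ p * cW :=
                Nat.mul_le_mul_left _ (prod_card_fix_inf_ker_le hzp hzc hV q.out)
      _ = (∏ q, a q) ^ p * cW ^ m := by
          rw [Finset.prod_mul_distrib, Finset.prod_pow, Finset.prod_const, Finset.card_univ,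
            ← Nat.card_eq_fintype_card]
  have hCW : cC * cW ≤ Nat.card V := card_fix_mul_card_ker_le hV
  calc (∏ q : P ⧸ Subgroup.zpowers z, ∏ j : ZMod p, Nat.card (fixedBy V (q.out * zp z j))) ^ p
      ≤ ((∏ q, a q) ^ p * cW ^ m) ^ p := Nat.pow_le_pow_left hstep p
    _ = ((∏ q, a q) ^ p) ^ p * cW ^ (m * p) := by rw [mul_pow, ← pow_mul cW]
    _ ≤ (F ^ (m * (p - 1)) * cC ^ m) ^ p * cW ^ (m * p) :=
        Nat.mul_le_mul_right _ (Nat.pow_le_pow_left IH p)
    _ = F ^ (m * p * (p - 1)) * (cC * cW) ^ (m * p) := by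
        rw [mul_pow, ← pow_mul, ← pow_mul, mul_pow cC cW, mul_assoc]
        congr 2
        generalize p - 1 = e
        ring
    _ ≤ F ^ (m * p * (p - 1)) * Nat.card V ^ (m * p) :=
        Nat.mul_le_mul_left _ (Nat.pow_le_pow_left hCW _)
    _ = F ^ (Nat.card P * (p - 1)) * Nat.card V ^ Nat.card P := by rw [hcardP]

/-- **Coprime fixed-point inequality, abelian case.** -/
theorem calAb {P : Type u} {V : Type v} [Group P] [CommGroup V] [MulDistribMulAction P V]
    [Finite P] [Finite V] (hP : IsPGroup p P) (hV : (Nat.card V).Coprime p) : CalAb p P V :=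
  calAb_aux _ P V rfl hP hV

end Main

end Cfsg.Agent.Lib.H20.PEl
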