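import Mathlib
import Cfsg.Agent.Lib.H20.PElAb
import Cfsg.Agent.Lib.H1.CharSubgroup
import Cfsg.Agent.Lib.H1.CoprimeSylow
import Cfsg.Agent.Lib.H1.OmegaZ

/-! Coprime fixed-point inequality, internal form (helper20).

For a `p`-subgroup `P` of a finite group `G` normalizing a `p'`-subgroup `K`:
`(∏_{x ∈ P} |C_K(x)|)^p ≤ |C_K(P)|^(|P|(p-1)) * |K|^|P|`. -/

set_option autoImplicit false

namespace Cfsg.Agent.Lib.H20.PEl

open MulAction Cfsg.Agent.Lib.H1
open scoped commutatorElement Pointwise

universe u

variable {G : Type u} [Group G]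

/-- the section form of the coprime fixed-point inequality -/
def CalSec (p : ℕ) (P K M : Subgroup G) : Prop :=
  (∏ᶠ x : P, (M ⊓ Subgroup.centralizer {(x : G)}).relIndex
      (K ⊓ Subgroup.centralizer {(x : G)})) ^ p ≤
    ((M ⊓ Subgroup.centralizer (P : Set G)).relIndex (K ⊓ Subgroup.centralizer (P : Set G))) ^
      (Nat.card P * (p - 1)) * (M.relIndex K) ^ Nat.card P

theorem card_mul_relIndex {H K : Subgroup G} (h : H ≤ K) :
    Nat.card H * H.relIndex K = Nat.card K := by
  have := Subgroup.relIndex_mul_relIndex ⊥ H K bot_le h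
  rwa [Subgroup.relIndex_bot_left, Subgroup.relIndex_bot_left] at this

/-- chain rule -/
theorem CalSec.trans [Finite G] {p : ℕ} {P K L M : Subgroup G} (hML : M ≤ L) (hLK : L ≤ K)
    (h1 : CalSec p P K L) (h2 : CalSec p P L M) : CalSec p P K M := by
  unfold CalSec at *
  have e1 : ∀ S : Set G, (M ⊓ Subgroup.centralizer S).relIndex (K ⊓ Subgroup.centralizer S) =
      (M ⊓ Subgroup.centralizer S).relIndex (L ⊓ Subgroup.centralizer S) *
        (L ⊓ Subgroup.centralizer S).relIndex (K ⊓ Subgroup.centralizer S) := fun S =>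
    (Subgroup.relIndex_mul_relIndex _ _ _ (inf_le_inf_right _ hML) (inf_le_inf_right _ hLK)).symm
  have e2 : M.relIndex K = M.relIndex L * L.relIndex K :=
    (Subgroup.relIndex_mul_relIndex _ _ _ hML hLK).symm
  rw [e2, e1 (P : Set G)]
  simp only [e1]
  rw [finprod_mul_distrib (Set.toFinite _) (Set.toFinite _), mul_pow, mul_pow, mul_pow]
  calc _ ≤ _ := Nat.mul_le_mul h2 h1
    _ = _ := by ring

section Section

variable {P K M : Subgroup G}

/-- conjugation by an element normalizing `K` and `M` preserves `M.subgroupOf K` -/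
theorem subgroupOf_le_comap_conj {a : G} (haK : a ∈ Subgroup.normalizer (K : Set G))
    (haM : a ∈ Subgroup.normalizer (M : Set G)) :
    M.subgroupOf K ≤ (M.subgroupOf K).comap (conjEquivOfMemNormalizer haK).toMonoidHom := by
  intro k hk
  rw [Subgroup.mem_comap, Subgroup.mem_subgroupOf]
  exact (Subgroup.mem_normalizer_iff.mp haM _).mp hk

/-- the action of `P` on the section `K / M` -/
@[reducible] def secAction [(M.subgroupOf K).Normal] (hPK : P ≤ Subgroup.normalizer (K : Set G))
    (hPM : P ≤ Subgroup.normalizer (M : Set G)) :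
    MulDistribMulAction P (K ⧸ M.subgroupOf K) where
  smul a v := QuotientGroup.map (M.subgroupOf K) (M.subgroupOf K)
    (conjEquivOfMemNormalizer (hPK a.2)).toMonoidHom (subgroupOf_le_comap_conj (hPK a.2) (hPM a.2)) v
  one_smul v := by
    induction v using QuotientGroup.induction_on with
    | H k =>
      show QuotientGroup.map _ _ _ _ (k : K ⧸ M.subgroupOf K) = _
      rw [QuotientGroup.map_mk]
      congr 1
      apply Subtype.ext
      simp [conjEquivOfMemNormalizer_apply]
  mul_smul a b v := by
    induction v using QuotientGroup.induction_on with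
    | H k =>
      show QuotientGroup.map _ _ _ _ (k : K ⧸ M.subgroupOf K) =
        QuotientGroup.map _ _ _ _ (QuotientGroup.map _ _ _ _ (k : K ⧸ M.subgroupOf K))
      rw [QuotientGroup.map_mk, QuotientGroup.map_mk, QuotientGroup.map_mk]
      congr 1
      apply Subtype.ext
      simp only [MulEquiv.coe_toMonoidHom, conjEquivOfMemNormalizer_apply, Subgroup.coe_mul]
      group
  smul_mul a v w := map_mul _ v w
  smul_one a := map_one _

theorem secAction_smul_mk [(M.subgroupOf K).Normal] (hPK : P ≤ Subgroup.normalizer (K : Set G))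
    (hPM : P ≤ Subgroup.normalizer (M : Set G)) (a : P) (k : K) :
    letI := secAction hPK hPM
    a • (k : K ⧸ M.subgroupOf K) =
      ((conjEquivOfMemNormalizer (hPK a.2) k : K) : K ⧸ M.subgroupOf K) := rfl

theorem coprimeAction_of_le [Finite G] {p : ℕ} [Fact p.Prime] (hP : IsPGroup p P)
    (hPK : P ≤ Subgroup.normalizer (K : Set G)) (hK : (Nat.card K).Coprime p) {A : Subgroup G}
    (hA : A ≤ P) : CoprimeAction A K where
  normalizes := hA.trans hPK
  coprime := by
    have hAp : IsPGroup p A := hP.to_le hA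
    obtain ⟨n, hn⟩ := hAp.exists_card_eq
    rw [hn]
    exact (Nat.Coprime.pow_right n hK).symm
  solvable := by
    left
    have hAp : IsPGroup p A := hP.to_le hA
    haveI := hAp.isNilpotent
    infer_instance

/-- `|C_{K/M}(S)| = |C_K(S) : C_M(S)|` for `S ⊆ P` (coprime action). -/
theorem card_cent_section [Finite G] {p : ℕ} [Fact p.Prime] [(M.subgroupOf K).Normal]
    (hMK : M ≤ K) (hKM : K ≤ Subgroup.normalizer (M : Set G))
    (hPK : P ≤ Subgroup.normalizer (K : Set G)) (hPM : P ≤ Subgroup.normalizer (M : Set G))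
    (hP : IsPGroup p P) (hK : (Nat.card K).Coprime p) (S : Set G) (hS : S ⊆ P) :
    letI := secAction hPK hPM
    Nat.card {v : K ⧸ M.subgroupOf K // ∀ a : P, (a : G) ∈ S → a • v = v} =
      (M ⊓ Subgroup.centralizer S).relIndex (K ⊓ Subgroup.centralizer S) := by
  letI := secAction hPK hPM
  set C : Subgroup G := K ⊓ Subgroup.centralizer S with hC
  let f : C →* K ⧸ M.subgroupOf K :=
    (QuotientGroup.mk' (M.subgroupOf K)).comp (Subgroup.inclusion (inf_le_left : C ≤ K))
  have hf : ∀ c : C, f c = ((⟨c, c.2.1⟩ : K) : K ⧸ M.subgroupOf K) := fun _ => rfl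
  have hker : f.ker = (M ⊓ Subgroup.centralizer S).subgroupOf C := by
    ext c
    rw [MonoidHom.mem_ker, hf, QuotientGroup.eq_one_iff, Subgroup.mem_subgroupOf,
      Subgroup.mem_subgroupOf, Subgroup.mem_inf]
    exact ⟨fun h => ⟨h, c.2.2⟩, fun h => h.1⟩
  have hrange : ∀ v : K ⧸ M.subgroupOf K, v ∈ f.range ↔ ∀ a : P, (a : G) ∈ S → a • v = v := by
    intro v
    constructor
    · rintro ⟨c, rfl⟩ a haS
      rw [hf, secAction_smul_mk]
      congr 1
      apply Subtype.ext
      rw [conjEquivOfMemNormalizer_apply]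
      have := (Subgroup.mem_centralizer_iff.mp c.2.2) a haS
      show (a : G) * c * (a : G)⁻¹ = c
      rw [this, mul_inv_cancel_right]
    · intro hv
      induction v using QuotientGroup.induction_on with
      | H k =>
      set A : Subgroup G := (stabilizer P (k : K ⧸ M.subgroupOf K)).map P.subtype with hA
      have hAP : A ≤ P := by
        rintro _ ⟨a, _, rfl⟩
        exact a.2
      have hcop : CoprimeAction A K := coprimeAction_of_le hP hPK hK hAP
      have hfix : ∀ a ∈ A, a * (k : G) * a⁻¹ * (k : G)⁻¹ ∈ M := by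
        rintro _ ⟨a, ha, rfl⟩
        have h1 : a • (k : K ⧸ M.subgroupOf K) = k := ha
        rw [secAction_smul_mk, QuotientGroup.eq_iff_div_mem, Subgroup.mem_subgroupOf] at h1
        simpa [div_eq_mul_inv, conjEquivOfMemNormalizer_apply] using h1
      obtain ⟨c, hc, hkc⟩ := coprime_centralizer_quotient hcop hMK hKM (hAP.trans hPM) k.2 hfix
      have hSA : S ⊆ (A : Set G) := by
        intro s hs
        exact ⟨⟨s, hS hs⟩, hv ⟨s, hS hs⟩ hs, rfl⟩
      have hcC : c ∈ C := ⟨hc.1, Subgroup.centralizer_le hSA hc.2⟩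
      refine ⟨⟨c, hcC⟩, ?_⟩
      rw [hf]
      symm
      rw [QuotientGroup.eq, Subgroup.mem_subgroupOf]
      exact hkc
  have h1 : (M ⊓ Subgroup.centralizer S).relIndex C = Nat.card f.range := by
    rw [Subgroup.relIndex, ← hker, Subgroup.index_ker]
  rw [h1]
  exact Nat.card_congr (Equiv.subtypeEquivRight (fun v => (hrange v).symm))

/-- base case: abelian sections -/
theorem calSec_of_abelian [Finite G] {p : ℕ} [Fact p.Prime]
    (hMK : M ≤ K) (hKM : K ≤ Subgroup.normalizer (M : Set G)) (hcomm : ⁅K, K⁆ ≤ M)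
    (hPK : P ≤ Subgroup.normalizer (K : Set G)) (hPM : P ≤ Subgroup.normalizer (M : Set G))
    (hP : IsPGroup p P) (hK : (Nat.card K).Coprime p) : CalSec p P K M := by
  haveI : (M.subgroupOf K).Normal := (Subgroup.normal_subgroupOf_iff_le_normalizer hMK).mpr hKM
  letI cg : CommGroup (K ⧸ M.subgroupOf K) :=
    { (inferInstance : Group (K ⧸ M.subgroupOf K)) with
      mul_comm := fun v w => by
        induction v using QuotientGroup.induction_on with
        | H a =>
        induction w using QuotientGroup.induction_on with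
        | H b =>
        rw [← QuotientGroup.mk_mul, ← QuotientGroup.mk_mul, QuotientGroup.eq,
          Subgroup.mem_subgroupOf]
        have h1 : ⁅(b : G)⁻¹, (a : G)⁻¹⁆ ∈ ⁅K, K⁆ :=
          Subgroup.commutator_mem_commutator (K.inv_mem b.2) (K.inv_mem a.2)
        have h2 : (((a * b)⁻¹ * (b * a) : K) : G) = ⁅(b : G)⁻¹, (a : G)⁻¹⁆ := by
          rw [commutatorElement_def]
          simp only [Subgroup.coe_mul, Subgroup.coe_inv, mul_inv_rev, inv_inv]
          group
        rw [h2]
        exact hcomm h1 }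
  letI act := secAction (M := M) hPK hPM
  have hV : (Nat.card (K ⧸ M.subgroupOf K)).Coprime p := by
    have : Nat.card (K ⧸ M.subgroupOf K) = M.relIndex K := rfl
    rw [this]
    exact Nat.Coprime.coprime_dvd_left (Subgroup.relIndex_dvd_card M K) hK
  have key := calAb (p := p) (P := P) (V := K ⧸ M.subgroupOf K) hP hV
  unfold CalAb at key
  unfold CalSec
  have e1 : ∀ x : P, Nat.card (fixedBy (K ⧸ M.subgroupOf K) x) =
      (M ⊓ Subgroup.centralizer {(x : G)}).relIndex (K ⊓ Subgroup.centralizer {(x : G)}) := by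
    intro x
    rw [← card_cent_section hMK hKM hPK hPM hP hK {(x : G)}
      (by intro s hs; rw [Set.mem_singleton_iff] at hs; rw [hs]; exact x.2)]
    refine Nat.card_congr (Equiv.subtypeEquivRight (fun v => ?_))
    rw [mem_fixedBy]
    constructor
    · intro h a ha
      rw [Set.mem_singleton_iff] at ha
      have : a = x := Subtype.ext ha
      rw [this]; exact h
    · intro h
      exact h x rfl
  have e2 : Nat.card (fixedPoints P (K ⧸ M.subgroupOf K)) =
      (M ⊓ Subgroup.centralizer (P : Set G)).relIndex (K ⊓ Subgroup.centralizer (P : Set G)) := by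
    rw [← card_cent_section hMK hKM hPK hPM hP hK (P : Set G) (fun s hs => hs)]
    refine Nat.card_congr (Equiv.subtypeEquivRight (fun v => ?_))
    rw [mem_fixedPoints]
    exact ⟨fun h a _ => h a, fun h a => h a a.2⟩
  simp only [e1] at key
  rw [e2] at key
  exact key

theorem commutator_self_le (K : Subgroup G) : ⁅K, K⁆ ≤ K := by
  rw [Subgroup.commutator_le]
  intro a ha b hb
  rw [commutatorElement_def]
  exact K.mul_mem (K.mul_mem (K.mul_mem ha hb) (K.inv_mem ha)) (K.inv_mem hb)

theorem normalizer_le_normalizer_commutator (K : Subgroup G) :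
    Subgroup.normalizer (K : Set G) ≤ Subgroup.normalizer ((⁅K, K⁆ : Subgroup G) : Set G) := by
  intro a ha
  rw [← conj_smul_eq_self_iff_mem_normalizer] at ha ⊢
  have h1 : ∀ H : Subgroup G, MulAut.conj a • H = H.map (MulAut.conj a).toMonoidHom := fun _ => rfl
  rw [h1, Subgroup.map_commutator, ← h1, ha]

theorem calSec_self {p : ℕ} (P K : Subgroup G) : CalSec p P K K := by
  unfold CalSec
  simp only [Subgroup.relIndex_self, finprod_one, one_pow, mul_one, le_refl]

/-- solvable case -/
theorem calSec_bot_of_solvable [Finite G] {p : ℕ} [Fact p.Prime] (hP : IsPGroup p P) :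
    ∀ (n : ℕ) (K : Subgroup G), Nat.card K = n → Group.IsSolvable K →
      P ≤ Subgroup.normalizer (K : Set G) → (Nat.card K).Coprime p → CalSec p P K ⊥ := by
  intro n
  induction n using Nat.strong_induction_on with
  | _ n ih =>
  intro K hn hsol hPK hK
  by_cases hbot : K = ⊥
  · rw [hbot]; exact calSec_self P ⊥
  have hne : ⁅K, K⁆ ≠ K := commutator_ne_self_of_isSolvable hsol hbot
  have hle : ⁅K, K⁆ ≤ K := commutator_self_le K
  have hlt : ⁅K, K⁆ < K := lt_of_le_of_ne hle hne
  have hcard : Nat.card (⁅K, K⁆ : Subgroup G) < n := by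
    rw [← hn]
    by_contra hcon
    push Not at hcon
    exact hlt.ne (Subgroup.eq_of_le_of_card_ge hlt.le hcon)
  have hsol' : Group.IsSolvable (⁅K, K⁆ : Subgroup G) :=
    Group.isSolvable_of_isSolvable_injective (Subgroup.inclusion_injective hle)
  have hPK' : P ≤ Subgroup.normalizer ((⁅K, K⁆ : Subgroup G) : Set G) :=
    hPK.trans (normalizer_le_normalizer_commutator K)
  have hK' : (Nat.card (⁅K, K⁆ : Subgroup G)).Coprime p :=
    Nat.Coprime.coprime_dvd_left (Subgroup.card_dvd_of_le hle) hK
  have h1 := ih _ hcard ⁅K, K⁆ rfl hsol' hPK' hK'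
  have h2 : CalSec p P K ⁅K, K⁆ :=
    calSec_of_abelian hle (Subgroup.le_normalizer.trans (normalizer_le_normalizer_commutator K))
      le_rfl hPK hPK' hP hK
  exact CalSec.trans bot_le hle h2 h1

end Section

section Sylow

variable [Finite G] {A K S : Subgroup G} {q : ℕ} [Fact q.Prime]

/-- for a coprime action, the centralizer of `A` in an `A`-invariant Sylow `q`-subgroup of `K`
is a Sylow `q`-subgroup of `C_K(A)`. -/
theorem isSylowOf_inf_centralizer (h : CoprimeAction A K) (hS : IsSylowOf q K S)
    (hAS : A ≤ Subgroup.normalizer (S : Set G)) :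
    IsSylowOf q (K ⊓ Subgroup.centralizer (A : Set G)) (S ⊓ Subgroup.centralizer (A : Set G)) := by
  have hq : q.Prime := Fact.out
  set C : Subgroup G := K ⊓ Subgroup.centralizer (A : Set G) with hC
  refine ⟨inf_le_inf_right _ hS.le, ?_⟩
  obtain ⟨T, hT⟩ := exists_isSylowOf q C
  have hTcent : T ≤ Subgroup.centralizer (A : Set G) := hT.le.trans inf_le_right
  have hAT : A ≤ Subgroup.normalizer (T : Set G) := by
    intro a ha
    rw [Subgroup.mem_normalizer_iff]
    intro t
    constructor
    · intro ht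
      have := (Subgroup.mem_centralizer_iff.mp (hTcent ht)) a ha
      rw [this, mul_inv_cancel_right]
      exact ht
    · intro ht
      have h1 := (Subgroup.mem_centralizer_iff.mp (hTcent ht)) a ha
      have h2 : t = a * t * a⁻¹ := by
        have : a * t * a⁻¹ = a⁻¹ * (a * (a * t * a⁻¹)) := by group
        rw [this, h1]; group
      rw [h2]; exact ht
  obtain ⟨S', hS', hTS', hAS'⟩ :=
    coprime_invariant_psubgroup_le_sylow h (hT.le.trans inf_le_left) hT.isPGroup hAT
  obtain ⟨c, hc, hcS⟩ := coprime_invariant_sylow_conj h hS' hS hAS' hAS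
  have hle : MulAut.conj c • T ≤ S ⊓ Subgroup.centralizer (A : Set G) := by
    rw [conj_smul_le_iff]
    intro t ht
    refine ⟨?_, ?_⟩
    · rw [← hcS]
      exact conj_mem_conj_smul (hTS' ht)
    · show c * t * c⁻¹ ∈ Subgroup.centralizer (A : Set G)
      rw [Subgroup.mem_centralizer_iff]
      intro a ha
      have h1 := (Subgroup.mem_centralizer_iff.mp hc.2) a ha
      have h2 := (Subgroup.mem_centralizer_iff.mp (hTcent ht)) a ha
      have h3 : a * c⁻¹ = c⁻¹ * a := by
        have : a * c⁻¹ = c⁻¹ * (c * a) * c⁻¹ := by group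
        rw [this, ← h1]; group
      calc a * (c * t * c⁻¹) = (a * c) * t * c⁻¹ := by group
        _ = c * (a * t) * c⁻¹ := by rw [h1]; group
        _ = c * t * (a * c⁻¹) := by rw [h2]; group
        _ = c * t * c⁻¹ * a := by rw [h3]; group
  have h1 : Nat.card T ≤ Nat.card (S ⊓ Subgroup.centralizer (A : Set G) : Subgroup G) := by
    rw [← card_conj_smul T c]
    exact Subgroup.card_le_of_le hle
  have hqg : IsPGroup q (S ⊓ Subgroup.centralizer (A : Set G) : Subgroup G) :=
    hS.isPGroup.to_le inf_le_left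
  obtain ⟨k, hk⟩ := hqg.exists_card_eq
  have hdvd : q ^ k ∣ Nat.card C := by
    rw [← hk]
    exact Subgroup.card_dvd_of_le (inf_le_inf_right _ hS.le)
  have hC0 : Nat.card C ≠ 0 := Nat.card_pos.ne'
  have hkle : k ≤ (Nat.card C).factorization q := (hq.pow_dvd_iff_le_factorization hC0).mp hdvd
  rw [hT.card_eq, hk] at h1
  rw [hk]
  have := Nat.pow_le_pow_right hq.pos hkle
  exact le_antisymm this h1

end Sylow

theorem prod_pow_factorization_of_dvd {m n : ℕ} (hn : n ≠ 0) (hm : m ∣ n) :
    ∏ q ∈ n.primeFactors, q ^ m.factorization q = m := by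
  have hm0 : m ≠ 0 := ne_zero_of_dvd_ne_zero hn hm
  rw [← Finset.prod_subset (Nat.primeFactors_mono hm hn)]
  · have := Nat.factorization_prod_pow_eq_self hm0
    rw [Finsupp.prod, Nat.support_factorization] at this
    exact this
  · intro q _ hq
    rw [← Nat.support_factorization, Finsupp.notMem_support_iff] at hq
    rw [hq, pow_zero]

theorem calSec_bot_iff {p : ℕ} {P K : Subgroup G} : CalSec p P K ⊥ ↔
    (∏ᶠ x : P, Nat.card (K ⊓ Subgroup.centralizer {(x : G)} : Subgroup G)) ^ p ≤
      Nat.card (K ⊓ Subgroup.centralizer (P : Set G) : Subgroup G) ^ (Nat.card P * (p - 1)) *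
        Nat.card K ^ Nat.card P := by
  unfold CalSec
  simp only [bot_inf_eq, Subgroup.relIndex_bot_left]

/-- **Coprime fixed-point inequality** (internal form). -/
theorem cal [Finite G] {p : ℕ} [Fact p.Prime] {P K : Subgroup G} (hP : IsPGroup p P)
    (hPK : P ≤ Subgroup.normalizer (K : Set G)) (hK : (Nat.card K).Coprime p) :
    (∏ᶠ x : P, Nat.card (K ⊓ Subgroup.centralizer {(x : G)} : Subgroup G)) ^ p ≤
      Nat.card (K ⊓ Subgroup.centralizer (P : Set G) : Subgroup G) ^ (Nat.card P * (p - 1)) *
        Nat.card K ^ Nat.card P := by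
  classical
  have hcop : CoprimeAction P K := coprimeAction_of_le hP hPK hK le_rfl
  have hex : ∀ q : ℕ, ∃ S : Subgroup G, q.Prime →
      (IsSylowOf q K S ∧ P ≤ Subgroup.normalizer (S : Set G)) := by
    intro q
    by_cases hq : q.Prime
    · haveI := Fact.mk hq
      obtain ⟨S, h1, h2⟩ := coprime_exists_invariant_sylow hcop q
      exact ⟨S, fun _ => ⟨h1, h2⟩⟩
    · exact ⟨⊥, fun h => absurd h hq⟩
  choose Sq hSq using hex
  have hK0 : Nat.card K ≠ 0 := Nat.card_pos.ne'
  have hfac : ∀ A : Subgroup G, A ≤ P →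
      Nat.card (K ⊓ Subgroup.centralizer (A : Set G) : Subgroup G) =
        ∏ q ∈ (Nat.card K).primeFactors,
          Nat.card (Sq q ⊓ Subgroup.centralizer (A : Set G) : Subgroup G) := by
    intro A hA
    have hcA : CoprimeAction A K := coprimeAction_of_le hP hPK hK hA
    rw [← prod_pow_factorization_of_dvd (n := Nat.card K) hK0
      (Subgroup.card_dvd_of_le (inf_le_left : K ⊓ Subgroup.centralizer (A : Set G) ≤ K))]
    refine Finset.prod_congr rfl (fun q hq => ?_)
    have hqp := Nat.prime_of_mem_primeFactors hq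
    haveI := Fact.mk hqp
    exact ((isSylowOf_inf_centralizer hcA (hSq q hqp).1 (hA.trans (hSq q hqp).2)).card_eq).symm
  have hfacK : Nat.card K = ∏ q ∈ (Nat.card K).primeFactors, Nat.card (Sq q) := by
    conv_lhs => rw [← prod_pow_factorization_of_dvd (n := Nat.card K) hK0 dvd_rfl]
    refine Finset.prod_congr rfl (fun q hq => ?_)
    have hqp := Nat.prime_of_mem_primeFactors hq
    exact ((hSq q hqp).1.card_eq).symm
  have hfacx : ∀ x : P, Nat.card (K ⊓ Subgroup.centralizer {(x : G)} : Subgroup G) =
      ∏ q ∈ (Nat.card K).primeFactors,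
        Nat.card (Sq q ⊓ Subgroup.centralizer {(x : G)} : Subgroup G) := by
    intro x
    have h1 : Subgroup.centralizer ((Subgroup.zpowers (x : G) : Subgroup G) : Set G) =
        Subgroup.centralizer {(x : G)} := by
      rw [Subgroup.zpowers_eq_closure, Subgroup.centralizer_closure]
    have h2 := hfac (Subgroup.zpowers (x : G)) (by rw [Subgroup.zpowers_le]; exact x.2)
    rw [h1] at h2
    exact h2
  have hq : ∀ q ∈ (Nat.card K).primeFactors,
      (∏ᶠ x : P, Nat.card (Sq q ⊓ Subgroup.centralizer {(x : G)} : Subgroup G)) ^ p ≤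
        Nat.card (Sq q ⊓ Subgroup.centralizer (P : Set G) : Subgroup G) ^ (Nat.card P * (p - 1)) *
          Nat.card (Sq q) ^ Nat.card P := by
    intro q hq
    have hqp := Nat.prime_of_mem_primeFactors hq
    haveI := Fact.mk hqp
    have hS := hSq q hqp
    have hsol : Group.IsSolvable (Sq q) := by
      haveI := hS.1.isPGroup.isNilpotent
      infer_instance
    have hcopq : (Nat.card (Sq q)).Coprime p :=
      Nat.Coprime.coprime_dvd_left (Subgroup.card_dvd_of_le hS.1.le) hK
    exact calSec_bot_iff.mp (calSec_bot_of_solvable hP _ (Sq q) rfl hsol hS.2 hcopq)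
  haveI := Fintype.ofFinite P
  rw [finprod_eq_prod_of_fintype]
  simp only [hfacx]
  rw [hfac P le_rfl]
  set T := (Nat.card K).primeFactors with hT
  rw [hfacK, Finset.prod_comm, ← Finset.prod_pow, ← Finset.prod_pow,
    ← Finset.prod_pow, ← Finset.prod_mul_distrib]
  refine Finset.prod_le_prod (fun q _ => Nat.zero_le _) (fun q hq' => ?_)
  have := hq q hq'
  rw [finprod_eq_prod_of_fintype] at this
  exact this

end Cfsg.Agent.Lib.H20.PEl
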