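import Mathlib
import Cfsg.Agent.Lib.H20.PElSec
import Cfsg.Agent.Lib.H10.PSolvable2

/-! Counting `p`-elements in `p`-solvable groups: the geometric-mean bound (helper20).

`mu P R = #{g : g⁻¹ R g ⊆ P}`.  For a Sylow `p`-subgroup `P` of a finite `p`-solvable group `G`:
`(∏_{x ∈ P} mu P {x})^p ≤ |G|^|P| * |N_G(P)|^((p-1)|P|)`. -/

set_option autoImplicit false

namespace Cfsg.Agent.Lib.H20.PEl

open scoped Pointwise

universe u

variable {G : Type u} [Group G]

/-- the number of `g` conjugating the set `R` into `P` -/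
noncomputable def mu (P : Subgroup G) (R : Set G) : ℕ :=
  Nat.card {g : G // ∀ r ∈ R, g⁻¹ * r * g ∈ P}

/-- the geometric-mean bound -/
def GM (p : ℕ) (P : Subgroup G) : Prop :=
  (∏ᶠ x : P, mu P {(x : G)}) ^ p ≤
    Nat.card G ^ Nat.card P * mu P (P : Set G) ^ ((p - 1) * Nat.card P)

theorem mu_self [Finite G] (P : Subgroup G) :
    mu P (P : Set G) = Nat.card (Subgroup.normalizer (P : Set G)) := by
  unfold mu
  refine Nat.card_congr (Equiv.subtypeEquivRight (fun g => ?_))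
  constructor
  · intro h
    have h' : ∀ x ∈ P, g⁻¹ * x * g⁻¹⁻¹ ∈ P := by
      intro x hx
      rw [inv_inv]; exact h x hx
    have hmem : g⁻¹ ∈ Subgroup.normalizer (P : Set G) := by
      rw [Subgroup.mem_normalizer_iff]
      intro y
      refine ⟨h' y, fun hy => ?_⟩
      let f : P → P := fun x => ⟨g⁻¹ * x * g⁻¹⁻¹, h' x x.2⟩
      have hinj : Function.Injective f := by
        intro a b hab
        have : g⁻¹ * (a : G) * g⁻¹⁻¹ = g⁻¹ * (b : G) * g⁻¹⁻¹ := congrArg Subtype.val hab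
        apply Subtype.ext
        simpa using this
      obtain ⟨x, hx⟩ := (Finite.injective_iff_surjective.mp hinj) ⟨g⁻¹ * y * g⁻¹⁻¹, hy⟩
      have : g⁻¹ * (x : G) * g⁻¹⁻¹ = g⁻¹ * y * g⁻¹⁻¹ := congrArg Subtype.val hx
      have hxy : (x : G) = y := by simpa using this
      rw [← hxy]; exact x.2
    have := Subgroup.inv_mem _ hmem
    rwa [inv_inv] at this
  · intro hg r hr
    have hg' := Subgroup.inv_mem _ hg
    have := (Subgroup.mem_normalizer_iff.mp hg' r).mp hr
    rwa [inv_inv] at this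

section PCase

variable [Finite G] (N : Subgroup G) [N.Normal] {P : Subgroup G}

theorem mem_iff_mk_mem_map (hNP : N ≤ P) (x : G) :
    x ∈ P ↔ QuotientGroup.mk' N x ∈ P.map (QuotientGroup.mk' N) := by
  have h : (P.map (QuotientGroup.mk' N)).comap (QuotientGroup.mk' N) = P :=
    Subgroup.comap_map_eq_self (by rw [QuotientGroup.ker_mk']; exact hNP)
  conv_lhs => rw [← h]
  rw [Subgroup.mem_comap]

/-- `mu` under a quotient by a normal subgroup contained in `P` -/
theorem mu_quotient_of_le (hNP : N ≤ P) (R : Set G) :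
    mu P R = Nat.card N * mu (P.map (QuotientGroup.mk' N)) (QuotientGroup.mk' N '' R) := by
  unfold mu
  set T : Set (G ⧸ N) :=
    {gb : G ⧸ N | ∀ rb ∈ QuotientGroup.mk' N '' R, gb⁻¹ * rb * gb ∈ P.map (QuotientGroup.mk' N)}
    with hT
  show _ = Nat.card N * Nat.card T
  rw [← QuotientGroup.card_preimage_mk N T]
  refine Nat.card_congr (Equiv.subtypeEquivRight (fun g => ?_))
  rw [Set.mem_preimage, hT, Set.mem_setOf_eq, Set.forall_mem_image]
  refine forall₂_congr (fun r _ => ?_)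
  rw [mem_iff_mk_mem_map N hNP]
  simp only [QuotientGroup.mk'_apply, QuotientGroup.mk_mul, QuotientGroup.mk_inv]

theorem finprod_comp_fiber {α β M : Type*} [Finite α] [Finite β] [CommMonoid M] (f : α → β)
    (c : ℕ) (hf : ∀ b, Nat.card {a // f a = b} = c) (h : β → M) :
    ∏ᶠ a, h (f a) = (∏ᶠ b, h b) ^ c := by
  classical
  haveI := Fintype.ofFinite α
  haveI := Fintype.ofFinite β
  rw [finprod_eq_prod_of_fintype, finprod_eq_prod_of_fintype,
    ← Finset.prod_fiberwise Finset.univ f (fun a => h (f a)), ← Finset.prod_pow]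
  refine Finset.prod_congr rfl (fun b _ => ?_)
  have h1 : ∀ a ∈ Finset.univ.filter (fun a => f a = b), h (f a) = h b := by
    intro a ha
    rw [(Finset.mem_filter.mp ha).2]
  rw [Finset.prod_congr rfl h1, Finset.prod_const]
  congr 1
  rw [← hf b, Nat.card_eq_fintype_card, Fintype.card_subtype]

/-- the restriction of the quotient map to `P` -/
def mkP (P : Subgroup G) : P → P.map (QuotientGroup.mk' N) :=
  fun a => ⟨QuotientGroup.mk' N a, Subgroup.mem_map_of_mem _ a.2⟩

theorem card_fiber_mkP (hNP : N ≤ P) (b : P.map (QuotientGroup.mk' N)) :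
    Nat.card {a : P // mkP N P a = b} = Nat.card N := by
  have h1 := QuotientGroup.card_preimage_mk N ({(b : G ⧸ N)} : Set (G ⧸ N))
  have h0 : Nat.card (({(b : G ⧸ N)} : Set (G ⧸ N))) = 1 := by
    rw [Nat.card_coe_set_eq, Set.ncard_singleton]
  rw [h0, mul_one] at h1
  rw [← h1]
  refine Nat.card_congr
    { toFun := fun a => ⟨((a : P) : G), congrArg Subtype.val a.2⟩
      invFun := fun g => ⟨⟨(g : G), ?_⟩, ?_⟩
      left_inv := fun a => rfl
      right_inv := fun g => rfl }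
  · rw [mem_iff_mk_mem_map N hNP]
    have : QuotientGroup.mk' N (g : G) = b := g.2
    rw [this]
    exact b.2
  · apply Subtype.ext
    exact g.2

theorem card_eq_of_le (hNP : N ≤ P) :
    Nat.card P = Nat.card N * Nat.card (P.map (QuotientGroup.mk' N)) := by
  have h1 := QuotientGroup.card_preimage_mk N ((P.map (QuotientGroup.mk' N) : Subgroup (G ⧸ N)) :
    Set (G ⧸ N))
  have h2 : Nat.card (((P.map (QuotientGroup.mk' N) : Subgroup (G ⧸ N)) : Set (G ⧸ N))) =
      Nat.card (P.map (QuotientGroup.mk' N)) := rfl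
  rw [h2] at h1
  rw [← h1]
  refine Nat.card_congr (Equiv.subtypeEquivRight (fun g => ?_))
  exact mem_iff_mk_mem_map N hNP g

theorem finprod_const_card {α : Type*} [Finite α] (c : ℕ) : ∏ᶠ _ : α, c = c ^ Nat.card α := by
  classical
  haveI := Fintype.ofFinite α
  rw [finprod_eq_prod_of_fintype, Finset.prod_const, Finset.card_univ, Nat.card_eq_fintype_card]

/-- GM passes up from the quotient by a normal subgroup contained in `P` -/
theorem gm_of_quotient_of_le {p : ℕ} (hp : 0 < p) (hNP : N ≤ P)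
    (h : GM p (P.map (QuotientGroup.mk' N))) : GM p P := by
  unfold GM at h ⊢
  have e1 : ∀ x : P, mu P {(x : G)} =
      Nat.card N * mu (P.map (QuotientGroup.mk' N)) {((mkP N P x : P.map (QuotientGroup.mk' N)) : G ⧸ N)} := by
    intro x
    rw [mu_quotient_of_le N hNP, Set.image_singleton]
    rfl
  have e2 : mu P (P : Set G) = Nat.card N * mu (P.map (QuotientGroup.mk' N))
      ((P.map (QuotientGroup.mk' N) : Subgroup (G ⧸ N)) : Set (G ⧸ N)) := by
    rw [mu_quotient_of_le N hNP, Subgroup.coe_map]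
  have e3 := card_eq_of_le N hNP
  have e4 : Nat.card G = Nat.card N * Nat.card (G ⧸ N) := by
    rw [Subgroup.card_eq_card_quotient_mul_card_subgroup N, mul_comm]
  simp only [e1]
  rw [finprod_mul_distrib (Set.toFinite _) (Set.toFinite _), finprod_const_card,
    finprod_comp_fiber (mkP N P) (Nat.card N) (card_fiber_mkP N hNP)
      (fun y => mu (P.map (QuotientGroup.mk' N)) {(y : G ⧸ N)}), e2, e4, e3]
  set n := Nat.card N
  set k := Nat.card (P.map (QuotientGroup.mk' N))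
  set A := ∏ᶠ y : P.map (QuotientGroup.mk' N), mu (P.map (QuotientGroup.mk' N)) {(y : G ⧸ N)}
  set g := Nat.card (G ⧸ N)
  set ν := mu (P.map (QuotientGroup.mk' N))
    ((P.map (QuotientGroup.mk' N) : Subgroup (G ⧸ N)) : Set (G ⧸ N))
  obtain ⟨e, rfl⟩ : ∃ e, p = e + 1 := ⟨p - 1, by omega⟩
  rw [Nat.add_sub_cancel] at h ⊢
  calc (n ^ (n * k) * A ^ n) ^ (e + 1) = n ^ (n * k * (e + 1)) * (A ^ (e + 1)) ^ n := by
        rw [mul_pow, ← pow_mul, ← pow_mul, ← pow_mul, mul_comm n (e + 1)]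
    _ ≤ n ^ (n * k * (e + 1)) * (g ^ k * ν ^ (e * k)) ^ n :=
        Nat.mul_le_mul_left _ (Nat.pow_le_pow_left h n)
    _ = (n * g) ^ (n * k) * (n * ν) ^ (e * (n * k)) := by
        rw [mul_pow, mul_pow, mul_pow, ← pow_mul, ← pow_mul]
        have : n ^ (n * k * (e + 1)) = n ^ (n * k) * n ^ (e * (n * k)) := by
          rw [← pow_add]; congr 1; ring
        rw [this]
        have h2 : k * n = n * k := mul_comm _ _
        have h3 : e * k * n = e * (n * k) := by ring
        rw [h2, h3]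
        ring

end PCase

section PPrimeCase

variable [Finite G] {p : ℕ} [Fact p.Prime]

theorem exists_conj_le (P : Sylow p G) (N : Subgroup G)
    [N.Normal] {Q : Subgroup G} (hQ : IsPGroup p Q) (hQH : Q ≤ (P : Subgroup G) ⊔ N) :
    ∃ m ∈ N, ∀ x ∈ Q, m⁻¹ * x * m ∈ (P : Subgroup G) := by
  set H : Subgroup G := (P : Subgroup G) ⊔ N with hH
  let P' : Sylow p H := P.subtype le_sup_left
  have hQ' : IsPGroup p (Q.subgroupOf H) := hQ.comap_subtype
  obtain ⟨Q'', hQ''⟩ := hQ'.exists_le_sylow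
  obtain ⟨h, hh⟩ := MulAction.exists_smul_eq H P' Q''
  have hmem : (h : G) ∈ ((N ⊔ (P : Subgroup G) : Subgroup G) : Set G) := by
    rw [sup_comm]; exact h.2
  rw [Subgroup.normal_mul] at hmem
  obtain ⟨m, hm, a, ha, hma⟩ := hmem
  refine ⟨m, hm, fun x hx => ?_⟩
  have hx' : (⟨x, hQH hx⟩ : H) ∈ (Q'' : Subgroup H) :=
    hQ'' (show (⟨x, hQH hx⟩ : H) ∈ Q.subgroupOf H from hx)
  rw [← hh, Sylow.coe_subgroup_smul, Subgroup.mem_smul_pointwise_iff_exists] at hx'
  obtain ⟨y, hy, hyx⟩ := hx'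
  have hy' : (y : G) ∈ (P : Subgroup G) := hy
  have hyx' : (h : G) * y * (h : G)⁻¹ = x := by
    have := congrArg Subtype.val hyx
    simpa [MulAut.smul_def] using this
  rw [← hyx', ← hma]
  have : m⁻¹ * (m * a * ↑y * (m * a)⁻¹) * m = a * y * a⁻¹ := by group
  rw [this]
  exact Subgroup.mul_mem _ (Subgroup.mul_mem _ ha hy') (Subgroup.inv_mem _ ha)

variable (P : Sylow p G) (N : Subgroup G) [N.Normal]

theorem eq_one_of_mem_of_mem (hN : (Nat.card N).Coprime p) {x : G} (hxP : x ∈ (P : Subgroup G))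
    (hxN : x ∈ N) : x = 1 := by
  obtain ⟨k, hk⟩ := (P.2 : IsPGroup p (P : Subgroup G)).exists_card_eq
  have hcop : (Nat.card (P : Subgroup G)).Coprime (Nat.card N) := by
    rw [hk]; exact (Nat.Coprime.pow_right k hN).symm
  have := Subgroup.inf_eq_bot_of_coprime hcop
  have hx : x ∈ (P : Subgroup G) ⊓ N := ⟨hxP, hxN⟩
  rw [this] at hx
  exact hx

/-- lifting: every element of the quotient conjugating `R` into the image of `P` lifts. -/
theorem exists_lift_conj {R : Set G} (hR : R ⊆ (P : Subgroup G)) (gb : G ⧸ N)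
    (hgb : ∀ rb ∈ QuotientGroup.mk' N '' R,
      gb⁻¹ * rb * gb ∈ (P : Subgroup G).map (QuotientGroup.mk' N)) :
    ∃ g : G, (∀ r ∈ R, g⁻¹ * r * g ∈ (P : Subgroup G)) ∧ QuotientGroup.mk' N g = gb := by
  obtain ⟨g0, rfl⟩ := QuotientGroup.mk'_surjective N gb
  set Q : Subgroup G := Subgroup.closure ((fun r => g0⁻¹ * r * g0) '' R) with hQdef
  have hQle : Q ≤ ((g0⁻¹ • P : Sylow p G) : Subgroup G) := by
    rw [hQdef, Subgroup.closure_le]
    rintro _ ⟨r, hr, rfl⟩
    rw [SetLike.mem_coe, Sylow.coe_subgroup_smul, Subgroup.mem_smul_pointwise_iff_exists]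
    refine ⟨r, hR hr, ?_⟩
    simp [MulAut.smul_def]
  have hQp : IsPGroup p Q := (g0⁻¹ • P : Sylow p G).2.to_le hQle
  have hQH : Q ≤ (P : Subgroup G) ⊔ N := by
    rw [hQdef, Subgroup.closure_le]
    rintro _ ⟨r, hr, rfl⟩
    have h1 := hgb _ ⟨r, hr, rfl⟩
    have h2 : g0⁻¹ * r * g0 ∈ ((P : Subgroup G).map (QuotientGroup.mk' N)).comap
        (QuotientGroup.mk' N) := by
      rw [Subgroup.mem_comap]
      simpa using h1
    rw [Subgroup.comap_map_eq, QuotientGroup.ker_mk'] at h2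
    exact h2
  obtain ⟨m, hm, hmQ⟩ := exists_conj_le P N hQp hQH
  refine ⟨g0 * m, fun r hr => ?_, ?_⟩
  · have h1 := hmQ _ (Subgroup.subset_closure ⟨r, hr, rfl⟩)
    have : (g0 * m)⁻¹ * r * (g0 * m) = m⁻¹ * (g0⁻¹ * r * g0) * m := by group
    rw [this]; exact h1
  · have : QuotientGroup.mk' N m = 1 := (QuotientGroup.eq_one_iff m).mpr hm
    rw [map_mul, this, mul_one]

/-- two lifts differ by an element of `C_N(R)` -/
theorem mul_inv_mem_of_mk_eq (hN : (Nat.card N).Coprime p) {R : Set G} {g g' : G}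
    (hg : ∀ r ∈ R, g⁻¹ * r * g ∈ (P : Subgroup G))
    (hg' : ∀ r ∈ R, g'⁻¹ * r * g' ∈ (P : Subgroup G))
    (h : QuotientGroup.mk' N g' = QuotientGroup.mk' N g) :
    g' * g⁻¹ ∈ N ⊓ Subgroup.centralizer R := by
  have hcN : g' * g⁻¹ ∈ N := by
    rw [← QuotientGroup.eq_one_iff, ← QuotientGroup.mk'_apply, map_mul, map_inv, h,
      mul_inv_cancel]
  refine ⟨hcN, ?_⟩
  show g' * g⁻¹ ∈ Subgroup.centralizer R
  rw [Subgroup.mem_centralizer_iff]
  intro r hr
  set c := g' * g⁻¹ with hc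
  have h1 : g⁻¹ * (r⁻¹ * c⁻¹ * r * c) * g ∈ (P : Subgroup G) := by
    have e : g⁻¹ * (r⁻¹ * c⁻¹ * r * c) * g = (g⁻¹ * r * g)⁻¹ * (g'⁻¹ * r * g') := by
      rw [hc]; group
    rw [e]
    exact Subgroup.mul_mem _ (Subgroup.inv_mem _ (hg r hr)) (hg' r hr)
  have hn : N.Normal := inferInstance
  have h2 : r⁻¹ * c⁻¹ * r * c ∈ N := by
    have := hn.conj_mem c⁻¹ (N.inv_mem hcN) r⁻¹
    rw [inv_inv] at this
    exact N.mul_mem this hcN
  have h3 : g⁻¹ * (r⁻¹ * c⁻¹ * r * c) * g ∈ N := by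
    have := hn.conj_mem _ h2 g⁻¹
    rwa [inv_inv] at this
  have h4 := eq_one_of_mem_of_mem P N hN h1 h3
  have h5 : r⁻¹ * c⁻¹ * r * c = 1 := by
    have : r⁻¹ * c⁻¹ * r * c = g * (g⁻¹ * (r⁻¹ * c⁻¹ * r * c) * g) * g⁻¹ := by group
    rw [this, h4]; group
  calc r * c = c * r * (r⁻¹ * c⁻¹ * r * c) := by group
    _ = c * r := by rw [h5, mul_one]

/-- `mu` under a quotient by a normal `p'`-subgroup -/
theorem mu_quotient_of_coprime (hN : (Nat.card N).Coprime p) {R : Set G}
    (hR : R ⊆ (P : Subgroup G)) :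
    mu (P : Subgroup G) R =
      mu ((P : Subgroup G).map (QuotientGroup.mk' N)) (QuotientGroup.mk' N '' R) *
        Nat.card (N ⊓ Subgroup.centralizer R : Subgroup G) := by
  unfold mu
  rw [← Nat.card_prod]
  -- a section
  have hsec : ∀ b : {gb : G ⧸ N // ∀ rb ∈ QuotientGroup.mk' N '' R,
      gb⁻¹ * rb * gb ∈ (P : Subgroup G).map (QuotientGroup.mk' N)},
      ∃ g : G, (∀ r ∈ R, g⁻¹ * r * g ∈ (P : Subgroup G)) ∧ QuotientGroup.mk' N g = b.1 :=
    fun b => exists_lift_conj P N hR b.1 b.2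
  choose s hs1 hs2 using hsec
  symm
  let f : {gb : G ⧸ N // ∀ rb ∈ QuotientGroup.mk' N '' R,
      gb⁻¹ * rb * gb ∈ (P : Subgroup G).map (QuotientGroup.mk' N)} ×
        (N ⊓ Subgroup.centralizer R : Subgroup G) →
      {g : G // ∀ r ∈ R, g⁻¹ * r * g ∈ (P : Subgroup G)} := fun bc =>
    ⟨(bc.2 : G) * s bc.1, fun r hr => by
      have hc : r * (bc.2 : G) = (bc.2 : G) * r :=
        (Subgroup.mem_centralizer_iff.mp bc.2.2.2) r hr
      have e : ((bc.2 : G) * s bc.1)⁻¹ * r * ((bc.2 : G) * s bc.1) =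
          (s bc.1)⁻¹ * ((bc.2 : G)⁻¹ * (r * (bc.2 : G))) * s bc.1 := by group
      rw [e, hc, inv_mul_cancel_left]
      exact hs1 bc.1 r hr⟩
  have hfval : ∀ bc, ((f bc : {g : G // ∀ r ∈ R, g⁻¹ * r * g ∈ (P : Subgroup G)}) : G) =
      (bc.2 : G) * s bc.1 := fun _ => rfl
  have hmk : ∀ bc, QuotientGroup.mk' N ((f bc : {g : G // ∀ r ∈ R, g⁻¹ * r * g ∈ (P : Subgroup G)}) : G)
      = bc.1.1 := by
    intro bc
    have : QuotientGroup.mk' N (bc.2 : G) = 1 := (QuotientGroup.eq_one_iff _).mpr bc.2.2.1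
    rw [hfval, map_mul, this, one_mul, hs2]
  refine Nat.card_congr (Equiv.ofBijective f ⟨?_, ?_⟩)
  · rintro ⟨b, c⟩ ⟨b', c'⟩ h
    have h1 : b = b' := by
      apply Subtype.ext
      rw [← hmk (b, c), ← hmk (b', c'), h]
    subst h1
    have h2 := congrArg Subtype.val h
    rw [hfval, hfval] at h2
    have h3 : (c : G) = c' := mul_right_cancel h2
    rw [Subtype.ext h3]
  · intro g
    have hgb : ∀ rb ∈ QuotientGroup.mk' N '' R, (QuotientGroup.mk' N (g : G))⁻¹ * rb *
        QuotientGroup.mk' N (g : G) ∈ (P : Subgroup G).map (QuotientGroup.mk' N) := by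
      rintro _ ⟨r, hr, rfl⟩
      exact ⟨(g : G)⁻¹ * r * g, g.2 r hr, by simp⟩
    set b : {gb : G ⧸ N // ∀ rb ∈ QuotientGroup.mk' N '' R,
      gb⁻¹ * rb * gb ∈ (P : Subgroup G).map (QuotientGroup.mk' N)} :=
      ⟨QuotientGroup.mk' N (g : G), hgb⟩ with hb
    have hc := mul_inv_mem_of_mk_eq P N hN (hs1 b) g.2 (hs2 b).symm
    refine ⟨(b, ⟨(g : G) * (s b)⁻¹, hc⟩), ?_⟩
    apply Subtype.ext
    rw [hfval]
    simp

theorem mkP_bijective (hN : (Nat.card N).Coprime p) :
    Function.Bijective (mkP N (P : Subgroup G)) := by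
  constructor
  · intro x y hxy
    have h1 : QuotientGroup.mk' N (x : G) = QuotientGroup.mk' N (y : G) :=
      congrArg Subtype.val hxy
    have h2 : (x : G) * (y : G)⁻¹ ∈ N := by
      rw [← QuotientGroup.eq_one_iff, ← QuotientGroup.mk'_apply, map_mul, map_inv, h1,
        mul_inv_cancel]
    have h3 : (x : G) * (y : G)⁻¹ ∈ (P : Subgroup G) :=
      Subgroup.mul_mem _ x.2 (Subgroup.inv_mem _ y.2)
    have h4 := eq_one_of_mem_of_mem P N hN h3 h2
    apply Subtype.ext
    exact mul_inv_eq_one.mp h4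
  · rintro ⟨_, ⟨x, hx, rfl⟩⟩
    exact ⟨⟨x, hx⟩, rfl⟩

/-- GM passes up from the quotient by a normal `p'`-subgroup -/
theorem gm_of_quotient_of_coprime (hN : (Nat.card N).Coprime p)
    (h : GM p ((P : Subgroup G).map (QuotientGroup.mk' N))) : GM p (P : Subgroup G) := by
  unfold GM at h ⊢
  have hp : 0 < p := (Fact.out : p.Prime).pos
  have e1 : ∀ x : (P : Subgroup G), mu (P : Subgroup G) {(x : G)} =
      mu ((P : Subgroup G).map (QuotientGroup.mk' N))
        {((mkP N (P : Subgroup G) x : (P : Subgroup G).map (QuotientGroup.mk' N)) : G ⧸ N)} *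
      Nat.card (N ⊓ Subgroup.centralizer {(x : G)} : Subgroup G) := by
    intro x
    rw [mu_quotient_of_coprime P N hN
      (by intro r hr; rw [Set.mem_singleton_iff] at hr; rw [hr]; exact x.2), Set.image_singleton]
    rfl
  have e2 : mu (P : Subgroup G) ((P : Subgroup G) : Set G) =
      mu ((P : Subgroup G).map (QuotientGroup.mk' N))
        (((P : Subgroup G).map (QuotientGroup.mk' N) : Subgroup (G ⧸ N)) : Set (G ⧸ N)) *
      Nat.card (N ⊓ Subgroup.centralizer ((P : Subgroup G) : Set G) : Subgroup G) := by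
    rw [mu_quotient_of_coprime P N hN (fun r hr => hr), Subgroup.coe_map]
  have e3 : Nat.card (P : Subgroup G) = Nat.card ((P : Subgroup G).map (QuotientGroup.mk' N)) :=
    Nat.card_congr (Equiv.ofBijective _ (mkP_bijective P N hN))
  have e4 : Nat.card G = Nat.card N * Nat.card (G ⧸ N) := by
    rw [Subgroup.card_eq_card_quotient_mul_card_subgroup N, mul_comm]
  have hcal := cal (p := p) (P := (P : Subgroup G)) (K := N) P.2
    (by rw [Subgroup.normalizer_eq_top]; exact le_top) hN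
  have e5 : ∏ᶠ x : (P : Subgroup G), mu ((P : Subgroup G).map (QuotientGroup.mk' N))
        {((mkP N (P : Subgroup G) x : (P : Subgroup G).map (QuotientGroup.mk' N)) : G ⧸ N)} =
      ∏ᶠ y : (P : Subgroup G).map (QuotientGroup.mk' N),
        mu ((P : Subgroup G).map (QuotientGroup.mk' N)) {(y : G ⧸ N)} :=
    finprod_eq_of_bijective (mkP N (P : Subgroup G)) (mkP_bijective P N hN) (fun _ => rfl)
  simp only [e1]
  rw [finprod_mul_distrib (Set.toFinite _) (Set.toFinite _), e5, e2, e4]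
  rw [← e3] at h
  set k := Nat.card (P : Subgroup G)
  set A := ∏ᶠ y : (P : Subgroup G).map (QuotientGroup.mk' N),
    mu ((P : Subgroup G).map (QuotientGroup.mk' N)) {(y : G ⧸ N)}
  set B := ∏ᶠ x : (P : Subgroup G), Nat.card (N ⊓ Subgroup.centralizer {(x : G)} : Subgroup G)
  set g := Nat.card (G ⧸ N)
  set ν := mu ((P : Subgroup G).map (QuotientGroup.mk' N))
    (((P : Subgroup G).map (QuotientGroup.mk' N) : Subgroup (G ⧸ N)) : Set (G ⧸ N))
  set cP := Nat.card (N ⊓ Subgroup.centralizer ((P : Subgroup G) : Set G) : Subgroup G)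
  set n := Nat.card N
  calc (A * B) ^ p = A ^ p * B ^ p := mul_pow _ _ _
    _ ≤ (g ^ k * ν ^ ((p - 1) * k)) * (cP ^ (k * (p - 1)) * n ^ k) := Nat.mul_le_mul h hcal
    _ = (n * g) ^ k * (ν * cP) ^ ((p - 1) * k) := by
        rw [mul_pow, mul_pow, mul_comm k (p - 1)]
        ring

end PPrimeCase

theorem gm_of_subsingleton [Subsingleton G] {p : ℕ} (P : Subgroup G) : GM p P := by
  unfold GM
  have h1 : ∀ (R : Set G), R ⊆ P → mu P R = 1 := by
    intro R hR
    unfold mu
    haveI : Unique {g : G // ∀ r ∈ R, g⁻¹ * r * g ∈ P} :=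
      { default := ⟨1, fun r hr => by simpa using hR hr⟩
        uniq := fun a => Subtype.ext (Subsingleton.elim _ _) }
    exact Nat.card_unique
  have h2 : ∀ x : P, mu P {(x : G)} = 1 := fun x =>
    h1 _ (by intro r hr; rw [Set.mem_singleton_iff] at hr; rw [hr]; exact x.2)
  simp only [h2, finprod_one, one_pow, h1 _ (le_refl _), mul_one]
  exact Nat.one_le_iff_ne_zero.mpr (pow_ne_zero _ Nat.card_pos.ne')

/-- **Geometric-mean bound** for Sylow subgroups of `p`-solvable groups. -/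
theorem gm_of_isPSolvable (p : ℕ) [Fact p.Prime] :
    ∀ (n : ℕ) (G : Type u) [Group G] [Finite G], Nat.card G = n → Cfsg.IsPSolvable p G →
      ∀ P : Sylow p G, GM p (P : Subgroup G) := by
  intro n
  induction n using Nat.strong_induction_on with
  | _ n ih =>
  intro G _ _ hn hG P
  rcases subsingleton_or_nontrivial G with hs | hnt
  · exact gm_of_subsingleton _
  obtain ⟨M, hMn, hMne, hM⟩ := Cfsg.Agent.Lib.H10.exists_normal_of_isPSolvable hG
  haveI := hMn
  have hcard : Nat.card (G ⧸ M) < n := by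
    rw [← hn, Subgroup.card_eq_card_quotient_mul_card_subgroup M]
    have h1 : 1 < Nat.card M := (Subgroup.one_lt_card_iff_ne_bot (H := M)).mpr hMne
    have h2 : 0 < Nat.card (G ⧸ M) := Nat.card_pos
    nlinarith
  have hGq : Cfsg.IsPSolvable p (G ⧸ M) := Cfsg.Agent.Lib.H10.isPSolvable_quotient hG M
  have IH := ih _ hcard (G ⧸ M) rfl hGq (P.mapSurjective (QuotientGroup.mk'_surjective M))
  rw [Sylow.coe_mapSurjective] at IH
  rcases hM with hMp | hMc
  · exact gm_of_quotient_of_le M (Fact.out : p.Prime).pos (hMp.le_sylow_of_normal P) IH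
  · exact gm_of_quotient_of_coprime P M hMc IH

end Cfsg.Agent.Lib.H20.PEl
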