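import Mathlib
import Cfsg.Agent.Lib.H20.PElInd

/-! Counting `p`-elements in `p`-solvable groups (helper20): `u^p ≥ |P|^p * n^(p-1)`. -/

set_option autoImplicit false

namespace Cfsg.Agent.Lib.H20.PEl

universe u

variable {G : Type u} [Group G]

theorem prod_le_avg_pow {ι : Type*} [Fintype ι] [Nonempty ι] (a : ι → ℝ) (ha : ∀ i, 0 ≤ a i) :
    ∏ i, a i ≤ ((∑ i, a i) / Fintype.card ι) ^ Fintype.card ι := by
  have hpos : (0 : ℝ) < ∑ _i : ι, (1 : ℝ) := by
    simp only [Finset.sum_const, Finset.card_univ, nsmul_eq_mul, mul_one]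
    exact_mod_cast Fintype.card_pos
  have h := Real.geom_mean_le_arith_mean Finset.univ (fun _ => (1 : ℝ)) a
    (fun _ _ => zero_le_one) hpos (fun i _ => ha i)
  simp only [Real.rpow_one, Finset.sum_const, Finset.card_univ, nsmul_eq_mul, mul_one, one_mul]
    at h
  have hk : Fintype.card ι ≠ 0 := Fintype.card_ne_zero
  have hprod : 0 ≤ ∏ i, a i := Finset.prod_nonneg (fun i _ => ha i)
  calc ∏ i, a i = ((∏ i, a i) ^ ((Fintype.card ι : ℝ)⁻¹)) ^ Fintype.card ι :=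
        (Real.rpow_inv_natCast_pow hprod hk).symm
    _ ≤ _ := pow_le_pow_left₀ (Real.rpow_nonneg hprod _) h _

/-- conjugation invariance of `mu` -/
theorem mu_conj (P : Subgroup G) (g x : G) : mu P {g * x * g⁻¹} = mu P {x} := by
  unfold mu
  refine Nat.card_congr (Equiv.subtypeEquiv (Equiv.mulLeft g⁻¹) (fun h => ?_))
  simp only [Set.mem_singleton_iff, forall_eq, Equiv.coe_mulLeft]
  have : (g⁻¹ * h)⁻¹ * x * (g⁻¹ * h) = h⁻¹ * (g * x * g⁻¹) * h := by group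
  rw [this]

theorem card_fiber_conj (P : Subgroup G) (y : G) :
    Nat.card {t : G × P // t.1 * (t.2 : G) * t.1⁻¹ = y} = mu P {y} := by
  unfold mu
  refine Nat.card_congr
    { toFun := fun t => ⟨t.1.1, fun r hr => ?_⟩
      invFun := fun g => ⟨(g.1, ⟨g.1⁻¹ * y * g.1, g.2 y rfl⟩), ?_⟩
      left_inv := fun t => ?_
      right_inv := fun g => rfl }
  · rw [Set.mem_singleton_iff] at hr
    have h2 : t.1.1⁻¹ * r * t.1.1 = (t.1.2 : G) := by
      rw [hr]
      have h3 := t.2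
      calc t.1.1⁻¹ * y * t.1.1 = t.1.1⁻¹ * (t.1.1 * (t.1.2 : G) * t.1.1⁻¹) * t.1.1 := by rw [h3]
        _ = (t.1.2 : G) := by group
    rw [h2]
    exact t.1.2.2
  · show g.1 * (g.1⁻¹ * y * g.1) * g.1⁻¹ = y
    group
  · apply Subtype.ext
    refine Prod.ext (by rfl) ?_
    apply Subtype.ext
    show t.1.1⁻¹ * y * t.1.1 = t.1.2
    have h3 := t.2
    calc t.1.1⁻¹ * y * t.1.1 = t.1.1⁻¹ * (t.1.1 * (t.1.2 : G) * t.1.1⁻¹) * t.1.1 := by rw [h3]
      _ = (t.1.2 : G) := by group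

theorem mu_ne_zero_iff [Finite G] {p : ℕ} [Fact p.Prime] (P : Sylow p G) (y : G) :
    mu (P : Subgroup G) {y} ≠ 0 ↔ ∃ k : ℕ, orderOf y = p ^ k := by
  unfold mu
  rw [Nat.card_ne_zero]
  constructor
  · rintro ⟨⟨g, hg⟩, _⟩
    have h1 := hg y rfl
    obtain ⟨k, hk⟩ := (IsPGroup.iff_orderOf.mp P.2) ⟨_, h1⟩
    refine ⟨k, ?_⟩
    rw [← hk, Subgroup.orderOf_mk]
    have := MulEquiv.orderOf_eq (MulAut.conj g⁻¹) y
    rw [MulAut.conj_apply, inv_inv] at this
    exact this.symm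
  · rintro ⟨k, hk⟩
    refine ⟨?_, inferInstance⟩
    have hZ : IsPGroup p (Subgroup.zpowers y) := by
      apply IsPGroup.of_card (n := k)
      rw [Nat.card_zpowers, hk]
    obtain ⟨Q, hQ⟩ := hZ.exists_le_sylow
    obtain ⟨h, hh⟩ := MulAction.exists_smul_eq G P Q
    have hy : y ∈ (Q : Subgroup G) := hQ (Subgroup.mem_zpowers y)
    rw [← hh, Sylow.coe_subgroup_smul, Subgroup.mem_smul_pointwise_iff_exists] at hy
    obtain ⟨x, hx, hxy⟩ := hy
    refine ⟨⟨h, fun r hr => ?_⟩⟩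
    rw [Set.mem_singleton_iff] at hr
    rw [hr, ← hxy]
    have : h⁻¹ * (MulAut.conj h • x) * h = x := by
      simp only [MulAut.smul_def, MulAut.conj_apply]
      group
    rw [this]
    exact hx

/-- the counting identity `u = |G| * ∑_{x ∈ P} 1/mu(x)` -/
theorem card_pElements_eq [Fintype G] {p : ℕ} [Fact p.Prime] (P : Sylow p G)
    [Fintype (P : Subgroup G)] :
    (Nat.card {g : G // ∃ k : ℕ, orderOf g = p ^ k} : ℝ) =
      Nat.card G * ∑ x : (P : Subgroup G), ((mu (P : Subgroup G) {(x : G)} : ℝ))⁻¹ := by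
  classical
  set μ : G → ℕ := fun y => mu (P : Subgroup G) {y} with hμ
  have h1 : ∑ t : G × (P : Subgroup G), ((μ (t.1 * (t.2 : G) * t.1⁻¹) : ℝ))⁻¹ =
      Nat.card G * ∑ x : (P : Subgroup G), ((μ x : ℝ))⁻¹ := by
    simp only [hμ, mu_conj]
    rw [Fintype.sum_prod_type]
    simp only []
    rw [Finset.sum_const, Finset.card_univ, nsmul_eq_mul, Nat.card_eq_fintype_card]
  have h3 : ∀ y : G, ∑ t ∈ Finset.univ.filter
      (fun t : G × (P : Subgroup G) => t.1 * (t.2 : G) * t.1⁻¹ = y),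
      ((μ (t.1 * (t.2 : G) * t.1⁻¹) : ℝ))⁻¹ = if ∃ k : ℕ, orderOf y = p ^ k then 1 else 0 := by
    intro y
    rw [Finset.sum_congr rfl (fun t ht => by rw [(Finset.mem_filter.mp ht).2]),
      Finset.sum_const, nsmul_eq_mul]
    have hc : (Finset.univ.filter
        (fun t : G × (P : Subgroup G) => t.1 * (t.2 : G) * t.1⁻¹ = y)).card = μ y := by
      show _ = mu (P : Subgroup G) {y}
      rw [← card_fiber_conj, Nat.card_eq_fintype_card, Fintype.card_subtype]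
    rw [hc]
    split_ifs with hy
    · have : μ y ≠ 0 := (mu_ne_zero_iff P y).mpr hy
      have h' : ((μ y : ℕ) : ℝ) ≠ 0 := Nat.cast_ne_zero.mpr this
      exact mul_inv_cancel₀ h'
    · have : μ y = 0 := by
        by_contra h
        exact hy ((mu_ne_zero_iff P y).mp h)
      rw [this]; simp
  have h2 : ∑ t : G × (P : Subgroup G), ((μ (t.1 * (t.2 : G) * t.1⁻¹) : ℝ))⁻¹ =
      (Nat.card {g : G // ∃ k : ℕ, orderOf g = p ^ k} : ℝ) := by
    rw [← Finset.sum_fiberwise Finset.univ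
      (fun t : G × (P : Subgroup G) => t.1 * (t.2 : G) * t.1⁻¹)]
    simp only [h3]
    rw [Finset.sum_boole, Nat.card_eq_fintype_card, Fintype.card_subtype]
  rw [← h2, h1]

/-- **Main theorem**: in a finite `p`-solvable group, `u^p ≥ |P|^p * n^(p-1)`. -/
theorem pel_main [Finite G] (p : ℕ) [Fact p.Prime] (hG : Cfsg.IsPSolvable p G) (P : Sylow p G) :
    Nat.card (P : Subgroup G) ^ p * Nat.card (Sylow p G) ^ (p - 1) ≤
      Nat.card {g : G // ∃ k : ℕ, orderOf g = p ^ k} ^ p := by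
  classical
  haveI := Fintype.ofFinite G
  haveI : Fintype (P : Subgroup G) := Fintype.ofFinite _
  have hp : p.Prime := Fact.out
  set u := Nat.card {g : G // ∃ k : ℕ, orderOf g = p ^ k} with hu
  set k := Nat.card (P : Subgroup G) with hk
  set g := Nat.card G with hg
  set n := Nat.card (Sylow p G) with hn
  set ν := Nat.card (Subgroup.normalizer ((P : Subgroup G) : Set G)) with hν
  set Pr := ∏ x : (P : Subgroup G), mu (P : Subgroup G) {(x : G)} with hPr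
  have hk0 : k ≠ 0 := Nat.card_pos.ne'
  have hg0 : 0 < g := Nat.card_pos
  have hν0 : 0 < ν := Nat.card_pos
  have hkF : Fintype.card (P : Subgroup G) = k := (Nat.card_eq_fintype_card).symm
  -- positivity of mu on P
  have hμpos : ∀ x : (P : Subgroup G), 0 < mu (P : Subgroup G) {(x : G)} := by
    intro x
    apply Nat.pos_of_ne_zero
    rw [mu_ne_zero_iff]
    obtain ⟨j, hj⟩ := (IsPGroup.iff_orderOf.mp P.2) x
    exact ⟨j, by rw [← hj, Subgroup.orderOf_coe]⟩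
  have hPr0 : 0 < Pr := Finset.prod_pos (fun x _ => hμpos x)
  -- counting identity and AM-GM
  have hcount := card_pElements_eq P
  have hAG := prod_le_avg_pow (fun x : (P : Subgroup G) => ((mu (P : Subgroup G) {(x : G)} : ℝ))⁻¹)
    (fun x => by positivity)
  rw [hkF] at hAG
  have hsum : ∑ x : (P : Subgroup G), ((mu (P : Subgroup G) {(x : G)} : ℝ))⁻¹ = (u : ℝ) / g := by
    have : (g : ℝ) ≠ 0 := Nat.cast_ne_zero.mpr hg0.ne'
    rw [eq_div_iff this, hcount]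
    exact mul_comm _ _
  have hprod : ∏ x : (P : Subgroup G), ((mu (P : Subgroup G) {(x : G)} : ℝ))⁻¹ = ((Pr : ℕ) : ℝ)⁻¹ := by
    rw [Finset.prod_inv_distrib, hPr, Nat.cast_prod]
  rw [hsum, hprod] at hAG
  -- (g k)^k ≤ u^k Pr
  have h1 : (g * k) ^ k ≤ u ^ k * Pr := by
    have hgk : (0 : ℝ) < (g : ℝ) * k := by positivity
    have hPrr : (0 : ℝ) < (Pr : ℝ) := Nat.cast_pos.mpr hPr0
    have h2 : ((Pr : ℝ))⁻¹ ≤ (u : ℝ) ^ k / ((g : ℝ) * k) ^ k := by
      rw [← div_pow, ← div_div]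
      exact hAG
    rw [le_div_iff₀ (pow_pos hgk k), inv_mul_le_iff₀ hPrr] at h2
    have h3 : ((g : ℝ) * k) ^ k ≤ (Pr : ℝ) * (u : ℝ) ^ k := h2
    have h4 : (((g * k) ^ k : ℕ) : ℝ) ≤ ((u ^ k * Pr : ℕ) : ℝ) := by
      push_cast
      rw [mul_comm ((u : ℝ) ^ k)]
      exact h3
    exact_mod_cast h4
  -- geometric mean bound
  have hGM := gm_of_isPSolvable p _ G rfl hG P
  unfold GM at hGM
  rw [finprod_eq_prod_of_fintype, mu_self] at hGM
  -- Sylow count
  have hsyl : n * ν = g := by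
    rw [hn, Sylow.card_eq_index_normalizer P, mul_comm]
    exact Subgroup.card_mul_index _
  -- final computation
  obtain ⟨e, rfl⟩ : ∃ e, p = e + 1 := ⟨p - 1, by have := hp.pos; omega⟩
  rw [Nat.add_sub_cancel] at hGM ⊢
  have h5 : ((g * k) ^ k) ^ (e + 1) ≤ (u ^ k) ^ (e + 1) * (g ^ k * ν ^ (e * k)) := by
    calc ((g * k) ^ k) ^ (e + 1) ≤ (u ^ k * Pr) ^ (e + 1) := Nat.pow_le_pow_left h1 _
      _ = (u ^ k) ^ (e + 1) * Pr ^ (e + 1) := mul_pow _ _ _
      _ ≤ (u ^ k) ^ (e + 1) * (g ^ k * ν ^ (e * k)) := Nat.mul_le_mul_left _ hGM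
  have h6 : ((g * k) ^ k) ^ (e + 1) = (g ^ k * ν ^ (e * k)) * (k ^ (e + 1) * n ^ e) ^ k := by
    rw [← hsyl]
    ring
  have h7 : (u ^ k) ^ (e + 1) * (g ^ k * ν ^ (e * k)) = (g ^ k * ν ^ (e * k)) * (u ^ (e + 1)) ^ k := by
    ring
  rw [h6, h7] at h5
  have h8 : 0 < g ^ k * ν ^ (e * k) := Nat.mul_pos (pow_pos hg0 _) (pow_pos hν0 _)
  have h9 := Nat.le_of_mul_le_mul_left h5 h8
  exact (Nat.pow_le_pow_iff_left hk0).mp h9

end Cfsg.Agent.Lib.H20.PEl
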