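import Mathlib
import Cfsg.Agent.Lib.H20.AutPrimeOrder
import Cfsg.Agent.Lib.H1.BurnsideBasis
import Cfsg.Agent.Lib.H9.FrattiniAction

set_option autoImplicit false

namespace Cfsg.Agent.Lib.H20

/-- If a `p`-subgroup `Q` is generated by `d` elements, `y ∈ N_G(Q)` has order prime to `p`, and
no prime divisor of the order of `y` divides `p ^ i - 1` for `1 ≤ i ≤ d`, then `y ∈ C_G(Q)`. -/
theorem mem_centralizer_of_generators {G : Type*} [Group G] [Finite G] (p : ℕ)
    [hp : Fact p.Prime] (Q : Subgroup G) (hQ : IsPGroup p Q) (d : ℕ)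
    (S : Finset ↥Q) (hSd : S.card ≤ d) (hS : Subgroup.closure (S : Set ↥Q) = ⊤)
    (y : G) (hyN : y ∈ Subgroup.normalizer (Q : Set G)) (hcopl : (orderOf y).Coprime p)
    (hcop : ∀ r : ℕ, r.Prime → r ∣ orderOf y → ∀ i, 1 ≤ i → i ≤ d → ¬ r ∣ p ^ i - 1) :
    y ∈ Subgroup.centralizer (Q : Set G) := by
  classical
  by_contra hyC
  -- the action on the Frattini quotient
  let Ψ : ↥(Subgroup.normalizer (Q : Set G)) →* MulAut (↥Q ⧸ frattini ↥Q) :=
    (quotAutHom (frattini ↥Q)).comp Q.normalizerMonoidHom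
  let y' : ↥(Subgroup.normalizer (Q : Set G)) := ⟨y, hyN⟩
  have hΨ : ∀ (a : ↥(Subgroup.normalizer (Q : Set G))) (q : ↥Q),
      Ψ a (q : ↥Q ⧸ frattini ↥Q) =
        ((Q.normalizerMonoidHom a q : ↥Q) : ↥Q ⧸ frattini ↥Q) := fun a q => rfl
  have hΨy : Ψ y' ≠ 1 := by
    intro h1
    apply hyC
    have hcomm := Cfsg.Agent.Lib.H9.commute_of_commutator_mem_frattini hQ hyN hcopl ?_
    · rw [Subgroup.mem_centralizer_iff]
      intro q hq
      exact (hcomm q hq).symm
    · intro a ha q hq
      obtain ⟨j, rfl⟩ := Subgroup.mem_zpowers_iff.mp ha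
      have haN : y ^ j ∈ Subgroup.normalizer (Q : Set G) := Subgroup.zpow_mem _ hyN j
      have h2 : Ψ (⟨y ^ j, haN⟩) = 1 := by
        have : (⟨y ^ j, haN⟩ : ↥(Subgroup.normalizer (Q : Set G))) = y' ^ j := by
          apply Subtype.ext
          simp [y']
        rw [this, map_zpow, h1, one_zpow]
      have h3 := hΨ ⟨y ^ j, haN⟩ ⟨q, hq⟩
      rw [h2, MulAut.one_apply] at h3
      have h4 : (Q.normalizerMonoidHom ⟨y ^ j, haN⟩ ⟨q, hq⟩) * (⟨q, hq⟩ : ↥Q)⁻¹
          ∈ frattini ↥Q := by
        rw [← QuotientGroup.eq_one_iff, QuotientGroup.mk_mul, QuotientGroup.mk_inv, ← h3]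
        exact mul_inv_cancel _
      refine ⟨_, h4, ?_⟩
      rfl
  -- an element of prime order in the image
  have hord1 : orderOf (Ψ y') ≠ 1 := by
    rw [Ne, orderOf_eq_one_iff]; exact hΨy
  obtain ⟨r, hr, hrdvd⟩ := Nat.exists_prime_and_dvd hord1
  haveI : Fact r.Prime := ⟨hr⟩
  have hdvd1 : orderOf (Ψ y') ∣ orderOf y := by
    have h1 : orderOf (Ψ y') ∣ orderOf y' := orderOf_map_dvd Ψ y'
    have h2 : orderOf y' = orderOf y := Subgroup.orderOf_mk y hyN
    rwa [h2] at h1
  have hrp : r ≠ p := by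
    rintro rfl
    have h1 : r ∣ orderOf y := hrdvd.trans hdvd1
    have := Nat.Coprime.eq_one_of_dvd hcopl.symm h1
    exact hr.one_lt.ne' this
  set β := (Ψ y') ^ (orderOf (Ψ y') / r) with hβ
  have hordβ : orderOf β = r := orderOf_pow_orderOf_div (orderOf_pos (Ψ y')).ne' hrdvd
  have hβr : β ^ r = 1 := by rw [← hordβ]; exact pow_orderOf_eq_one β
  have hβ1 : β ≠ 1 := by
    intro h
    rw [← orderOf_eq_one_iff, hordβ] at h
    exact hr.one_lt.ne' h
  -- the order of the Frattini quotient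
  have hVp : IsPGroup p (↥Q ⧸ frattini ↥Q) := hQ.to_quotient _
  obtain ⟨n, hn⟩ := hVp.exists_card_eq
  have hidx : (frattini ↥Q).index = p ^ n := by
    rw [Subgroup.index_eq_card]; exact hn
  obtain ⟨T, hTS, hTcard, _⟩ := Cfsg.Agent.Lib.H1.burnside_basis hQ hidx S hS
  have hnd : n ≤ d := by
    rw [← hTcard]
    exact (Finset.card_le_card hTS).trans hSd
  obtain ⟨i, hi1, hin, hri⟩ := exists_dvd_pow_sub_one_of_aut hrp hn β hβr hβ1
  exact hcop r hr (hrdvd.trans hdvd1) i hi1 (hin.trans hnd) hri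

/-- A group having a cyclic subgroup of index at most `2` is generated by two elements. -/
theorem exists_two_generators_of_cyclic_index {Q : Type*} [Group Q] [Finite Q] (C : Subgroup Q)
    [hC : IsCyclic C] (hidx : C.index ≤ 2) :
    ∃ S : Finset Q, S.card ≤ 2 ∧ Subgroup.closure (S : Set Q) = ⊤ := by
  classical
  obtain ⟨c, hc⟩ := hC.exists_generator
  by_cases htop : C = ⊤
  · refine ⟨{(c : Q)}, by simp, ?_⟩
    rw [eq_top_iff, ← htop]
    intro x hx
    have := hc ⟨x, hx⟩
    rw [Subgroup.mem_zpowers_iff] at this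
    obtain ⟨k, hk⟩ := this
    have hk' : (c : Q) ^ k = x := by
      have := congrArg Subtype.val hk
      simpa using this
    rw [← hk']
    exact Subgroup.zpow_mem _ (Subgroup.subset_closure (by simp)) k
  · obtain ⟨t, -, ht⟩ := SetLike.exists_of_lt (lt_top_iff_ne_top.mpr htop)
    refine ⟨{(c : Q), t}, Finset.card_le_two, ?_⟩
    set K := Subgroup.closure (({(c : Q), t} : Finset Q) : Set Q) with hK
    have hCK : C ≤ K := by
      intro x hx
      have := hc ⟨x, hx⟩
      rw [Subgroup.mem_zpowers_iff] at this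
      obtain ⟨k, hk⟩ := this
      have hk' : (c : Q) ^ k = x := by
        have := congrArg Subtype.val hk
        simpa using this
      rw [← hk']
      exact Subgroup.zpow_mem _ (Subgroup.subset_closure (by simp)) k
    have htK : t ∈ K := Subgroup.subset_closure (by simp)
    have hCne : C ≠ K := by
      intro h
      apply ht
      rw [h]; exact htK
    -- index argument
    have hidx_pos : C.index ≠ 0 := Subgroup.index_ne_zero_of_finite
    have h2 : C.index = 2 := by
      have h1 : C.index ≠ 1 := fun h => htop (Subgroup.index_eq_one.mp h)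
      omega
    have hmul := Subgroup.relIndex_mul_index hCK
    rw [h2] at hmul
    have hrel : C.relIndex K ≠ 1 := by
      intro h
      rw [Subgroup.relIndex_eq_one] at h
      exact hCne (le_antisymm hCK h)
    have hKidx : K.index = 1 := by
      have hd : C.relIndex K ∣ 2 := Dvd.intro _ hmul
      have : C.relIndex K = 1 ∨ C.relIndex K = 2 := (Nat.dvd_prime Nat.prime_two).mp hd
      rcases this with h | h
      · exact absurd h hrel
      · rw [h] at hmul; omega
    exact Subgroup.index_eq_one.mp hKidx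

end Cfsg.Agent.Lib.H20
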