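import Mathlib
import Cfsg.Prelude.Def_Characters
import Cfsg.Prelude.Def_Blocks
import Cfsg.Prelude.Def_Local
import Cfsg.Prelude.Def_Transfer
import Cfsg.Agent.Lib.H20.PL1Defs
import Cfsg.Agent.Lib.H24.PL1KER
import Cfsg.Agent.Lib.H14.PL1CNT
import Cfsg.Agent.Lib.H2.PL1FIN
import Cfsg.Agent.Lib.H24.PL1UP
import Cfsg.Agent.Lib.H14.PL1LIN
import Cfsg.Agent.Lib.H21.PL1U
import Cfsg.Agent.Lib.H24.CharDefl
import Cfsg.Agent.Lib.H19.PLength

/-!
# S4711 farm-out, piece BACK (helper20): the direction `<=`, assembled from the other pieces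
-/

set_option autoImplicit false

namespace Cfsg.Agent.Lib.H20.PL1

open Cfsg Cfsg.Agent.Lib.L0 Cfsg.Agent.Lib.H24
open scoped ComplexConjugate

theorem sqSum_le_of_subset_ker {G : Type*} [Group G] [Finite G] (R : Set (IrrCharacter G))
    (N : Subgroup G) [N.Normal]
    (h : ∀ χ ∈ R, ∀ n ∈ N, (χ : G → ℂ) n = (χ : G → ℂ) 1) : sqSum R ≤ N.index := by
  classical
  haveI : Finite (IrrCharacter G) := finite_irr
  haveI := Fintype.ofFinite (IrrCharacter G)
  rw [← sum_sq_of_le_ker N]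
  unfold sqSum
  rw [finsum_mem_eq_finite_toFinset_sum _ (Set.toFinite R)]
  apply Finset.sum_le_sum_of_subset
  intro χ hχ
  rw [Set.Finite.mem_toFinset] at hχ
  rw [Finset.mem_filter]
  exact ⟨Finset.mem_univ _, h χ hχ⟩

/-- BACK (the direction `<=`). -/
theorem plengthLE_one_of_restrict_irr {G : Type*} [Group G] [Finite G] (p : ℕ) [Fact p.Prime]
    (M : Ideal AlgInt) (hM : IsPModular p M) (P : Sylow p G)
    (hyp : ∀ χ ∈ principalBlock M G,
      IsIrrCharacter ↥(Subgroup.normalizer ((P : Subgroup G) : Set G))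
        (fun n : ↥(Subgroup.normalizer ((P : Subgroup G) : Set G)) => (χ : G → ℂ) n)) :
    PLengthLE p 1 G := by
  classical
  have hp := (Fact.out : p.Prime)
  obtain ⟨R, hR⟩ : ∃ R : Set (IrrCharacter G), R = {χ : IrrCharacter G | χ ∈ principalBlock M G ∧
      ∀ u ∈ (P : Subgroup G), (χ : G → ℂ) u = (χ : G → ℂ) 1} := ⟨_, rfl⟩
  have hRmem : ∀ χ : IrrCharacter G, χ ∈ R ↔ (χ ∈ principalBlock M G ∧
      ∀ u ∈ (P : Subgroup G), (χ : G → ℂ) u = (χ : G → ℂ) 1) := by
    intro χ; rw [hR]; rfl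
  obtain ⟨N, hN⟩ : ∃ N : Subgroup G,
      N = ⨅ χ : R, charKer ((χ : IrrCharacter G) : G → ℂ)
        (isCharacter_of_irr (χ : IrrCharacter G).2) := ⟨_, rfl⟩
  have hNmem : ∀ g : G, g ∈ N ↔ ∀ χ ∈ R, (χ : G → ℂ) g = (χ : G → ℂ) 1 := by
    intro g
    rw [hN, Subgroup.mem_iInf]
    constructor
    · intro h χ hχ
      exact h ⟨χ, hχ⟩
    · intro h χ
      exact h χ.1 χ.2
  have hNn : N.Normal := by
    rw [hN]
    exact Subgroup.normal_iInf_normal (fun χ => charKer_normal _ _)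
  have hPN : (P : Subgroup G) ≤ N := fun u hu =>
    (hNmem u).mpr (fun χ hχ => ((hRmem χ).mp hχ).2 u hu)
  have hCN : Subgroup.centralizer ((P : Subgroup G) : Set G) ≤ N := fun s hs =>
    (hNmem s).mpr (fun χ hχ =>
      Cfsg.Agent.Lib.H24.PL1.centralizer_le_ker p M hM P χ ((hRmem χ).mp hχ).1
        (hyp χ ((hRmem χ).mp hχ).1) ((hRmem χ).mp hχ).2 s hs)
  have h1 : sqSum R ≤ N.index :=
    sqSum_le_of_subset_ker R N (fun χ hχ n hn => (hNmem n).mp hn χ hχ)
  have h2 : sqSum (principalBlock M G) = Nat.card (P : Subgroup G) * sqSum R := by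
    rw [hR]
    exact Cfsg.Agent.Lib.H24.PL1.sqSum_principalBlock_eq_card_mul p M hM P hyp
  have h3 : sqSum (principalBlock M G) = N.index * sqSum (principalBlock M ↥N) :=
    Cfsg.Agent.Lib.H14.PL1.sqSum_principalBlock_eq_index_mul p M hM N
      (fun χ ψ hψ hcon =>
        Cfsg.Agent.Lib.H21.PL1.mem_principalBlock_of_over p M hM P N hPN hCN χ ψ hψ hcon)
  have hidxpos : 0 < N.index := Nat.pos_of_ne_zero Subgroup.index_ne_zero_of_finite
  have h4 : sqSum (principalBlock M ↥N) ≤ Nat.card (P : Subgroup G) := by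
    have h5 : N.index * sqSum (principalBlock M ↥N) ≤ N.index * Nat.card (P : Subgroup G) := by
      rw [← h3, h2, mul_comm]
      exact Nat.mul_le_mul_right _ h1
    exact Nat.le_of_mul_le_mul_left h5 hidxpos
  -- the Sylow subgroup of `N`
  obtain ⟨P₂, hP₂⟩ : ∃ P₂ : Sylow p ↥N, P₂ = P.subtype hPN := ⟨_, rfl⟩
  have hcard : Nat.card (P₂ : Subgroup ↥N) = Nat.card (P : Subgroup G) := by
    rw [hP₂, Sylow.coe_subtype]
    exact Nat.card_congr (Subgroup.subgroupOfEquivOfLe hPN).toEquiv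
  have h6 : PLengthLE p 1 ↥N := by
    apply Cfsg.Agent.Lib.H2.PL1.plengthLE_one_of_linear_extend p P₂
    intro lam hlam h1lam
    exact Cfsg.Agent.Lib.H14.PL1.exists_extension_of_sqSum_le p M hM P₂
      (by rw [hcard]; exact h4) lam hlam h1lam
  have h7 : PLengthLE p 0 (G ⧸ N) := by
    apply Cfsg.Agent.Lib.H19.plengthLE_zero_of_coprime
    rw [← Subgroup.index_eq_card]
    have h8 : N.index ∣ (P : Subgroup G).index := Subgroup.index_dvd_of_le hPN
    have h9 : ¬ p ∣ N.index := fun h => P.not_dvd_index (dvd_trans h h8)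
    exact ((Nat.Prime.coprime_iff_not_dvd hp).mpr h9).symm
  exact Cfsg.Agent.Lib.H19.plengthLE_of_extension N h6 h7

end Cfsg.Agent.Lib.H20.PL1
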