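import Mathlib
import Cfsg.Prelude.Def_Blocks
import Cfsg.Prelude.Def_Local
import Cfsg.Prelude.Def_Solvable
import Cfsg.Prelude.Def_Characters
import Cfsg.Agent.Lib.H26.PSolvableExt
import Cfsg.Agent.Lib.L0.CharOps

/-!
# S4886, piece SLQ (architect helper22): the hypotheses of (SL) pass to `Γ ⧸ M`.
-/

set_option autoImplicit false

universe u

namespace Cfsg.Agent.Lib.H20.PQ2

open Cfsg

/-- SLQ: the hypotheses of (SL) pass to `Γ ⧸ M` (`M ⊴ Γ`, `M ≤ Y`): images of `Y`, `S`, `Q`. -/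
theorem hyps_quotient {Γ : Type u} [Group Γ] [Finite Γ] (p q : ℕ) [Fact p.Prime] [Fact q.Prime]
    (Y S Q M : Subgroup Γ) [M.Normal] (hMY : M ≤ Y) (hYq : IsPSolvable q Y) (hQY : Q ≤ Y)
    (hQsyl : ¬ q ∣ Q.relIndex Y)
    (hdeg : ∀ θ : IrrCharacter Y,
      (∀ s ∈ S, ∀ g g' : Y, (g' : Γ) = s * g * s⁻¹ → (θ : Y → ℂ) g' = (θ : Y → ℂ) g) →
      ¬ q ∣ charDegree (θ : Y → ℂ)) :
    IsPSolvable q (Y.map (QuotientGroup.mk' M)) ∧
    ¬ q ∣ (Q.map (QuotientGroup.mk' M)).relIndex (Y.map (QuotientGroup.mk' M)) ∧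
    ∀ θ : IrrCharacter (Y.map (QuotientGroup.mk' M)),
      (∀ s ∈ S.map (QuotientGroup.mk' M), ∀ g g' : Y.map (QuotientGroup.mk' M),
        (g' : Γ ⧸ M) = s * g * s⁻¹ →
        (θ : Y.map (QuotientGroup.mk' M) → ℂ) g' = (θ : Y.map (QuotientGroup.mk' M) → ℂ) g) →
      ¬ q ∣ charDegree (θ : Y.map (QuotientGroup.mk' M) → ℂ) := by
  set f : Y →* Y.map (QuotientGroup.mk' M) := (QuotientGroup.mk' M).subgroupMap Y with hf
  have hfs : Function.Surjective f := MonoidHom.subgroupMap_surjective _ _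
  refine ⟨Cfsg.Agent.Lib.H26.isPSolvable_of_surjective f hfs hYq, ?_, ?_⟩
  · -- Sylow index
    intro hdvd
    apply hQsyl
    have h1 : (Q.map (QuotientGroup.mk' M)).relIndex (Y.map (QuotientGroup.mk' M))
        = (Q ⊔ M).relIndex Y := by
      rw [Subgroup.relIndex_map_map, QuotientGroup.ker_mk', sup_eq_left.2 hMY]
    have h2 := Subgroup.relIndex_mul_relIndex Q (Q ⊔ M) Y le_sup_left (sup_le hQY hMY)
    rw [← h2]
    exact Dvd.dvd.mul_left (h1 ▸ hdvd) _
  · -- characters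
    intro θ hθ
    have hirr : IsIrrCharacter Y ((θ : Y.map (QuotientGroup.mk' M) → ℂ) ∘ f) :=
      Cfsg.Agent.Lib.L0.isIrrCharacter_comp_of_surjective f hfs θ.2
    have hinv : ∀ s ∈ S, ∀ g g' : Y, (g' : Γ) = s * g * s⁻¹ →
        ((θ : Y.map (QuotientGroup.mk' M) → ℂ) ∘ f) g' =
          ((θ : Y.map (QuotientGroup.mk' M) → ℂ) ∘ f) g := by
      intro s hs g g' hgg'
      simp only [Function.comp_apply]
      apply hθ ((QuotientGroup.mk' M) s) (Subgroup.mem_map_of_mem _ hs) (f g) (f g')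
      simp only [hf, MonoidHom.subgroupMap, MonoidHom.coe_mk, OneHom.coe_mk]
      show (QuotientGroup.mk' M) (g' : Γ) = _
      rw [hgg', map_mul, map_mul, map_inv]
      rfl
    have := hdeg ⟨_, hirr⟩ hinv
    have hdegeq : charDegree ((θ : Y.map (QuotientGroup.mk' M) → ℂ) ∘ f)
        = charDegree (θ : Y.map (QuotientGroup.mk' M) → ℂ) := by
      unfold charDegree
      simp only [Function.comp_apply, map_one]
    rw [← hdegeq]
    exact this

end Cfsg.Agent.Lib.H20.PQ2
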