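import Mathlib
import Cfsg.Prelude.Def_Blocks
import Cfsg.Prelude.Def_Local
import Cfsg.Prelude.Def_Solvable
import Cfsg.Prelude.Def_Characters
import Cfsg.Agent.Lib.H10.PSolvable2
import Cfsg.Agent.Lib.H22.PPrimeCore
import Cfsg.Agent.Lib.H27.Basic
import Cfsg.Agent.Lib.H16.PQ2CHARN
import Cfsg.Agent.Lib.H26.PQ2SLGLAUB
import Cfsg.Agent.Lib.H20.PQ2SLQ
import Cfsg.Agent.Lib.H8.PQ2SLFIX

/-!
# S4886, piece SLN (architect helper22): the induction on `|Y|` assembling
CHARN + SLQ + SLFIX + SLGLAUB + SLEND.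
-/

set_option autoImplicit false

universe u

namespace Cfsg.Agent.Lib.H20.PQ2

open Cfsg












/-! ### auxiliary group theory -/

/-- order of the image of `Y` in `Γ ⧸ M` for `M ≤ Y`. -/
theorem sln_card_map {Γ : Type u} [Group Γ] (Y M : Subgroup Γ) [M.Normal] (hMY : M ≤ Y) :
    Nat.card (Y.map (QuotientGroup.mk' M)) * Nat.card M = Nat.card Y := by
  have h1 : Nat.card (Y.map (QuotientGroup.mk' M)) = M.relIndex Y := by
    have h := Subgroup.relIndex_map_map (QuotientGroup.mk' M) (⊥ : Subgroup Γ) Y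
    rw [Subgroup.map_bot, Subgroup.relIndex_bot_left, QuotientGroup.ker_mk', bot_sup_eq,
      sup_eq_left.2 hMY] at h
    exact h
  have h2 := Subgroup.relIndex_mul_relIndex ⊥ M Y bot_le hMY
  rw [Subgroup.relIndex_bot_left, Subgroup.relIndex_bot_left] at h2
  rw [h1, mul_comm]
  exact h2

/-- a normal `q`-subgroup of `Y` lies in every Sylow `q`-subgroup `Q` of `Y`
(given as a `q`-subgroup of `q'`-index). -/
theorem sln_normal_le_sylow {Γ : Type u} [Group Γ] [Finite Γ] (q : ℕ) [Fact q.Prime]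
    (Y Q M : Subgroup Γ) (hMY : M ≤ Y) (hQY : Q ≤ Y) (hQ : IsPGroup q Q) (hM : IsPGroup q M)
    (hMn : ∀ y ∈ Y, ∀ m ∈ M, y * m * y⁻¹ ∈ M)
    (hQsyl : ¬ q ∣ Q.relIndex Y) : M ≤ Q := by
  -- work inside `Y`
  have hQ' : IsPGroup q (Q.subgroupOf Y) := by
    exact hQ.comap_of_injective (Y.subtype) Subtype.coe_injective |>.to_le (le_of_eq rfl)
  obtain ⟨P, hP⟩ := hQ'.exists_le_sylow
  -- `Q.subgroupOf Y` is itself Sylow: index prime to q
  have hidx : ¬ q ∣ (Q.subgroupOf Y).index := by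
    rw [← Subgroup.relIndex]; exact hQsyl
  have hPQ : (P : Subgroup Y) = Q.subgroupOf Y := by
    symm
    apply Subgroup.eq_of_le_of_card_ge hP
    -- card P ∣ card (Q.subgroupOf Y) since P is a q-group and index of Q is q'
    have h1 : Nat.card (Q.subgroupOf Y) * (Q.subgroupOf Y).index = Nat.card Y :=
      Subgroup.card_mul_index _
    have h2 : Nat.card (P : Subgroup Y) ∣ Nat.card Y := Subgroup.card_subgroup_dvd_card _
    obtain ⟨k, hk⟩ := (IsPGroup.iff_card.1 P.isPGroup')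
    have h3 : Nat.card (P : Subgroup Y) ∣ Nat.card (Q.subgroupOf Y) := by
      rw [← h1] at h2
      rw [hk] at h2 ⊢
      exact (Nat.Coprime.pow_left k ((Nat.Prime.coprime_iff_not_dvd (Fact.out)).2 hidx)).dvd_of_dvd_mul_right h2
    exact Nat.le_of_dvd Nat.card_pos h3
  -- `M.subgroupOf Y` is a normal q-subgroup of `Y`, hence inside `P`
  have hMn' : (M.subgroupOf Y).Normal := by
    refine ⟨fun m hm y => ?_⟩
    rw [Subgroup.mem_subgroupOf] at hm ⊢
    simpa using hMn y y.2 m hm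
  have hM' : IsPGroup q (M.subgroupOf Y) :=
    hM.comap_of_injective (Y.subtype) Subtype.coe_injective
  have hle : M.subgroupOf Y ≤ P := hM'.le_sylow_of_normal P
  intro m hm
  have : (⟨m, hMY hm⟩ : Y) ∈ Q.subgroupOf Y := by
    rw [← hPQ]; exact hle (by rw [Subgroup.mem_subgroupOf]; exact hm)
  rw [Subgroup.mem_subgroupOf] at this
  exact this

/-- images: the conjugate `c x c⁻¹` lies in `Q ⊔ M` as soon as its image in `Γ ⧸ M` lies in
the image of `Q`. -/
theorem sln_mem_sup_of_map {Γ : Type u} [Group Γ] (Q M : Subgroup Γ) [M.Normal] (g : Γ)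
    (h : (QuotientGroup.mk' M) g ∈ Q.map (QuotientGroup.mk' M)) : g ∈ Q ⊔ M := by
  obtain ⟨x', hx', hxe⟩ := h
  have hm : x'⁻¹ * g ∈ M := by
    have := QuotientGroup.eq.1 (show ((x' : Γ) : Γ ⧸ M) = (g : Γ ⧸ M) from hxe)
    exact this
  have : g = x' * (x'⁻¹ * g) := by group
  rw [this]
  exact Subgroup.mul_mem _ (Subgroup.mem_sup_left hx') (Subgroup.mem_sup_right hm)

/-- SLN: (SL) for `Y ⊴ Γ`, by induction on `|Y|` over all `Γ` (same universe). -/
theorem sylow_normal_in_fixed_of_normal {Γ : Type u} [Group Γ] [Finite Γ] (p q : ℕ)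
    [Fact p.Prime] [Fact q.Prime] (hpq : p ≠ q) (Y S Q : Subgroup Γ) [Y.Normal]
    (hS : IsPGroup p S) (hYp : (Nat.card Y).Coprime p) (hYq : IsPSolvable q Y) (hQY : Q ≤ Y)
    (hQ : IsPGroup q Q) (hQsyl : ¬ q ∣ Q.relIndex Y) (hQS : ∀ x ∈ Q, ∀ s ∈ S, x * s = s * x)
    (hdeg : ∀ θ : IrrCharacter Y,
      (∀ s ∈ S, ∀ g g' : Y, (g' : Γ) = s * g * s⁻¹ → (θ : Y → ℂ) g' = (θ : Y → ℂ) g) →
      ¬ q ∣ charDegree (θ : Y → ℂ)) :
    ∀ c ∈ Y ⊓ Subgroup.centralizer (S : Set Γ), ∀ x ∈ Q, c * x * c⁻¹ ∈ Q := by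
  induction' hn : Nat.card Y using Nat.strong_induction_on with n ih generalizing Γ
  intro c hc x hx
  by_cases hYbot : Y = ⊥
  · have hc1 : c = 1 := by
      have := (Subgroup.mem_inf.1 hc).1
      rw [hYbot, Subgroup.mem_bot] at this
      exact this
    rw [hc1]; simpa using hx
  -- a nontrivial normal q- or q'-subgroup of `Y`
  haveI : Nontrivial Y := (Subgroup.nontrivial_iff_ne_bot Y).2 hYbot
  obtain ⟨M0, hM0n, hM0ne, hM0⟩ := Cfsg.Agent.Lib.H10.exists_normal_of_isPSolvable hYq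
  obtain ⟨hN1, hN2⟩ := Cfsg.Agent.Lib.H16.PQ2.cores_of_normal_normal q Y
  -- general quotient step
  have quot : ∀ M : Subgroup Γ, M.Normal → M ≤ Y → M ≠ ⊥ →
      ∀ c ∈ Y ⊓ Subgroup.centralizer (S : Set Γ), ∀ x ∈ Q, c * x * c⁻¹ ∈ Q ⊔ M := by
    intro M hMn hMY hMne c hc x hx
    haveI := hMn
    obtain ⟨hq1, hq2, hq3⟩ := hyps_quotient p q Y S Q M hMY hYq hQY hQsyl hdeg
    have hcard := sln_card_map Y M hMY
    have hMcard : 1 < Nat.card M := by
      have : Nontrivial M := (Subgroup.nontrivial_iff_ne_bot M).2 hMne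
      exact Finite.one_lt_card
    have hlt : Nat.card (Y.map (QuotientGroup.mk' M)) < n := by
      rw [← hn, ← hcard]
      have hpos : 0 < Nat.card (Y.map (QuotientGroup.mk' M)) := Nat.card_pos
      nlinarith
    haveI : (Y.map (QuotientGroup.mk' M)).Normal :=
      Subgroup.Normal.map inferInstance _ (QuotientGroup.mk'_surjective M)
    have hcop : (Nat.card (Y.map (QuotientGroup.mk' M))).Coprime p :=
      Nat.Coprime.coprime_dvd_left (Dvd.intro _ hcard) hYp
    have hcomm : ∀ x ∈ Q.map (QuotientGroup.mk' M), ∀ s ∈ S.map (QuotientGroup.mk' M),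
        x * s = s * x := by
      rintro _ ⟨x, hx, rfl⟩ _ ⟨s, hs, rfl⟩
      rw [← map_mul, ← map_mul, hQS x hx s hs]
    have key := ih _ hlt (Y.map (QuotientGroup.mk' M)) (S.map (QuotientGroup.mk' M))
      (Q.map (QuotientGroup.mk' M)) (hS.map _) hcop hq1 (Subgroup.map_mono hQY) (hQ.map _) hq2
      hcomm hq3 rfl ((QuotientGroup.mk' M) c) ?_ ((QuotientGroup.mk' M) x)
      (Subgroup.mem_map_of_mem _ hx)
    · apply sln_mem_sup_of_map
      simpa using key
    · refine Subgroup.mem_inf.2 ⟨Subgroup.mem_map_of_mem _ (Subgroup.mem_inf.1 hc).1, ?_⟩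
      rw [Subgroup.mem_centralizer_iff]
      rintro _ ⟨s, hs, rfl⟩
      have h := (Subgroup.mem_centralizer_iff.1 (Subgroup.mem_inf.1 hc).2) s hs
      rw [← map_mul, ← map_mul, h]
  rcases hM0 with hqgrp | hqcop
  · -- case (1): `O_q(Y) ≠ 1`
    set M : Subgroup Γ := (pCore q Y).map Y.subtype with hMdef
    have hMY : M ≤ Y := Subgroup.map_subtype_le _
    have hM0le : M0 ≤ pCore q Y := Cfsg.Agent.Lib.H27.le_pCore M0 hM0n hqgrp
    have hcore_ne : pCore q Y ≠ ⊥ := fun h => hM0ne (le_bot_iff.1 (h ▸ hM0le))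
    have hMne : M ≠ ⊥ := by
      intro h
      apply hcore_ne
      exact (Subgroup.map_eq_bot_iff_of_injective _ Subtype.coe_injective).1 h
    have hMq : IsPGroup q M := (Cfsg.Agent.Lib.H27.pCore_isPGroup).map _
    have hMQ : M ≤ Q := by
      apply sln_normal_le_sylow q Y Q M hMY hQY hQ hMq _ hQsyl
      intro y hy m hm
      exact hN1.conj_mem m hm y
    have := quot M hN1 hMY hMne c hc x hx
    rwa [sup_eq_left.2 hMQ] at this
  · -- case (2): `O_{q'}(Y) ≠ 1`
    set M : Subgroup Γ := (pPrimeCore q Y).map Y.subtype with hMdef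
    have hMY : M ≤ Y := Subgroup.map_subtype_le _
    have hM0le : M0 ≤ pPrimeCore q Y := Cfsg.Agent.Lib.H22.le_pPrimeCore q M0 hM0n hqcop
    have hcore_ne : pPrimeCore q Y ≠ ⊥ := fun h => hM0ne (le_bot_iff.1 (h ▸ hM0le))
    have hMne : M ≠ ⊥ := by
      intro h
      apply hcore_ne
      exact (Subgroup.map_eq_bot_iff_of_injective _ Subtype.coe_injective).1 h
    have hMcard : Nat.card M = Nat.card (pPrimeCore q Y) :=
      Nat.card_congr ((pPrimeCore q Y).equivMapOfInjective Y.subtype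
        Subtype.coe_injective).toEquiv.symm
    have hMq : (Nat.card M).Coprime q := by
      rw [hMcard]; exact Cfsg.Agent.Lib.H22.card_pPrimeCore_coprime q
    have hMp : (Nat.card M).Coprime p :=
      Nat.Coprime.coprime_dvd_left (Subgroup.card_dvd_of_le hMY) hYp
    haveI := hN2
    have hQM := quot M hN2 hMY hMne
    have hfix := Cfsg.Agent.Lib.H8.PQ2.fixes_invariant_of_normal p q hpq Y S Q M hMY hS hYp hQY hQ hQsyl hQS hdeg hQM
    have hcent := Cfsg.Agent.Lib.H26.PQ2.centralizes_fixed_of_fixes_invariant p q hpq M S Q (fun s _ g hg => hN2.conj_mem g hg s)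
      (fun x _ g hg => hN2.conj_mem g hg x) hS hQ hMp hMq hQS hfix
    exact Cfsg.Agent.Lib.H16.PQ2.conj_mem_of_mem_sup q S Q M hQ hMq hQS hcent c (Subgroup.mem_inf.1 hc).2 (hQM c hc) x hx

end Cfsg.Agent.Lib.H20.PQ2
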