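import Mathlib
import Cfsg.Prelude.Def_Blocks
import Cfsg.Prelude.Def_Local
import Cfsg.Prelude.Def_Solvable
import Cfsg.Prelude.Def_Characters
import Cfsg.Agent.Lib.H20.PQ2SLN

/-!
# S4886, piece SL (architect helper22): (SL) without `Y ⊴ Γ`; transport SLN to `N_Γ(Y)`.
-/

set_option autoImplicit false

universe u

namespace Cfsg.Agent.Lib.H20.PQ2

open Cfsg

/-- SL: the same as SLN without `Y ⊴ Γ` (only `S` normalizes `Y`). -/
theorem sylow_normal_in_fixed {Γ : Type u} [Group Γ] [Finite Γ] (p q : ℕ)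
    [Fact p.Prime] [Fact q.Prime] (hpq : p ≠ q) (Y S Q : Subgroup Γ)
    (hnorm : ∀ s ∈ S, ∀ y ∈ Y, s * y * s⁻¹ ∈ Y)
    (hS : IsPGroup p S) (hYp : (Nat.card Y).Coprime p) (hYq : IsPSolvable q Y) (hQY : Q ≤ Y)
    (hQ : IsPGroup q Q) (hQsyl : ¬ q ∣ Q.relIndex Y) (hQS : ∀ x ∈ Q, ∀ s ∈ S, x * s = s * x)
    (hdeg : ∀ θ : IrrCharacter Y,
      (∀ s ∈ S, ∀ g g' : Y, (g' : Γ) = s * g * s⁻¹ → (θ : Y → ℂ) g' = (θ : Y → ℂ) g) →
      ¬ q ∣ charDegree (θ : Y → ℂ)) :
    ∀ c ∈ Y ⊓ Subgroup.centralizer (S : Set Γ), ∀ x ∈ Q, c * x * c⁻¹ ∈ Q := by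
  classical
  set N : Subgroup Γ := Subgroup.normalizer (Y : Set Γ) with hN
  have hYN : Y ≤ N := Subgroup.le_normalizer
  have hSN : S ≤ N := by
    intro s hs
    rw [hN, Subgroup.mem_normalizer_iff]
    intro y
    constructor
    · intro hy; exact hnorm s hs y hy
    · intro hy
      have := hnorm s⁻¹ (S.inv_mem hs) _ hy
      simpa [mul_assoc] using this
  have hQN : Q ≤ N := hQY.trans hYN
  haveI : (Y.subgroupOf N).Normal := Subgroup.normal_in_normalizer
  let e : Y.subgroupOf N ≃* Y := Subgroup.subgroupOfEquivOfLe hYN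
  have hecoe : ∀ z : Y.subgroupOf N, ((e z : Y) : Γ) = ((z : N) : Γ) := fun z => rfl
  -- transported hypotheses
  have hS' : IsPGroup p (S.subgroupOf N) :=
    hS.comap_of_injective (N.subtype) Subtype.coe_injective
  have hQ' : IsPGroup q (Q.subgroupOf N) :=
    hQ.comap_of_injective (N.subtype) Subtype.coe_injective
  have hYp' : (Nat.card (Y.subgroupOf N)).Coprime p := by
    rw [Nat.card_congr e.toEquiv]; exact hYp
  have hYq' : IsPSolvable q (Y.subgroupOf N) :=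
    Cfsg.Agent.Lib.H26.isPSolvable_of_mulEquiv e.symm hYq
  have hQY' : Q.subgroupOf N ≤ Y.subgroupOf N := fun z hz => by
    rw [Subgroup.mem_subgroupOf] at hz ⊢; exact hQY hz
  have hQsyl' : ¬ q ∣ (Q.subgroupOf N).relIndex (Y.subgroupOf N) := by
    rw [Subgroup.relIndex_subgroupOf hYN]; exact hQsyl
  have hQS' : ∀ x ∈ Q.subgroupOf N, ∀ s ∈ S.subgroupOf N, x * s = s * x := by
    intro x hx s hs
    apply Subtype.ext
    exact hQS x hx s hs
  have hdeg' : ∀ θ : IrrCharacter (Y.subgroupOf N),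
      (∀ s ∈ S.subgroupOf N, ∀ g g' : Y.subgroupOf N, (g' : N) = s * g * s⁻¹ →
        (θ : Y.subgroupOf N → ℂ) g' = (θ : Y.subgroupOf N → ℂ) g) →
      ¬ q ∣ charDegree (θ : Y.subgroupOf N → ℂ) := by
    intro θ hθ
    have hirr : IsIrrCharacter Y ((θ : Y.subgroupOf N → ℂ) ∘ e.symm.toMonoidHom) :=
      Cfsg.Agent.Lib.L0.isIrrCharacter_comp_of_surjective e.symm.toMonoidHom e.symm.surjective θ.2
    have hinv : ∀ s ∈ S, ∀ g g' : Y, (g' : Γ) = s * g * s⁻¹ →
        ((θ : Y.subgroupOf N → ℂ) ∘ e.symm.toMonoidHom) g' =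
          ((θ : Y.subgroupOf N → ℂ) ∘ e.symm.toMonoidHom) g := by
      intro s hs g g' hgg'
      simp only [Function.comp_apply]
      apply hθ ⟨s, hSN hs⟩ (by rw [Subgroup.mem_subgroupOf]; exact hs)
      apply Subtype.ext
      have h1 : (((e.symm g' : Y.subgroupOf N) : N) : Γ) = (g' : Γ) := by
        have := hecoe (e.symm g'); rw [e.apply_symm_apply] at this; exact this.symm
      have h2 : (((e.symm g : Y.subgroupOf N) : N) : Γ) = (g : Γ) := by
        have := hecoe (e.symm g); rw [e.apply_symm_apply] at this; exact this.symm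
      simp only [MulEquiv.coe_toMonoidHom, Subgroup.coe_mul, Subgroup.coe_inv]
      rw [h1, h2, hgg']
    have := hdeg ⟨_, hirr⟩ hinv
    have hdegeq : charDegree ((θ : Y.subgroupOf N → ℂ) ∘ e.symm.toMonoidHom)
        = charDegree (θ : Y.subgroupOf N → ℂ) := by
      unfold charDegree
      simp only [Function.comp_apply, map_one]
    rw [← hdegeq]
    exact this
  have key := sylow_normal_in_fixed_of_normal p q hpq (Y.subgroupOf N) (S.subgroupOf N)
    (Q.subgroupOf N) hS' hYp' hYq' hQY' hQ' hQsyl' hQS' hdeg'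
  intro c hc x hx
  obtain ⟨hcY, hcS⟩ := Subgroup.mem_inf.1 hc
  have hc' : (⟨c, hYN hcY⟩ : N) ∈ Y.subgroupOf N ⊓ Subgroup.centralizer (S.subgroupOf N : Set N) := by
    refine Subgroup.mem_inf.2 ⟨by rw [Subgroup.mem_subgroupOf]; exact hcY, ?_⟩
    rw [Subgroup.mem_centralizer_iff]
    intro s hs
    apply Subtype.ext
    exact (Subgroup.mem_centralizer_iff.1 hcS) s hs
  have := key ⟨c, hYN hcY⟩ hc' ⟨x, hQN hx⟩ (by rw [Subgroup.mem_subgroupOf]; exact hx)
  rw [Subgroup.mem_subgroupOf] at this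
  simpa using this

end Cfsg.Agent.Lib.H20.PQ2
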