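import Mathlib
import Cfsg.Agent.Lib.H26.CycChain

/-!
# S5289 piece CHAIN (helper20)

A finite `p`-group `T` with multiplicative `p`-th power map, all `p`-th powers in a cyclic subgroup,
`|Ω₁(T)| < p³` and exponent `> p` has the characteristic chain `T ≥ Ω₁(T) ≥ Ω₁(T) ∩ T^p ≥ 1` with cyclic
factors.
-/

set_option autoImplicit false

namespace Cfsg.Agent.Lib.H20.RK2

open Cfsg.Agent.Lib.H26.CycChain

/-- the `p`-th power map as a homomorphism -/
def chainPowHom {T : Type*} [Group T] (p : ℕ) (hpow : ∀ g k : T, (g * k) ^ p = g ^ p * k ^ p) :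
    T →* T where
  toFun g := g ^ p
  map_one' := one_pow p
  map_mul' := hpow

/-- the chain -/
def chainFn {T : Type*} [Group T] (K I : Subgroup T) : ℕ → Subgroup T
  | 0 => ⊤
  | 1 => K
  | 2 => K ⊓ I
  | _ + 3 => ⊥

/-- quotient by a subgroup containing the kernel of a homomorphism to a cyclic group is cyclic -/
theorem chain_isCyclic_quot {H X : Type*} [Group H] [Group X] [IsCyclic X] (N : Subgroup H)
    [N.Normal] (f : H →* X) (hker : f.ker ≤ N) : IsCyclic (H ⧸ N) := by
  haveI : IsCyclic f.range := Subgroup.isCyclic _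
  obtain ⟨⟨g, ⟨h0, rfl⟩⟩, hg⟩ := IsCyclic.exists_generator (α := f.range)
  refine ⟨⟨(h0 : H ⧸ N), fun q => ?_⟩⟩
  induction q using QuotientGroup.induction_on with
  | H h =>
    have h1 := hg ⟨f h, ⟨h, rfl⟩⟩
    obtain ⟨k, hk⟩ := Subgroup.mem_zpowers_iff.mp h1
    have hk' : f h0 ^ k = f h := by
      have := congrArg Subtype.val hk
      simpa using this
    refine ⟨k, ?_⟩
    show ((h0 : H ⧸ N)) ^ k = (h : H ⧸ N)
    rw [← QuotientGroup.mk_zpow, QuotientGroup.eq]
    apply hker
    rw [MonoidHom.mem_ker, map_mul, map_inv, map_zpow, hk', inv_mul_cancel]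

theorem chain_cycData {T : Type*} [Group T] [Finite T] {p : ℕ} [Fact p.Prime] (hT : IsPGroup p T)
    (hpow : ∀ g k : T, (g * k) ^ p = g ^ p * k ^ p) (C : Subgroup T) (hCc : IsCyclic C)
    (hC : ∀ g : T, g ^ p ∈ C) (hker : Nat.card {g : T // g ^ p = 1} < p ^ 3)
    (hne : ∃ g : T, g ^ p ≠ 1) (𝒴 : Subgroup (MulAut T)) :
    ∃ cc : ℕ → Subgroup T, Cfsg.Agent.Lib.H26.CycChain.CycData 𝒴 cc ∧ cc 0 = ⊤ ∧ cc 3 = ⊥ := by
  have hpp : p.Prime := Fact.out
  set φ : T →* T := chainPowHom p hpow with hφ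
  have hφa : ∀ g : T, φ g = g ^ p := fun g => rfl
  set K : Subgroup T := φ.ker with hK
  set I : Subgroup T := φ.range with hI
  have hKmem : ∀ g : T, g ∈ K ↔ g ^ p = 1 := by
    intro g
    rw [hK, MonoidHom.mem_ker, hφa]
  have hImem : ∀ g : T, g ∈ I ↔ ∃ h : T, h ^ p = g := by
    intro g
    rw [hI, MonoidHom.mem_range]
    rfl
  have hIC : I ≤ C := by
    intro g hg
    obtain ⟨h, rfl⟩ := (hImem g).mp hg
    exact hC h
  haveI hIn : I.Normal := by
    refine ⟨fun g hg k => ?_⟩
    obtain ⟨h, rfl⟩ := (hImem g).mp hg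
    rw [hImem]
    refine ⟨k * h * k⁻¹, ?_⟩
    rw [conj_pow]
  haveI hKn : K.Normal := by rw [hK]; infer_instance
  haveI hKIn : (K ⊓ I).Normal := inferInstance
  -- card of K
  have hKcard : Nat.card K < p ^ 3 := by
    have e : Nat.card K = Nat.card {g : T // g ^ p = 1} := by
      apply Nat.card_congr
      exact Equiv.subtypeEquivRight hKmem
    rw [e]; exact hker
  -- K ⊓ I nontrivial
  have hKI : p ∣ Nat.card ↥(K ⊓ I) := by
    obtain ⟨g, hg⟩ := hne
    obtain ⟨k, hk⟩ := (IsPGroup.iff_orderOf.mp hT) (g ^ p)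
    have hk0 : k ≠ 0 := by
      rintro rfl
      rw [pow_zero, orderOf_eq_one_iff] at hk
      exact hg hk
    obtain ⟨j, rfl⟩ : ∃ j, k = j + 1 := ⟨k - 1, by omega⟩
    set u : T := (g ^ p) ^ p ^ j with hu
    have hu1 : u ≠ 1 := by
      intro h1
      have := orderOf_dvd_of_pow_eq_one h1
      rw [hk] at this
      have h2 := Nat.le_of_dvd (pow_pos hpp.pos _) this
      have h3 : p ^ j < p ^ (j + 1) := Nat.pow_lt_pow_right hpp.one_lt (Nat.lt_succ_self j)
      omega
    have hup : u ^ p = 1 := by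
      rw [hu, ← pow_mul, ← pow_succ, ← hk, pow_orderOf_eq_one]
    have huK : u ∈ K ⊓ I := by
      refine ⟨(hKmem u).mpr hup, ?_⟩
      exact I.pow_mem ((hImem _).mpr ⟨g, rfl⟩) _
    have hnt : Nat.card ↥(K ⊓ I) ≠ 1 := by
      intro h1
      have hb : K ⊓ I = ⊥ := Subgroup.card_eq_one.mp h1
      rw [hb, Subgroup.mem_bot] at huK
      exact hu1 huK
    have hP : IsPGroup p ↥(K ⊓ I) := hT.to_subgroup _
    rcases hP.card_eq_or_dvd with h | h
    · exact absurd h hnt
    · exact h
  refine ⟨chainFn K I, ?_, rfl, rfl⟩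
  have hinvK : InvUnder 𝒴 K := by
    intro a _ g hg
    rw [hKmem] at hg ⊢
    rw [← map_pow, hg, map_one]
  have hinvI : InvUnder 𝒴 I := by
    intro a _ g hg
    obtain ⟨h, rfl⟩ := (hImem g).mp hg
    rw [hImem]
    exact ⟨a h, by rw [← map_pow]⟩
  have hinvKI : InvUnder 𝒴 (K ⊓ I) := fun a ha g hg =>
    ⟨hinvK a ha g hg.1, hinvI a ha g hg.2⟩
  have hinvtop : InvUnder 𝒴 (⊤ : Subgroup T) := fun a _ g _ => Subgroup.mem_top _
  have hinvbot : InvUnder 𝒴 (⊥ : Subgroup T) := by
    intro a _ g hg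
    rw [Subgroup.mem_bot] at hg ⊢
    rw [hg, map_one]
  haveI : IsCyclic ↥C := hCc
  refine ⟨?_, ?_, ?_, ?_⟩
  · intro i
    rcases i with _ | _ | _ | i
    · exact le_top
    · exact inf_le_left
    · exact bot_le
    · exact le_refl _
  · intro i
    rcases i with _ | _ | _ | i
    · exact hinvtop
    · exact hinvK
    · exact hinvKI
    · exact hinvbot
  · intro i
    rcases i with _ | _ | _ | i
    · show (K.subgroupOf ⊤).Normal
      infer_instance
    · show ((K ⊓ I).subgroupOf K).Normal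
      infer_instance
    · show ((⊥ : Subgroup T).subgroupOf (K ⊓ I)).Normal
      infer_instance
    · show ((⊥ : Subgroup T).subgroupOf ⊥).Normal
      infer_instance
  · intro i
    rcases i with _ | _ | _ | i
    · intro inst
      show IsCyclic (↥(⊤ : Subgroup T) ⧸ K.subgroupOf ⊤)
      let f : ↥(⊤ : Subgroup T) →* ↥C :=
        { toFun := fun g => ⟨(g : T) ^ p, hC g⟩
          map_one' := by
            apply Subtype.ext
            show ((1 : ↥(⊤ : Subgroup T)) : T) ^ p = 1
            rw [Subgroup.coe_one, one_pow]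
          map_mul' := by
            intro a b
            apply Subtype.ext
            show (((a * b : ↥(⊤ : Subgroup T)) : T)) ^ p = (a : T) ^ p * (b : T) ^ p
            rw [Subgroup.coe_mul, hpow] }
      apply chain_isCyclic_quot (K.subgroupOf ⊤) f
      intro g hg
      rw [MonoidHom.mem_ker] at hg
      rw [Subgroup.mem_subgroupOf, hKmem]
      exact congrArg Subtype.val hg
    · intro inst
      show IsCyclic (↥K ⧸ (K ⊓ I).subgroupOf K)
      apply isCyclic_of_card_dvd_prime (p := p)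
      have hPq : IsPGroup p (↥K ⧸ (K ⊓ I).subgroupOf K) := (hT.to_subgroup K).to_quotient _
      obtain ⟨c, hc⟩ := IsPGroup.iff_card.mp hPq
      have hmul := Subgroup.card_eq_card_quotient_mul_card_subgroup ((K ⊓ I).subgroupOf K)
      have hN : Nat.card ↥((K ⊓ I).subgroupOf K) = Nat.card ↥(K ⊓ I) :=
        Nat.card_congr (Subgroup.subgroupOfEquivOfLe inf_le_left).toEquiv
      rw [hc]
      rcases c with _ | _ | c
      · simp
      · simp
      · exfalso
        obtain ⟨m, hm⟩ := hKI
        have hm0 : m ≠ 0 := by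
          rintro rfl
          rw [mul_zero] at hm
          exact Nat.card_pos.ne' hm
        rw [hc, hN, hm] at hmul
        have h1 : p ^ 3 ≤ Nat.card ↥K := by
          rw [hmul]
          calc p ^ 3 = p ^ 2 * p := by ring
            _ ≤ p ^ (c + 1 + 1) * (p * m) := by
              apply Nat.mul_le_mul
              · exact Nat.pow_le_pow_right hpp.pos (by omega)
              · exact Nat.le_mul_of_pos_right _ (Nat.pos_of_ne_zero hm0)
        omega
    · intro inst
      show IsCyclic (↥(K ⊓ I) ⧸ (⊥ : Subgroup T).subgroupOf (K ⊓ I))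
      apply chain_isCyclic_quot _ (Subgroup.inclusion (le_trans inf_le_right hIC))
      intro g hg
      rw [MonoidHom.mem_ker] at hg
      have h1 : (g : T) = 1 := by
        have := congrArg Subtype.val hg
        simpa using this
      rw [Subgroup.mem_subgroupOf, Subgroup.mem_bot]
      exact h1
    · intro inst
      show IsCyclic (↥(⊥ : Subgroup T) ⧸ (⊥ : Subgroup T).subgroupOf ⊥)
      apply chain_isCyclic_quot _ (Subgroup.inclusion (bot_le : (⊥ : Subgroup T) ≤ C))
      intro g hg
      rw [MonoidHom.mem_ker] at hg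
      have h1 : (g : T) = 1 := by
        have := congrArg Subtype.val hg
        simpa using this
      rw [Subgroup.mem_subgroupOf, Subgroup.mem_bot]
      exact h1

end Cfsg.Agent.Lib.H20.RK2
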