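import Mathlib

/-!
# S3626, piece COMB (`range_orderOf_eq`) — helper20

Exact signature of `tools/blueprints/S3626_sigs.lean` (architect: helper4).
-/

set_option autoImplicit false

namespace Cfsg.Agent.Lib.H20.RS

theorem comb_exists_of_dvd {Y : Type*} [Group Y] {N n : ℕ} (hN : N ≠ 0)
    (h : ∃ y : Y, orderOf y = N) (hn : n ∣ N) : ∃ y : Y, orderOf y = n := by
  obtain ⟨y, hy⟩ := h
  exact ⟨y ^ (orderOf y / n), orderOf_pow_orderOf_div (by rw [hy]; exact hN) (by rw [hy]; exact hn)⟩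

theorem comb_orderOf3 {A B C : Type*} [Group A] [Group B] [Group C] (x : A) (y : B) (z : C) :
    orderOf ((x, y, z) : A × B × C) = Nat.lcm (orderOf x) (Nat.lcm (orderOf y) (orderOf z)) := by
  rw [Prod.orderOf, Prod.orderOf]

/-- COMB: if `ω(R)` is the set of divisors of `6, 9, a, b, c, d`, and `ω(Y)` consists of divisors of
`6, 9, a, b` and contains `6, 9, a, b`, then `R × R × Y` and `R × R × R` have the same spectrum. -/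
theorem range_orderOf_eq {R : Type*} [Group R] {Y : Type*} [Group Y] (a b c d : ℕ)
    (hR : ∀ n : ℕ, (∃ g : R, orderOf g = n) ↔ (n ∣ 6 ∨ n ∣ 9 ∨ n ∣ a ∨ n ∣ b ∨ n ∣ c ∨ n ∣ d))
    (hY1 : ∀ y : Y, orderOf y ∣ 6 ∨ orderOf y ∣ 9 ∨ orderOf y ∣ a ∨ orderOf y ∣ b)
    (h6 : ∃ y : Y, orderOf y = 6) (h9 : ∃ y : Y, orderOf y = 9)
    (ha : ∃ y : Y, orderOf y = a) (hb : ∃ y : Y, orderOf y = b) (ha0 : a ≠ 0) (hb0 : b ≠ 0) :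
    Set.range (orderOf : R × R × Y → ℕ) = Set.range (orderOf : R × R × R → ℕ) := by
  -- realizability in `Y`
  have hYreal : ∀ n : ℕ, (n ∣ 6 ∨ n ∣ 9 ∨ n ∣ a ∨ n ∣ b) → ∃ y : Y, orderOf y = n := by
    rintro n (h | h | h | h)
    · exact comb_exists_of_dvd (by norm_num) h6 h
    · exact comb_exists_of_dvd (by norm_num) h9 h
    · exact comb_exists_of_dvd ha0 ha h
    · exact comb_exists_of_dvd hb0 hb h
  -- merging two orders dividing the same number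
  have hmerge : ∀ (e : ℕ), (∀ t : ℕ, t ∣ e → ∃ r : R, orderOf r = t) →
      ∀ n m k : ℕ, n ∣ e → m ∣ e → (∃ r : R, orderOf r = k) →
      ∃ x : R × R × Y, orderOf x = Nat.lcm (Nat.lcm n m) k := by
    intro e he n m k hn hm hk
    obtain ⟨r, hr⟩ := he (Nat.lcm n m) (Nat.lcm_dvd hn hm)
    obtain ⟨r', hr'⟩ := hk
    refine ⟨(r, r', 1), ?_⟩
    rw [comb_orderOf3, hr, hr', orderOf_one, Nat.lcm_one_right]
  have hc : ∀ t : ℕ, t ∣ c → ∃ r : R, orderOf r = t :=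
    fun t ht => (hR t).2 (Or.inr (Or.inr (Or.inr (Or.inr (Or.inl ht)))))
  have hd : ∀ t : ℕ, t ∣ d → ∃ r : R, orderOf r = t :=
    fun t ht => (hR t).2 (Or.inr (Or.inr (Or.inr (Or.inr (Or.inr ht)))))
  ext N
  simp only [Set.mem_range]
  constructor
  · rintro ⟨⟨r₁, r₂, y⟩, rfl⟩
    have hy : ∃ r : R, orderOf r = orderOf y := by
      rw [hR]
      rcases hY1 y with h | h | h | h
      · exact Or.inl h
      · exact Or.inr (Or.inl h)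
      · exact Or.inr (Or.inr (Or.inl h))
      · exact Or.inr (Or.inr (Or.inr (Or.inl h)))
    obtain ⟨r₃, hr₃⟩ := hy
    refine ⟨(r₁, r₂, r₃), ?_⟩
    rw [comb_orderOf3, comb_orderOf3, hr₃]
  · rintro ⟨⟨r₁, r₂, r₃⟩, rfl⟩
    rw [comb_orderOf3]
    obtain ⟨n₁, hn₁⟩ : ∃ n, orderOf r₁ = n := ⟨_, rfl⟩
    obtain ⟨n₂, hn₂⟩ : ∃ n, orderOf r₂ = n := ⟨_, rfl⟩
    obtain ⟨n₃, hn₃⟩ : ∃ n, orderOf r₃ = n := ⟨_, rfl⟩
    rw [hn₁, hn₂, hn₃]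
    have e₁ : ∃ r : R, orderOf r = n₁ := ⟨r₁, hn₁⟩
    have e₂ : ∃ r : R, orderOf r = n₂ := ⟨r₂, hn₂⟩
    have e₃ : ∃ r : R, orderOf r = n₃ := ⟨r₃, hn₃⟩
    have d₁ := (hR n₁).1 e₁
    have d₂ := (hR n₂).1 e₂
    have d₃ := (hR n₃).1 e₃
    -- split each into `Y`-realizable or dividing `c` or `d`
    have split : ∀ n : ℕ, (n ∣ 6 ∨ n ∣ 9 ∨ n ∣ a ∨ n ∣ b ∨ n ∣ c ∨ n ∣ d) →
        (n ∣ 6 ∨ n ∣ 9 ∨ n ∣ a ∨ n ∣ b) ∨ n ∣ c ∨ n ∣ d := by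
      rintro n (h | h | h | h | h | h)
      · exact Or.inl (Or.inl h)
      · exact Or.inl (Or.inr (Or.inl h))
      · exact Or.inl (Or.inr (Or.inr (Or.inl h)))
      · exact Or.inl (Or.inr (Or.inr (Or.inr h)))
      · exact Or.inr (Or.inl h)
      · exact Or.inr (Or.inr h)
    have s₁ := split n₁ d₁
    have s₂ := split n₂ d₂
    have s₃ := split n₃ d₃
    have l1 : Nat.lcm n₂ (Nat.lcm n₃ n₁) = Nat.lcm n₁ (Nat.lcm n₂ n₃) := by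
      rw [← Nat.lcm_assoc n₂ n₃ n₁, Nat.lcm_comm (Nat.lcm n₂ n₃) n₁]
    have l2 : Nat.lcm n₁ (Nat.lcm n₃ n₂) = Nat.lcm n₁ (Nat.lcm n₂ n₃) := by
      rw [Nat.lcm_comm n₃ n₂]
    have l3 : Nat.lcm (Nat.lcm n₁ n₂) n₃ = Nat.lcm n₁ (Nat.lcm n₂ n₃) := Nat.lcm_assoc n₁ n₂ n₃
    have l4 : Nat.lcm (Nat.lcm n₁ n₃) n₂ = Nat.lcm n₁ (Nat.lcm n₂ n₃) := by
      rw [Nat.lcm_assoc n₁ n₃ n₂, Nat.lcm_comm n₃ n₂]
    have l5 : Nat.lcm (Nat.lcm n₂ n₃) n₁ = Nat.lcm n₁ (Nat.lcm n₂ n₃) := Nat.lcm_comm _ _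
    -- a `Y`-realizable coordinate
    have useY : ∀ n m k : ℕ, (∃ r : R, orderOf r = n) → (∃ r : R, orderOf r = m) →
        (k ∣ 6 ∨ k ∣ 9 ∨ k ∣ a ∨ k ∣ b) →
        ∃ x : R × R × Y, orderOf x = Nat.lcm n (Nat.lcm m k) := by
      rintro n m k ⟨r, hr⟩ ⟨r', hr'⟩ hk
      obtain ⟨y, hy⟩ := hYreal k hk
      exact ⟨(r, r', y), by rw [comb_orderOf3, hr, hr', hy]⟩
    rcases s₁ with p₁ | q₁
    · obtain ⟨x, hx⟩ := useY n₂ n₃ n₁ e₂ e₃ p₁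
      exact ⟨x, by rw [hx, l1]⟩
    rcases s₂ with p₂ | q₂
    · obtain ⟨x, hx⟩ := useY n₁ n₃ n₂ e₁ e₃ p₂
      exact ⟨x, by rw [hx, l2]⟩
    rcases s₃ with p₃ | q₃
    · exact useY n₁ n₂ n₃ e₁ e₂ p₃
    -- all three divide `c` or `d`
    rcases q₁ with q₁ | q₁ <;> rcases q₂ with q₂ | q₂ <;> rcases q₃ with q₃ | q₃
    · obtain ⟨x, hx⟩ := hmerge c hc n₁ n₂ n₃ q₁ q₂ e₃
      exact ⟨x, by rw [hx, l3]⟩
    · obtain ⟨x, hx⟩ := hmerge c hc n₁ n₂ n₃ q₁ q₂ e₃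
      exact ⟨x, by rw [hx, l3]⟩
    · obtain ⟨x, hx⟩ := hmerge c hc n₁ n₃ n₂ q₁ q₃ e₂
      exact ⟨x, by rw [hx, l4]⟩
    · obtain ⟨x, hx⟩ := hmerge d hd n₂ n₃ n₁ q₂ q₃ e₁
      exact ⟨x, by rw [hx, l5]⟩
    · obtain ⟨x, hx⟩ := hmerge c hc n₂ n₃ n₁ q₂ q₃ e₁
      exact ⟨x, by rw [hx, l5]⟩
    · obtain ⟨x, hx⟩ := hmerge d hd n₁ n₃ n₂ q₁ q₃ e₂
      exact ⟨x, by rw [hx, l4]⟩
    · obtain ⟨x, hx⟩ := hmerge d hd n₁ n₂ n₃ q₁ q₂ e₃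
      exact ⟨x, by rw [hx, l3]⟩
    · obtain ⟨x, hx⟩ := hmerge d hd n₁ n₂ n₃ q₁ q₂ e₃
      exact ⟨x, by rw [hx, l3]⟩

end Cfsg.Agent.Lib.H20.RS
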