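import Mathlib

/-!
# S3626, piece SDP (semidirect product generalities) — helper20

Exact signatures of `tools/blueprints/S3626_sigs.lean` (architect: helper4).
-/

set_option autoImplicit false

namespace Cfsg.Agent.Lib.H20.RS

theorem sdp_pow_right {N G : Type*} [Group N] [Group G] (φ : G →* MulAut N)
    (x : N ⋊[φ] G) (k : ℕ) : (x ^ k).right = x.right ^ k := by
  exact map_pow (SemidirectProduct.rightHom : N ⋊[φ] G →* G) x k

/-- SDP-a: if `N` is commutative and `φ g` fixes only `1`, then `⟨n, g⟩` has the order of `g`. -/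
theorem sdp_orderOf_of_fixedfree {N G : Type*} [Group N] [Group G] (φ : G →* MulAut N)
    (hN : ∀ a b : N, a * b = b * a) (g : G) (hg : ∀ n : N, φ g n = n → n = 1) (n : N) :
    orderOf (⟨n, g⟩ : N ⋊[φ] G) = orderOf g := by
  obtain ⟨x, hx⟩ : ∃ x : N ⋊[φ] G, x = ⟨n, g⟩ := ⟨_, rfl⟩
  rw [← hx]
  have hxl : x.left = n := by rw [hx]
  have hxr : x.right = g := by rw [hx]
  have hr : ∀ k : ℕ, (x ^ k).right = g ^ k := fun k => by rw [sdp_pow_right, hxr]
  apply Nat.dvd_antisymm
  · apply orderOf_dvd_of_pow_eq_one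
    obtain ⟨k, hk⟩ : ∃ k, k = orderOf g := ⟨_, rfl⟩
    rw [← hk]
    have hgk : g ^ k = 1 := by rw [hk]; exact pow_orderOf_eq_one g
    have h1 : (x ^ (k + 1)).left = n * φ g (x ^ k).left := by
      rw [pow_succ', SemidirectProduct.mul_left, hxl, hxr]
    have h2 : (x ^ (k + 1)).left = (x ^ k).left * n := by
      rw [pow_succ, SemidirectProduct.mul_left, hr, hgk, map_one, hxl]
      rfl
    have h3 : φ g (x ^ k).left = (x ^ k).left := by
      have : n * φ g (x ^ k).left = n * (x ^ k).left := by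
        rw [← h1, h2]; exact hN _ _
      exact mul_left_cancel this
    have h4 := hg _ h3
    apply SemidirectProduct.ext
    · rw [h4]; rfl
    · rw [hr, hgk]; rfl
  · have h := orderOf_map_dvd (SemidirectProduct.rightHom : N ⋊[φ] G →* G) x
    rw [SemidirectProduct.rightHom_eq_right, hxr] at h
    exact h

/-- SDP-b: if `N` has exponent dividing `p` and `g ^ k = 1`, then `⟨n, g⟩ ^ (k * p) = 1`. -/
theorem sdp_pow_eq_one {N G : Type*} [Group N] [Group G] (φ : G →* MulAut N) (p k : ℕ)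
    (hp : ∀ n : N, n ^ p = 1) (n : N) (g : G) (hg : g ^ k = 1) :
    (⟨n, g⟩ : N ⋊[φ] G) ^ (k * p) = 1 := by
  obtain ⟨x, hx⟩ : ∃ x : N ⋊[φ] G, x = ⟨n, g⟩ := ⟨_, rfl⟩
  rw [← hx]
  have hxr : x.right = g := by rw [hx]
  have h1 : x ^ k = SemidirectProduct.inl (x ^ k).left := by
    apply SemidirectProduct.ext
    · rfl
    · rw [sdp_pow_right, hxr, hg]; rfl
  rw [pow_mul, h1, ← map_pow, hp, map_one]

end Cfsg.Agent.Lib.H20.RS
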