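import Mathlib
import Cfsg.Agent.Lib.H18.Derangements
import Cfsg.Agent.Lib.H20.PowDecomp

set_option autoImplicit false

/-!
# Tools for groups in which every element is real and all involutions are conjugate
-/

namespace Cfsg.Agent.Lib.H20.ROC

open MulAction

/-- **Jordan.** A finite group acting transitively on a set with at least two points contains a
derangement. -/
theorem exists_derangement {G Ω : Type*} [Group G] [Finite G] [MulAction G Ω] [Finite Ω]
    (htrans : IsPretransitive G Ω) (h2 : 2 ≤ Nat.card Ω) : ∃ g : G, ∀ ω : Ω, g • ω ≠ ω := by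
  classical
  by_contra hcon
  push_neg at hcon
  haveI := Fintype.ofFinite G
  haveI : Nonempty Ω := by
    rw [← Finite.card_pos_iff]; omega
  have h := Cfsg.Agent.Lib.H18.burnside_natcard G Ω
  have h1 : Nat.card (orbitRel.Quotient G Ω) = 1 := by
    have : Subsingleton (orbitRel.Quotient G Ω) :=
      (MulAction.pretransitive_iff_subsingleton_quotient G Ω).mp htrans
    have : Nonempty (orbitRel.Quotient G Ω) := ⟨Quotient.mk'' (Classical.arbitrary Ω)⟩
    exact Nat.card_eq_one_iff_unique.mpr ⟨inferInstance, inferInstance⟩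
  rw [h1, one_mul] at h
  have hge : ∀ g : G, 1 ≤ Nat.card (fixedBy Ω g) := by
    intro g
    obtain ⟨ω, hω⟩ := hcon g
    have : Nonempty (fixedBy Ω g) := ⟨⟨ω, hω⟩⟩
    exact Nat.one_le_iff_ne_zero.mpr (Nat.card_ne_zero.mpr ⟨this, inferInstance⟩)
  have hone : Nat.card (fixedBy Ω (1 : G)) = Nat.card Ω := by
    have : fixedBy Ω (1 : G) = Set.univ := by
      ext ω; simp
    rw [this, Nat.card_coe_set_eq, Set.ncard_univ]
  have hsum : ∑ g : G, Nat.card (fixedBy Ω g) =
      Nat.card (fixedBy Ω (1 : G)) + ∑ g ∈ Finset.univ.erase (1 : G), Nat.card (fixedBy Ω g) :=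
    (Finset.add_sum_erase Finset.univ (fun g : G => Nat.card (fixedBy Ω g))
      (Finset.mem_univ (1 : G))).symm
  have hrest : (Finset.univ.erase (1 : G)).card ≤
      ∑ g ∈ Finset.univ.erase (1 : G), Nat.card (fixedBy Ω g) := by
    calc (Finset.univ.erase (1 : G)).card = ∑ g ∈ Finset.univ.erase (1 : G), 1 := by simp
      _ ≤ _ := Finset.sum_le_sum (fun g _ => hge g)
  have hcard : (Finset.univ.erase (1 : G)).card = Nat.card G - 1 := by
    rw [Finset.card_erase_of_mem (Finset.mem_univ _), Finset.card_univ, Nat.card_eq_fintype_card]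
  have hG : 1 ≤ Nat.card G := Nat.card_pos
  rw [hsum, hone] at h
  omega

/-- A `2`-element normalizing a nontrivial finite `2`-subgroup centralizes a nonidentity element
of it. -/
theorem exists_fixed_of_two_pow {Q : Type*} [Group Q] (F : Subgroup Q) [Finite F]
    (hF : IsPGroup 2 F) (hF1 : F ≠ ⊥) (u : Q) (e : ℕ) (hu : u ^ 2 ^ e = 1)
    (hn : ∀ y ∈ F, u * y * u⁻¹ ∈ F) : ∃ y ∈ F, y ≠ 1 ∧ u * y = y * u := by
  classical
  haveI : Fact (Nat.Prime 2) := ⟨Nat.prime_two⟩
  haveI := Fintype.ofFinite F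
  let f : Function.End F := fun y => ⟨u * y.1 * u⁻¹, hn y.1 y.2⟩
  have hiter : ∀ n : ℕ, ∀ y : F, ((f ^ n) y).1 = u ^ n * y.1 * (u ^ n)⁻¹ := by
    intro n
    induction n with
    | zero =>
      intro y
      rw [pow_zero, pow_zero]
      change y.1 = 1 * y.1 * 1⁻¹
      group
    | succ n ih =>
      intro y
      rw [pow_succ']
      change u * ((f ^ n) y).1 * u⁻¹ = _
      rw [ih y, pow_succ']
      group
  have hf : f ^ 2 ^ e = 1 := by
    funext y
    apply Subtype.ext
    rw [hiter, hu]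
    change 1 * y.1 * 1⁻¹ = y.1
    group
  have hmod := Equiv.Perm.card_fixedPoints_modEq (f := f) (p := 2) (n := e) hf
  -- |F| is even
  obtain ⟨k, hk⟩ := hF.exists_card_eq
  have hk0 : k ≠ 0 := by
    intro h0
    rw [h0, pow_zero] at hk
    exact hF1 (Subgroup.card_eq_one.mp hk)
  have heven : Fintype.card F % 2 = 0 := by
    rw [← Nat.card_eq_fintype_card, hk]
    obtain ⟨j, rfl⟩ := Nat.exists_eq_succ_of_ne_zero hk0
    rw [pow_succ]; omega
  have hfix : Fintype.card (Function.fixedPoints f) % 2 = 0 := by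
    have := hmod
    unfold Nat.ModEq at this
    omega
  have h1mem : (1 : F) ∈ Function.fixedPoints f := by
    change f 1 = 1
    apply Subtype.ext
    change u * 1 * u⁻¹ = 1
    group
  have hcard2 : 1 < Fintype.card (Function.fixedPoints f) := by
    have hpos : 0 < Fintype.card (Function.fixedPoints f) :=
      Fintype.card_pos_iff.mpr ⟨⟨1, h1mem⟩⟩
    omega
  obtain ⟨⟨y, hy⟩, hne⟩ := Fintype.exists_ne_of_one_lt_card hcard2 ⟨1, h1mem⟩
  refine ⟨y.1, y.2, ?_, ?_⟩
  · intro h
    apply hne
    apply Subtype.ext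
    apply Subtype.ext
    exact h
  · have h3 : f y = y := hy
    have h4 : u * y.1 * u⁻¹ = y.1 := congrArg Subtype.val h3
    calc u * y.1 = (u * y.1 * u⁻¹) * u := by group
      _ = y.1 * u := by rw [h4]

end Cfsg.Agent.Lib.H20.ROC
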