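import Mathlib
import Cfsg.Agent.Lib.H20.RealOneClass1
import Cfsg.Agent.Lib.H20.Solvable
import Cfsg.Agent.Lib.H22.PPrimeCore

set_option autoImplicit false

/-!
# Real elements of odd order, lifting involutions, normal subgroups of exponent two
-/

namespace Cfsg.Agent.Lib.H20.ROC

/-- If `c` inverts `x` then `c * c` commutes with `x`. -/
theorem commute_sq_of_inverts {G : Type*} [Group G] {c x : G} (h : c * x * c⁻¹ = x⁻¹) :
    Commute (c * c) x := by
  have h1 : c * x⁻¹ * c⁻¹ = x := by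
    have : (c * x * c⁻¹)⁻¹ = (x⁻¹)⁻¹ := by rw [h]
    rw [inv_inv] at this
    calc c * x⁻¹ * c⁻¹ = (c * x * c⁻¹)⁻¹ := by group
      _ = x := this
  change c * c * x = x * (c * c)
  calc c * c * x = c * (c * x * c⁻¹) * c := by group
    _ = c * x⁻¹ * c := by rw [h]
    _ = (c * x⁻¹ * c⁻¹) * (c * c) := by group
    _ = x * (c * c) := by rw [h1]

/-- If `c` inverts `x` then every odd power of `c` inverts `x`. -/
theorem pow_odd_inverts {G : Type*} [Group G] {c x : G} (h : c * x * c⁻¹ = x⁻¹) (j : ℕ) :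
    c ^ (2 * j + 1) * x * (c ^ (2 * j + 1))⁻¹ = x⁻¹ := by
  have hc : Commute ((c * c) ^ j) x := (commute_sq_of_inverts h).pow_left j
  have h1 : c ^ (2 * j + 1) = (c * c) ^ j * c := by
    rw [pow_succ, pow_mul, pow_two]
  rw [h1]
  calc (c * c) ^ j * c * x * ((c * c) ^ j * c)⁻¹
      = (c * c) ^ j * (c * x * c⁻¹) * ((c * c) ^ j)⁻¹ := by group
    _ = (c * c) ^ j * x⁻¹ * ((c * c) ^ j)⁻¹ := by rw [h]
    _ = x⁻¹ := by
        have := hc.inv_right
        rw [this.eq]; group

/-- If `c` inverts `x` then every even power of `c` commutes with `x`. -/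
theorem pow_even_commute {G : Type*} [Group G] {c x : G} (h : c * x * c⁻¹ = x⁻¹) (j : ℕ) :
    Commute (c ^ (2 * j)) x := by
  rw [pow_mul, pow_two]
  exact (commute_sq_of_inverts h).pow_left j

/-- A nonidentity real element of odd order is inverted by a nontrivial `2`-element. -/
theorem exists_two_elt_inverting {G : Type*} [Group G] [Finite G] {x : G} (hx : IsConj x x⁻¹)
    (hodd : Odd (orderOf x)) (hx1 : x ≠ 1) :
    ∃ d : G, d * x * d⁻¹ = x⁻¹ ∧ ∃ e : ℕ, 1 ≤ e ∧ orderOf d = 2 ^ e := by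
  obtain ⟨c, hc⟩ := isConj_iff.mp hx
  have hn0 : orderOf c ≠ 0 := (orderOf_pos c).ne'
  obtain ⟨e, m, hm, hn⟩ := Nat.exists_eq_two_pow_mul_odd hn0
  obtain ⟨j, hj⟩ := hm
  have hd : c ^ m * x * (c ^ m)⁻¹ = x⁻¹ := by
    rw [hj]; exact pow_odd_inverts hc j
  have hmpos : 0 < m := by omega
  have hord : orderOf (c ^ m) = 2 ^ e := by
    rw [orderOf_pow_of_dvd hmpos.ne' ⟨2 ^ e, by rw [hn, mul_comm]⟩, hn]
    exact Nat.mul_div_cancel _ hmpos
  refine ⟨c ^ m, hd, e, ?_, hord⟩
  by_contra he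
  have he0 : e = 0 := by omega
  rw [he0, pow_zero, orderOf_eq_one_iff] at hord
  rw [hord, one_mul, inv_one, mul_one] at hd
  -- `x = x⁻¹`
  have h2 : x ^ 2 = 1 := by
    rw [pow_two]
    calc x * x = x * x⁻¹ := by rw [← hd]
      _ = 1 := mul_inv_cancel x
  have h3 : orderOf x ∣ 2 := orderOf_dvd_of_pow_eq_one h2
  have h4 : orderOf x = 1 := by
    rcases (Nat.dvd_prime Nat.prime_two).mp h3 with h | h
    · exact h
    · rw [h] at hodd; exact absurd hodd (by decide)
  exact hx1 (orderOf_eq_one_iff.mp h4)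

/-- Elements of order two do not lie in a subgroup of odd order. -/
theorem not_mem_of_orderOf_two {G : Type*} [Group G] [Finite G] (N : Subgroup G)
    (hN : Odd (Nat.card N)) {t : G} (ht : orderOf t = 2) : t ∉ N := by
  intro h
  have h1 : orderOf (⟨t, h⟩ : N) = orderOf t := Subgroup.orderOf_mk t h
  have h2 : orderOf (⟨t, h⟩ : N) ∣ Nat.card N := orderOf_dvd_natCard _
  rw [h1, ht] at h2
  exact (Nat.not_even_iff_odd.mpr hN) (even_iff_two_dvd.mpr h2)

/-- An element of a quotient by a normal subgroup of odd order which squares to one lifts to an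
involution. -/
theorem exists_involution_lift {G : Type*} [Group G] [Finite G] (N : Subgroup G) [N.Normal]
    (hN : Odd (Nat.card N)) (v : G ⧸ N) (hv : v * v = 1) (hv1 : v ≠ 1) :
    ∃ t : G, orderOf t = 2 ∧ (t : G ⧸ N) = v := by
  obtain ⟨w, rfl⟩ := QuotientGroup.mk_surjective v
  obtain ⟨j, hj⟩ := hN
  set m := Nat.card N with hm
  have hw2 : w * w ∈ N := by
    rw [← QuotientGroup.eq_one_iff, QuotientGroup.mk_mul]
    exact hv
  have hpow : (w * w) ^ m = 1 := by
    have h1 : (⟨w * w, hw2⟩ : N) ^ Nat.card N = 1 := pow_card_eq_one'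
    have h2 := congrArg Subtype.val h1
    rw [Subgroup.coe_pow, Subgroup.coe_one] at h2
    exact h2
  have hcomm : Commute w w := Commute.refl w
  have himg : ((w ^ m : G) : G ⧸ N) = (w : G ⧸ N) := by
    rw [QuotientGroup.mk_pow, hj, pow_succ, pow_mul, pow_two, hv, one_pow, one_mul]
  refine ⟨w ^ m, ?_, himg⟩
  apply orderOf_eq_prime
  · rw [pow_two, ← hcomm.mul_pow]
    exact hpow
  · intro h
    apply hv1
    rw [← himg, h, QuotientGroup.mk_one]

/-- A nontrivial finite solvable group with trivial odd core has a nontrivial normal subgroup of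
exponent two. -/
theorem exists_normal_exp_two {Q : Type*} [Group Q] [Finite Q] [Group.IsSolvable Q]
    [Nontrivial Q] (hO : Cfsg.pPrimeCore 2 Q = ⊥) :
    ∃ V : Subgroup Q, V.Normal ∧ V ≠ ⊥ ∧ ∀ v ∈ V, v * v = 1 := by
  obtain ⟨A, hAc, hA1, hAcomm⟩ := exists_normal_abelian_of_solvable (G := Q)
  haveI hAn : A.Normal := Subgroup.normal_of_characteristic A
  -- `A` has even order
  have heven : 2 ∣ Nat.card A := by
    by_contra h
    have hcop : (Nat.card A).Coprime 2 := by
      rw [Nat.coprime_comm, Nat.Prime.coprime_iff_not_dvd Nat.prime_two]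
      exact h
    have := Cfsg.Agent.Lib.H22.le_pPrimeCore 2 A hAn hcop
    rw [hO] at this
    exact hA1 (le_bot_iff.mp this)
  haveI : Fact (Nat.Prime 2) := ⟨Nat.prime_two⟩
  obtain ⟨a, ha⟩ := exists_prime_orderOf_dvd_card' (G := A) 2 heven
  let V : Subgroup Q :=
    { carrier := {v | v ∈ A ∧ v * v = 1}
      mul_mem' := by
        rintro v w ⟨hv, hv2⟩ ⟨hw, hw2⟩
        refine ⟨A.mul_mem hv hw, ?_⟩
        calc v * w * (v * w) = v * (w * v) * w := by group
          _ = v * (v * w) * w := by rw [hAcomm w hw v hv]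
          _ = (v * v) * (w * w) := by group
          _ = 1 := by rw [hv2, hw2, one_mul]
      one_mem' := ⟨A.one_mem, one_mul 1⟩
      inv_mem' := by
        rintro v ⟨hv, hv2⟩
        refine ⟨A.inv_mem hv, ?_⟩
        calc v⁻¹ * v⁻¹ = (v * v)⁻¹ := by group
          _ = 1 := by rw [hv2, inv_one] }
  refine ⟨V, ⟨?_⟩, ?_, fun v hv => hv.2⟩
  · rintro v ⟨hv, hv2⟩ g
    refine ⟨hAn.conj_mem v hv g, ?_⟩
    calc g * v * g⁻¹ * (g * v * g⁻¹) = g * (v * v) * g⁻¹ := by group
      _ = 1 := by rw [hv2]; group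
  · intro hbot
    have hmem : (a : Q) ∈ V := by
      refine ⟨a.2, ?_⟩
      have h1 : a ^ 2 = 1 := by rw [← ha]; exact pow_orderOf_eq_one a
      have h2 := congrArg Subtype.val h1
      rw [Subgroup.coe_pow, Subgroup.coe_one, pow_two] at h2
      exact h2
    rw [hbot, Subgroup.mem_bot] at hmem
    have h3 : a = 1 := Subtype.ext hmem
    rw [h3, orderOf_one] at ha
    omega

end Cfsg.Agent.Lib.H20.ROC
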