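import Mathlib
import Cfsg.Agent.Lib.H20.RealOneClass2

set_option autoImplicit false

/-!
# Every element commutes with an involution of the normal exponent-two section
-/

namespace Cfsg.Agent.Lib.H20.ROC

/-- Key step: an odd-order element centralizes a nonidentity element of `V`. -/
theorem exists_commuting_of_odd {G : Type*} [Group G] [Finite G] (hamb : ∀ x : G, IsConj x x⁻¹)
    (N : Subgroup G) [N.Normal] (V : Subgroup (G ⧸ N)) [hVn : V.Normal] (hV1 : V ≠ ⊥)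
    (hV2 : ∀ v ∈ V, v * v = 1)
    (hinv : ∀ t : G, orderOf t = 2 → (t : G ⧸ N) ∈ V ∧ (t : G ⧸ N) ≠ 1)
    (x : G) (hx : Odd (orderOf x)) :
    ∃ y ∈ V, y ≠ 1 ∧ (x : G ⧸ N) * y = y * (x : G ⧸ N) := by
  obtain ⟨y₀, hy₀1⟩ := (Subgroup.ne_bot_iff_exists_ne_one).mp hV1
  have hy₀V : (y₀ : G ⧸ N) ∈ V := y₀.2
  have hy₀ne : (y₀ : G ⧸ N) ≠ 1 := by
    intro h; apply hy₀1; exact Subtype.ext h
  by_cases hx1 : x = 1
  · refine ⟨y₀, hy₀V, hy₀ne, ?_⟩
    rw [hx1, QuotientGroup.mk_one, one_mul, mul_one]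
  obtain ⟨d, hd, e, he, hde⟩ := exists_two_elt_inverting (hamb x) hx hx1
  rcases Nat.lt_or_ge e 2 with he2 | he2
  · -- `d` is an involution
    have he1 : e = 1 := by omega
    rw [he1, pow_one] at hde
    obtain ⟨hdV, -⟩ := hinv d hde
    set a : G ⧸ N := (x : G ⧸ N) with ha
    set b : G ⧸ N := (d : G ⧸ N) with hb
    have hba : b * a * b⁻¹ = a⁻¹ := by
      rw [ha, hb, ← QuotientGroup.mk_inv, ← QuotientGroup.mk_mul, ← QuotientGroup.mk_mul, hd,
        QuotientGroup.mk_inv]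
    have h1 : a * b⁻¹ * a⁻¹ ∈ V := hVn.conj_mem _ (V.inv_mem hdV) a
    have h2 : b * (a * b⁻¹ * a⁻¹) ∈ V := V.mul_mem hdV h1
    have h3 : b * (a * b⁻¹ * a⁻¹) = a⁻¹ * a⁻¹ := by
      calc b * (a * b⁻¹ * a⁻¹) = (b * a * b⁻¹) * a⁻¹ := by group
        _ = a⁻¹ * a⁻¹ := by rw [hba]
    rw [h3] at h2
    have h4 := hV2 _ h2
    have h5 : a ^ 4 = 1 := by
      have : (a⁻¹ * a⁻¹ * (a⁻¹ * a⁻¹))⁻¹ = a ^ 4 := by group
      rw [← this, h4, inv_one]
    have h6 : a ^ orderOf x = 1 := by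
      rw [ha, ← QuotientGroup.mk_pow, pow_orderOf_eq_one, QuotientGroup.mk_one]
    have h7 : orderOf a ∣ Nat.gcd 4 (orderOf x) :=
      Nat.dvd_gcd (orderOf_dvd_of_pow_eq_one h5) (orderOf_dvd_of_pow_eq_one h6)
    have h8 : Nat.gcd 4 (orderOf x) = 1 := by
      have : Nat.Coprime (2 ^ 2) (orderOf x) :=
        Nat.Coprime.pow_left 2 (Nat.coprime_comm.mp (Nat.Coprime.symm
          (Nat.coprime_comm.mp (Odd.coprime_two_right hx))))
      exact this
    rw [h8, Nat.dvd_one, orderOf_eq_one_iff] at h7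
    refine ⟨y₀, hy₀V, hy₀ne, ?_⟩
    rw [h7, one_mul, mul_one]
  · -- `d` has order at least four
    obtain ⟨k, hk⟩ : ∃ k, e = k + 2 := ⟨e - 2, by omega⟩
    set t : G := d ^ (2 ^ (k + 1)) with ht
    have hto : orderOf t = 2 := by
      rw [ht, orderOf_pow_of_dvd (by positivity) ⟨2, by rw [hde, hk]; ring⟩, hde, hk]
      rw [show 2 ^ (k + 2) = 2 ^ (k + 1) * 2 by ring]
      exact Nat.mul_div_cancel_left _ (by positivity)
    have htc : Commute t x := by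
      rw [ht, show 2 ^ (k + 1) = 2 * 2 ^ k by ring]
      exact pow_even_commute hd _
    obtain ⟨htV, htne⟩ := hinv t hto
    refine ⟨(t : G ⧸ N), htV, htne, ?_⟩
    rw [← QuotientGroup.mk_mul, ← QuotientGroup.mk_mul, htc.eq]

/-- Every element of the quotient commutes with a nonidentity element of `V`. -/
theorem exists_commuting {G : Type*} [Group G] [Finite G] (hamb : ∀ x : G, IsConj x x⁻¹)
    (N : Subgroup G) [N.Normal] (V : Subgroup (G ⧸ N)) [hVn : V.Normal] (hV1 : V ≠ ⊥)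
    (hV2 : ∀ v ∈ V, v * v = 1)
    (hinv : ∀ t : G, orderOf t = 2 → (t : G ⧸ N) ∈ V ∧ (t : G ⧸ N) ≠ 1)
    (g : G) :
    ∃ y ∈ V, y ≠ 1 ∧ (g : G ⧸ N) * y = y * (g : G ⧸ N) := by
  obtain ⟨k, l, hkl, ⟨e, he⟩, hcop⟩ :=
    exists_pPart_pPrimePart g (isOfFinOrder_of_finite g) 2 Nat.prime_two
  set x : G := g ^ l with hx
  set u : G := g ^ k with hu
  have hxodd : Odd (orderOf x) := Nat.Coprime.odd_of_right hcop
  obtain ⟨y₁, hy₁V, hy₁ne, hy₁c⟩ := exists_commuting_of_odd hamb N V hV1 hV2 hinv x hxodd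
  set a : G ⧸ N := (x : G ⧸ N) with ha
  set b : G ⧸ N := (u : G ⧸ N) with hb
  have hab : Commute b a := by
    change b * a = a * b
    rw [ha, hb, ← QuotientGroup.mk_mul, ← QuotientGroup.mk_mul, hx, hu, ← pow_add, ← pow_add,
      add_comm]
  let F : Subgroup (G ⧸ N) := V ⊓ Subgroup.centralizer {a}
  have hFmem : ∀ y, y ∈ F ↔ y ∈ V ∧ a * y = y * a := by
    intro y
    rw [Subgroup.mem_inf, Subgroup.mem_centralizer_iff]
    constructor
    · rintro ⟨h1, h2⟩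
      exact ⟨h1, h2 a rfl⟩
    · rintro ⟨h1, h2⟩
      refine ⟨h1, ?_⟩
      intro z hz
      rw [Set.mem_singleton_iff] at hz
      rw [hz]; exact h2
  have hF1 : F ≠ ⊥ := by
    intro h
    have : y₁ ∈ F := (hFmem y₁).mpr ⟨hy₁V, hy₁c⟩
    rw [h, Subgroup.mem_bot] at this
    exact hy₁ne this
  have hFp : IsPGroup 2 F := by
    intro y
    refine ⟨1, ?_⟩
    apply Subtype.ext
    rw [Subgroup.coe_pow, Subgroup.coe_one, pow_one, pow_two]
    exact hV2 _ ((hFmem y.1).mp y.2).1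
  have hbpow : b ^ 2 ^ e = 1 := by
    rw [hb, ← QuotientGroup.mk_pow, ← he, pow_orderOf_eq_one, QuotientGroup.mk_one]
  have hnorm : ∀ y ∈ F, b * y * b⁻¹ ∈ F := by
    intro y hy
    obtain ⟨hyV, hyc⟩ := (hFmem y).mp hy
    refine (hFmem _).mpr ⟨hVn.conj_mem y hyV b, ?_⟩
    calc a * (b * y * b⁻¹) = (a * b) * y * b⁻¹ := by group
      _ = (b * a) * y * b⁻¹ := by rw [hab.eq]
      _ = b * (a * y) * b⁻¹ := by group
      _ = b * (y * a) * b⁻¹ := by rw [hyc]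
      _ = b * y * (a * b⁻¹) := by group
      _ = b * y * (b⁻¹ * a) := by rw [(hab.inv_left).eq]
      _ = b * y * b⁻¹ * a := by group
  obtain ⟨y, hyF, hyne, hyb⟩ := exists_fixed_of_two_pow F hFp hF1 b e hbpow hnorm
  obtain ⟨hyV, hyc⟩ := (hFmem y).mp hyF
  refine ⟨y, hyV, hyne, ?_⟩
  have hg : (g : G ⧸ N) = b * a := by
    rw [ha, hb, ← QuotientGroup.mk_mul, hkl]
  rw [hg]
  calc b * a * y = b * (a * y) := by group
    _ = b * (y * a) := by rw [hyc]
    _ = (b * y) * a := by group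
    _ = (y * b) * a := by rw [hyb]
    _ = y * (b * a) := by group

end Cfsg.Agent.Lib.H20.ROC
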