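import Mathlib
import Cfsg.Agent.Lib.H20.RealOneClass3
import Cfsg.Agent.Lib.H20.SylowExtra
import Cfsg.Agent.Lib.H20.InvolutionSylow
import Cfsg.Agent.Lib.H9.PPrimeCore

set_option autoImplicit false

/-!
# Solvable groups with all elements real and one class of involutions
-/

namespace Cfsg.Agent.Lib.H20.ROC

open MulAction

theorem odd_card_oddCore {G : Type*} [Group G] [Finite G] :
    Odd (Nat.card (Cfsg.pPrimeCore 2 G)) :=
  Nat.Coprime.odd_of_right (Cfsg.Agent.Lib.H22.card_pPrimeCore_coprime (G := G) 2)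

/-- In a finite solvable group with all elements real and a single class of involutions, a
`2`-subgroup contains at most one involution. -/
theorem involution_unique {G : Type*} [Group G] [Finite G] [Group.IsSolvable G]
    (hamb : ∀ x : G, IsConj x x⁻¹)
    (hone : ∀ s t : G, orderOf s = 2 → orderOf t = 2 → IsConj s t)
    (P : Subgroup G) (hP : IsPGroup 2 P) {s t : G} (hs : s ∈ P) (ht : t ∈ P)
    (hso : orderOf s = 2) (hto : orderOf t = 2) : s = t := by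
  classical
  by_contra hne
  set O : Subgroup G := Cfsg.pPrimeCore 2 G with hOdef
  haveI hOn : O.Normal := Cfsg.Agent.Lib.H22.pPrimeCore_normal 2
  have hOodd : Odd (Nat.card O) := odd_card_oddCore
  have hsO : s ∉ O := not_mem_of_orderOf_two O hOodd hso
  haveI : Nontrivial (G ⧸ O) := by
    refine ⟨⟨(s : G ⧸ O), 1, ?_⟩⟩
    rw [Ne, QuotientGroup.eq_one_iff]
    exact hsO
  have hO : Cfsg.pPrimeCore 2 (G ⧸ O) = ⊥ := Cfsg.Agent.Lib.H9.pPrimeCore_quotient_eq_bot 2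
  obtain ⟨V, hVn, hV1, hV2⟩ := exists_normal_exp_two hO
  haveI := hVn
  obtain ⟨v₀, hv₀1⟩ := (Subgroup.ne_bot_iff_exists_ne_one).mp hV1
  have hv₀ne : (v₀ : G ⧸ O) ≠ 1 := by
    intro h; apply hv₀1; exact Subtype.ext h
  obtain ⟨t₀, ht₀, ht₀v⟩ := exists_involution_lift O hOodd v₀.1 (hV2 _ v₀.2) hv₀ne
  have hinv : ∀ t : G, orderOf t = 2 → (t : G ⧸ O) ∈ V ∧ (t : G ⧸ O) ≠ 1 := by
    intro t' ht'
    constructor
    · obtain ⟨c, hc⟩ := isConj_iff.mp (hone t₀ t' ht₀ ht')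
      rw [← hc, QuotientGroup.mk_mul, QuotientGroup.mk_mul, QuotientGroup.mk_inv, ht₀v]
      exact hVn.conj_mem _ v₀.2 _
    · rw [Ne, QuotientGroup.eq_one_iff]
      exact not_mem_of_orderOf_two O hOodd ht'
  -- the images of `s` and `t` are distinct
  have hst : (s : G ⧸ O) ≠ (t : G ⧸ O) := by
    intro h
    have h1 : s⁻¹ * t ∈ O := QuotientGroup.eq.mp h
    have h2 : s⁻¹ * t ∈ P := P.mul_mem (P.inv_mem hs) ht
    obtain ⟨k, hk⟩ := hP ⟨s⁻¹ * t, h2⟩
    have hk' : (s⁻¹ * t) ^ 2 ^ k = 1 := by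
      have := congrArg Subtype.val hk
      rw [Subgroup.coe_pow, Subgroup.coe_one] at this
      exact this
    have h3 : orderOf (s⁻¹ * t) ∣ 2 ^ k := orderOf_dvd_of_pow_eq_one hk'
    have h4 : orderOf (s⁻¹ * t) ∣ Nat.card O := by
      have e1 : orderOf (⟨s⁻¹ * t, h1⟩ : O) = orderOf (s⁻¹ * t) := Subgroup.orderOf_mk _ h1
      rw [← e1]; exact orderOf_dvd_natCard _
    have h5 : Nat.Coprime (2 ^ k) (Nat.card O) :=
      Nat.Coprime.pow_left k (Nat.coprime_comm.mp (Odd.coprime_two_right hOodd))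
    have h6 : orderOf (s⁻¹ * t) = 1 := Nat.eq_one_of_dvd_coprimes h5 h3 h4
    rw [orderOf_eq_one_iff, inv_mul_eq_one] at h6
    exact hne h6
  -- the orbit
  let Ω : Set (G ⧸ O) := MulAction.orbit (ConjAct (G ⧸ O)) (s : G ⧸ O)
  have hmemΩ : ∀ t' : G, orderOf t' = 2 → (t' : G ⧸ O) ∈ Ω := by
    intro t' ht'
    obtain ⟨c, hc⟩ := isConj_iff.mp (hone s t' hso ht')
    refine ⟨ConjAct.toConjAct (c : G ⧸ O), ?_⟩
    change ConjAct.toConjAct (c : G ⧸ O) • (s : G ⧸ O) = (t' : G ⧸ O)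
    rw [ConjAct.toConjAct_smul, ← hc, QuotientGroup.mk_mul, QuotientGroup.mk_mul,
      QuotientGroup.mk_inv]
  haveI : Finite (ConjAct (G ⧸ O)) := Finite.of_equiv (G ⧸ O) ConjAct.toConjAct.toEquiv
  have h2 : 2 ≤ Nat.card Ω := by
    have : Nontrivial Ω :=
      ⟨⟨⟨(s : G ⧸ O), hmemΩ s hso⟩, ⟨(t : G ⧸ O), hmemΩ t hto⟩, fun h => hst (congrArg Subtype.val h)⟩⟩
    exact Finite.one_lt_card_iff_nontrivial.mpr this
  have htr : IsPretransitive (ConjAct (G ⧸ O)) Ω := inferInstance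
  obtain ⟨g, hg⟩ := exists_derangement htr h2
  obtain ⟨g', hg'⟩ := QuotientGroup.mk_surjective (ConjAct.ofConjAct g)
  obtain ⟨y, hyV, hyne, hyc⟩ := exists_commuting hamb O V hV1 hV2 hinv g'
  obtain ⟨t', ht', ht'y⟩ := exists_involution_lift O hOodd y (hV2 y hyV) hyne
  have hyΩ : y ∈ Ω := by rw [← ht'y]; exact hmemΩ t' ht'
  apply hg ⟨y, hyΩ⟩
  apply Subtype.ext
  rw [MulAction.orbit.coe_smul]
  change g • y = y
  rw [ConjAct.smul_def, ← hg', hyc]
  group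

end Cfsg.Agent.Lib.H20.ROC
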