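import Mathlib
import Cfsg.Agent.Lib.H20.RealOneClass4

set_option autoImplicit false

/-!
# The Sylow `2`-subgroup: cyclic case and the case of order two
-/

namespace Cfsg.Agent.Lib.H20.ROC

/-- A real element is inverted by a `2`-element. -/
theorem exists_two_pow_inverting {G : Type*} [Group G] [Finite G] {x : G} (hx : IsConj x x⁻¹) :
    ∃ (d : G) (e : ℕ), d * x * d⁻¹ = x⁻¹ ∧ orderOf d = 2 ^ e := by
  obtain ⟨c, hc⟩ := isConj_iff.mp hx
  have hn0 : orderOf c ≠ 0 := (orderOf_pos c).ne'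
  obtain ⟨e, m, hm, hn⟩ := Nat.exists_eq_two_pow_mul_odd hn0
  obtain ⟨j, hj⟩ := hm
  have hd : c ^ m * x * (c ^ m)⁻¹ = x⁻¹ := by
    rw [hj]; exact pow_odd_inverts hc j
  have hmpos : 0 < m := by omega
  have hord : orderOf (c ^ m) = 2 ^ e := by
    rw [orderOf_pow_of_dvd hmpos.ne' ⟨2 ^ e, by rw [hn, mul_comm]⟩, hn]
    exact Nat.mul_div_cancel _ hmpos
  exact ⟨c ^ m, e, hd, hord⟩

/-- An element of odd order lies in the subgroup generated by its square. -/
theorem mem_of_sq_mem_of_odd {G : Type*} [Group G] (K : Subgroup G) {x : G}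
    (hodd : Odd (orderOf x)) (h : x * x ∈ K) : x ∈ K := by
  obtain ⟨j, hj⟩ := hodd
  have h1 : x = (x * x) ^ (j + 1) := by
    rw [← pow_two, ← pow_mul]
    have : 2 * (j + 1) = orderOf x + 1 := by omega
    rw [this, pow_succ, pow_orderOf_eq_one, one_mul]
  rw [h1]
  exact K.pow_mem h _

/-- An element of odd order inverted by an element of odd order is trivial. -/
theorem eq_one_of_inverted_by_odd {G : Type*} [Group G] {y c : G} (hy : Odd (orderOf y))
    (hc : Odd (orderOf c)) (h : y * c * y⁻¹ = c⁻¹) : c = 1 := by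
  obtain ⟨j, hj⟩ := hy
  have h1 : y = y ^ (2 * (j + 1)) := by
    have : 2 * (j + 1) = orderOf y + 1 := by omega
    rw [this, pow_succ, pow_orderOf_eq_one, one_mul]
  have h2 : Commute y c := by
    rw [h1]; exact pow_even_commute h _
  have h3 : c = c⁻¹ := by
    calc c = y * c * y⁻¹ := by rw [h2.eq]; group
      _ = c⁻¹ := h
  have h4 : c ^ 2 = 1 := by
    rw [pow_two]
    calc c * c = c * c⁻¹ := by rw [← h3]
      _ = 1 := mul_inv_cancel c
  have h5 : orderOf c ∣ 2 := orderOf_dvd_of_pow_eq_one h4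
  have h6 : orderOf c = 1 := by
    rcases (Nat.dvd_prime Nat.prime_two).mp h5 with h | h
    · exact h
    · rw [h] at hc; exact absurd hc (by decide)
  exact orderOf_eq_one_iff.mp h6

/-- If every element is real, a cyclic Sylow `2`-subgroup of a group of even order has order two. -/
theorem card_eq_two_of_cyclic {G : Type*} [Group G] [Finite G] (hamb : ∀ x : G, IsConj x x⁻¹)
    (heven : 2 ∣ Nat.card G) (S : Sylow 2 G) (hcyc : IsCyclic S) : Nat.card S = 2 := by
  haveI : Fact (Nat.Prime 2) := ⟨Nat.prime_two⟩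
  obtain ⟨s₀, hs₀⟩ := hcyc.exists_generator
  have hord : orderOf s₀ = Nat.card S := orderOf_eq_card_of_forall_mem_zpowers hs₀
  have hord' : orderOf (s₀ : G) = Nat.card S := by
    rw [← hord]; exact (Subgroup.orderOf_coe s₀)
  obtain ⟨d, e, hd, hde⟩ := exists_two_pow_inverting (hamb (s₀ : G))
  -- `d` normalizes `S`
  have hmemS : ∀ y : G, y ∈ (S : Subgroup G) → ∃ k : ℤ, (s₀ : G) ^ k = y := by
    intro y hy
    obtain ⟨k, hk⟩ := Subgroup.mem_zpowers_iff.mp (hs₀ ⟨y, hy⟩)
    refine ⟨k, ?_⟩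
    have := congrArg Subtype.val hk
    rw [Subgroup.coe_zpow] at this
    exact this
  have hconj : ∀ y : G, y ∈ (S : Subgroup G) → d * y * d⁻¹ = y⁻¹ := by
    intro y hy
    obtain ⟨k, rfl⟩ := hmemS y hy
    have h1 : d * (s₀ : G) ^ k * d⁻¹ = (d * (s₀ : G) * d⁻¹) ^ k := by
      rw [conj_zpow]
    rw [h1, hd, inv_zpow]
  have hdn : d ∈ Subgroup.normalizer ((S : Subgroup G) : Set G) := by
    rw [Subgroup.mem_normalizer_iff]
    intro y
    constructor
    · intro hy
      rw [hconj y hy]; exact (S : Subgroup G).inv_mem hy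
    · intro hy
      have hz := hconj _ ((S : Subgroup G).inv_mem hy)
      rw [inv_inv] at hz
      have h6 : y = (d * y * d⁻¹)⁻¹ := by
        calc y = d⁻¹ * (d * y * d⁻¹) * d := by group
          _ = d⁻¹ * (d * (d * y * d⁻¹)⁻¹ * d⁻¹) * d := by rw [hz]
          _ = (d * y * d⁻¹)⁻¹ := by group
      rw [h6]; exact (S : Subgroup G).inv_mem hy
  have hdS : d ∈ (S : Subgroup G) := Cfsg.Agent.Lib.H20.mem_sylow_of_mem_normalizer S hde hdn
  -- `S` is commutative
  have hcomm : d * (s₀ : G) = (s₀ : G) * d := by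
    obtain ⟨k, hk⟩ := hmemS d hdS
    rw [← hk]
    exact ((Commute.refl (s₀ : G)).zpow_left k).eq
  have hsq : (s₀ : G) ^ 2 = 1 := by
    have h1 : (s₀ : G) = (s₀ : G)⁻¹ := by
      calc (s₀ : G) = d * (s₀ : G) * d⁻¹ := by rw [hcomm]; group
        _ = (s₀ : G)⁻¹ := hd
    rw [pow_two]
    calc (s₀ : G) * (s₀ : G) = (s₀ : G) * (s₀ : G)⁻¹ := by rw [← h1]
      _ = 1 := mul_inv_cancel _
  have h1 : Nat.card S ∣ 2 := by
    rw [← hord']; exact orderOf_dvd_of_pow_eq_one hsq
  have h2 : 2 ∣ Nat.card S := S.dvd_card_of_dvd_card heven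
  exact Nat.dvd_antisymm h1 h2

end Cfsg.Agent.Lib.H20.ROC
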