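import Mathlib
import Cfsg.Agent.Lib.H20.RealOneClass5

set_option autoImplicit false

/-!
# The case of a Sylow `2`-subgroup of order two
-/

namespace Cfsg.Agent.Lib.H20.ROC

/-- Structure when the Sylow `2`-subgroup has order two. -/
theorem structure_of_card_two {G : Type*} [Group G] [Finite G] (hamb : ∀ x : G, IsConj x x⁻¹)
    (S : Sylow 2 G) (hS : Nat.card S = 2) :
    (S : Subgroup G).IsComplement' (Cfsg.pPrimeCore 2 G) ∧
      Cfsg.pPrimeCore 2 G = commutator G ∧
      ∀ t : G, t ∈ S → t ≠ 1 → ∀ x : G, x ∈ Cfsg.pPrimeCore 2 G → t * x * t⁻¹ = x⁻¹ := by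
  classical
  haveI : Fact (Nat.Prime 2) := ⟨Nat.prime_two⟩
  set O : Subgroup G := Cfsg.pPrimeCore 2 G with hOdef
  haveI hOn : O.Normal := Cfsg.Agent.Lib.H22.pPrimeCore_normal 2
  have hOodd : Odd (Nat.card O) := odd_card_oddCore
  have hOcop : (Nat.card O).Coprime 2 := Cfsg.Agent.Lib.H22.card_pPrimeCore_coprime (G := G) 2
  have hevenG : 2 ∣ Nat.card G := by
    rw [← hS]; exact Subgroup.card_subgroup_dvd_card _
  have hp : (Nat.card G).minFac = 2 := (Nat.minFac_eq_two_iff _).mpr hevenG
  have hcyc : IsCyclic S := by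
    haveI : Fact (Nat.card S).Prime := ⟨by rw [hS]; exact Nat.prime_two⟩
    exact isCyclic_of_prime_card (p := Nat.card S) rfl
  set K : Subgroup G := (MonoidHom.transferSylow S (hcyc.normalizer_le_centralizer hp)).ker with hK
  have hKc : K.IsComplement' S := IsCyclic.isComplement' hp hcyc
  have hKcard : Nat.card K * Nat.card S = Nat.card G := hKc.card_mul_card
  have hKcop : (Nat.card K).Coprime 2 := by
    rw [Nat.coprime_comm, Nat.Prime.coprime_iff_not_dvd Nat.prime_two]
    exact MonoidHom.not_dvd_card_ker_transferSylow S (hcyc.normalizer_le_centralizer hp)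
  have hKO : K ≤ O := Cfsg.Agent.Lib.H22.le_pPrimeCore 2 K inferInstance hKcop
  have hcardO : Nat.card O = Nat.card K := by
    apply Nat.dvd_antisymm
    · have h1 : Nat.card O ∣ Nat.card K * 2 := by
        rw [← hS, hKcard]; exact Subgroup.card_subgroup_dvd_card _
      exact Nat.Coprime.dvd_of_dvd_mul_right hOcop h1
    · exact Subgroup.card_dvd_of_le hKO
  have hcompl : (S : Subgroup G).IsComplement' O := by
    apply Subgroup.isComplement'_of_coprime
    · rw [hcardO, mul_comm]; exact hKcard
    · rw [hS]; exact hOcop.symm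
  have hidx : O.index = 2 := by
    have h1 := O.index_mul_card
    rw [hcardO, ← hKcard, hS] at h1
    have hKpos : 0 < Nat.card K := Nat.card_pos
    exact Nat.eq_of_mul_eq_mul_right hKpos (by rw [h1, mul_comm])
  -- elements of `O` have odd order
  have hoddO : ∀ x ∈ O, Odd (orderOf x) := by
    intro x hx
    have e1 : orderOf (⟨x, hx⟩ : O) = orderOf x := Subgroup.orderOf_mk _ hx
    have h2 : orderOf (⟨x, hx⟩ : O) ∣ Nat.card O := orderOf_dvd_natCard _
    rw [e1] at h2
    exact Odd.of_dvd_nat hOodd h2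
  -- a `2`-element has order at most two
  have htwo : ∀ (d : G) (e : ℕ), orderOf d = 2 ^ e → e ≤ 1 := by
    intro d e hde
    by_contra he
    have h1 : 2 ^ 2 ∣ orderOf d := by
      rw [hde]; exact pow_dvd_pow 2 (by omega)
    have h2 : 2 ^ 2 ∣ Nat.card G := h1.trans (orderOf_dvd_natCard d)
    rw [← hKcard, hS] at h2
    have h3 : (2 : ℕ) ∣ Nat.card K := by
      have : 2 * 2 ∣ Nat.card K * 2 := by simpa [pow_two] using h2
      exact Nat.dvd_of_mul_dvd_mul_right (by norm_num) this
    have h4 : (2 : ℕ) ∣ Nat.gcd (Nat.card K) 2 := Nat.dvd_gcd h3 dvd_rfl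
    rw [hKcop] at h4
    omega
  refine ⟨hcompl, ?_, ?_⟩
  · apply le_antisymm
    · intro x hx
      by_cases hx1 : x = 1
      · rw [hx1]; exact Subgroup.one_mem _
      obtain ⟨d, hd, e, he, hde⟩ := exists_two_elt_inverting (hamb x) (hoddO x hx) hx1
      apply mem_of_sq_mem_of_odd _ (hoddO x hx)
      have h1 : d * x * d⁻¹ * x⁻¹ ∈ commutator G := by
        rw [commutator_def, ← commutatorElement_def]
        exact Subgroup.commutator_mem_commutator (Subgroup.mem_top d) (Subgroup.mem_top x)
      rw [hd] at h1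
      have h2 : x * x = (x⁻¹ * x⁻¹)⁻¹ := by rw [mul_inv_rev, inv_inv]
      rw [h2]; exact Subgroup.inv_mem _ h1
    · rw [← Subgroup.Normal.quotient_commutative_iff_commutator_le]
      have hcard : Nat.card (G ⧸ O) = 2 := hidx
      haveI : Fact (Nat.card (G ⧸ O)).Prime := ⟨by rw [hcard]; exact Nat.prime_two⟩
      haveI : IsCyclic (G ⧸ O) := isCyclic_of_prime_card (p := Nat.card (G ⧸ O)) rfl
      exact IsCyclic.isMulCommutative
  · intro t htS ht1
    have hto : orderOf t = 2 := by
      have e1 : orderOf (⟨t, htS⟩ : S) = orderOf t := Subgroup.orderOf_mk _ htS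
      have h2 : orderOf (⟨t, htS⟩ : S) ∣ Nat.card S := orderOf_dvd_natCard _
      rw [e1, hS] at h2
      rcases (Nat.dvd_prime Nat.prime_two).mp h2 with h | h
      · exact absurd (orderOf_eq_one_iff.mp h) ht1
      · exact h
    have htt : t * t = 1 := by
      rw [← pow_two, ← hto]; exact pow_orderOf_eq_one t
    have htO : t ∉ O := not_mem_of_orderOf_two O hOodd hto
    apply Cfsg.Agent.Lib.H20.inverts_of_fpf O t htt
    · intro b hb
      exact hOn.conj_mem b hb t
    · intro c hcO hcfix
      by_contra hc1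
      obtain ⟨d, hd, e, he, hde⟩ := exists_two_elt_inverting (hamb c) (hoddO c hcO) hc1
      have he1 : e = 1 := le_antisymm (htwo d e hde) he
      rw [he1, pow_one] at hde
      have hdO : d ∉ O := not_mem_of_orderOf_two O hOodd hde
      have hy : d * t ∈ O := by
        rw [Subgroup.mul_mem_iff_of_index_two hidx]
        exact ⟨fun h => absurd h hdO, fun h => absurd h htO⟩
      have hyc : (d * t) * c * (d * t)⁻¹ = c⁻¹ := by
        calc (d * t) * c * (d * t)⁻¹ = d * (t * c * t⁻¹) * d⁻¹ := by group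
          _ = d * c * d⁻¹ := by rw [hcfix]
          _ = c⁻¹ := hd
      exact hc1 (eq_one_of_inverted_by_odd (hoddO _ hy) (hoddO c hcO) hyc)

end Cfsg.Agent.Lib.H20.ROC
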