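import Mathlib
import Cfsg.Prelude.Def_CaseTheorems
import Cfsg.Agent.Lib.H9.S28Defs
import Cfsg.Agent.Lib.H24.HSP2

/-!
# S2928, piece O1-EIGHT (`eight_le_card`) — helper20

Exact signature of `tools/blueprints/S2928_sigs.lean` (architect: helper9).
-/

set_option autoImplicit false

namespace Cfsg.Agent.Lib.H20.S28

open Equiv Cfsg.Agent.Lib.H9.S28 Cfsg.Agent.Lib.H15.SymF
open scoped Pointwise

variable {β : Type*} [Fintype β] [DecidableEq β] {G L : Subgroup (Perm β)}

variable {α : Type*} [Fintype α] [DecidableEq α] {H : Subgroup (Perm α)}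

/-- O1-EIGHT -/
theorem eight_le_card (s : Finset α) (hHs : ∀ h ∈ H, ∀ x ∈ s, h x ∈ s)
    (P : Sylow 2 ↥(alternatingGroup α))
    (hPH : (P : Subgroup ↥(alternatingGroup α)).map (alternatingGroup α).subtype ≤ H)
    (h8 : 8 ≤ Fintype.card α) (hs : Fintype.card α ≤ s.card + 3) : 8 ≤ s.card := by
  by_contra hlt
  push Not at hlt
  haveI : Fact (Nat.Prime 2) := ⟨Nat.prime_two⟩
  haveI : Nontrivial α := by
    rw [← Fintype.one_lt_card_iff_nontrivial]; omega
  -- `64 ∣ |Alt α|`
  have h1 : 2 * Nat.card (alternatingGroup α) = (Fintype.card α).factorial := by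
    rw [two_mul_nat_card_alternatingGroup, Nat.card_eq_fintype_card, Fintype.card_perm]
  have h2 : 2 ^ 6 ∣ Nat.card (alternatingGroup α) := by
    have h3 : (8 : ℕ).factorial ∣ (Fintype.card α).factorial := Nat.factorial_dvd_factorial h8
    have h4 : 2 * 2 ^ 6 ∣ (8 : ℕ).factorial := by decide
    have h5 : 2 * 2 ^ 6 ∣ 2 * Nat.card (alternatingGroup α) := by
      rw [h1]; exact dvd_trans h4 h3
    exact Nat.dvd_of_mul_dvd_mul_left (by norm_num) h5
  have h6 : 2 ^ 6 ∣ Nat.card (P : Subgroup ↥(alternatingGroup α)) :=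
    P.pow_dvd_card_of_pow_dvd_card h2
  -- the image of `P` lies in the stabilizer of `s`
  have h7 : (P : Subgroup ↥(alternatingGroup α)).map (alternatingGroup α).subtype ≤
      MulAction.stabilizer (Perm α) (s : Set α) := by
    intro g hg
    rw [MulAction.mem_stabilizer_set' (Finset.finite_toSet s)]
    intro b hb
    exact hHs g (hPH hg) b hb
  have h8' : Nat.card ((P : Subgroup ↥(alternatingGroup α)).map (alternatingGroup α).subtype) =
      Nat.card (P : Subgroup ↥(alternatingGroup α)) :=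
    Subgroup.card_map_of_injective (Subgroup.subtype_injective _)
  have h9 := Subgroup.card_dvd_of_le h7
  rw [h8', Cfsg.Agent.Lib.H24.HS.card_stabilizer_set] at h9
  have h10 : 2 ^ 6 ∣ ((s : Set α).ncard).factorial * (((s : Set α)ᶜ).ncard).factorial :=
    dvd_trans h6 h9
  have h11 : (s : Set α).ncard = s.card := Set.ncard_coe_finset s
  have h12 : (s : Set α).ncard + ((s : Set α)ᶜ).ncard = Fintype.card α := by
    rw [Set.ncard_add_ncard_compl _ (Set.toFinite _) (Set.toFinite _), Nat.card_eq_fintype_card]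
  rw [h11] at h10 h12
  obtain ⟨c, hc⟩ : ∃ c, ((s : Set α)ᶜ).ncard = c := ⟨_, rfl⟩
  rw [hc] at h10 h12
  have hc3 : c ≤ 3 := by omega
  have hs5 : 5 ≤ s.card := by omega
  obtain ⟨k, hk⟩ : ∃ k, s.card = k := ⟨_, rfl⟩
  rw [hk] at h10 h12 hlt hs5
  have hk8 : 8 ≤ k + c := by omega
  interval_cases k <;> interval_cases c <;> first | omega | (revert h10; decide)

end Cfsg.Agent.Lib.H20.S28
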