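import Mathlib
import Cfsg.Prelude.Def_CaseTheorems
import Cfsg.Agent.Lib.H9.S28Defs
import Cfsg.Agent.Lib.H7.Quasisimple

/-!
# S2928, pieces O2 (transport to the moved points) — helper20

`nonempty_equiv_res`, `core_res`, `klein_res`, `card_dvd_res` with the exact signatures of
`tools/blueprints/S2928_sigs.lean` (architect: helper9).
-/

set_option autoImplicit false

namespace Cfsg.Agent.Lib.H20.S28

open Equiv Cfsg.Agent.Lib.H9.S28 Cfsg.Agent.Lib.H15.SymF

variable {β : Type*} [Fintype β] [DecidableEq β] {G L : Subgroup (Perm β)}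

variable {α : Type*} [Fintype α] [DecidableEq α] {H : Subgroup (Perm α)}

/-- an element normalizing `L` maps the moved points of `L` onto themselves -/
theorem o2_apply_mem_mvd_iff {L : Subgroup (Perm α)} {h : Perm α}
    (hN : ∀ x ∈ L, h * x * h⁻¹ ∈ L) (hN' : ∀ x ∈ L, h⁻¹ * x * h ∈ L) (x : α) :
    h x ∈ mvd L ↔ x ∈ mvd L := by
  constructor
  · intro hx
    obtain ⟨d, hd, hdx⟩ := mem_mvd.1 hx
    refine mem_mvd.2 ⟨h⁻¹ * d * h, hN' d hd, ?_⟩
    intro hcon
    apply hdx
    have : h ((h⁻¹ * d * h) x) = h x := by rw [hcon]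
    simpa [Perm.mul_apply] using this
  · intro hx
    obtain ⟨d, hd, hdx⟩ := mem_mvd.1 hx
    refine mem_mvd.2 ⟨h * d * h⁻¹, hN d hd, ?_⟩
    intro hcon
    apply hdx
    apply h.injective
    simpa [Perm.mul_apply] using hcon

theorem o2_apply_mem_mvd_iff_of_mem {L : Subgroup (Perm α)} {l : Perm α} (hl : l ∈ L) (x : α) :
    l x ∈ mvd L ↔ x ∈ mvd L :=
  o2_apply_mem_mvd_iff (fun x hx => L.mul_mem (L.mul_mem hl hx) (L.inv_mem hl))
    (fun x hx => L.mul_mem (L.mul_mem (L.inv_mem hl) hx) hl) x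

/-- the restriction homomorphism of `L` to its moved points -/
noncomputable def o2ResHom (L : Subgroup (Perm α)) : ↥L →* Perm {x // x ∈ mvd L} where
  toFun l := Perm.subtypePerm (l : Perm α) (fun x => o2_apply_mem_mvd_iff_of_mem l.2 x)
  map_one' := by
    ext x
    simp
  map_mul' := by
    intro a b
    ext x
    rfl

theorem o2ResHom_apply (L : Subgroup (Perm α)) (l : ↥L) (x : {x // x ∈ mvd L}) :
    ((o2ResHom L l x : {x // x ∈ mvd L}) : α) = (l : Perm α) (x : α) := rfl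

theorem o2ResHom_injective (L : Subgroup (Perm α)) : Function.Injective (o2ResHom L) := by
  intro a b hab
  apply Subtype.ext
  ext x
  by_cases hx : x ∈ mvd L
  · have := congrArg (fun σ : Perm {x // x ∈ mvd L} => ((σ ⟨x, hx⟩ : {x // x ∈ mvd L}) : α)) hab
    simpa [o2ResHom_apply] using this
  · have ha : (a : Perm α) x = x := by
      by_contra h
      exact hx (mem_mvd.2 ⟨a, a.2, h⟩)
    have hb : (b : Perm α) x = x := by
      by_contra h
      exact hx (mem_mvd.2 ⟨b, b.2, h⟩)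
    rw [ha, hb]

theorem o2ResHom_range (L : Subgroup (Perm α)) : (o2ResHom L).range = res L (mvd L) := by
  ext σ
  rw [MonoidHom.mem_range, mem_res]
  constructor
  · rintro ⟨l, rfl⟩
    exact ⟨l, l.2, fun x => rfl⟩
  · rintro ⟨h, hh, hσ⟩
    refine ⟨⟨h, hh⟩, ?_⟩
    ext x
    rw [o2ResHom_apply]
    exact hσ x

/-- O2-EQUIV -/
theorem nonempty_equiv_res (L : Subgroup (Perm α)) : Nonempty (↥L ≃* ↥(res L (mvd L))) :=
  ⟨(MonoidHom.ofInjective (o2ResHom_injective L)).trans
    (MulEquiv.subgroupCongr (o2ResHom_range L))⟩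

/-- O2-CORE -/
theorem core_res (L : Subgroup (Perm α)) (hLH : L ≤ H)
    (hHN : ∀ h ∈ H, ∀ x ∈ L, h * x * h⁻¹ ∈ L) (hL : Cfsg.IsQuasisimple ↥L) :
    Core (res H (mvd L)) (res L (mvd L)) := by
  refine ⟨?_, ?_, ?_, ?_⟩
  · rintro σ ⟨l, hl, hσ⟩
    exact ⟨l, hLH hl, hσ⟩
  · rintro g ⟨h, hh, hg⟩ x ⟨l, hl, hx⟩
    refine ⟨h * l * h⁻¹, hHN h hh l hl, fun y => ?_⟩
    have h1 : h⁻¹ (y : α) = ((g⁻¹ y : {x // x ∈ mvd L}) : α) := by
      rw [Perm.inv_eq_iff_eq, hg (g⁻¹ y)]
      simp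
    rw [Perm.mul_apply, Perm.mul_apply, h1, hx (g⁻¹ y), hg (x (g⁻¹ y))]
    simp [Perm.mul_apply]
  · obtain ⟨e⟩ := nonempty_equiv_res L
    exact Cfsg.Agent.Lib.H7.quasisimple_of_mulEquiv e hL
  · rintro ⟨b, hb⟩
    obtain ⟨d, hd, hdb⟩ := mem_mvd.1 hb
    refine ⟨o2ResHom L ⟨d, hd⟩, ?_, ?_⟩
    · rw [← o2ResHom_range]
      exact ⟨⟨d, hd⟩, rfl⟩
    · intro hcon
      apply hdb
      have := congrArg (fun z : {x // x ∈ mvd L} => (z : α)) hcon
      simpa [o2ResHom_apply] using this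

/-- O2-KLEIN -/
theorem klein_res (s : Finset α) {S : Finset α} (hSs : S ⊆ s) (hS : IsKlein H S) :
    IsKlein (res H s) (S.subtype (· ∈ s)) := by
  refine ⟨?_, ?_⟩
  · rw [Finset.card_subtype]
    have : S.filter (· ∈ s) = S := Finset.filter_true_of_mem (fun x hx => hSs hx)
    rw [this]
    exact hS.1
  · intro a b c d ha hb hc hd hab hac had hbc hbd hcd
    rw [Finset.mem_subtype] at ha hb hc hd
    have hne : ∀ {x y : {x // x ∈ s}}, x ≠ y → (x : α) ≠ (y : α) :=
      fun h h' => h (Subtype.ext h')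
    refine ⟨swap (a : α) b * swap (c : α) d,
      hS.2 a b c d ha hb hc hd (hne hab) (hne hac) (hne had) (hne hbc) (hne hbd) (hne hcd), ?_⟩
    intro x
    rw [Perm.mul_apply, Perm.mul_apply]
    have key : ∀ (u v : {x // x ∈ s}) (y : {x // x ∈ s}),
        swap (u : α) (v : α) (y : α) = ((swap u v y : {x // x ∈ s}) : α) := by
      intro u v y
      by_cases h1 : y = u
      · subst h1; simp
      · by_cases h2 : y = v
        · subst h2; simp
        · rw [swap_apply_of_ne_of_ne h1 h2,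
            swap_apply_of_ne_of_ne (fun h => h1 (Subtype.ext h)) (fun h => h2 (Subtype.ext h))]
    rw [key c d x, key a b (swap c d x)]

/-- O2-CARD -/
theorem card_dvd_res (s : Finset α) (Q : Subgroup (Perm α)) (hQH : Q ≤ H)
    (hQs : ∀ q ∈ Q, ∀ x, x ∉ s → q x = x) : Nat.card ↥Q ∣ Nat.card ↥(res H s) := by
  -- each `q ∈ Q` maps `s` onto itself
  have hmem : ∀ q ∈ Q, ∀ x, q x ∈ s ↔ x ∈ s := by
    intro q hq x
    constructor
    · intro hx
      by_contra hxs
      rw [hQs q hq x hxs] at hx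
      exact hxs hx
    · intro hx
      by_contra hqx
      have h1 : q⁻¹ (q x) = q x := hQs q⁻¹ (Q.inv_mem hq) (q x) hqx
      have h2 : q⁻¹ (q x) = x := by simp
      rw [h2] at h1
      rw [← h1] at hqx
      exact hqx hx
  let f : ↥Q →* ↥(res H s) :=
    { toFun := fun q => ⟨Perm.subtypePerm (q : Perm α) (fun x => hmem q q.2 x),
        ⟨q, hQH q.2, fun x => rfl⟩⟩
      map_one' := by
        apply Subtype.ext
        ext x
        simp
      map_mul' := by
        intro a b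
        apply Subtype.ext
        ext x
        rfl }
  have hf : Function.Injective f := by
    intro a b hab
    apply Subtype.ext
    ext x
    by_cases hx : x ∈ s
    · have h1 := congrArg (fun σ : ↥(res H s) =>
        (((σ : Perm {x // x ∈ s}) ⟨x, hx⟩ : {x // x ∈ s}) : α)) hab
      simpa [f] using h1
    · rw [hQs a a.2 x hx, hQs b b.2 x hx]
  exact Subgroup.card_dvd_of_injective f hf

end Cfsg.Agent.Lib.H20.S28
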