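import Cfsg.Agent.Lib.H9.S3571Defs

/-!
# S3571, GROUP block, piece (M6): the case `m = 6` from (P0) and the pure `A_6` core (M6C)

`K := (stabilizer ↥T ω).map eT ≤ A_6` has index `|Ω|` (the socle `T` is transitive by (P0));
the core gives `t ∈ A_6` of order `r` with no conjugate in `K`; `g := eT.symm t` is the derangement.
-/

set_option autoImplicit false

namespace Cfsg.Agent.Lib.H20.S3571M6

open Cfsg.Agent.Lib.H9.S3571 Equiv

universe u v

/-- Generic transfer: a transitive subgroup `T ≃* A`, an element `t : A` of order `r` with no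
conjugate in the image of a point stabiliser gives a fixed-point-free element of order `r`. -/
theorem exists_derangement_of_core {G : Type u} {Ω : Type v} [Group G] [MulAction G Ω]
    (T : Subgroup G) {A : Type*} [Group A] (eT : ↥T ≃* A)
    [MulAction.IsPretransitive ↥T Ω] (ω : Ω) (r : ℕ) (t : A) (ht : orderOf t = r)
    (hconj : ∀ g : A, g⁻¹ * t * g ∉ (MulAction.stabilizer ↥T ω).map eT.toMonoidHom) :
    ∃ g : G, orderOf g = r ∧ ∀ ω' : Ω, g • ω' ≠ ω' := by
  refine ⟨((eT.symm t : ↥T) : G), ?_, ?_⟩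
  · rw [Subgroup.orderOf_coe, MulEquiv.orderOf_eq, ht]
  · intro ω' hfix
    obtain ⟨h, rfl⟩ := MulAction.exists_smul_eq ↥T ω ω'
    have hfix' : (eT.symm t) • (h • ω) = h • ω := hfix
    have hmem : h⁻¹ * eT.symm t * h ∈ MulAction.stabilizer ↥T ω := by
      rw [MulAction.mem_stabilizer_iff, mul_smul, mul_smul, hfix', inv_smul_smul]
    apply hconj (eT h)
    refine ⟨h⁻¹ * eT.symm t * h, hmem, ?_⟩
    simp

/-- **(M6)** from (P0) and (M6C), helper9's shape. -/
theorem m6_of (p0 : P0Stmt.{u, v}) (core : M6CoreStmt) : M6Stmt.{u, v} := by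
  intro G Ω _ _ _ _ _ T hT eT hprim hΩ r hr hrd hmax
  haveI : MulAction.IsPretransitive ↥T Ω := p0 T hT 6 (by norm_num) eT hprim hΩ
  have hne : Nonempty Ω := by
    rw [← Finite.card_pos_iff]
    omega
  obtain ⟨ω⟩ := hne
  have hidx : ((MulAction.stabilizer ↥T ω).map eT.toMonoidHom).index = Nat.card Ω := by
    have h1 : ((MulAction.stabilizer ↥T ω).map eT.toMonoidHom).index
        = (MulAction.stabilizer ↥T ω).index := Subgroup.index_map_equiv _ eT
    rw [h1, MulAction.index_stabilizer_of_transitive]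
  have hKne : (MulAction.stabilizer ↥T ω).map eT.toMonoidHom ≠ ⊤ := by
    intro h
    rw [h, Subgroup.index_top] at hidx
    omega
  obtain ⟨t, ht, hconj⟩ := core _ r hKne hr (by rw [hidx]; exact hrd)
    (by intro s hs hd; rw [hidx] at hd; exact hmax s hs hd)
  exact exists_derangement_of_core T eT ω r t ht hconj

end Cfsg.Agent.Lib.H20.S3571M6
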