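import Cfsg.Agent.Lib.H9.S3571Defs

/-!
# S3571, GROUP block, piece (M6C): sub-cases `r = 5`, `r = 2` and the assembly of (M6C)

Inside `A_6` (order `360`): `K` a subgroup, `r` the largest prime divisor of its index.
* `r = 5`: `25 ∤ 360`, so `5 ∤ |K|`; any element of order `5` (Cauchy) has no conjugate in `K`.
* `r = 2`: the index divides `8`; `A_6` is simple, so it embeds in `Sym(A_6/K)` and `360 ∣ index!`,
  whence `index = 8`, `|K| = 45` is odd; any involution has no conjugate in `K`.
* `r = 3` is an input (`helper12`'s piece), and `r ∣ 360` forces `r ∈ {2, 3, 5}`.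
-/

set_option autoImplicit false

namespace Cfsg.Agent.Lib.H20.S3571M6C25

open Cfsg.Agent.Lib.H9.S3571 Equiv

/-- `|A_6| = 360`. -/
theorem card_A6 : Nat.card ↥(alternatingGroup (Fin 6)) = 360 := by
  have h := two_mul_nat_card_alternatingGroup (α := Fin 6)
  rw [Nat.card_perm, Nat.card_fin] at h
  have h6 : Nat.factorial 6 = 720 := by decide
  omega

theorem index_mul_card (K : Subgroup ↥(alternatingGroup (Fin 6))) :
    K.index * Nat.card ↥K = 360 := by
  rw [Subgroup.index_mul_card, card_A6]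

/-- (L1) if `r ∤ |K|`, an element of order `r` has no conjugate in `K`. -/
theorem no_conj_of_not_dvd {A : Type*} [Group A] (K : Subgroup A) (r : ℕ) (t : A)
    (ht : orderOf t = r) (hr : ¬ r ∣ Nat.card ↥K) : ∀ g : A, g⁻¹ * t * g ∉ K := by
  intro g hg
  apply hr
  have h1 : orderOf (g⁻¹ * t * g) = orderOf t := by
    have := (MulAut.conj g⁻¹).orderOf_eq t
    simpa [MulAut.conj_apply] using this
  rw [← ht, ← h1]
  exact Subgroup.orderOf_dvd_natCard K hg

/-- Cauchy in `A_6` together with (L1). -/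
theorem exists_of_not_dvd (K : Subgroup ↥(alternatingGroup (Fin 6))) (r : ℕ) (hr : r.Prime)
    (hr360 : r ∣ 360) (hK : ¬ r ∣ Nat.card ↥K) :
    ∃ t : ↥(alternatingGroup (Fin 6)), orderOf t = r ∧ ∀ g, g⁻¹ * t * g ∉ K := by
  have : Fact r.Prime := ⟨hr⟩
  obtain ⟨t, ht⟩ := exists_prime_orderOf_dvd_card' (G := ↥(alternatingGroup (Fin 6))) r
    (by rw [card_A6]; exact hr360)
  exact ⟨t, ht, no_conj_of_not_dvd K r t ht hK⟩

/-- **(M6C), `r = 5`.** -/
theorem m6c5 (K : Subgroup ↥(alternatingGroup (Fin 6))) (h5 : 5 ∣ K.index) :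
    ∃ t : ↥(alternatingGroup (Fin 6)), orderOf t = 5 ∧ ∀ g, g⁻¹ * t * g ∉ K := by
  apply exists_of_not_dvd K 5 (by norm_num) (by norm_num)
  intro h
  have h25 : 5 * 5 ∣ K.index * Nat.card ↥K := Nat.mul_dvd_mul h5 h
  rw [index_mul_card] at h25
  omega

/-- `A_6` embeds into the symmetric group on the cosets of a proper subgroup. -/
theorem card_dvd_factorial_index (K : Subgroup ↥(alternatingGroup (Fin 6))) (hK : K ≠ ⊤) :
    360 ∣ Nat.factorial K.index := by
  have : IsSimpleGroup ↥(alternatingGroup (Fin 6)) :=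
    alternatingGroup.isSimpleGroup (by simp)
  have hcore : K.normalCore = ⊥ := by
    rcases IsSimpleGroup.eq_bot_or_eq_top_of_normal K.normalCore inferInstance with h | h
    · exact h
    · exfalso
      apply hK
      rw [eq_top_iff, ← h]
      exact Subgroup.normalCore_le K
  have hinj : Function.Injective
      (MulAction.toPermHom ↥(alternatingGroup (Fin 6)) (↥(alternatingGroup (Fin 6)) ⧸ K)) := by
    rw [← MonoidHom.ker_eq_bot_iff, ← Subgroup.normalCore_eq_ker, hcore]
  have h := Subgroup.card_dvd_of_injective _ hinj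
  rw [card_A6, Nat.card_perm, ← Subgroup.index_eq_card] at h
  exact h

/-- **(M6C), `r = 2`.** -/
theorem m6c2 (K : Subgroup ↥(alternatingGroup (Fin 6))) (hK : K ≠ ⊤)
    (h2 : ∀ s : ℕ, s.Prime → s ∣ K.index → s ≤ 2) :
    ∃ t : ↥(alternatingGroup (Fin 6)), orderOf t = 2 ∧ ∀ g, g⁻¹ * t * g ∉ K := by
  apply exists_of_not_dvd K 2 (by norm_num) (by norm_num)
  have h3 : ¬ 3 ∣ K.index := fun h => by
    have := h2 3 (by norm_num) h
    omega
  have h5 : ¬ 5 ∣ K.index := fun h => by
    have := h2 5 (by norm_num) h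
    omega
  have hc3 : Nat.Coprime K.index 3 :=
    ((Nat.Prime.coprime_iff_not_dvd (by norm_num)).2 h3).symm
  have hc5 : Nat.Coprime K.index 5 :=
    ((Nat.Prime.coprime_iff_not_dvd (by norm_num)).2 h5).symm
  have hc45 : Nat.Coprime K.index 45 := by
    have : (45 : ℕ) = 3 * 3 * 5 := by norm_num
    rw [this]
    exact (hc3.mul_right hc3).mul_right hc5
  have hd360 : K.index ∣ 8 * 45 := by
    have : (8 : ℕ) * 45 = 360 := by norm_num
    rw [this, ← index_mul_card K]
    exact Dvd.intro _ rfl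
  have hd8 : K.index ∣ 8 := hc45.dvd_of_dvd_mul_right hd360
  have hle : K.index ≤ 8 := Nat.le_of_dvd (by norm_num) hd8
  have hfac := card_dvd_factorial_index K hK
  have hne1 : K.index ≠ 1 := by
    intro h
    exact hK (Subgroup.index_eq_one.mp h)
  have hpos : K.index ≠ 0 := by
    intro h
    rw [h] at hd8
    omega
  have hidx : K.index = 8 := by
    generalize K.index = i at *
    interval_cases i
    all_goals first | rfl | omega | (exfalso; revert hfac; decide)
  have hcard := index_mul_card K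
  rw [hidx] at hcard
  intro hdvd
  omega

/-- **(M6C)** from the sub-case `r = 3`. -/
theorem m6core_of
    (c3 : ∀ K : Subgroup ↥(alternatingGroup (Fin 6)), K ≠ ⊤ → 3 ∣ K.index →
      ∃ t : ↥(alternatingGroup (Fin 6)), orderOf t = 3 ∧ ∀ g, g⁻¹ * t * g ∉ K) :
    M6CoreStmt := by
  intro K r hK hr hrd hmax
  have hr360 : r ∣ 2 ^ 3 * 3 ^ 2 * 5 := by
    have h1 : K.index ∣ 360 := by
      rw [← index_mul_card K]
      exact Dvd.intro _ rfl
    have : (2 : ℕ) ^ 3 * 3 ^ 2 * 5 = 360 := by norm_num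
    rw [this]
    exact hrd.trans h1
  have hcases : r = 2 ∨ r = 3 ∨ r = 5 := by
    rcases (Nat.Prime.dvd_mul hr).1 hr360 with h | h
    · rcases (Nat.Prime.dvd_mul hr).1 h with h | h
      · left
        exact (Nat.prime_dvd_prime_iff_eq hr Nat.prime_two).1 (hr.dvd_of_dvd_pow h)
      · right; left
        exact (Nat.prime_dvd_prime_iff_eq hr Nat.prime_three).1 (hr.dvd_of_dvd_pow h)
    · right; right
      exact (Nat.prime_dvd_prime_iff_eq hr Nat.prime_five).1 h
  rcases hcases with rfl | rfl | rfl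
  · exact m6c2 K hK hmax
  · exact c3 K hK hrd
  · exact m6c5 K hrd

end Cfsg.Agent.Lib.H20.S3571M6C25
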