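import Mathlib

/-!
# S3571 (Sylvester-Schur block) prime chain, part 0

The primes of the chain with consecutive gaps `(q' - q)^3 ≤ q^2`, checked by `norm_num`.
-/

namespace Cfsg.Agent.Lib.H20.S3571PC

/-- Part 0 of the prime chain. -/
def part0 : List ℕ :=
  [11, 13, 17, 23, 31, 37, 47, 59, 73, 89, 107, 127, 151, 179, 199, 233, 269, 307, 349, 397, 449, 503, 563, 631, 701, 773, 857, 947, 1039, 1129, 1237, 1327, 1447, 1571, 1699, 1831, 1979, 2131, 2293, 2459, 2633, 2819, 3011, 3217, 3433, 3659, 3889, 4133, 4373, 4639, 4909, 5197, 5483, 5791, 6113, 6427, 6763, 7109, 7477, 7853, 8243, 8647, 9067, 9497, 9941, 10399, 10867, 11353, 11839, 12347, 12853, 13399, 13963, 14537, 15131, 15739, 16363, 16993, 17627, 18301, 18979, 19687, 20411, 21157, 21911, 22691, 23473, 24281, 25117, 25969, 26839, 27733, 28649, 29581, 30529, 31489, 32479, 33493, 34519, 35573]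

theorem prime_11 : Nat.Prime 11 := by norm_num
theorem prime_13 : Nat.Prime 13 := by norm_num
theorem prime_17 : Nat.Prime 17 := by norm_num
theorem prime_23 : Nat.Prime 23 := by norm_num
theorem prime_31 : Nat.Prime 31 := by norm_num
theorem prime_37 : Nat.Prime 37 := by norm_num
theorem prime_47 : Nat.Prime 47 := by norm_num
theorem prime_59 : Nat.Prime 59 := by norm_num
theorem prime_73 : Nat.Prime 73 := by norm_num
theorem prime_89 : Nat.Prime 89 := by norm_num
theorem prime_107 : Nat.Prime 107 := by norm_num
theorem prime_127 : Nat.Prime 127 := by norm_num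
theorem prime_151 : Nat.Prime 151 := by norm_num
theorem prime_179 : Nat.Prime 179 := by norm_num
theorem prime_199 : Nat.Prime 199 := by norm_num
theorem prime_233 : Nat.Prime 233 := by norm_num
theorem prime_269 : Nat.Prime 269 := by norm_num
theorem prime_307 : Nat.Prime 307 := by norm_num
theorem prime_349 : Nat.Prime 349 := by norm_num
theorem prime_397 : Nat.Prime 397 := by norm_num
theorem prime_449 : Nat.Prime 449 := by norm_num
theorem prime_503 : Nat.Prime 503 := by norm_num
theorem prime_563 : Nat.Prime 563 := by norm_num
theorem prime_631 : Nat.Prime 631 := by norm_num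
theorem prime_701 : Nat.Prime 701 := by norm_num
theorem prime_773 : Nat.Prime 773 := by norm_num
theorem prime_857 : Nat.Prime 857 := by norm_num
theorem prime_947 : Nat.Prime 947 := by norm_num
theorem prime_1039 : Nat.Prime 1039 := by norm_num
theorem prime_1129 : Nat.Prime 1129 := by norm_num
theorem prime_1237 : Nat.Prime 1237 := by norm_num
theorem prime_1327 : Nat.Prime 1327 := by norm_num
theorem prime_1447 : Nat.Prime 1447 := by norm_num
theorem prime_1571 : Nat.Prime 1571 := by norm_num
theorem prime_1699 : Nat.Prime 1699 := by norm_num
theorem prime_1831 : Nat.Prime 1831 := by norm_num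
theorem prime_1979 : Nat.Prime 1979 := by norm_num
theorem prime_2131 : Nat.Prime 2131 := by norm_num
theorem prime_2293 : Nat.Prime 2293 := by norm_num
theorem prime_2459 : Nat.Prime 2459 := by norm_num
theorem prime_2633 : Nat.Prime 2633 := by norm_num
theorem prime_2819 : Nat.Prime 2819 := by norm_num
theorem prime_3011 : Nat.Prime 3011 := by norm_num
theorem prime_3217 : Nat.Prime 3217 := by norm_num
theorem prime_3433 : Nat.Prime 3433 := by norm_num
theorem prime_3659 : Nat.Prime 3659 := by norm_num
theorem prime_3889 : Nat.Prime 3889 := by norm_num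
theorem prime_4133 : Nat.Prime 4133 := by norm_num
theorem prime_4373 : Nat.Prime 4373 := by norm_num
theorem prime_4639 : Nat.Prime 4639 := by norm_num
theorem prime_4909 : Nat.Prime 4909 := by norm_num
theorem prime_5197 : Nat.Prime 5197 := by norm_num
theorem prime_5483 : Nat.Prime 5483 := by norm_num
theorem prime_5791 : Nat.Prime 5791 := by norm_num
theorem prime_6113 : Nat.Prime 6113 := by norm_num
theorem prime_6427 : Nat.Prime 6427 := by norm_num
theorem prime_6763 : Nat.Prime 6763 := by norm_num
theorem prime_7109 : Nat.Prime 7109 := by norm_num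
theorem prime_7477 : Nat.Prime 7477 := by norm_num
theorem prime_7853 : Nat.Prime 7853 := by norm_num
theorem prime_8243 : Nat.Prime 8243 := by norm_num
theorem prime_8647 : Nat.Prime 8647 := by norm_num
theorem prime_9067 : Nat.Prime 9067 := by norm_num
theorem prime_9497 : Nat.Prime 9497 := by norm_num
theorem prime_9941 : Nat.Prime 9941 := by norm_num
theorem prime_10399 : Nat.Prime 10399 := by norm_num
theorem prime_10867 : Nat.Prime 10867 := by norm_num
theorem prime_11353 : Nat.Prime 11353 := by norm_num
theorem prime_11839 : Nat.Prime 11839 := by norm_num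
theorem prime_12347 : Nat.Prime 12347 := by norm_num
theorem prime_12853 : Nat.Prime 12853 := by norm_num
theorem prime_13399 : Nat.Prime 13399 := by norm_num
theorem prime_13963 : Nat.Prime 13963 := by norm_num
theorem prime_14537 : Nat.Prime 14537 := by norm_num
theorem prime_15131 : Nat.Prime 15131 := by norm_num
theorem prime_15739 : Nat.Prime 15739 := by norm_num
theorem prime_16363 : Nat.Prime 16363 := by norm_num
theorem prime_16993 : Nat.Prime 16993 := by norm_num
theorem prime_17627 : Nat.Prime 17627 := by norm_num
theorem prime_18301 : Nat.Prime 18301 := by norm_num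
theorem prime_18979 : Nat.Prime 18979 := by norm_num
theorem prime_19687 : Nat.Prime 19687 := by norm_num
theorem prime_20411 : Nat.Prime 20411 := by norm_num
theorem prime_21157 : Nat.Prime 21157 := by norm_num
theorem prime_21911 : Nat.Prime 21911 := by norm_num
theorem prime_22691 : Nat.Prime 22691 := by norm_num
theorem prime_23473 : Nat.Prime 23473 := by norm_num
theorem prime_24281 : Nat.Prime 24281 := by norm_num
theorem prime_25117 : Nat.Prime 25117 := by norm_num
theorem prime_25969 : Nat.Prime 25969 := by norm_num
theorem prime_26839 : Nat.Prime 26839 := by norm_num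
theorem prime_27733 : Nat.Prime 27733 := by norm_num
theorem prime_28649 : Nat.Prime 28649 := by norm_num
theorem prime_29581 : Nat.Prime 29581 := by norm_num
theorem prime_30529 : Nat.Prime 30529 := by norm_num
theorem prime_31489 : Nat.Prime 31489 := by norm_num
theorem prime_32479 : Nat.Prime 32479 := by norm_num
theorem prime_33493 : Nat.Prime 33493 := by norm_num
theorem prime_34519 : Nat.Prime 34519 := by norm_num
theorem prime_35573 : Nat.Prime 35573 := by norm_num

theorem primes0 : ∀ q ∈ part0, Nat.Prime q := by
  intro q hq
  simp only [part0, List.mem_cons, List.not_mem_nil, or_false] at hq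
  rcases hq with rfl | rfl | rfl | rfl | rfl | rfl | rfl | rfl | rfl | rfl | rfl | rfl | rfl | rfl | rfl | rfl | rfl | rfl | rfl | rfl | rfl | rfl | rfl | rfl | rfl | rfl | rfl | rfl | rfl | rfl | rfl | rfl | rfl | rfl | rfl | rfl | rfl | rfl | rfl | rfl | rfl | rfl | rfl | rfl | rfl | rfl | rfl | rfl | rfl | rfl | rfl | rfl | rfl | rfl | rfl | rfl | rfl | rfl | rfl | rfl | rfl | rfl | rfl | rfl | rfl | rfl | rfl | rfl | rfl | rfl | rfl | rfl | rfl | rfl | rfl | rfl | rfl | rfl | rfl | rfl | rfl | rfl | rfl | rfl | rfl | rfl | rfl | rfl | rfl | rfl | rfl | rfl | rfl | rfl | rfl | rfl | rfl | rfl | rfl | rfl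
  · exact prime_11
  · exact prime_13
  · exact prime_17
  · exact prime_23
  · exact prime_31
  · exact prime_37
  · exact prime_47
  · exact prime_59
  · exact prime_73
  · exact prime_89
  · exact prime_107
  · exact prime_127
  · exact prime_151
  · exact prime_179
  · exact prime_199
  · exact prime_233
  · exact prime_269
  · exact prime_307
  · exact prime_349
  · exact prime_397
  · exact prime_449
  · exact prime_503
  · exact prime_563
  · exact prime_631
  · exact prime_701
  · exact prime_773
  · exact prime_857
  · exact prime_947
  · exact prime_1039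
  · exact prime_1129
  · exact prime_1237
  · exact prime_1327
  · exact prime_1447
  · exact prime_1571
  · exact prime_1699
  · exact prime_1831
  · exact prime_1979
  · exact prime_2131
  · exact prime_2293
  · exact prime_2459
  · exact prime_2633
  · exact prime_2819
  · exact prime_3011
  · exact prime_3217
  · exact prime_3433
  · exact prime_3659
  · exact prime_3889
  · exact prime_4133
  · exact prime_4373
  · exact prime_4639
  · exact prime_4909
  · exact prime_5197
  · exact prime_5483
  · exact prime_5791
  · exact prime_6113
  · exact prime_6427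
  · exact prime_6763
  · exact prime_7109
  · exact prime_7477
  · exact prime_7853
  · exact prime_8243
  · exact prime_8647
  · exact prime_9067
  · exact prime_9497
  · exact prime_9941
  · exact prime_10399
  · exact prime_10867
  · exact prime_11353
  · exact prime_11839
  · exact prime_12347
  · exact prime_12853
  · exact prime_13399
  · exact prime_13963
  · exact prime_14537
  · exact prime_15131
  · exact prime_15739
  · exact prime_16363
  · exact prime_16993
  · exact prime_17627
  · exact prime_18301
  · exact prime_18979
  · exact prime_19687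
  · exact prime_20411
  · exact prime_21157
  · exact prime_21911
  · exact prime_22691
  · exact prime_23473
  · exact prime_24281
  · exact prime_25117
  · exact prime_25969
  · exact prime_26839
  · exact prime_27733
  · exact prime_28649
  · exact prime_29581
  · exact prime_30529
  · exact prime_31489
  · exact prime_32479
  · exact prime_33493
  · exact prime_34519
  · exact prime_35573

end Cfsg.Agent.Lib.H20.S3571PC
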