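import Mathlib

/-!
# S3571 (Sylvester-Schur block) prime chain, part 1

The primes of the chain with consecutive gaps `(q' - q)^3 ≤ q^2`, checked by `norm_num`.
-/

namespace Cfsg.Agent.Lib.H20.S3571PC

/-- Part 1 of the prime chain. -/
def part1 : List ℕ :=
  [36653, 37747, 38867, 40013, 41179, 42359, 43573, 44809, 46061, 47339, 48647, 49957, 51307, 52673, 54059, 55487, 56941, 58417, 59921, 61441, 62989, 64567, 66173, 67807, 69467, 71153, 72869, 74611, 76379, 78179, 79999, 81853, 83737, 85643, 87583, 89533, 91529, 93559, 95617, 97687, 99793, 101939, 104119, 106331, 108571, 110821, 113123, 115459, 117811, 120209, 122611, 125063, 127549, 130079, 132637, 135221, 137849, 140477, 143177, 145903, 148669, 151471, 154303, 157177, 160087, 163027, 165983, 169003, 172049, 175141, 178261, 181421, 184609, 187843, 191119, 194431, 197779, 201167, 204599, 208067, 211573, 215123, 218711, 222337, 226007, 229717, 233437, 237217, 241049, 244901, 248813, 252767, 256757, 260791, 264871, 268993, 273157, 277363, 281609, 285871]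

theorem prime_36653 : Nat.Prime 36653 := by norm_num
theorem prime_37747 : Nat.Prime 37747 := by norm_num
theorem prime_38867 : Nat.Prime 38867 := by norm_num
theorem prime_40013 : Nat.Prime 40013 := by norm_num
theorem prime_41179 : Nat.Prime 41179 := by norm_num
theorem prime_42359 : Nat.Prime 42359 := by norm_num
theorem prime_43573 : Nat.Prime 43573 := by norm_num
theorem prime_44809 : Nat.Prime 44809 := by norm_num
theorem prime_46061 : Nat.Prime 46061 := by norm_num
theorem prime_47339 : Nat.Prime 47339 := by norm_num
theorem prime_48647 : Nat.Prime 48647 := by norm_num
theorem prime_49957 : Nat.Prime 49957 := by norm_num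
theorem prime_51307 : Nat.Prime 51307 := by norm_num
theorem prime_52673 : Nat.Prime 52673 := by norm_num
theorem prime_54059 : Nat.Prime 54059 := by norm_num
theorem prime_55487 : Nat.Prime 55487 := by norm_num
theorem prime_56941 : Nat.Prime 56941 := by norm_num
theorem prime_58417 : Nat.Prime 58417 := by norm_num
theorem prime_59921 : Nat.Prime 59921 := by norm_num
theorem prime_61441 : Nat.Prime 61441 := by norm_num
theorem prime_62989 : Nat.Prime 62989 := by norm_num
theorem prime_64567 : Nat.Prime 64567 := by norm_num
theorem prime_66173 : Nat.Prime 66173 := by norm_num
theorem prime_67807 : Nat.Prime 67807 := by norm_num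
theorem prime_69467 : Nat.Prime 69467 := by norm_num
theorem prime_71153 : Nat.Prime 71153 := by norm_num
theorem prime_72869 : Nat.Prime 72869 := by norm_num
theorem prime_74611 : Nat.Prime 74611 := by norm_num
theorem prime_76379 : Nat.Prime 76379 := by norm_num
theorem prime_78179 : Nat.Prime 78179 := by norm_num
theorem prime_79999 : Nat.Prime 79999 := by norm_num
theorem prime_81853 : Nat.Prime 81853 := by norm_num
theorem prime_83737 : Nat.Prime 83737 := by norm_num
theorem prime_85643 : Nat.Prime 85643 := by norm_num
theorem prime_87583 : Nat.Prime 87583 := by norm_num
theorem prime_89533 : Nat.Prime 89533 := by norm_num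
theorem prime_91529 : Nat.Prime 91529 := by norm_num
theorem prime_93559 : Nat.Prime 93559 := by norm_num
theorem prime_95617 : Nat.Prime 95617 := by norm_num
theorem prime_97687 : Nat.Prime 97687 := by norm_num
theorem prime_99793 : Nat.Prime 99793 := by norm_num
theorem prime_101939 : Nat.Prime 101939 := by norm_num
theorem prime_104119 : Nat.Prime 104119 := by norm_num
theorem prime_106331 : Nat.Prime 106331 := by norm_num
theorem prime_108571 : Nat.Prime 108571 := by norm_num
theorem prime_110821 : Nat.Prime 110821 := by norm_num
theorem prime_113123 : Nat.Prime 113123 := by norm_num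
theorem prime_115459 : Nat.Prime 115459 := by norm_num
theorem prime_117811 : Nat.Prime 117811 := by norm_num
theorem prime_120209 : Nat.Prime 120209 := by norm_num
theorem prime_122611 : Nat.Prime 122611 := by norm_num
theorem prime_125063 : Nat.Prime 125063 := by norm_num
theorem prime_127549 : Nat.Prime 127549 := by norm_num
theorem prime_130079 : Nat.Prime 130079 := by norm_num
theorem prime_132637 : Nat.Prime 132637 := by norm_num
theorem prime_135221 : Nat.Prime 135221 := by norm_num
theorem prime_137849 : Nat.Prime 137849 := by norm_num
theorem prime_140477 : Nat.Prime 140477 := by norm_num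
theorem prime_143177 : Nat.Prime 143177 := by norm_num
theorem prime_145903 : Nat.Prime 145903 := by norm_num
theorem prime_148669 : Nat.Prime 148669 := by norm_num
theorem prime_151471 : Nat.Prime 151471 := by norm_num
theorem prime_154303 : Nat.Prime 154303 := by norm_num
theorem prime_157177 : Nat.Prime 157177 := by norm_num
theorem prime_160087 : Nat.Prime 160087 := by norm_num
theorem prime_163027 : Nat.Prime 163027 := by norm_num
theorem prime_165983 : Nat.Prime 165983 := by norm_num
theorem prime_169003 : Nat.Prime 169003 := by norm_num
theorem prime_172049 : Nat.Prime 172049 := by norm_num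
theorem prime_175141 : Nat.Prime 175141 := by norm_num
theorem prime_178261 : Nat.Prime 178261 := by norm_num
theorem prime_181421 : Nat.Prime 181421 := by norm_num
theorem prime_184609 : Nat.Prime 184609 := by norm_num
theorem prime_187843 : Nat.Prime 187843 := by norm_num
theorem prime_191119 : Nat.Prime 191119 := by norm_num
theorem prime_194431 : Nat.Prime 194431 := by norm_num
theorem prime_197779 : Nat.Prime 197779 := by norm_num
theorem prime_201167 : Nat.Prime 201167 := by norm_num
theorem prime_204599 : Nat.Prime 204599 := by norm_num
theorem prime_208067 : Nat.Prime 208067 := by norm_num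
theorem prime_211573 : Nat.Prime 211573 := by norm_num
theorem prime_215123 : Nat.Prime 215123 := by norm_num
theorem prime_218711 : Nat.Prime 218711 := by norm_num
theorem prime_222337 : Nat.Prime 222337 := by norm_num
theorem prime_226007 : Nat.Prime 226007 := by norm_num
theorem prime_229717 : Nat.Prime 229717 := by norm_num
theorem prime_233437 : Nat.Prime 233437 := by norm_num
theorem prime_237217 : Nat.Prime 237217 := by norm_num
theorem prime_241049 : Nat.Prime 241049 := by norm_num
theorem prime_244901 : Nat.Prime 244901 := by norm_num
theorem prime_248813 : Nat.Prime 248813 := by norm_num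
theorem prime_252767 : Nat.Prime 252767 := by norm_num
theorem prime_256757 : Nat.Prime 256757 := by norm_num
theorem prime_260791 : Nat.Prime 260791 := by norm_num
theorem prime_264871 : Nat.Prime 264871 := by norm_num
theorem prime_268993 : Nat.Prime 268993 := by norm_num
theorem prime_273157 : Nat.Prime 273157 := by norm_num
theorem prime_277363 : Nat.Prime 277363 := by norm_num
theorem prime_281609 : Nat.Prime 281609 := by norm_num
theorem prime_285871 : Nat.Prime 285871 := by norm_num

theorem primes1 : ∀ q ∈ part1, Nat.Prime q := by
  intro q hq
  simp only [part1, List.mem_cons, List.not_mem_nil, or_false] at hq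
  rcases hq with rfl | rfl | rfl | rfl | rfl | rfl | rfl | rfl | rfl | rfl | rfl | rfl | rfl | rfl | rfl | rfl | rfl | rfl | rfl | rfl | rfl | rfl | rfl | rfl | rfl | rfl | rfl | rfl | rfl | rfl | rfl | rfl | rfl | rfl | rfl | rfl | rfl | rfl | rfl | rfl | rfl | rfl | rfl | rfl | rfl | rfl | rfl | rfl | rfl | rfl | rfl | rfl | rfl | rfl | rfl | rfl | rfl | rfl | rfl | rfl | rfl | rfl | rfl | rfl | rfl | rfl | rfl | rfl | rfl | rfl | rfl | rfl | rfl | rfl | rfl | rfl | rfl | rfl | rfl | rfl | rfl | rfl | rfl | rfl | rfl | rfl | rfl | rfl | rfl | rfl | rfl | rfl | rfl | rfl | rfl | rfl | rfl | rfl | rfl | rfl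
  · exact prime_36653
  · exact prime_37747
  · exact prime_38867
  · exact prime_40013
  · exact prime_41179
  · exact prime_42359
  · exact prime_43573
  · exact prime_44809
  · exact prime_46061
  · exact prime_47339
  · exact prime_48647
  · exact prime_49957
  · exact prime_51307
  · exact prime_52673
  · exact prime_54059
  · exact prime_55487
  · exact prime_56941
  · exact prime_58417
  · exact prime_59921
  · exact prime_61441
  · exact prime_62989
  · exact prime_64567
  · exact prime_66173
  · exact prime_67807
  · exact prime_69467
  · exact prime_71153
  · exact prime_72869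
  · exact prime_74611
  · exact prime_76379
  · exact prime_78179
  · exact prime_79999
  · exact prime_81853
  · exact prime_83737
  · exact prime_85643
  · exact prime_87583
  · exact prime_89533
  · exact prime_91529
  · exact prime_93559
  · exact prime_95617
  · exact prime_97687
  · exact prime_99793
  · exact prime_101939
  · exact prime_104119
  · exact prime_106331
  · exact prime_108571
  · exact prime_110821
  · exact prime_113123
  · exact prime_115459
  · exact prime_117811
  · exact prime_120209
  · exact prime_122611
  · exact prime_125063
  · exact prime_127549
  · exact prime_130079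
  · exact prime_132637
  · exact prime_135221
  · exact prime_137849
  · exact prime_140477
  · exact prime_143177
  · exact prime_145903
  · exact prime_148669
  · exact prime_151471
  · exact prime_154303
  · exact prime_157177
  · exact prime_160087
  · exact prime_163027
  · exact prime_165983
  · exact prime_169003
  · exact prime_172049
  · exact prime_175141
  · exact prime_178261
  · exact prime_181421
  · exact prime_184609
  · exact prime_187843
  · exact prime_191119
  · exact prime_194431
  · exact prime_197779
  · exact prime_201167
  · exact prime_204599
  · exact prime_208067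
  · exact prime_211573
  · exact prime_215123
  · exact prime_218711
  · exact prime_222337
  · exact prime_226007
  · exact prime_229717
  · exact prime_233437
  · exact prime_237217
  · exact prime_241049
  · exact prime_244901
  · exact prime_248813
  · exact prime_252767
  · exact prime_256757
  · exact prime_260791
  · exact prime_264871
  · exact prime_268993
  · exact prime_273157
  · exact prime_277363
  · exact prime_281609
  · exact prime_285871

end Cfsg.Agent.Lib.H20.S3571PC
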