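import Mathlib

/-!
# S3571 (Sylvester-Schur block) prime chain, part 10

The primes of the chain with consecutive gaps `(q' - q)^3 ≤ q^2`, checked by `norm_num`.
-/

namespace Cfsg.Agent.Lib.H20.S3571PC

/-- Part 10 of the prime chain. -/
def part10 : List ℕ :=
  [36658631, 36768961, 36879533, 36990313, 37101329, 37212563, 37323991, 37435667, 37547561, 37659679, 37772023, 37884593, 37997389, 38110411, 38223641, 38337107, 38450777, 38564689, 38678833, 38793197, 38907779, 39022597, 39137641, 39252907, 39368393, 39484117, 39600061, 39716231, 39832603, 39949223, 40066051, 40183109, 40300411, 40417943, 40535717, 40653709, 40771937, 40890397, 41009081, 41127973, 41247113, 41366471, 41486057, 41605859, 41725913, 41846213, 41966699, 42087449, 42208421, 42329641, 42451069, 42572753, 42694637, 42816793, 42939179, 43061801, 43184653, 43307729, 43431029, 43554583, 43678361, 43802371, 43926611, 44051099, 44175829, 44300791, 44425991, 44551427, 44677099, 44803001, 44929103, 45055481, 45182077, 45308911, 45435997, 45563269, 45690833, 45818627, 45946633, 46074907, 46203407, 46332163, 46461133, 46590359, 46719811, 46849513, 46979453, 47109637, 47240071, 47370749, 47501659, 47632807, 47764207,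 47895823, 48027691, 48159803, 48292151, 48424757, 48557611, 48690661]

theorem prime_36658631 : Nat.Prime 36658631 := by norm_num
theorem prime_36768961 : Nat.Prime 36768961 := by norm_num
theorem prime_36879533 : Nat.Prime 36879533 := by norm_num
theorem prime_36990313 : Nat.Prime 36990313 := by norm_num
theorem prime_37101329 : Nat.Prime 37101329 := by norm_num
theorem prime_37212563 : Nat.Prime 37212563 := by norm_num
theorem prime_37323991 : Nat.Prime 37323991 := by norm_num
theorem prime_37435667 : Nat.Prime 37435667 := by norm_num
theorem prime_37547561 : Nat.Prime 37547561 := by norm_num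
theorem prime_37659679 : Nat.Prime 37659679 := by norm_num
theorem prime_37772023 : Nat.Prime 37772023 := by norm_num
theorem prime_37884593 : Nat.Prime 37884593 := by norm_num
theorem prime_37997389 : Nat.Prime 37997389 := by norm_num
theorem prime_38110411 : Nat.Prime 38110411 := by norm_num
theorem prime_38223641 : Nat.Prime 38223641 := by norm_num
theorem prime_38337107 : Nat.Prime 38337107 := by norm_num
theorem prime_38450777 : Nat.Prime 38450777 := by norm_num
theorem prime_38564689 : Nat.Prime 38564689 := by norm_num
theorem prime_38678833 : Nat.Prime 38678833 := by norm_num
theorem prime_38793197 : Nat.Prime 38793197 := by norm_num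
theorem prime_38907779 : Nat.Prime 38907779 := by norm_num
theorem prime_39022597 : Nat.Prime 39022597 := by norm_num
theorem prime_39137641 : Nat.Prime 39137641 := by norm_num
theorem prime_39252907 : Nat.Prime 39252907 := by norm_num
theorem prime_39368393 : Nat.Prime 39368393 := by norm_num
theorem prime_39484117 : Nat.Prime 39484117 := by norm_num
theorem prime_39600061 : Nat.Prime 39600061 := by norm_num
theorem prime_39716231 : Nat.Prime 39716231 := by norm_num
theorem prime_39832603 : Nat.Prime 39832603 := by norm_num
theorem prime_39949223 : Nat.Prime 39949223 := by norm_num
theorem prime_40066051 : Nat.Prime 40066051 := by norm_num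
theorem prime_40183109 : Nat.Prime 40183109 := by norm_num
theorem prime_40300411 : Nat.Prime 40300411 := by norm_num
theorem prime_40417943 : Nat.Prime 40417943 := by norm_num
theorem prime_40535717 : Nat.Prime 40535717 := by norm_num
theorem prime_40653709 : Nat.Prime 40653709 := by norm_num
theorem prime_40771937 : Nat.Prime 40771937 := by norm_num
theorem prime_40890397 : Nat.Prime 40890397 := by norm_num
theorem prime_41009081 : Nat.Prime 41009081 := by norm_num
theorem prime_41127973 : Nat.Prime 41127973 := by norm_num
theorem prime_41247113 : Nat.Prime 41247113 := by norm_num
theorem prime_41366471 : Nat.Prime 41366471 := by norm_num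
theorem prime_41486057 : Nat.Prime 41486057 := by norm_num
theorem prime_41605859 : Nat.Prime 41605859 := by norm_num
theorem prime_41725913 : Nat.Prime 41725913 := by norm_num
theorem prime_41846213 : Nat.Prime 41846213 := by norm_num
theorem prime_41966699 : Nat.Prime 41966699 := by norm_num
theorem prime_42087449 : Nat.Prime 42087449 := by norm_num
theorem prime_42208421 : Nat.Prime 42208421 := by norm_num
theorem prime_42329641 : Nat.Prime 42329641 := by norm_num
theorem prime_42451069 : Nat.Prime 42451069 := by norm_num
theorem prime_42572753 : Nat.Prime 42572753 := by norm_num
theorem prime_42694637 : Nat.Prime 42694637 := by norm_num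
theorem prime_42816793 : Nat.Prime 42816793 := by norm_num
theorem prime_42939179 : Nat.Prime 42939179 := by norm_num
theorem prime_43061801 : Nat.Prime 43061801 := by norm_num
theorem prime_43184653 : Nat.Prime 43184653 := by norm_num
theorem prime_43307729 : Nat.Prime 43307729 := by norm_num
theorem prime_43431029 : Nat.Prime 43431029 := by norm_num
theorem prime_43554583 : Nat.Prime 43554583 := by norm_num
theorem prime_43678361 : Nat.Prime 43678361 := by norm_num
theorem prime_43802371 : Nat.Prime 43802371 := by norm_num
theorem prime_43926611 : Nat.Prime 43926611 := by norm_num
theorem prime_44051099 : Nat.Prime 44051099 := by norm_num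
theorem prime_44175829 : Nat.Prime 44175829 := by norm_num
theorem prime_44300791 : Nat.Prime 44300791 := by norm_num
theorem prime_44425991 : Nat.Prime 44425991 := by norm_num
theorem prime_44551427 : Nat.Prime 44551427 := by norm_num
theorem prime_44677099 : Nat.Prime 44677099 := by norm_num
theorem prime_44803001 : Nat.Prime 44803001 := by norm_num
theorem prime_44929103 : Nat.Prime 44929103 := by norm_num
theorem prime_45055481 : Nat.Prime 45055481 := by norm_num
theorem prime_45182077 : Nat.Prime 45182077 := by norm_num
theorem prime_45308911 : Nat.Prime 45308911 := by norm_num
theorem prime_45435997 : Nat.Prime 45435997 := by norm_num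
theorem prime_45563269 : Nat.Prime 45563269 := by norm_num
theorem prime_45690833 : Nat.Prime 45690833 := by norm_num
theorem prime_45818627 : Nat.Prime 45818627 := by norm_num
theorem prime_45946633 : Nat.Prime 45946633 := by norm_num
theorem prime_46074907 : Nat.Prime 46074907 := by norm_num
theorem prime_46203407 : Nat.Prime 46203407 := by norm_num
theorem prime_46332163 : Nat.Prime 46332163 := by norm_num
theorem prime_46461133 : Nat.Prime 46461133 := by norm_num
theorem prime_46590359 : Nat.Prime 46590359 := by norm_num
theorem prime_46719811 : Nat.Prime 46719811 := by norm_num
theorem prime_46849513 : Nat.Prime 46849513 := by norm_num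
theorem prime_46979453 : Nat.Prime 46979453 := by norm_num
theorem prime_47109637 : Nat.Prime 47109637 := by norm_num
theorem prime_47240071 : Nat.Prime 47240071 := by norm_num
theorem prime_47370749 : Nat.Prime 47370749 := by norm_num
theorem prime_47501659 : Nat.Prime 47501659 := by norm_num
theorem prime_47632807 : Nat.Prime 47632807 := by norm_num
theorem prime_47764207 : Nat.Prime 47764207 := by norm_num
theorem prime_47895823 : Nat.Prime 47895823 := by norm_num
theorem prime_48027691 : Nat.Prime 48027691 := by norm_num
theorem prime_48159803 : Nat.Prime 48159803 := by norm_num
theorem prime_48292151 : Nat.Prime 48292151 := by norm_num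
theorem prime_48424757 : Nat.Prime 48424757 := by norm_num
theorem prime_48557611 : Nat.Prime 48557611 := by norm_num
theorem prime_48690661 : Nat.Prime 48690661 := by norm_num

theorem primes10 : ∀ q ∈ part10, Nat.Prime q := by
  intro q hq
  simp only [part10, List.mem_cons, List.not_mem_nil, or_false] at hq
  rcases hq with rfl | rfl | rfl | rfl | rfl | rfl | rfl | rfl | rfl | rfl | rfl | rfl | rfl | rfl | rfl | rfl | rfl | rfl | rfl | rfl | rfl | rfl | rfl | rfl | rfl | rfl | rfl | rfl | rfl | rfl | rfl | rfl | rfl | rfl | rfl | rfl | rfl | rfl | rfl | rfl | rfl | rfl | rfl | rfl | rfl | rfl | rfl | rfl | rfl | rfl | rfl | rfl | rfl | rfl | rfl | rfl | rfl | rfl | rfl | rfl | rfl | rfl | rfl | rfl | rfl | rfl | rfl | rfl | rfl | rfl | rfl | rfl | rfl | rfl | rfl | rfl | rfl | rfl | rfl | rfl | rfl | rfl | rfl | rfl | rfl | rfl | rfl | rfl | rfl | rfl | rfl | rfl | rfl | rfl | rfl | rfl | rfl | rfl | rfl | rfl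
  · exact prime_36658631
  · exact prime_36768961
  · exact prime_36879533
  · exact prime_36990313
  · exact prime_37101329
  · exact prime_37212563
  · exact prime_37323991
  · exact prime_37435667
  · exact prime_37547561
  · exact prime_37659679
  · exact prime_37772023
  · exact prime_37884593
  · exact prime_37997389
  · exact prime_38110411
  · exact prime_38223641
  · exact prime_38337107
  · exact prime_38450777
  · exact prime_38564689
  · exact prime_38678833
  · exact prime_38793197
  · exact prime_38907779
  · exact prime_39022597
  · exact prime_39137641
  · exact prime_39252907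
  · exact prime_39368393
  · exact prime_39484117
  · exact prime_39600061
  · exact prime_39716231
  · exact prime_39832603
  · exact prime_39949223
  · exact prime_40066051
  · exact prime_40183109
  · exact prime_40300411
  · exact prime_40417943
  · exact prime_40535717
  · exact prime_40653709
  · exact prime_40771937
  · exact prime_40890397
  · exact prime_41009081
  · exact prime_41127973
  · exact prime_41247113
  · exact prime_41366471
  · exact prime_41486057
  · exact prime_41605859
  · exact prime_41725913
  · exact prime_41846213
  · exact prime_41966699
  · exact prime_42087449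
  · exact prime_42208421
  · exact prime_42329641
  · exact prime_42451069
  · exact prime_42572753
  · exact prime_42694637
  · exact prime_42816793
  · exact prime_42939179
  · exact prime_43061801
  · exact prime_43184653
  · exact prime_43307729
  · exact prime_43431029
  · exact prime_43554583
  · exact prime_43678361
  · exact prime_43802371
  · exact prime_43926611
  · exact prime_44051099
  · exact prime_44175829
  · exact prime_44300791
  · exact prime_44425991
  · exact prime_44551427
  · exact prime_44677099
  · exact prime_44803001
  · exact prime_44929103
  · exact prime_45055481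
  · exact prime_45182077
  · exact prime_45308911
  · exact prime_45435997
  · exact prime_45563269
  · exact prime_45690833
  · exact prime_45818627
  · exact prime_45946633
  · exact prime_46074907
  · exact prime_46203407
  · exact prime_46332163
  · exact prime_46461133
  · exact prime_46590359
  · exact prime_46719811
  · exact prime_46849513
  · exact prime_46979453
  · exact prime_47109637
  · exact prime_47240071
  · exact prime_47370749
  · exact prime_47501659
  · exact prime_47632807
  · exact prime_47764207
  · exact prime_47895823
  · exact prime_48027691
  · exact prime_48159803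
  · exact prime_48292151
  · exact prime_48424757
  · exact prime_48557611
  · exact prime_48690661

end Cfsg.Agent.Lib.H20.S3571PC
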