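import Mathlib

/-!
# S3571 (Sylvester-Schur block) prime chain, part 11

The primes of the chain with consecutive gaps `(q' - q)^3 ≤ q^2`, checked by `norm_num`.
-/

namespace Cfsg.Agent.Lib.H20.S3571PC

/-- Part 11 of the prime chain. -/
def part11 : List ℕ :=
  [48823997, 48957577, 49091401, 49225471, 49359749, 49494301, 49629091, 49764137, 49899407, 50034917, 50170693, 50306719, 50442971, 50579483, 50716231, 50853241, 50990483, 51127927, 51265651, 51403591, 51541829, 51680309, 51819037, 51958021, 52097249, 52236739, 52376461, 52516447, 52656679, 52797149, 52937869, 53078849, 53220077, 53361559, 53503217, 53645203, 53787427, 53929907, 54072643, 54215617, 54358861, 54502351, 54646099, 54790079, 54934331, 55078823, 55223561, 55368559, 55513793, 55659299, 55805063, 55951061, 56097343, 56243881, 56390639, 56537681, 56684911, 56832473, 56980279, 57128339, 57276617, 57425197, 57574039, 57723139, 57872491, 58022101, 58171973, 58322081, 58472471, 58623119, 58774007, 58925173, 59076599, 59228249, 59380147, 59532337, 59684797, 59837521, 59990477, 60143669, 60297143, 60450889, 60604909, 60759199, 60913747, 61068559, 61223627, 61378951, 61534541, 61690379, 61846489, 62002879, 62159527,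 62316439, 62473603, 62631031, 62788717, 62946649, 63104887, 63263383]

theorem prime_48823997 : Nat.Prime 48823997 := by norm_num
theorem prime_48957577 : Nat.Prime 48957577 := by norm_num
theorem prime_49091401 : Nat.Prime 49091401 := by norm_num
theorem prime_49225471 : Nat.Prime 49225471 := by norm_num
theorem prime_49359749 : Nat.Prime 49359749 := by norm_num
theorem prime_49494301 : Nat.Prime 49494301 := by norm_num
theorem prime_49629091 : Nat.Prime 49629091 := by norm_num
theorem prime_49764137 : Nat.Prime 49764137 := by norm_num
theorem prime_49899407 : Nat.Prime 49899407 := by norm_num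
theorem prime_50034917 : Nat.Prime 50034917 := by norm_num
theorem prime_50170693 : Nat.Prime 50170693 := by norm_num
theorem prime_50306719 : Nat.Prime 50306719 := by norm_num
theorem prime_50442971 : Nat.Prime 50442971 := by norm_num
theorem prime_50579483 : Nat.Prime 50579483 := by norm_num
theorem prime_50716231 : Nat.Prime 50716231 := by norm_num
theorem prime_50853241 : Nat.Prime 50853241 := by norm_num
theorem prime_50990483 : Nat.Prime 50990483 := by norm_num
theorem prime_51127927 : Nat.Prime 51127927 := by norm_num
theorem prime_51265651 : Nat.Prime 51265651 := by norm_num
theorem prime_51403591 : Nat.Prime 51403591 := by norm_num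
theorem prime_51541829 : Nat.Prime 51541829 := by norm_num
theorem prime_51680309 : Nat.Prime 51680309 := by norm_num
theorem prime_51819037 : Nat.Prime 51819037 := by norm_num
theorem prime_51958021 : Nat.Prime 51958021 := by norm_num
theorem prime_52097249 : Nat.Prime 52097249 := by norm_num
theorem prime_52236739 : Nat.Prime 52236739 := by norm_num
theorem prime_52376461 : Nat.Prime 52376461 := by norm_num
theorem prime_52516447 : Nat.Prime 52516447 := by norm_num
theorem prime_52656679 : Nat.Prime 52656679 := by norm_num
theorem prime_52797149 : Nat.Prime 52797149 := by norm_num
theorem prime_52937869 : Nat.Prime 52937869 := by norm_num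
theorem prime_53078849 : Nat.Prime 53078849 := by norm_num
theorem prime_53220077 : Nat.Prime 53220077 := by norm_num
theorem prime_53361559 : Nat.Prime 53361559 := by norm_num
theorem prime_53503217 : Nat.Prime 53503217 := by norm_num
theorem prime_53645203 : Nat.Prime 53645203 := by norm_num
theorem prime_53787427 : Nat.Prime 53787427 := by norm_num
theorem prime_53929907 : Nat.Prime 53929907 := by norm_num
theorem prime_54072643 : Nat.Prime 54072643 := by norm_num
theorem prime_54215617 : Nat.Prime 54215617 := by norm_num
theorem prime_54358861 : Nat.Prime 54358861 := by norm_num
theorem prime_54502351 : Nat.Prime 54502351 := by norm_num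
theorem prime_54646099 : Nat.Prime 54646099 := by norm_num
theorem prime_54790079 : Nat.Prime 54790079 := by norm_num
theorem prime_54934331 : Nat.Prime 54934331 := by norm_num
theorem prime_55078823 : Nat.Prime 55078823 := by norm_num
theorem prime_55223561 : Nat.Prime 55223561 := by norm_num
theorem prime_55368559 : Nat.Prime 55368559 := by norm_num
theorem prime_55513793 : Nat.Prime 55513793 := by norm_num
theorem prime_55659299 : Nat.Prime 55659299 := by norm_num
theorem prime_55805063 : Nat.Prime 55805063 := by norm_num
theorem prime_55951061 : Nat.Prime 55951061 := by norm_num
theorem prime_56097343 : Nat.Prime 56097343 := by norm_num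
theorem prime_56243881 : Nat.Prime 56243881 := by norm_num
theorem prime_56390639 : Nat.Prime 56390639 := by norm_num
theorem prime_56537681 : Nat.Prime 56537681 := by norm_num
theorem prime_56684911 : Nat.Prime 56684911 := by norm_num
theorem prime_56832473 : Nat.Prime 56832473 := by norm_num
theorem prime_56980279 : Nat.Prime 56980279 := by norm_num
theorem prime_57128339 : Nat.Prime 57128339 := by norm_num
theorem prime_57276617 : Nat.Prime 57276617 := by norm_num
theorem prime_57425197 : Nat.Prime 57425197 := by norm_num
theorem prime_57574039 : Nat.Prime 57574039 := by norm_num
theorem prime_57723139 : Nat.Prime 57723139 := by norm_num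
theorem prime_57872491 : Nat.Prime 57872491 := by norm_num
theorem prime_58022101 : Nat.Prime 58022101 := by norm_num
theorem prime_58171973 : Nat.Prime 58171973 := by norm_num
theorem prime_58322081 : Nat.Prime 58322081 := by norm_num
theorem prime_58472471 : Nat.Prime 58472471 := by norm_num
theorem prime_58623119 : Nat.Prime 58623119 := by norm_num
theorem prime_58774007 : Nat.Prime 58774007 := by norm_num
theorem prime_58925173 : Nat.Prime 58925173 := by norm_num
theorem prime_59076599 : Nat.Prime 59076599 := by norm_num
theorem prime_59228249 : Nat.Prime 59228249 := by norm_num
theorem prime_59380147 : Nat.Prime 59380147 := by norm_num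
theorem prime_59532337 : Nat.Prime 59532337 := by norm_num
theorem prime_59684797 : Nat.Prime 59684797 := by norm_num
theorem prime_59837521 : Nat.Prime 59837521 := by norm_num
theorem prime_59990477 : Nat.Prime 59990477 := by norm_num
theorem prime_60143669 : Nat.Prime 60143669 := by norm_num
theorem prime_60297143 : Nat.Prime 60297143 := by norm_num
theorem prime_60450889 : Nat.Prime 60450889 := by norm_num
theorem prime_60604909 : Nat.Prime 60604909 := by norm_num
theorem prime_60759199 : Nat.Prime 60759199 := by norm_num
theorem prime_60913747 : Nat.Prime 60913747 := by norm_num
theorem prime_61068559 : Nat.Prime 61068559 := by norm_num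
theorem prime_61223627 : Nat.Prime 61223627 := by norm_num
theorem prime_61378951 : Nat.Prime 61378951 := by norm_num
theorem prime_61534541 : Nat.Prime 61534541 := by norm_num
theorem prime_61690379 : Nat.Prime 61690379 := by norm_num
theorem prime_61846489 : Nat.Prime 61846489 := by norm_num
theorem prime_62002879 : Nat.Prime 62002879 := by norm_num
theorem prime_62159527 : Nat.Prime 62159527 := by norm_num
theorem prime_62316439 : Nat.Prime 62316439 := by norm_num
theorem prime_62473603 : Nat.Prime 62473603 := by norm_num
theorem prime_62631031 : Nat.Prime 62631031 := by norm_num
theorem prime_62788717 : Nat.Prime 62788717 := by norm_num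
theorem prime_62946649 : Nat.Prime 62946649 := by norm_num
theorem prime_63104887 : Nat.Prime 63104887 := by norm_num
theorem prime_63263383 : Nat.Prime 63263383 := by norm_num

theorem primes11 : ∀ q ∈ part11, Nat.Prime q := by
  intro q hq
  simp only [part11, List.mem_cons, List.not_mem_nil, or_false] at hq
  rcases hq with rfl | rfl | rfl | rfl | rfl | rfl | rfl | rfl | rfl | rfl | rfl | rfl | rfl | rfl | rfl | rfl | rfl | rfl | rfl | rfl | rfl | rfl | rfl | rfl | rfl | rfl | rfl | rfl | rfl | rfl | rfl | rfl | rfl | rfl | rfl | rfl | rfl | rfl | rfl | rfl | rfl | rfl | rfl | rfl | rfl | rfl | rfl | rfl | rfl | rfl | rfl | rfl | rfl | rfl | rfl | rfl | rfl | rfl | rfl | rfl | rfl | rfl | rfl | rfl | rfl | rfl | rfl | rfl | rfl | rfl | rfl | rfl | rfl | rfl | rfl | rfl | rfl | rfl | rfl | rfl | rfl | rfl | rfl | rfl | rfl | rfl | rfl | rfl | rfl | rfl | rfl | rfl | rfl | rfl | rfl | rfl | rfl | rfl | rfl | rfl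
  · exact prime_48823997
  · exact prime_48957577
  · exact prime_49091401
  · exact prime_49225471
  · exact prime_49359749
  · exact prime_49494301
  · exact prime_49629091
  · exact prime_49764137
  · exact prime_49899407
  · exact prime_50034917
  · exact prime_50170693
  · exact prime_50306719
  · exact prime_50442971
  · exact prime_50579483
  · exact prime_50716231
  · exact prime_50853241
  · exact prime_50990483
  · exact prime_51127927
  · exact prime_51265651
  · exact prime_51403591
  · exact prime_51541829
  · exact prime_51680309
  · exact prime_51819037
  · exact prime_51958021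
  · exact prime_52097249
  · exact prime_52236739
  · exact prime_52376461
  · exact prime_52516447
  · exact prime_52656679
  · exact prime_52797149
  · exact prime_52937869
  · exact prime_53078849
  · exact prime_53220077
  · exact prime_53361559
  · exact prime_53503217
  · exact prime_53645203
  · exact prime_53787427
  · exact prime_53929907
  · exact prime_54072643
  · exact prime_54215617
  · exact prime_54358861
  · exact prime_54502351
  · exact prime_54646099
  · exact prime_54790079
  · exact prime_54934331
  · exact prime_55078823
  · exact prime_55223561
  · exact prime_55368559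
  · exact prime_55513793
  · exact prime_55659299
  · exact prime_55805063
  · exact prime_55951061
  · exact prime_56097343
  · exact prime_56243881
  · exact prime_56390639
  · exact prime_56537681
  · exact prime_56684911
  · exact prime_56832473
  · exact prime_56980279
  · exact prime_57128339
  · exact prime_57276617
  · exact prime_57425197
  · exact prime_57574039
  · exact prime_57723139
  · exact prime_57872491
  · exact prime_58022101
  · exact prime_58171973
  · exact prime_58322081
  · exact prime_58472471
  · exact prime_58623119
  · exact prime_58774007
  · exact prime_58925173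
  · exact prime_59076599
  · exact prime_59228249
  · exact prime_59380147
  · exact prime_59532337
  · exact prime_59684797
  · exact prime_59837521
  · exact prime_59990477
  · exact prime_60143669
  · exact prime_60297143
  · exact prime_60450889
  · exact prime_60604909
  · exact prime_60759199
  · exact prime_60913747
  · exact prime_61068559
  · exact prime_61223627
  · exact prime_61378951
  · exact prime_61534541
  · exact prime_61690379
  · exact prime_61846489
  · exact prime_62002879
  · exact prime_62159527
  · exact prime_62316439
  · exact prime_62473603
  · exact prime_62631031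
  · exact prime_62788717
  · exact prime_62946649
  · exact prime_63104887
  · exact prime_63263383

end Cfsg.Agent.Lib.H20.S3571PC
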