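import Mathlib

/-!
# S3571 (Sylvester-Schur block) prime chain, part 12

The primes of the chain with consecutive gaps `(q' - q)^3 ≤ q^2`, checked by `norm_num`.
-/

namespace Cfsg.Agent.Lib.H20.S3571PC

/-- Part 12 of the prime chain. -/
def part12 : List ℕ :=
  [63422141, 63581149, 63740449, 63900013, 64059833, 64219927, 64380293, 64540907, 64701797, 64862951, 65024369, 65186063, 65348009, 65510243, 65672729, 65835479, 65998511, 66161813, 66325373, 66489217, 66653299, 66817669, 66982327, 67147247, 67312429, 67477889, 67643633, 67809649, 67975931, 68142479, 68309303, 68476393, 68643737, 68811317, 68979223, 69147401, 69315863, 69484579, 69653587, 69822839, 69992393, 70162217, 70332323, 70502687, 70673297, 70844183, 71015387, 71186861, 71358613, 71530637, 71702927, 71875513, 72048377, 72221507, 72394913, 72568609, 72742577, 72916799, 73091327, 73266133, 73441217, 73616567, 73792193, 73968119, 74144321, 74320801, 74497567, 74674609, 74851927, 75029491, 75207373, 75385537, 75563989, 75742717, 75921733, 76101031, 76280609, 76460437, 76640581, 76821001, 77001709, 77182577, 77363849, 77545409, 77727253, 77909357, 78091771, 78274463, 78457447, 78640697, 78824219, 79008047, 79192163,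 79376573, 79561267, 79746239, 79931503, 80117033, 80302877, 80488987]

theorem prime_63422141 : Nat.Prime 63422141 := by norm_num
theorem prime_63581149 : Nat.Prime 63581149 := by norm_num
theorem prime_63740449 : Nat.Prime 63740449 := by norm_num
theorem prime_63900013 : Nat.Prime 63900013 := by norm_num
theorem prime_64059833 : Nat.Prime 64059833 := by norm_num
theorem prime_64219927 : Nat.Prime 64219927 := by norm_num
theorem prime_64380293 : Nat.Prime 64380293 := by norm_num
theorem prime_64540907 : Nat.Prime 64540907 := by norm_num
theorem prime_64701797 : Nat.Prime 64701797 := by norm_num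
theorem prime_64862951 : Nat.Prime 64862951 := by norm_num
theorem prime_65024369 : Nat.Prime 65024369 := by norm_num
theorem prime_65186063 : Nat.Prime 65186063 := by norm_num
theorem prime_65348009 : Nat.Prime 65348009 := by norm_num
theorem prime_65510243 : Nat.Prime 65510243 := by norm_num
theorem prime_65672729 : Nat.Prime 65672729 := by norm_num
theorem prime_65835479 : Nat.Prime 65835479 := by norm_num
theorem prime_65998511 : Nat.Prime 65998511 := by norm_num
theorem prime_66161813 : Nat.Prime 66161813 := by norm_num
theorem prime_66325373 : Nat.Prime 66325373 := by norm_num
theorem prime_66489217 : Nat.Prime 66489217 := by norm_num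
theorem prime_66653299 : Nat.Prime 66653299 := by norm_num
theorem prime_66817669 : Nat.Prime 66817669 := by norm_num
theorem prime_66982327 : Nat.Prime 66982327 := by norm_num
theorem prime_67147247 : Nat.Prime 67147247 := by norm_num
theorem prime_67312429 : Nat.Prime 67312429 := by norm_num
theorem prime_67477889 : Nat.Prime 67477889 := by norm_num
theorem prime_67643633 : Nat.Prime 67643633 := by norm_num
theorem prime_67809649 : Nat.Prime 67809649 := by norm_num
theorem prime_67975931 : Nat.Prime 67975931 := by norm_num
theorem prime_68142479 : Nat.Prime 68142479 := by norm_num
theorem prime_68309303 : Nat.Prime 68309303 := by norm_num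
theorem prime_68476393 : Nat.Prime 68476393 := by norm_num
theorem prime_68643737 : Nat.Prime 68643737 := by norm_num
theorem prime_68811317 : Nat.Prime 68811317 := by norm_num
theorem prime_68979223 : Nat.Prime 68979223 := by norm_num
theorem prime_69147401 : Nat.Prime 69147401 := by norm_num
theorem prime_69315863 : Nat.Prime 69315863 := by norm_num
theorem prime_69484579 : Nat.Prime 69484579 := by norm_num
theorem prime_69653587 : Nat.Prime 69653587 := by norm_num
theorem prime_69822839 : Nat.Prime 69822839 := by norm_num
theorem prime_69992393 : Nat.Prime 69992393 := by norm_num
theorem prime_70162217 : Nat.Prime 70162217 := by norm_num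
theorem prime_70332323 : Nat.Prime 70332323 := by norm_num
theorem prime_70502687 : Nat.Prime 70502687 := by norm_num
theorem prime_70673297 : Nat.Prime 70673297 := by norm_num
theorem prime_70844183 : Nat.Prime 70844183 := by norm_num
theorem prime_71015387 : Nat.Prime 71015387 := by norm_num
theorem prime_71186861 : Nat.Prime 71186861 := by norm_num
theorem prime_71358613 : Nat.Prime 71358613 := by norm_num
theorem prime_71530637 : Nat.Prime 71530637 := by norm_num
theorem prime_71702927 : Nat.Prime 71702927 := by norm_num
theorem prime_71875513 : Nat.Prime 71875513 := by norm_num
theorem prime_72048377 : Nat.Prime 72048377 := by norm_num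
theorem prime_72221507 : Nat.Prime 72221507 := by norm_num
theorem prime_72394913 : Nat.Prime 72394913 := by norm_num
theorem prime_72568609 : Nat.Prime 72568609 := by norm_num
theorem prime_72742577 : Nat.Prime 72742577 := by norm_num
theorem prime_72916799 : Nat.Prime 72916799 := by norm_num
theorem prime_73091327 : Nat.Prime 73091327 := by norm_num
theorem prime_73266133 : Nat.Prime 73266133 := by norm_num
theorem prime_73441217 : Nat.Prime 73441217 := by norm_num
theorem prime_73616567 : Nat.Prime 73616567 := by norm_num
theorem prime_73792193 : Nat.Prime 73792193 := by norm_num
theorem prime_73968119 : Nat.Prime 73968119 := by norm_num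
theorem prime_74144321 : Nat.Prime 74144321 := by norm_num
theorem prime_74320801 : Nat.Prime 74320801 := by norm_num
theorem prime_74497567 : Nat.Prime 74497567 := by norm_num
theorem prime_74674609 : Nat.Prime 74674609 := by norm_num
theorem prime_74851927 : Nat.Prime 74851927 := by norm_num
theorem prime_75029491 : Nat.Prime 75029491 := by norm_num
theorem prime_75207373 : Nat.Prime 75207373 := by norm_num
theorem prime_75385537 : Nat.Prime 75385537 := by norm_num
theorem prime_75563989 : Nat.Prime 75563989 := by norm_num
theorem prime_75742717 : Nat.Prime 75742717 := by norm_num
theorem prime_75921733 : Nat.Prime 75921733 := by norm_num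
theorem prime_76101031 : Nat.Prime 76101031 := by norm_num
theorem prime_76280609 : Nat.Prime 76280609 := by norm_num
theorem prime_76460437 : Nat.Prime 76460437 := by norm_num
theorem prime_76640581 : Nat.Prime 76640581 := by norm_num
theorem prime_76821001 : Nat.Prime 76821001 := by norm_num
theorem prime_77001709 : Nat.Prime 77001709 := by norm_num
theorem prime_77182577 : Nat.Prime 77182577 := by norm_num
theorem prime_77363849 : Nat.Prime 77363849 := by norm_num
theorem prime_77545409 : Nat.Prime 77545409 := by norm_num
theorem prime_77727253 : Nat.Prime 77727253 := by norm_num
theorem prime_77909357 : Nat.Prime 77909357 := by norm_num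
theorem prime_78091771 : Nat.Prime 78091771 := by norm_num
theorem prime_78274463 : Nat.Prime 78274463 := by norm_num
theorem prime_78457447 : Nat.Prime 78457447 := by norm_num
theorem prime_78640697 : Nat.Prime 78640697 := by norm_num
theorem prime_78824219 : Nat.Prime 78824219 := by norm_num
theorem prime_79008047 : Nat.Prime 79008047 := by norm_num
theorem prime_79192163 : Nat.Prime 79192163 := by norm_num
theorem prime_79376573 : Nat.Prime 79376573 := by norm_num
theorem prime_79561267 : Nat.Prime 79561267 := by norm_num
theorem prime_79746239 : Nat.Prime 79746239 := by norm_num
theorem prime_79931503 : Nat.Prime 79931503 := by norm_num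
theorem prime_80117033 : Nat.Prime 80117033 := by norm_num
theorem prime_80302877 : Nat.Prime 80302877 := by norm_num
theorem prime_80488987 : Nat.Prime 80488987 := by norm_num

theorem primes12 : ∀ q ∈ part12, Nat.Prime q := by
  intro q hq
  simp only [part12, List.mem_cons, List.not_mem_nil, or_false] at hq
  rcases hq with rfl | rfl | rfl | rfl | rfl | rfl | rfl | rfl | rfl | rfl | rfl | rfl | rfl | rfl | rfl | rfl | rfl | rfl | rfl | rfl | rfl | rfl | rfl | rfl | rfl | rfl | rfl | rfl | rfl | rfl | rfl | rfl | rfl | rfl | rfl | rfl | rfl | rfl | rfl | rfl | rfl | rfl | rfl | rfl | rfl | rfl | rfl | rfl | rfl | rfl | rfl | rfl | rfl | rfl | rfl | rfl | rfl | rfl | rfl | rfl | rfl | rfl | rfl | rfl | rfl | rfl | rfl | rfl | rfl | rfl | rfl | rfl | rfl | rfl | rfl | rfl | rfl | rfl | rfl | rfl | rfl | rfl | rfl | rfl | rfl | rfl | rfl | rfl | rfl | rfl | rfl | rfl | rfl | rfl | rfl | rfl | rfl | rfl | rfl | rfl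
  · exact prime_63422141
  · exact prime_63581149
  · exact prime_63740449
  · exact prime_63900013
  · exact prime_64059833
  · exact prime_64219927
  · exact prime_64380293
  · exact prime_64540907
  · exact prime_64701797
  · exact prime_64862951
  · exact prime_65024369
  · exact prime_65186063
  · exact prime_65348009
  · exact prime_65510243
  · exact prime_65672729
  · exact prime_65835479
  · exact prime_65998511
  · exact prime_66161813
  · exact prime_66325373
  · exact prime_66489217
  · exact prime_66653299
  · exact prime_66817669
  · exact prime_66982327
  · exact prime_67147247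
  · exact prime_67312429
  · exact prime_67477889
  · exact prime_67643633
  · exact prime_67809649
  · exact prime_67975931
  · exact prime_68142479
  · exact prime_68309303
  · exact prime_68476393
  · exact prime_68643737
  · exact prime_68811317
  · exact prime_68979223
  · exact prime_69147401
  · exact prime_69315863
  · exact prime_69484579
  · exact prime_69653587
  · exact prime_69822839
  · exact prime_69992393
  · exact prime_70162217
  · exact prime_70332323
  · exact prime_70502687
  · exact prime_70673297
  · exact prime_70844183
  · exact prime_71015387
  · exact prime_71186861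
  · exact prime_71358613
  · exact prime_71530637
  · exact prime_71702927
  · exact prime_71875513
  · exact prime_72048377
  · exact prime_72221507
  · exact prime_72394913
  · exact prime_72568609
  · exact prime_72742577
  · exact prime_72916799
  · exact prime_73091327
  · exact prime_73266133
  · exact prime_73441217
  · exact prime_73616567
  · exact prime_73792193
  · exact prime_73968119
  · exact prime_74144321
  · exact prime_74320801
  · exact prime_74497567
  · exact prime_74674609
  · exact prime_74851927
  · exact prime_75029491
  · exact prime_75207373
  · exact prime_75385537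
  · exact prime_75563989
  · exact prime_75742717
  · exact prime_75921733
  · exact prime_76101031
  · exact prime_76280609
  · exact prime_76460437
  · exact prime_76640581
  · exact prime_76821001
  · exact prime_77001709
  · exact prime_77182577
  · exact prime_77363849
  · exact prime_77545409
  · exact prime_77727253
  · exact prime_77909357
  · exact prime_78091771
  · exact prime_78274463
  · exact prime_78457447
  · exact prime_78640697
  · exact prime_78824219
  · exact prime_79008047
  · exact prime_79192163
  · exact prime_79376573
  · exact prime_79561267
  · exact prime_79746239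
  · exact prime_79931503
  · exact prime_80117033
  · exact prime_80302877
  · exact prime_80488987

end Cfsg.Agent.Lib.H20.S3571PC
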