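import Mathlib

/-!
# S3571 (Sylvester-Schur block) prime chain, part 13

The primes of the chain with consecutive gaps `(q' - q)^3 ≤ q^2`, checked by `norm_num`.
-/

namespace Cfsg.Agent.Lib.H20.S3571PC

/-- Part 13 of the prime chain. -/
def part13 : List ℕ :=
  [80675393, 80862091, 81049051, 81236329, 81423871, 81611729, 81799877, 81988303, 82177027, 82366021, 82555327, 82744897, 82934777, 83124953, 83315377, 83506127, 83697169, 83888507, 84080131, 84272021, 84464221, 84656717, 84849517, 85042603, 85235951, 85429579, 85623541, 85817803, 86012357, 86207183, 86402311, 86597729, 86793461, 86989421, 87185729, 87382343, 87579253, 87776443, 87973913, 88171717, 88369807, 88568203, 88766869, 88965857, 89165113, 89364697, 89564567, 89764739, 89965217, 90165979, 90367051, 90568409, 90770083, 90972053, 91174309, 91376869, 91579739, 91782893, 91986341, 92190113, 92394187, 92598557, 92803223, 93008197, 93213469, 93419009, 93624887, 93831071, 94037549, 94244333, 94451419, 94658807, 94866503, 95074501, 95282753, 95491351, 95700257, 95909477, 96118999, 96328823, 96538933, 96749371, 96960113, 97171157, 97382513, 97594171, 97806113, 98018383, 98230961, 98443847, 98657047, 98870507, 99084317, 99298439,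 99512867, 99727603, 99942629, 100157977, 100373621, 100589597]

theorem prime_80675393 : Nat.Prime 80675393 := by norm_num
theorem prime_80862091 : Nat.Prime 80862091 := by norm_num
theorem prime_81049051 : Nat.Prime 81049051 := by norm_num
theorem prime_81236329 : Nat.Prime 81236329 := by norm_num
theorem prime_81423871 : Nat.Prime 81423871 := by norm_num
theorem prime_81611729 : Nat.Prime 81611729 := by norm_num
theorem prime_81799877 : Nat.Prime 81799877 := by norm_num
theorem prime_81988303 : Nat.Prime 81988303 := by norm_num
theorem prime_82177027 : Nat.Prime 82177027 := by norm_num
theorem prime_82366021 : Nat.Prime 82366021 := by norm_num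
theorem prime_82555327 : Nat.Prime 82555327 := by norm_num
theorem prime_82744897 : Nat.Prime 82744897 := by norm_num
theorem prime_82934777 : Nat.Prime 82934777 := by norm_num
theorem prime_83124953 : Nat.Prime 83124953 := by norm_num
theorem prime_83315377 : Nat.Prime 83315377 := by norm_num
theorem prime_83506127 : Nat.Prime 83506127 := by norm_num
theorem prime_83697169 : Nat.Prime 83697169 := by norm_num
theorem prime_83888507 : Nat.Prime 83888507 := by norm_num
theorem prime_84080131 : Nat.Prime 84080131 := by norm_num
theorem prime_84272021 : Nat.Prime 84272021 := by norm_num
theorem prime_84464221 : Nat.Prime 84464221 := by norm_num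
theorem prime_84656717 : Nat.Prime 84656717 := by norm_num
theorem prime_84849517 : Nat.Prime 84849517 := by norm_num
theorem prime_85042603 : Nat.Prime 85042603 := by norm_num
theorem prime_85235951 : Nat.Prime 85235951 := by norm_num
theorem prime_85429579 : Nat.Prime 85429579 := by norm_num
theorem prime_85623541 : Nat.Prime 85623541 := by norm_num
theorem prime_85817803 : Nat.Prime 85817803 := by norm_num
theorem prime_86012357 : Nat.Prime 86012357 := by norm_num
theorem prime_86207183 : Nat.Prime 86207183 := by norm_num
theorem prime_86402311 : Nat.Prime 86402311 := by norm_num
theorem prime_86597729 : Nat.Prime 86597729 := by norm_num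
theorem prime_86793461 : Nat.Prime 86793461 := by norm_num
theorem prime_86989421 : Nat.Prime 86989421 := by norm_num
theorem prime_87185729 : Nat.Prime 87185729 := by norm_num
theorem prime_87382343 : Nat.Prime 87382343 := by norm_num
theorem prime_87579253 : Nat.Prime 87579253 := by norm_num
theorem prime_87776443 : Nat.Prime 87776443 := by norm_num
theorem prime_87973913 : Nat.Prime 87973913 := by norm_num
theorem prime_88171717 : Nat.Prime 88171717 := by norm_num
theorem prime_88369807 : Nat.Prime 88369807 := by norm_num
theorem prime_88568203 : Nat.Prime 88568203 := by norm_num
theorem prime_88766869 : Nat.Prime 88766869 := by norm_num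
theorem prime_88965857 : Nat.Prime 88965857 := by norm_num
theorem prime_89165113 : Nat.Prime 89165113 := by norm_num
theorem prime_89364697 : Nat.Prime 89364697 := by norm_num
theorem prime_89564567 : Nat.Prime 89564567 := by norm_num
theorem prime_89764739 : Nat.Prime 89764739 := by norm_num
theorem prime_89965217 : Nat.Prime 89965217 := by norm_num
theorem prime_90165979 : Nat.Prime 90165979 := by norm_num
theorem prime_90367051 : Nat.Prime 90367051 := by norm_num
theorem prime_90568409 : Nat.Prime 90568409 := by norm_num
theorem prime_90770083 : Nat.Prime 90770083 := by norm_num
theorem prime_90972053 : Nat.Prime 90972053 := by norm_num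
theorem prime_91174309 : Nat.Prime 91174309 := by norm_num
theorem prime_91376869 : Nat.Prime 91376869 := by norm_num
theorem prime_91579739 : Nat.Prime 91579739 := by norm_num
theorem prime_91782893 : Nat.Prime 91782893 := by norm_num
theorem prime_91986341 : Nat.Prime 91986341 := by norm_num
theorem prime_92190113 : Nat.Prime 92190113 := by norm_num
theorem prime_92394187 : Nat.Prime 92394187 := by norm_num
theorem prime_92598557 : Nat.Prime 92598557 := by norm_num
theorem prime_92803223 : Nat.Prime 92803223 := by norm_num
theorem prime_93008197 : Nat.Prime 93008197 := by norm_num
theorem prime_93213469 : Nat.Prime 93213469 := by norm_num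
theorem prime_93419009 : Nat.Prime 93419009 := by norm_num
theorem prime_93624887 : Nat.Prime 93624887 := by norm_num
theorem prime_93831071 : Nat.Prime 93831071 := by norm_num
theorem prime_94037549 : Nat.Prime 94037549 := by norm_num
theorem prime_94244333 : Nat.Prime 94244333 := by norm_num
theorem prime_94451419 : Nat.Prime 94451419 := by norm_num
theorem prime_94658807 : Nat.Prime 94658807 := by norm_num
theorem prime_94866503 : Nat.Prime 94866503 := by norm_num
theorem prime_95074501 : Nat.Prime 95074501 := by norm_num
theorem prime_95282753 : Nat.Prime 95282753 := by norm_num
theorem prime_95491351 : Nat.Prime 95491351 := by norm_num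
theorem prime_95700257 : Nat.Prime 95700257 := by norm_num
theorem prime_95909477 : Nat.Prime 95909477 := by norm_num
theorem prime_96118999 : Nat.Prime 96118999 := by norm_num
theorem prime_96328823 : Nat.Prime 96328823 := by norm_num
theorem prime_96538933 : Nat.Prime 96538933 := by norm_num
theorem prime_96749371 : Nat.Prime 96749371 := by norm_num
theorem prime_96960113 : Nat.Prime 96960113 := by norm_num
theorem prime_97171157 : Nat.Prime 97171157 := by norm_num
theorem prime_97382513 : Nat.Prime 97382513 := by norm_num
theorem prime_97594171 : Nat.Prime 97594171 := by norm_num
theorem prime_97806113 : Nat.Prime 97806113 := by norm_num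
theorem prime_98018383 : Nat.Prime 98018383 := by norm_num
theorem prime_98230961 : Nat.Prime 98230961 := by norm_num
theorem prime_98443847 : Nat.Prime 98443847 := by norm_num
theorem prime_98657047 : Nat.Prime 98657047 := by norm_num
theorem prime_98870507 : Nat.Prime 98870507 := by norm_num
theorem prime_99084317 : Nat.Prime 99084317 := by norm_num
theorem prime_99298439 : Nat.Prime 99298439 := by norm_num
theorem prime_99512867 : Nat.Prime 99512867 := by norm_num
theorem prime_99727603 : Nat.Prime 99727603 := by norm_num
theorem prime_99942629 : Nat.Prime 99942629 := by norm_num
theorem prime_100157977 : Nat.Prime 100157977 := by norm_num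
theorem prime_100373621 : Nat.Prime 100373621 := by norm_num
theorem prime_100589597 : Nat.Prime 100589597 := by norm_num

theorem primes13 : ∀ q ∈ part13, Nat.Prime q := by
  intro q hq
  simp only [part13, List.mem_cons, List.not_mem_nil, or_false] at hq
  rcases hq with rfl | rfl | rfl | rfl | rfl | rfl | rfl | rfl | rfl | rfl | rfl | rfl | rfl | rfl | rfl | rfl | rfl | rfl | rfl | rfl | rfl | rfl | rfl | rfl | rfl | rfl | rfl | rfl | rfl | rfl | rfl | rfl | rfl | rfl | rfl | rfl | rfl | rfl | rfl | rfl | rfl | rfl | rfl | rfl | rfl | rfl | rfl | rfl | rfl | rfl | rfl | rfl | rfl | rfl | rfl | rfl | rfl | rfl | rfl | rfl | rfl | rfl | rfl | rfl | rfl | rfl | rfl | rfl | rfl | rfl | rfl | rfl | rfl | rfl | rfl | rfl | rfl | rfl | rfl | rfl | rfl | rfl | rfl | rfl | rfl | rfl | rfl | rfl | rfl | rfl | rfl | rfl | rfl | rfl | rfl | rfl | rfl | rfl | rfl | rfl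
  · exact prime_80675393
  · exact prime_80862091
  · exact prime_81049051
  · exact prime_81236329
  · exact prime_81423871
  · exact prime_81611729
  · exact prime_81799877
  · exact prime_81988303
  · exact prime_82177027
  · exact prime_82366021
  · exact prime_82555327
  · exact prime_82744897
  · exact prime_82934777
  · exact prime_83124953
  · exact prime_83315377
  · exact prime_83506127
  · exact prime_83697169
  · exact prime_83888507
  · exact prime_84080131
  · exact prime_84272021
  · exact prime_84464221
  · exact prime_84656717
  · exact prime_84849517
  · exact prime_85042603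
  · exact prime_85235951
  · exact prime_85429579
  · exact prime_85623541
  · exact prime_85817803
  · exact prime_86012357
  · exact prime_86207183
  · exact prime_86402311
  · exact prime_86597729
  · exact prime_86793461
  · exact prime_86989421
  · exact prime_87185729
  · exact prime_87382343
  · exact prime_87579253
  · exact prime_87776443
  · exact prime_87973913
  · exact prime_88171717
  · exact prime_88369807
  · exact prime_88568203
  · exact prime_88766869
  · exact prime_88965857
  · exact prime_89165113
  · exact prime_89364697
  · exact prime_89564567
  · exact prime_89764739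
  · exact prime_89965217
  · exact prime_90165979
  · exact prime_90367051
  · exact prime_90568409
  · exact prime_90770083
  · exact prime_90972053
  · exact prime_91174309
  · exact prime_91376869
  · exact prime_91579739
  · exact prime_91782893
  · exact prime_91986341
  · exact prime_92190113
  · exact prime_92394187
  · exact prime_92598557
  · exact prime_92803223
  · exact prime_93008197
  · exact prime_93213469
  · exact prime_93419009
  · exact prime_93624887
  · exact prime_93831071
  · exact prime_94037549
  · exact prime_94244333
  · exact prime_94451419
  · exact prime_94658807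
  · exact prime_94866503
  · exact prime_95074501
  · exact prime_95282753
  · exact prime_95491351
  · exact prime_95700257
  · exact prime_95909477
  · exact prime_96118999
  · exact prime_96328823
  · exact prime_96538933
  · exact prime_96749371
  · exact prime_96960113
  · exact prime_97171157
  · exact prime_97382513
  · exact prime_97594171
  · exact prime_97806113
  · exact prime_98018383
  · exact prime_98230961
  · exact prime_98443847
  · exact prime_98657047
  · exact prime_98870507
  · exact prime_99084317
  · exact prime_99298439
  · exact prime_99512867
  · exact prime_99727603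
  · exact prime_99942629
  · exact prime_100157977
  · exact prime_100373621
  · exact prime_100589597

end Cfsg.Agent.Lib.H20.S3571PC
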