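import Mathlib

/-!
# S3571 (Sylvester-Schur block) prime chain, part 14

The primes of the chain with consecutive gaps `(q' - q)^3 ≤ q^2`, checked by `norm_num`.
-/

namespace Cfsg.Agent.Lib.H20.S3571PC

/-- Part 14 of the prime chain. -/
def part14 : List ℕ :=
  [100805863, 101022461, 101239351, 101456569, 101674091, 101891921, 102110069, 102328517, 102547259, 102766337, 102985733, 103205413, 103425409, 103645721, 103866359, 104087309, 104308579, 104530163, 104752033, 104974159, 105196667, 105419477, 105642617, 105866087, 106089829, 106313899, 106538297, 106763029, 106988039, 107213399, 107439071, 107665043, 107891359, 108117991, 108344939, 108572161, 108799709, 109027601, 109255813, 109484339, 109713173, 109942321, 110171813, 110401607, 110631709, 110862149, 111092911, 111324001, 111555349, 111787079, 112019123, 112251499, 112484143, 112717103, 112950443, 113184101, 113418079, 113652379, 113887003, 114121951, 114357197, 114592789, 114828709, 115064923, 115301489, 115538363, 115775581, 116013119, 116250977, 116489167, 116727647, 116966471, 117205609, 117445093, 117684911, 117925057, 118165511, 118406303, 118647383, 118888831, 119130607, 119372711, 119615149, 119857889, 120100969, 120344381, 120588121, 120832199, 121076609,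 121321339, 121566409, 121811801, 122057519, 122303579, 122549953, 122796671, 123043703, 123291053, 123538757, 123786799]

theorem prime_100805863 : Nat.Prime 100805863 := by norm_num
theorem prime_101022461 : Nat.Prime 101022461 := by norm_num
theorem prime_101239351 : Nat.Prime 101239351 := by norm_num
theorem prime_101456569 : Nat.Prime 101456569 := by norm_num
theorem prime_101674091 : Nat.Prime 101674091 := by norm_num
theorem prime_101891921 : Nat.Prime 101891921 := by norm_num
theorem prime_102110069 : Nat.Prime 102110069 := by norm_num
theorem prime_102328517 : Nat.Prime 102328517 := by norm_num
theorem prime_102547259 : Nat.Prime 102547259 := by norm_num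
theorem prime_102766337 : Nat.Prime 102766337 := by norm_num
theorem prime_102985733 : Nat.Prime 102985733 := by norm_num
theorem prime_103205413 : Nat.Prime 103205413 := by norm_num
theorem prime_103425409 : Nat.Prime 103425409 := by norm_num
theorem prime_103645721 : Nat.Prime 103645721 := by norm_num
theorem prime_103866359 : Nat.Prime 103866359 := by norm_num
theorem prime_104087309 : Nat.Prime 104087309 := by norm_num
theorem prime_104308579 : Nat.Prime 104308579 := by norm_num
theorem prime_104530163 : Nat.Prime 104530163 := by norm_num
theorem prime_104752033 : Nat.Prime 104752033 := by norm_num
theorem prime_104974159 : Nat.Prime 104974159 := by norm_num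
theorem prime_105196667 : Nat.Prime 105196667 := by norm_num
theorem prime_105419477 : Nat.Prime 105419477 := by norm_num
theorem prime_105642617 : Nat.Prime 105642617 := by norm_num
theorem prime_105866087 : Nat.Prime 105866087 := by norm_num
theorem prime_106089829 : Nat.Prime 106089829 := by norm_num
theorem prime_106313899 : Nat.Prime 106313899 := by norm_num
theorem prime_106538297 : Nat.Prime 106538297 := by norm_num
theorem prime_106763029 : Nat.Prime 106763029 := by norm_num
theorem prime_106988039 : Nat.Prime 106988039 := by norm_num
theorem prime_107213399 : Nat.Prime 107213399 := by norm_num
theorem prime_107439071 : Nat.Prime 107439071 := by norm_num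
theorem prime_107665043 : Nat.Prime 107665043 := by norm_num
theorem prime_107891359 : Nat.Prime 107891359 := by norm_num
theorem prime_108117991 : Nat.Prime 108117991 := by norm_num
theorem prime_108344939 : Nat.Prime 108344939 := by norm_num
theorem prime_108572161 : Nat.Prime 108572161 := by norm_num
theorem prime_108799709 : Nat.Prime 108799709 := by norm_num
theorem prime_109027601 : Nat.Prime 109027601 := by norm_num
theorem prime_109255813 : Nat.Prime 109255813 := by norm_num
theorem prime_109484339 : Nat.Prime 109484339 := by norm_num
theorem prime_109713173 : Nat.Prime 109713173 := by norm_num
theorem prime_109942321 : Nat.Prime 109942321 := by norm_num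
theorem prime_110171813 : Nat.Prime 110171813 := by norm_num
theorem prime_110401607 : Nat.Prime 110401607 := by norm_num
theorem prime_110631709 : Nat.Prime 110631709 := by norm_num
theorem prime_110862149 : Nat.Prime 110862149 := by norm_num
theorem prime_111092911 : Nat.Prime 111092911 := by norm_num
theorem prime_111324001 : Nat.Prime 111324001 := by norm_num
theorem prime_111555349 : Nat.Prime 111555349 := by norm_num
theorem prime_111787079 : Nat.Prime 111787079 := by norm_num
theorem prime_112019123 : Nat.Prime 112019123 := by norm_num
theorem prime_112251499 : Nat.Prime 112251499 := by norm_num
theorem prime_112484143 : Nat.Prime 112484143 := by norm_num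
theorem prime_112717103 : Nat.Prime 112717103 := by norm_num
theorem prime_112950443 : Nat.Prime 112950443 := by norm_num
theorem prime_113184101 : Nat.Prime 113184101 := by norm_num
theorem prime_113418079 : Nat.Prime 113418079 := by norm_num
theorem prime_113652379 : Nat.Prime 113652379 := by norm_num
theorem prime_113887003 : Nat.Prime 113887003 := by norm_num
theorem prime_114121951 : Nat.Prime 114121951 := by norm_num
theorem prime_114357197 : Nat.Prime 114357197 := by norm_num
theorem prime_114592789 : Nat.Prime 114592789 := by norm_num
theorem prime_114828709 : Nat.Prime 114828709 := by norm_num
theorem prime_115064923 : Nat.Prime 115064923 := by norm_num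
theorem prime_115301489 : Nat.Prime 115301489 := by norm_num
theorem prime_115538363 : Nat.Prime 115538363 := by norm_num
theorem prime_115775581 : Nat.Prime 115775581 := by norm_num
theorem prime_116013119 : Nat.Prime 116013119 := by norm_num
theorem prime_116250977 : Nat.Prime 116250977 := by norm_num
theorem prime_116489167 : Nat.Prime 116489167 := by norm_num
theorem prime_116727647 : Nat.Prime 116727647 := by norm_num
theorem prime_116966471 : Nat.Prime 116966471 := by norm_num
theorem prime_117205609 : Nat.Prime 117205609 := by norm_num
theorem prime_117445093 : Nat.Prime 117445093 := by norm_num
theorem prime_117684911 : Nat.Prime 117684911 := by norm_num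
theorem prime_117925057 : Nat.Prime 117925057 := by norm_num
theorem prime_118165511 : Nat.Prime 118165511 := by norm_num
theorem prime_118406303 : Nat.Prime 118406303 := by norm_num
theorem prime_118647383 : Nat.Prime 118647383 := by norm_num
theorem prime_118888831 : Nat.Prime 118888831 := by norm_num
theorem prime_119130607 : Nat.Prime 119130607 := by norm_num
theorem prime_119372711 : Nat.Prime 119372711 := by norm_num
theorem prime_119615149 : Nat.Prime 119615149 := by norm_num
theorem prime_119857889 : Nat.Prime 119857889 := by norm_num
theorem prime_120100969 : Nat.Prime 120100969 := by norm_num
theorem prime_120344381 : Nat.Prime 120344381 := by norm_num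
theorem prime_120588121 : Nat.Prime 120588121 := by norm_num
theorem prime_120832199 : Nat.Prime 120832199 := by norm_num
theorem prime_121076609 : Nat.Prime 121076609 := by norm_num
theorem prime_121321339 : Nat.Prime 121321339 := by norm_num
theorem prime_121566409 : Nat.Prime 121566409 := by norm_num
theorem prime_121811801 : Nat.Prime 121811801 := by norm_num
theorem prime_122057519 : Nat.Prime 122057519 := by norm_num
theorem prime_122303579 : Nat.Prime 122303579 := by norm_num
theorem prime_122549953 : Nat.Prime 122549953 := by norm_num
theorem prime_122796671 : Nat.Prime 122796671 := by norm_num
theorem prime_123043703 : Nat.Prime 123043703 := by norm_num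
theorem prime_123291053 : Nat.Prime 123291053 := by norm_num
theorem prime_123538757 : Nat.Prime 123538757 := by norm_num
theorem prime_123786799 : Nat.Prime 123786799 := by norm_num

theorem primes14 : ∀ q ∈ part14, Nat.Prime q := by
  intro q hq
  simp only [part14, List.mem_cons, List.not_mem_nil, or_false] at hq
  rcases hq with rfl | rfl | rfl | rfl | rfl | rfl | rfl | rfl | rfl | rfl | rfl | rfl | rfl | rfl | rfl | rfl | rfl | rfl | rfl | rfl | rfl | rfl | rfl | rfl | rfl | rfl | rfl | rfl | rfl | rfl | rfl | rfl | rfl | rfl | rfl | rfl | rfl | rfl | rfl | rfl | rfl | rfl | rfl | rfl | rfl | rfl | rfl | rfl | rfl | rfl | rfl | rfl | rfl | rfl | rfl | rfl | rfl | rfl | rfl | rfl | rfl | rfl | rfl | rfl | rfl | rfl | rfl | rfl | rfl | rfl | rfl | rfl | rfl | rfl | rfl | rfl | rfl | rfl | rfl | rfl | rfl | rfl | rfl | rfl | rfl | rfl | rfl | rfl | rfl | rfl | rfl | rfl | rfl | rfl | rfl | rfl | rfl | rfl | rfl | rfl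
  · exact prime_100805863
  · exact prime_101022461
  · exact prime_101239351
  · exact prime_101456569
  · exact prime_101674091
  · exact prime_101891921
  · exact prime_102110069
  · exact prime_102328517
  · exact prime_102547259
  · exact prime_102766337
  · exact prime_102985733
  · exact prime_103205413
  · exact prime_103425409
  · exact prime_103645721
  · exact prime_103866359
  · exact prime_104087309
  · exact prime_104308579
  · exact prime_104530163
  · exact prime_104752033
  · exact prime_104974159
  · exact prime_105196667
  · exact prime_105419477
  · exact prime_105642617
  · exact prime_105866087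
  · exact prime_106089829
  · exact prime_106313899
  · exact prime_106538297
  · exact prime_106763029
  · exact prime_106988039
  · exact prime_107213399
  · exact prime_107439071
  · exact prime_107665043
  · exact prime_107891359
  · exact prime_108117991
  · exact prime_108344939
  · exact prime_108572161
  · exact prime_108799709
  · exact prime_109027601
  · exact prime_109255813
  · exact prime_109484339
  · exact prime_109713173
  · exact prime_109942321
  · exact prime_110171813
  · exact prime_110401607
  · exact prime_110631709
  · exact prime_110862149
  · exact prime_111092911
  · exact prime_111324001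
  · exact prime_111555349
  · exact prime_111787079
  · exact prime_112019123
  · exact prime_112251499
  · exact prime_112484143
  · exact prime_112717103
  · exact prime_112950443
  · exact prime_113184101
  · exact prime_113418079
  · exact prime_113652379
  · exact prime_113887003
  · exact prime_114121951
  · exact prime_114357197
  · exact prime_114592789
  · exact prime_114828709
  · exact prime_115064923
  · exact prime_115301489
  · exact prime_115538363
  · exact prime_115775581
  · exact prime_116013119
  · exact prime_116250977
  · exact prime_116489167
  · exact prime_116727647
  · exact prime_116966471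
  · exact prime_117205609
  · exact prime_117445093
  · exact prime_117684911
  · exact prime_117925057
  · exact prime_118165511
  · exact prime_118406303
  · exact prime_118647383
  · exact prime_118888831
  · exact prime_119130607
  · exact prime_119372711
  · exact prime_119615149
  · exact prime_119857889
  · exact prime_120100969
  · exact prime_120344381
  · exact prime_120588121
  · exact prime_120832199
  · exact prime_121076609
  · exact prime_121321339
  · exact prime_121566409
  · exact prime_121811801
  · exact prime_122057519
  · exact prime_122303579
  · exact prime_122549953
  · exact prime_122796671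
  · exact prime_123043703
  · exact prime_123291053
  · exact prime_123538757
  · exact prime_123786799

end Cfsg.Agent.Lib.H20.S3571PC
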