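import Mathlib

/-!
# S3571 (Sylvester-Schur block) prime chain, part 15

The primes of the chain with consecutive gaps `(q' - q)^3 ≤ q^2`, checked by `norm_num`.
-/

namespace Cfsg.Agent.Lib.H20.S3571PC

/-- Part 15 of the prime chain. -/
def part15 : List ℕ :=
  [124035167, 124283843, 124532869, 124782209, 125031911, 125281939, 125532311, 125783003, 126034037, 126285409, 126537107, 126789149, 127041521, 127294231, 127547267, 127800643, 128054327, 128308381, 128562769, 128817487, 129072521, 129327917, 129583637, 129839683, 130096093, 130352839, 130609907, 130867267, 131125019, 131383117, 131641537, 131900303, 132159413, 132418859, 132678641, 132938761, 133199237, 133460051, 133721207, 133982677, 134244503]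

theorem prime_124035167 : Nat.Prime 124035167 := by norm_num
theorem prime_124283843 : Nat.Prime 124283843 := by norm_num
theorem prime_124532869 : Nat.Prime 124532869 := by norm_num
theorem prime_124782209 : Nat.Prime 124782209 := by norm_num
theorem prime_125031911 : Nat.Prime 125031911 := by norm_num
theorem prime_125281939 : Nat.Prime 125281939 := by norm_num
theorem prime_125532311 : Nat.Prime 125532311 := by norm_num
theorem prime_125783003 : Nat.Prime 125783003 := by norm_num
theorem prime_126034037 : Nat.Prime 126034037 := by norm_num
theorem prime_126285409 : Nat.Prime 126285409 := by norm_num
theorem prime_126537107 : Nat.Prime 126537107 := by norm_num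
theorem prime_126789149 : Nat.Prime 126789149 := by norm_num
theorem prime_127041521 : Nat.Prime 127041521 := by norm_num
theorem prime_127294231 : Nat.Prime 127294231 := by norm_num
theorem prime_127547267 : Nat.Prime 127547267 := by norm_num
theorem prime_127800643 : Nat.Prime 127800643 := by norm_num
theorem prime_128054327 : Nat.Prime 128054327 := by norm_num
theorem prime_128308381 : Nat.Prime 128308381 := by norm_num
theorem prime_128562769 : Nat.Prime 128562769 := by norm_num
theorem prime_128817487 : Nat.Prime 128817487 := by norm_num
theorem prime_129072521 : Nat.Prime 129072521 := by norm_num
theorem prime_129327917 : Nat.Prime 129327917 := by norm_num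
theorem prime_129583637 : Nat.Prime 129583637 := by norm_num
theorem prime_129839683 : Nat.Prime 129839683 := by norm_num
theorem prime_130096093 : Nat.Prime 130096093 := by norm_num
theorem prime_130352839 : Nat.Prime 130352839 := by norm_num
theorem prime_130609907 : Nat.Prime 130609907 := by norm_num
theorem prime_130867267 : Nat.Prime 130867267 := by norm_num
theorem prime_131125019 : Nat.Prime 131125019 := by norm_num
theorem prime_131383117 : Nat.Prime 131383117 := by norm_num
theorem prime_131641537 : Nat.Prime 131641537 := by norm_num
theorem prime_131900303 : Nat.Prime 131900303 := by norm_num
theorem prime_132159413 : Nat.Prime 132159413 := by norm_num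
theorem prime_132418859 : Nat.Prime 132418859 := by norm_num
theorem prime_132678641 : Nat.Prime 132678641 := by norm_num
theorem prime_132938761 : Nat.Prime 132938761 := by norm_num
theorem prime_133199237 : Nat.Prime 133199237 := by norm_num
theorem prime_133460051 : Nat.Prime 133460051 := by norm_num
theorem prime_133721207 : Nat.Prime 133721207 := by norm_num
theorem prime_133982677 : Nat.Prime 133982677 := by norm_num
theorem prime_134244503 : Nat.Prime 134244503 := by norm_num

theorem primes15 : ∀ q ∈ part15, Nat.Prime q := by
  intro q hq
  simp only [part15, List.mem_cons, List.not_mem_nil, or_false] at hq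
  rcases hq with rfl | rfl | rfl | rfl | rfl | rfl | rfl | rfl | rfl | rfl | rfl | rfl | rfl | rfl | rfl | rfl | rfl | rfl | rfl | rfl | rfl | rfl | rfl | rfl | rfl | rfl | rfl | rfl | rfl | rfl | rfl | rfl | rfl | rfl | rfl | rfl | rfl | rfl | rfl | rfl | rfl
  · exact prime_124035167
  · exact prime_124283843
  · exact prime_124532869
  · exact prime_124782209
  · exact prime_125031911
  · exact prime_125281939
  · exact prime_125532311
  · exact prime_125783003
  · exact prime_126034037
  · exact prime_126285409
  · exact prime_126537107
  · exact prime_126789149
  · exact prime_127041521
  · exact prime_127294231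
  · exact prime_127547267
  · exact prime_127800643
  · exact prime_128054327
  · exact prime_128308381
  · exact prime_128562769
  · exact prime_128817487
  · exact prime_129072521
  · exact prime_129327917
  · exact prime_129583637
  · exact prime_129839683
  · exact prime_130096093
  · exact prime_130352839
  · exact prime_130609907
  · exact prime_130867267
  · exact prime_131125019
  · exact prime_131383117
  · exact prime_131641537
  · exact prime_131900303
  · exact prime_132159413
  · exact prime_132418859
  · exact prime_132678641
  · exact prime_132938761
  · exact prime_133199237
  · exact prime_133460051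
  · exact prime_133721207
  · exact prime_133982677
  · exact prime_134244503

end Cfsg.Agent.Lib.H20.S3571PC
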