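import Mathlib

/-!
# S3571 (Sylvester-Schur block) prime chain, part 2

The primes of the chain with consecutive gaps `(q' - q)^3 ≤ q^2`, checked by `norm_num`.
-/

namespace Cfsg.Agent.Lib.H20.S3571PC

/-- Part 2 of the prime chain. -/
def part2 : List ℕ :=
  [290209, 294563, 298943, 303409, 307919, 312469, 317071, 321709, 326369, 331099, 335879, 340709, 345581, 350503, 355463, 360461, 365513, 370619, 375773, 380977, 386227, 391519, 396833, 402223, 407669, 413167, 418709, 424273, 429917, 435593, 441319, 447107, 452953, 458849, 464777, 470749, 476783, 482873, 489019, 495221, 501463, 507757, 514117, 520529, 526997, 533509, 540079, 546709, 553369, 560107, 566879, 573719, 580607, 587563, 594577, 601631, 608749, 615919, 623107, 630391, 637729, 645137, 652601, 660119, 667699, 675319, 683003, 690757, 698567, 706427, 714349, 722333, 730363, 738469, 746597, 754811, 763093, 771439, 779837, 788309, 796819, 805403, 814049, 822763, 831541, 840353, 849253, 858217, 867233, 876311, 885449, 894667, 903949, 913279, 922681, 932153, 941683, 951283, 960941, 970667]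

theorem prime_290209 : Nat.Prime 290209 := by norm_num
theorem prime_294563 : Nat.Prime 294563 := by norm_num
theorem prime_298943 : Nat.Prime 298943 := by norm_num
theorem prime_303409 : Nat.Prime 303409 := by norm_num
theorem prime_307919 : Nat.Prime 307919 := by norm_num
theorem prime_312469 : Nat.Prime 312469 := by norm_num
theorem prime_317071 : Nat.Prime 317071 := by norm_num
theorem prime_321709 : Nat.Prime 321709 := by norm_num
theorem prime_326369 : Nat.Prime 326369 := by norm_num
theorem prime_331099 : Nat.Prime 331099 := by norm_num
theorem prime_335879 : Nat.Prime 335879 := by norm_num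
theorem prime_340709 : Nat.Prime 340709 := by norm_num
theorem prime_345581 : Nat.Prime 345581 := by norm_num
theorem prime_350503 : Nat.Prime 350503 := by norm_num
theorem prime_355463 : Nat.Prime 355463 := by norm_num
theorem prime_360461 : Nat.Prime 360461 := by norm_num
theorem prime_365513 : Nat.Prime 365513 := by norm_num
theorem prime_370619 : Nat.Prime 370619 := by norm_num
theorem prime_375773 : Nat.Prime 375773 := by norm_num
theorem prime_380977 : Nat.Prime 380977 := by norm_num
theorem prime_386227 : Nat.Prime 386227 := by norm_num
theorem prime_391519 : Nat.Prime 391519 := by norm_num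
theorem prime_396833 : Nat.Prime 396833 := by norm_num
theorem prime_402223 : Nat.Prime 402223 := by norm_num
theorem prime_407669 : Nat.Prime 407669 := by norm_num
theorem prime_413167 : Nat.Prime 413167 := by norm_num
theorem prime_418709 : Nat.Prime 418709 := by norm_num
theorem prime_424273 : Nat.Prime 424273 := by norm_num
theorem prime_429917 : Nat.Prime 429917 := by norm_num
theorem prime_435593 : Nat.Prime 435593 := by norm_num
theorem prime_441319 : Nat.Prime 441319 := by norm_num
theorem prime_447107 : Nat.Prime 447107 := by norm_num
theorem prime_452953 : Nat.Prime 452953 := by norm_num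
theorem prime_458849 : Nat.Prime 458849 := by norm_num
theorem prime_464777 : Nat.Prime 464777 := by norm_num
theorem prime_470749 : Nat.Prime 470749 := by norm_num
theorem prime_476783 : Nat.Prime 476783 := by norm_num
theorem prime_482873 : Nat.Prime 482873 := by norm_num
theorem prime_489019 : Nat.Prime 489019 := by norm_num
theorem prime_495221 : Nat.Prime 495221 := by norm_num
theorem prime_501463 : Nat.Prime 501463 := by norm_num
theorem prime_507757 : Nat.Prime 507757 := by norm_num
theorem prime_514117 : Nat.Prime 514117 := by norm_num
theorem prime_520529 : Nat.Prime 520529 := by norm_num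
theorem prime_526997 : Nat.Prime 526997 := by norm_num
theorem prime_533509 : Nat.Prime 533509 := by norm_num
theorem prime_540079 : Nat.Prime 540079 := by norm_num
theorem prime_546709 : Nat.Prime 546709 := by norm_num
theorem prime_553369 : Nat.Prime 553369 := by norm_num
theorem prime_560107 : Nat.Prime 560107 := by norm_num
theorem prime_566879 : Nat.Prime 566879 := by norm_num
theorem prime_573719 : Nat.Prime 573719 := by norm_num
theorem prime_580607 : Nat.Prime 580607 := by norm_num
theorem prime_587563 : Nat.Prime 587563 := by norm_num
theorem prime_594577 : Nat.Prime 594577 := by norm_num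
theorem prime_601631 : Nat.Prime 601631 := by norm_num
theorem prime_608749 : Nat.Prime 608749 := by norm_num
theorem prime_615919 : Nat.Prime 615919 := by norm_num
theorem prime_623107 : Nat.Prime 623107 := by norm_num
theorem prime_630391 : Nat.Prime 630391 := by norm_num
theorem prime_637729 : Nat.Prime 637729 := by norm_num
theorem prime_645137 : Nat.Prime 645137 := by norm_num
theorem prime_652601 : Nat.Prime 652601 := by norm_num
theorem prime_660119 : Nat.Prime 660119 := by norm_num
theorem prime_667699 : Nat.Prime 667699 := by norm_num
theorem prime_675319 : Nat.Prime 675319 := by norm_num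
theorem prime_683003 : Nat.Prime 683003 := by norm_num
theorem prime_690757 : Nat.Prime 690757 := by norm_num
theorem prime_698567 : Nat.Prime 698567 := by norm_num
theorem prime_706427 : Nat.Prime 706427 := by norm_num
theorem prime_714349 : Nat.Prime 714349 := by norm_num
theorem prime_722333 : Nat.Prime 722333 := by norm_num
theorem prime_730363 : Nat.Prime 730363 := by norm_num
theorem prime_738469 : Nat.Prime 738469 := by norm_num
theorem prime_746597 : Nat.Prime 746597 := by norm_num
theorem prime_754811 : Nat.Prime 754811 := by norm_num
theorem prime_763093 : Nat.Prime 763093 := by norm_num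
theorem prime_771439 : Nat.Prime 771439 := by norm_num
theorem prime_779837 : Nat.Prime 779837 := by norm_num
theorem prime_788309 : Nat.Prime 788309 := by norm_num
theorem prime_796819 : Nat.Prime 796819 := by norm_num
theorem prime_805403 : Nat.Prime 805403 := by norm_num
theorem prime_814049 : Nat.Prime 814049 := by norm_num
theorem prime_822763 : Nat.Prime 822763 := by norm_num
theorem prime_831541 : Nat.Prime 831541 := by norm_num
theorem prime_840353 : Nat.Prime 840353 := by norm_num
theorem prime_849253 : Nat.Prime 849253 := by norm_num
theorem prime_858217 : Nat.Prime 858217 := by norm_num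
theorem prime_867233 : Nat.Prime 867233 := by norm_num
theorem prime_876311 : Nat.Prime 876311 := by norm_num
theorem prime_885449 : Nat.Prime 885449 := by norm_num
theorem prime_894667 : Nat.Prime 894667 := by norm_num
theorem prime_903949 : Nat.Prime 903949 := by norm_num
theorem prime_913279 : Nat.Prime 913279 := by norm_num
theorem prime_922681 : Nat.Prime 922681 := by norm_num
theorem prime_932153 : Nat.Prime 932153 := by norm_num
theorem prime_941683 : Nat.Prime 941683 := by norm_num
theorem prime_951283 : Nat.Prime 951283 := by norm_num
theorem prime_960941 : Nat.Prime 960941 := by norm_num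
theorem prime_970667 : Nat.Prime 970667 := by norm_num

theorem primes2 : ∀ q ∈ part2, Nat.Prime q := by
  intro q hq
  simp only [part2, List.mem_cons, List.not_mem_nil, or_false] at hq
  rcases hq with rfl | rfl | rfl | rfl | rfl | rfl | rfl | rfl | rfl | rfl | rfl | rfl | rfl | rfl | rfl | rfl | rfl | rfl | rfl | rfl | rfl | rfl | rfl | rfl | rfl | rfl | rfl | rfl | rfl | rfl | rfl | rfl | rfl | rfl | rfl | rfl | rfl | rfl | rfl | rfl | rfl | rfl | rfl | rfl | rfl | rfl | rfl | rfl | rfl | rfl | rfl | rfl | rfl | rfl | rfl | rfl | rfl | rfl | rfl | rfl | rfl | rfl | rfl | rfl | rfl | rfl | rfl | rfl | rfl | rfl | rfl | rfl | rfl | rfl | rfl | rfl | rfl | rfl | rfl | rfl | rfl | rfl | rfl | rfl | rfl | rfl | rfl | rfl | rfl | rfl | rfl | rfl | rfl | rfl | rfl | rfl | rfl | rfl | rfl | rfl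
  · exact prime_290209
  · exact prime_294563
  · exact prime_298943
  · exact prime_303409
  · exact prime_307919
  · exact prime_312469
  · exact prime_317071
  · exact prime_321709
  · exact prime_326369
  · exact prime_331099
  · exact prime_335879
  · exact prime_340709
  · exact prime_345581
  · exact prime_350503
  · exact prime_355463
  · exact prime_360461
  · exact prime_365513
  · exact prime_370619
  · exact prime_375773
  · exact prime_380977
  · exact prime_386227
  · exact prime_391519
  · exact prime_396833
  · exact prime_402223
  · exact prime_407669
  · exact prime_413167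
  · exact prime_418709
  · exact prime_424273
  · exact prime_429917
  · exact prime_435593
  · exact prime_441319
  · exact prime_447107
  · exact prime_452953
  · exact prime_458849
  · exact prime_464777
  · exact prime_470749
  · exact prime_476783
  · exact prime_482873
  · exact prime_489019
  · exact prime_495221
  · exact prime_501463
  · exact prime_507757
  · exact prime_514117
  · exact prime_520529
  · exact prime_526997
  · exact prime_533509
  · exact prime_540079
  · exact prime_546709
  · exact prime_553369
  · exact prime_560107
  · exact prime_566879
  · exact prime_573719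
  · exact prime_580607
  · exact prime_587563
  · exact prime_594577
  · exact prime_601631
  · exact prime_608749
  · exact prime_615919
  · exact prime_623107
  · exact prime_630391
  · exact prime_637729
  · exact prime_645137
  · exact prime_652601
  · exact prime_660119
  · exact prime_667699
  · exact prime_675319
  · exact prime_683003
  · exact prime_690757
  · exact prime_698567
  · exact prime_706427
  · exact prime_714349
  · exact prime_722333
  · exact prime_730363
  · exact prime_738469
  · exact prime_746597
  · exact prime_754811
  · exact prime_763093
  · exact prime_771439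
  · exact prime_779837
  · exact prime_788309
  · exact prime_796819
  · exact prime_805403
  · exact prime_814049
  · exact prime_822763
  · exact prime_831541
  · exact prime_840353
  · exact prime_849253
  · exact prime_858217
  · exact prime_867233
  · exact prime_876311
  · exact prime_885449
  · exact prime_894667
  · exact prime_903949
  · exact prime_913279
  · exact prime_922681
  · exact prime_932153
  · exact prime_941683
  · exact prime_951283
  · exact prime_960941
  · exact prime_970667

end Cfsg.Agent.Lib.H20.S3571PC
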