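import Mathlib

/-!
# S3571 (Sylvester-Schur block) prime chain, part 3

The primes of the chain with consecutive gaps `(q' - q)^3 ≤ q^2`, checked by `norm_num`.
-/

namespace Cfsg.Agent.Lib.H20.S3571PC

/-- Part 3 of the prime chain. -/
def part3 : List ℕ :=
  [980459, 990323, 1000253, 1010237, 1020301, 1030429, 1040629, 1050887, 1061189, 1071589, 1082047, 1092583, 1103191, 1113863, 1124603, 1135411, 1146281, 1157227, 1168249, 1179337, 1190491, 1201709, 1213007, 1224347, 1235791, 1247303, 1258889, 1270547, 1282277, 1294061, 1305919, 1317853, 1329871, 1341947, 1354081, 1366303, 1378613, 1390993, 1403453, 1415977, 1428571, 1441241, 1453997, 1466821, 1479727, 1492709, 1505761, 1518893, 1532093, 1545371, 1558729, 1572163, 1585679, 1599271, 1612937, 1626673, 1640503, 1654403, 1668379, 1682423, 1696547, 1710767, 1725071, 1739453, 1753903, 1768441, 1783051, 1797751, 1812527, 1827389, 1842329, 1857353, 1872461, 1887643, 1902899, 1918247, 1933681, 1949201, 1964801, 1980469, 1996237, 2012083, 2028017, 2044037, 2060141, 2076331, 2092591, 2108941, 2125373, 2141903, 2158501, 2175197, 2191967, 2208839, 2225791, 2242813, 2259937, 2277139, 2294431,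 2311823]

theorem prime_980459 : Nat.Prime 980459 := by norm_num
theorem prime_990323 : Nat.Prime 990323 := by norm_num
theorem prime_1000253 : Nat.Prime 1000253 := by norm_num
theorem prime_1010237 : Nat.Prime 1010237 := by norm_num
theorem prime_1020301 : Nat.Prime 1020301 := by norm_num
theorem prime_1030429 : Nat.Prime 1030429 := by norm_num
theorem prime_1040629 : Nat.Prime 1040629 := by norm_num
theorem prime_1050887 : Nat.Prime 1050887 := by norm_num
theorem prime_1061189 : Nat.Prime 1061189 := by norm_num
theorem prime_1071589 : Nat.Prime 1071589 := by norm_num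
theorem prime_1082047 : Nat.Prime 1082047 := by norm_num
theorem prime_1092583 : Nat.Prime 1092583 := by norm_num
theorem prime_1103191 : Nat.Prime 1103191 := by norm_num
theorem prime_1113863 : Nat.Prime 1113863 := by norm_num
theorem prime_1124603 : Nat.Prime 1124603 := by norm_num
theorem prime_1135411 : Nat.Prime 1135411 := by norm_num
theorem prime_1146281 : Nat.Prime 1146281 := by norm_num
theorem prime_1157227 : Nat.Prime 1157227 := by norm_num
theorem prime_1168249 : Nat.Prime 1168249 := by norm_num
theorem prime_1179337 : Nat.Prime 1179337 := by norm_num
theorem prime_1190491 : Nat.Prime 1190491 := by norm_num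
theorem prime_1201709 : Nat.Prime 1201709 := by norm_num
theorem prime_1213007 : Nat.Prime 1213007 := by norm_num
theorem prime_1224347 : Nat.Prime 1224347 := by norm_num
theorem prime_1235791 : Nat.Prime 1235791 := by norm_num
theorem prime_1247303 : Nat.Prime 1247303 := by norm_num
theorem prime_1258889 : Nat.Prime 1258889 := by norm_num
theorem prime_1270547 : Nat.Prime 1270547 := by norm_num
theorem prime_1282277 : Nat.Prime 1282277 := by norm_num
theorem prime_1294061 : Nat.Prime 1294061 := by norm_num
theorem prime_1305919 : Nat.Prime 1305919 := by norm_num
theorem prime_1317853 : Nat.Prime 1317853 := by norm_num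
theorem prime_1329871 : Nat.Prime 1329871 := by norm_num
theorem prime_1341947 : Nat.Prime 1341947 := by norm_num
theorem prime_1354081 : Nat.Prime 1354081 := by norm_num
theorem prime_1366303 : Nat.Prime 1366303 := by norm_num
theorem prime_1378613 : Nat.Prime 1378613 := by norm_num
theorem prime_1390993 : Nat.Prime 1390993 := by norm_num
theorem prime_1403453 : Nat.Prime 1403453 := by norm_num
theorem prime_1415977 : Nat.Prime 1415977 := by norm_num
theorem prime_1428571 : Nat.Prime 1428571 := by norm_num
theorem prime_1441241 : Nat.Prime 1441241 := by norm_num
theorem prime_1453997 : Nat.Prime 1453997 := by norm_num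
theorem prime_1466821 : Nat.Prime 1466821 := by norm_num
theorem prime_1479727 : Nat.Prime 1479727 := by norm_num
theorem prime_1492709 : Nat.Prime 1492709 := by norm_num
theorem prime_1505761 : Nat.Prime 1505761 := by norm_num
theorem prime_1518893 : Nat.Prime 1518893 := by norm_num
theorem prime_1532093 : Nat.Prime 1532093 := by norm_num
theorem prime_1545371 : Nat.Prime 1545371 := by norm_num
theorem prime_1558729 : Nat.Prime 1558729 := by norm_num
theorem prime_1572163 : Nat.Prime 1572163 := by norm_num
theorem prime_1585679 : Nat.Prime 1585679 := by norm_num
theorem prime_1599271 : Nat.Prime 1599271 := by norm_num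
theorem prime_1612937 : Nat.Prime 1612937 := by norm_num
theorem prime_1626673 : Nat.Prime 1626673 := by norm_num
theorem prime_1640503 : Nat.Prime 1640503 := by norm_num
theorem prime_1654403 : Nat.Prime 1654403 := by norm_num
theorem prime_1668379 : Nat.Prime 1668379 := by norm_num
theorem prime_1682423 : Nat.Prime 1682423 := by norm_num
theorem prime_1696547 : Nat.Prime 1696547 := by norm_num
theorem prime_1710767 : Nat.Prime 1710767 := by norm_num
theorem prime_1725071 : Nat.Prime 1725071 := by norm_num
theorem prime_1739453 : Nat.Prime 1739453 := by norm_num
theorem prime_1753903 : Nat.Prime 1753903 := by norm_num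
theorem prime_1768441 : Nat.Prime 1768441 := by norm_num
theorem prime_1783051 : Nat.Prime 1783051 := by norm_num
theorem prime_1797751 : Nat.Prime 1797751 := by norm_num
theorem prime_1812527 : Nat.Prime 1812527 := by norm_num
theorem prime_1827389 : Nat.Prime 1827389 := by norm_num
theorem prime_1842329 : Nat.Prime 1842329 := by norm_num
theorem prime_1857353 : Nat.Prime 1857353 := by norm_num
theorem prime_1872461 : Nat.Prime 1872461 := by norm_num
theorem prime_1887643 : Nat.Prime 1887643 := by norm_num
theorem prime_1902899 : Nat.Prime 1902899 := by norm_num
theorem prime_1918247 : Nat.Prime 1918247 := by norm_num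
theorem prime_1933681 : Nat.Prime 1933681 := by norm_num
theorem prime_1949201 : Nat.Prime 1949201 := by norm_num
theorem prime_1964801 : Nat.Prime 1964801 := by norm_num
theorem prime_1980469 : Nat.Prime 1980469 := by norm_num
theorem prime_1996237 : Nat.Prime 1996237 := by norm_num
theorem prime_2012083 : Nat.Prime 2012083 := by norm_num
theorem prime_2028017 : Nat.Prime 2028017 := by norm_num
theorem prime_2044037 : Nat.Prime 2044037 := by norm_num
theorem prime_2060141 : Nat.Prime 2060141 := by norm_num
theorem prime_2076331 : Nat.Prime 2076331 := by norm_num
theorem prime_2092591 : Nat.Prime 2092591 := by norm_num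
theorem prime_2108941 : Nat.Prime 2108941 := by norm_num
theorem prime_2125373 : Nat.Prime 2125373 := by norm_num
theorem prime_2141903 : Nat.Prime 2141903 := by norm_num
theorem prime_2158501 : Nat.Prime 2158501 := by norm_num
theorem prime_2175197 : Nat.Prime 2175197 := by norm_num
theorem prime_2191967 : Nat.Prime 2191967 := by norm_num
theorem prime_2208839 : Nat.Prime 2208839 := by norm_num
theorem prime_2225791 : Nat.Prime 2225791 := by norm_num
theorem prime_2242813 : Nat.Prime 2242813 := by norm_num
theorem prime_2259937 : Nat.Prime 2259937 := by norm_num
theorem prime_2277139 : Nat.Prime 2277139 := by norm_num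
theorem prime_2294431 : Nat.Prime 2294431 := by norm_num
theorem prime_2311823 : Nat.Prime 2311823 := by norm_num

theorem primes3 : ∀ q ∈ part3, Nat.Prime q := by
  intro q hq
  simp only [part3, List.mem_cons, List.not_mem_nil, or_false] at hq
  rcases hq with rfl | rfl | rfl | rfl | rfl | rfl | rfl | rfl | rfl | rfl | rfl | rfl | rfl | rfl | rfl | rfl | rfl | rfl | rfl | rfl | rfl | rfl | rfl | rfl | rfl | rfl | rfl | rfl | rfl | rfl | rfl | rfl | rfl | rfl | rfl | rfl | rfl | rfl | rfl | rfl | rfl | rfl | rfl | rfl | rfl | rfl | rfl | rfl | rfl | rfl | rfl | rfl | rfl | rfl | rfl | rfl | rfl | rfl | rfl | rfl | rfl | rfl | rfl | rfl | rfl | rfl | rfl | rfl | rfl | rfl | rfl | rfl | rfl | rfl | rfl | rfl | rfl | rfl | rfl | rfl | rfl | rfl | rfl | rfl | rfl | rfl | rfl | rfl | rfl | rfl | rfl | rfl | rfl | rfl | rfl | rfl | rfl | rfl | rfl | rfl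
  · exact prime_980459
  · exact prime_990323
  · exact prime_1000253
  · exact prime_1010237
  · exact prime_1020301
  · exact prime_1030429
  · exact prime_1040629
  · exact prime_1050887
  · exact prime_1061189
  · exact prime_1071589
  · exact prime_1082047
  · exact prime_1092583
  · exact prime_1103191
  · exact prime_1113863
  · exact prime_1124603
  · exact prime_1135411
  · exact prime_1146281
  · exact prime_1157227
  · exact prime_1168249
  · exact prime_1179337
  · exact prime_1190491
  · exact prime_1201709
  · exact prime_1213007
  · exact prime_1224347
  · exact prime_1235791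
  · exact prime_1247303
  · exact prime_1258889
  · exact prime_1270547
  · exact prime_1282277
  · exact prime_1294061
  · exact prime_1305919
  · exact prime_1317853
  · exact prime_1329871
  · exact prime_1341947
  · exact prime_1354081
  · exact prime_1366303
  · exact prime_1378613
  · exact prime_1390993
  · exact prime_1403453
  · exact prime_1415977
  · exact prime_1428571
  · exact prime_1441241
  · exact prime_1453997
  · exact prime_1466821
  · exact prime_1479727
  · exact prime_1492709
  · exact prime_1505761
  · exact prime_1518893
  · exact prime_1532093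
  · exact prime_1545371
  · exact prime_1558729
  · exact prime_1572163
  · exact prime_1585679
  · exact prime_1599271
  · exact prime_1612937
  · exact prime_1626673
  · exact prime_1640503
  · exact prime_1654403
  · exact prime_1668379
  · exact prime_1682423
  · exact prime_1696547
  · exact prime_1710767
  · exact prime_1725071
  · exact prime_1739453
  · exact prime_1753903
  · exact prime_1768441
  · exact prime_1783051
  · exact prime_1797751
  · exact prime_1812527
  · exact prime_1827389
  · exact prime_1842329
  · exact prime_1857353
  · exact prime_1872461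
  · exact prime_1887643
  · exact prime_1902899
  · exact prime_1918247
  · exact prime_1933681
  · exact prime_1949201
  · exact prime_1964801
  · exact prime_1980469
  · exact prime_1996237
  · exact prime_2012083
  · exact prime_2028017
  · exact prime_2044037
  · exact prime_2060141
  · exact prime_2076331
  · exact prime_2092591
  · exact prime_2108941
  · exact prime_2125373
  · exact prime_2141903
  · exact prime_2158501
  · exact prime_2175197
  · exact prime_2191967
  · exact prime_2208839
  · exact prime_2225791
  · exact prime_2242813
  · exact prime_2259937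
  · exact prime_2277139
  · exact prime_2294431
  · exact prime_2311823

end Cfsg.Agent.Lib.H20.S3571PC
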