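import Mathlib

/-!
# S3571 (Sylvester-Schur block) prime chain, part 4

The primes of the chain with consecutive gaps `(q' - q)^3 ≤ q^2`, checked by `norm_num`.
-/

namespace Cfsg.Agent.Lib.H20.S3571PC

/-- Part 4 of the prime chain. -/
def part4 : List ℕ :=
  [2329303, 2346863, 2364521, 2382269, 2400089, 2418007, 2436017, 2454121, 2472313, 2490589, 2508953, 2527409, 2545927, 2564567, 2583299, 2602121, 2621033, 2640041, 2659133, 2678323, 2697599, 2716969, 2736431, 2755981, 2775637, 2795383, 2815207, 2835139, 2855161, 2875267, 2895479, 2915791, 2936191, 2956693, 2977283, 2997977, 3018733, 3039571, 3060517, 3081583, 3102733, 3124001, 3145367, 3166831, 3188387, 3210049, 3231803, 3253631, 3275567, 3297617, 3319763, 3341993, 3364343, 3386767, 3409309, 3431933, 3454681, 3477527, 3500477, 3523519, 3546661, 3569897, 3593203, 3616661, 3640207, 3663833, 3687583, 3711451, 3735401, 3759461, 3783631, 3807911, 3832291, 3856777, 3881363, 3906059, 3930841, 3955733, 3980729, 4005839, 4031047, 4056359, 4081793, 4107329, 4132969, 4158697, 4184549, 4210499, 4236541, 4262701, 4288979, 4315369, 4341853, 4368451, 4395173, 4421999, 4448933, 4475983, 4503139,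 4530401]

theorem prime_2329303 : Nat.Prime 2329303 := by norm_num
theorem prime_2346863 : Nat.Prime 2346863 := by norm_num
theorem prime_2364521 : Nat.Prime 2364521 := by norm_num
theorem prime_2382269 : Nat.Prime 2382269 := by norm_num
theorem prime_2400089 : Nat.Prime 2400089 := by norm_num
theorem prime_2418007 : Nat.Prime 2418007 := by norm_num
theorem prime_2436017 : Nat.Prime 2436017 := by norm_num
theorem prime_2454121 : Nat.Prime 2454121 := by norm_num
theorem prime_2472313 : Nat.Prime 2472313 := by norm_num
theorem prime_2490589 : Nat.Prime 2490589 := by norm_num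
theorem prime_2508953 : Nat.Prime 2508953 := by norm_num
theorem prime_2527409 : Nat.Prime 2527409 := by norm_num
theorem prime_2545927 : Nat.Prime 2545927 := by norm_num
theorem prime_2564567 : Nat.Prime 2564567 := by norm_num
theorem prime_2583299 : Nat.Prime 2583299 := by norm_num
theorem prime_2602121 : Nat.Prime 2602121 := by norm_num
theorem prime_2621033 : Nat.Prime 2621033 := by norm_num
theorem prime_2640041 : Nat.Prime 2640041 := by norm_num
theorem prime_2659133 : Nat.Prime 2659133 := by norm_num
theorem prime_2678323 : Nat.Prime 2678323 := by norm_num
theorem prime_2697599 : Nat.Prime 2697599 := by norm_num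
theorem prime_2716969 : Nat.Prime 2716969 := by norm_num
theorem prime_2736431 : Nat.Prime 2736431 := by norm_num
theorem prime_2755981 : Nat.Prime 2755981 := by norm_num
theorem prime_2775637 : Nat.Prime 2775637 := by norm_num
theorem prime_2795383 : Nat.Prime 2795383 := by norm_num
theorem prime_2815207 : Nat.Prime 2815207 := by norm_num
theorem prime_2835139 : Nat.Prime 2835139 := by norm_num
theorem prime_2855161 : Nat.Prime 2855161 := by norm_num
theorem prime_2875267 : Nat.Prime 2875267 := by norm_num
theorem prime_2895479 : Nat.Prime 2895479 := by norm_num
theorem prime_2915791 : Nat.Prime 2915791 := by norm_num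
theorem prime_2936191 : Nat.Prime 2936191 := by norm_num
theorem prime_2956693 : Nat.Prime 2956693 := by norm_num
theorem prime_2977283 : Nat.Prime 2977283 := by norm_num
theorem prime_2997977 : Nat.Prime 2997977 := by norm_num
theorem prime_3018733 : Nat.Prime 3018733 := by norm_num
theorem prime_3039571 : Nat.Prime 3039571 := by norm_num
theorem prime_3060517 : Nat.Prime 3060517 := by norm_num
theorem prime_3081583 : Nat.Prime 3081583 := by norm_num
theorem prime_3102733 : Nat.Prime 3102733 := by norm_num
theorem prime_3124001 : Nat.Prime 3124001 := by norm_num
theorem prime_3145367 : Nat.Prime 3145367 := by norm_num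
theorem prime_3166831 : Nat.Prime 3166831 := by norm_num
theorem prime_3188387 : Nat.Prime 3188387 := by norm_num
theorem prime_3210049 : Nat.Prime 3210049 := by norm_num
theorem prime_3231803 : Nat.Prime 3231803 := by norm_num
theorem prime_3253631 : Nat.Prime 3253631 := by norm_num
theorem prime_3275567 : Nat.Prime 3275567 := by norm_num
theorem prime_3297617 : Nat.Prime 3297617 := by norm_num
theorem prime_3319763 : Nat.Prime 3319763 := by norm_num
theorem prime_3341993 : Nat.Prime 3341993 := by norm_num
theorem prime_3364343 : Nat.Prime 3364343 := by norm_num
theorem prime_3386767 : Nat.Prime 3386767 := by norm_num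
theorem prime_3409309 : Nat.Prime 3409309 := by norm_num
theorem prime_3431933 : Nat.Prime 3431933 := by norm_num
theorem prime_3454681 : Nat.Prime 3454681 := by norm_num
theorem prime_3477527 : Nat.Prime 3477527 := by norm_num
theorem prime_3500477 : Nat.Prime 3500477 := by norm_num
theorem prime_3523519 : Nat.Prime 3523519 := by norm_num
theorem prime_3546661 : Nat.Prime 3546661 := by norm_num
theorem prime_3569897 : Nat.Prime 3569897 := by norm_num
theorem prime_3593203 : Nat.Prime 3593203 := by norm_num
theorem prime_3616661 : Nat.Prime 3616661 := by norm_num
theorem prime_3640207 : Nat.Prime 3640207 := by norm_num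
theorem prime_3663833 : Nat.Prime 3663833 := by norm_num
theorem prime_3687583 : Nat.Prime 3687583 := by norm_num
theorem prime_3711451 : Nat.Prime 3711451 := by norm_num
theorem prime_3735401 : Nat.Prime 3735401 := by norm_num
theorem prime_3759461 : Nat.Prime 3759461 := by norm_num
theorem prime_3783631 : Nat.Prime 3783631 := by norm_num
theorem prime_3807911 : Nat.Prime 3807911 := by norm_num
theorem prime_3832291 : Nat.Prime 3832291 := by norm_num
theorem prime_3856777 : Nat.Prime 3856777 := by norm_num
theorem prime_3881363 : Nat.Prime 3881363 := by norm_num
theorem prime_3906059 : Nat.Prime 3906059 := by norm_num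
theorem prime_3930841 : Nat.Prime 3930841 := by norm_num
theorem prime_3955733 : Nat.Prime 3955733 := by norm_num
theorem prime_3980729 : Nat.Prime 3980729 := by norm_num
theorem prime_4005839 : Nat.Prime 4005839 := by norm_num
theorem prime_4031047 : Nat.Prime 4031047 := by norm_num
theorem prime_4056359 : Nat.Prime 4056359 := by norm_num
theorem prime_4081793 : Nat.Prime 4081793 := by norm_num
theorem prime_4107329 : Nat.Prime 4107329 := by norm_num
theorem prime_4132969 : Nat.Prime 4132969 := by norm_num
theorem prime_4158697 : Nat.Prime 4158697 := by norm_num
theorem prime_4184549 : Nat.Prime 4184549 := by norm_num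
theorem prime_4210499 : Nat.Prime 4210499 := by norm_num
theorem prime_4236541 : Nat.Prime 4236541 := by norm_num
theorem prime_4262701 : Nat.Prime 4262701 := by norm_num
theorem prime_4288979 : Nat.Prime 4288979 := by norm_num
theorem prime_4315369 : Nat.Prime 4315369 := by norm_num
theorem prime_4341853 : Nat.Prime 4341853 := by norm_num
theorem prime_4368451 : Nat.Prime 4368451 := by norm_num
theorem prime_4395173 : Nat.Prime 4395173 := by norm_num
theorem prime_4421999 : Nat.Prime 4421999 := by norm_num
theorem prime_4448933 : Nat.Prime 4448933 := by norm_num
theorem prime_4475983 : Nat.Prime 4475983 := by norm_num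
theorem prime_4503139 : Nat.Prime 4503139 := by norm_num
theorem prime_4530401 : Nat.Prime 4530401 := by norm_num

theorem primes4 : ∀ q ∈ part4, Nat.Prime q := by
  intro q hq
  simp only [part4, List.mem_cons, List.not_mem_nil, or_false] at hq
  rcases hq with rfl | rfl | rfl | rfl | rfl | rfl | rfl | rfl | rfl | rfl | rfl | rfl | rfl | rfl | rfl | rfl | rfl | rfl | rfl | rfl | rfl | rfl | rfl | rfl | rfl | rfl | rfl | rfl | rfl | rfl | rfl | rfl | rfl | rfl | rfl | rfl | rfl | rfl | rfl | rfl | rfl | rfl | rfl | rfl | rfl | rfl | rfl | rfl | rfl | rfl | rfl | rfl | rfl | rfl | rfl | rfl | rfl | rfl | rfl | rfl | rfl | rfl | rfl | rfl | rfl | rfl | rfl | rfl | rfl | rfl | rfl | rfl | rfl | rfl | rfl | rfl | rfl | rfl | rfl | rfl | rfl | rfl | rfl | rfl | rfl | rfl | rfl | rfl | rfl | rfl | rfl | rfl | rfl | rfl | rfl | rfl | rfl | rfl | rfl | rfl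
  · exact prime_2329303
  · exact prime_2346863
  · exact prime_2364521
  · exact prime_2382269
  · exact prime_2400089
  · exact prime_2418007
  · exact prime_2436017
  · exact prime_2454121
  · exact prime_2472313
  · exact prime_2490589
  · exact prime_2508953
  · exact prime_2527409
  · exact prime_2545927
  · exact prime_2564567
  · exact prime_2583299
  · exact prime_2602121
  · exact prime_2621033
  · exact prime_2640041
  · exact prime_2659133
  · exact prime_2678323
  · exact prime_2697599
  · exact prime_2716969
  · exact prime_2736431
  · exact prime_2755981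
  · exact prime_2775637
  · exact prime_2795383
  · exact prime_2815207
  · exact prime_2835139
  · exact prime_2855161
  · exact prime_2875267
  · exact prime_2895479
  · exact prime_2915791
  · exact prime_2936191
  · exact prime_2956693
  · exact prime_2977283
  · exact prime_2997977
  · exact prime_3018733
  · exact prime_3039571
  · exact prime_3060517
  · exact prime_3081583
  · exact prime_3102733
  · exact prime_3124001
  · exact prime_3145367
  · exact prime_3166831
  · exact prime_3188387
  · exact prime_3210049
  · exact prime_3231803
  · exact prime_3253631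
  · exact prime_3275567
  · exact prime_3297617
  · exact prime_3319763
  · exact prime_3341993
  · exact prime_3364343
  · exact prime_3386767
  · exact prime_3409309
  · exact prime_3431933
  · exact prime_3454681
  · exact prime_3477527
  · exact prime_3500477
  · exact prime_3523519
  · exact prime_3546661
  · exact prime_3569897
  · exact prime_3593203
  · exact prime_3616661
  · exact prime_3640207
  · exact prime_3663833
  · exact prime_3687583
  · exact prime_3711451
  · exact prime_3735401
  · exact prime_3759461
  · exact prime_3783631
  · exact prime_3807911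
  · exact prime_3832291
  · exact prime_3856777
  · exact prime_3881363
  · exact prime_3906059
  · exact prime_3930841
  · exact prime_3955733
  · exact prime_3980729
  · exact prime_4005839
  · exact prime_4031047
  · exact prime_4056359
  · exact prime_4081793
  · exact prime_4107329
  · exact prime_4132969
  · exact prime_4158697
  · exact prime_4184549
  · exact prime_4210499
  · exact prime_4236541
  · exact prime_4262701
  · exact prime_4288979
  · exact prime_4315369
  · exact prime_4341853
  · exact prime_4368451
  · exact prime_4395173
  · exact prime_4421999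
  · exact prime_4448933
  · exact prime_4475983
  · exact prime_4503139
  · exact prime_4530401

end Cfsg.Agent.Lib.H20.S3571PC
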