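import Mathlib

/-!
# S3571 (Sylvester-Schur block) prime chain, part 5

The primes of the chain with consecutive gaps `(q' - q)^3 ≤ q^2`, checked by `norm_num`.
-/

namespace Cfsg.Agent.Lib.H20.S3571PC

/-- Part 5 of the prime chain. -/
def part5 : List ℕ :=
  [4557767, 4585249, 4612847, 4640557, 4668373, 4696303, 4724339, 4752481, 4780739, 4809107, 4837589, 4866187, 4894889, 4923703, 4952639, 4981673, 5010827, 5040071, 5069437, 5098943, 5128553, 5158289, 5188123, 5218091, 5248169, 5278349, 5308663, 5339093, 5369627, 5400287, 5431067, 5461957, 5492953, 5524073, 5555321, 5586671, 5618149, 5649739, 5681453, 5713289, 5745221, 5777279, 5809469, 5841779, 5874199, 5906753, 5939429, 5972209, 6005113, 6038129, 6071267, 6104537, 6137917, 6171427, 6205033, 6238787, 6272663, 6306673, 6340787, 6375043, 6409409, 6443911, 6478519, 6513239, 6548107, 6583103, 6618223, 6653467, 6688831, 6724307, 6759917, 6795667, 6831533, 6867529, 6903647, 6939901, 6976279, 7012787, 7049411, 7086173, 7123063, 7160081, 7197227, 7234483, 7271881, 7309403, 7347059, 7384847, 7422743, 7460779, 7498957, 7537259, 7575691, 7614263, 7652959, 7691779, 7730731, 7769819, 7808989,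 7848331]

theorem prime_4557767 : Nat.Prime 4557767 := by norm_num
theorem prime_4585249 : Nat.Prime 4585249 := by norm_num
theorem prime_4612847 : Nat.Prime 4612847 := by norm_num
theorem prime_4640557 : Nat.Prime 4640557 := by norm_num
theorem prime_4668373 : Nat.Prime 4668373 := by norm_num
theorem prime_4696303 : Nat.Prime 4696303 := by norm_num
theorem prime_4724339 : Nat.Prime 4724339 := by norm_num
theorem prime_4752481 : Nat.Prime 4752481 := by norm_num
theorem prime_4780739 : Nat.Prime 4780739 := by norm_num
theorem prime_4809107 : Nat.Prime 4809107 := by norm_num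
theorem prime_4837589 : Nat.Prime 4837589 := by norm_num
theorem prime_4866187 : Nat.Prime 4866187 := by norm_num
theorem prime_4894889 : Nat.Prime 4894889 := by norm_num
theorem prime_4923703 : Nat.Prime 4923703 := by norm_num
theorem prime_4952639 : Nat.Prime 4952639 := by norm_num
theorem prime_4981673 : Nat.Prime 4981673 := by norm_num
theorem prime_5010827 : Nat.Prime 5010827 := by norm_num
theorem prime_5040071 : Nat.Prime 5040071 := by norm_num
theorem prime_5069437 : Nat.Prime 5069437 := by norm_num
theorem prime_5098943 : Nat.Prime 5098943 := by norm_num
theorem prime_5128553 : Nat.Prime 5128553 := by norm_num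
theorem prime_5158289 : Nat.Prime 5158289 := by norm_num
theorem prime_5188123 : Nat.Prime 5188123 := by norm_num
theorem prime_5218091 : Nat.Prime 5218091 := by norm_num
theorem prime_5248169 : Nat.Prime 5248169 := by norm_num
theorem prime_5278349 : Nat.Prime 5278349 := by norm_num
theorem prime_5308663 : Nat.Prime 5308663 := by norm_num
theorem prime_5339093 : Nat.Prime 5339093 := by norm_num
theorem prime_5369627 : Nat.Prime 5369627 := by norm_num
theorem prime_5400287 : Nat.Prime 5400287 := by norm_num
theorem prime_5431067 : Nat.Prime 5431067 := by norm_num
theorem prime_5461957 : Nat.Prime 5461957 := by norm_num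
theorem prime_5492953 : Nat.Prime 5492953 := by norm_num
theorem prime_5524073 : Nat.Prime 5524073 := by norm_num
theorem prime_5555321 : Nat.Prime 5555321 := by norm_num
theorem prime_5586671 : Nat.Prime 5586671 := by norm_num
theorem prime_5618149 : Nat.Prime 5618149 := by norm_num
theorem prime_5649739 : Nat.Prime 5649739 := by norm_num
theorem prime_5681453 : Nat.Prime 5681453 := by norm_num
theorem prime_5713289 : Nat.Prime 5713289 := by norm_num
theorem prime_5745221 : Nat.Prime 5745221 := by norm_num
theorem prime_5777279 : Nat.Prime 5777279 := by norm_num
theorem prime_5809469 : Nat.Prime 5809469 := by norm_num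
theorem prime_5841779 : Nat.Prime 5841779 := by norm_num
theorem prime_5874199 : Nat.Prime 5874199 := by norm_num
theorem prime_5906753 : Nat.Prime 5906753 := by norm_num
theorem prime_5939429 : Nat.Prime 5939429 := by norm_num
theorem prime_5972209 : Nat.Prime 5972209 := by norm_num
theorem prime_6005113 : Nat.Prime 6005113 := by norm_num
theorem prime_6038129 : Nat.Prime 6038129 := by norm_num
theorem prime_6071267 : Nat.Prime 6071267 := by norm_num
theorem prime_6104537 : Nat.Prime 6104537 := by norm_num
theorem prime_6137917 : Nat.Prime 6137917 := by norm_num
theorem prime_6171427 : Nat.Prime 6171427 := by norm_num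
theorem prime_6205033 : Nat.Prime 6205033 := by norm_num
theorem prime_6238787 : Nat.Prime 6238787 := by norm_num
theorem prime_6272663 : Nat.Prime 6272663 := by norm_num
theorem prime_6306673 : Nat.Prime 6306673 := by norm_num
theorem prime_6340787 : Nat.Prime 6340787 := by norm_num
theorem prime_6375043 : Nat.Prime 6375043 := by norm_num
theorem prime_6409409 : Nat.Prime 6409409 := by norm_num
theorem prime_6443911 : Nat.Prime 6443911 := by norm_num
theorem prime_6478519 : Nat.Prime 6478519 := by norm_num
theorem prime_6513239 : Nat.Prime 6513239 := by norm_num
theorem prime_6548107 : Nat.Prime 6548107 := by norm_num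
theorem prime_6583103 : Nat.Prime 6583103 := by norm_num
theorem prime_6618223 : Nat.Prime 6618223 := by norm_num
theorem prime_6653467 : Nat.Prime 6653467 := by norm_num
theorem prime_6688831 : Nat.Prime 6688831 := by norm_num
theorem prime_6724307 : Nat.Prime 6724307 := by norm_num
theorem prime_6759917 : Nat.Prime 6759917 := by norm_num
theorem prime_6795667 : Nat.Prime 6795667 := by norm_num
theorem prime_6831533 : Nat.Prime 6831533 := by norm_num
theorem prime_6867529 : Nat.Prime 6867529 := by norm_num
theorem prime_6903647 : Nat.Prime 6903647 := by norm_num
theorem prime_6939901 : Nat.Prime 6939901 := by norm_num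
theorem prime_6976279 : Nat.Prime 6976279 := by norm_num
theorem prime_7012787 : Nat.Prime 7012787 := by norm_num
theorem prime_7049411 : Nat.Prime 7049411 := by norm_num
theorem prime_7086173 : Nat.Prime 7086173 := by norm_num
theorem prime_7123063 : Nat.Prime 7123063 := by norm_num
theorem prime_7160081 : Nat.Prime 7160081 := by norm_num
theorem prime_7197227 : Nat.Prime 7197227 := by norm_num
theorem prime_7234483 : Nat.Prime 7234483 := by norm_num
theorem prime_7271881 : Nat.Prime 7271881 := by norm_num
theorem prime_7309403 : Nat.Prime 7309403 := by norm_num
theorem prime_7347059 : Nat.Prime 7347059 := by norm_num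
theorem prime_7384847 : Nat.Prime 7384847 := by norm_num
theorem prime_7422743 : Nat.Prime 7422743 := by norm_num
theorem prime_7460779 : Nat.Prime 7460779 := by norm_num
theorem prime_7498957 : Nat.Prime 7498957 := by norm_num
theorem prime_7537259 : Nat.Prime 7537259 := by norm_num
theorem prime_7575691 : Nat.Prime 7575691 := by norm_num
theorem prime_7614263 : Nat.Prime 7614263 := by norm_num
theorem prime_7652959 : Nat.Prime 7652959 := by norm_num
theorem prime_7691779 : Nat.Prime 7691779 := by norm_num
theorem prime_7730731 : Nat.Prime 7730731 := by norm_num
theorem prime_7769819 : Nat.Prime 7769819 := by norm_num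
theorem prime_7808989 : Nat.Prime 7808989 := by norm_num
theorem prime_7848331 : Nat.Prime 7848331 := by norm_num

theorem primes5 : ∀ q ∈ part5, Nat.Prime q := by
  intro q hq
  simp only [part5, List.mem_cons, List.not_mem_nil, or_false] at hq
  rcases hq with rfl | rfl | rfl | rfl | rfl | rfl | rfl | rfl | rfl | rfl | rfl | rfl | rfl | rfl | rfl | rfl | rfl | rfl | rfl | rfl | rfl | rfl | rfl | rfl | rfl | rfl | rfl | rfl | rfl | rfl | rfl | rfl | rfl | rfl | rfl | rfl | rfl | rfl | rfl | rfl | rfl | rfl | rfl | rfl | rfl | rfl | rfl | rfl | rfl | rfl | rfl | rfl | rfl | rfl | rfl | rfl | rfl | rfl | rfl | rfl | rfl | rfl | rfl | rfl | rfl | rfl | rfl | rfl | rfl | rfl | rfl | rfl | rfl | rfl | rfl | rfl | rfl | rfl | rfl | rfl | rfl | rfl | rfl | rfl | rfl | rfl | rfl | rfl | rfl | rfl | rfl | rfl | rfl | rfl | rfl | rfl | rfl | rfl | rfl | rfl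
  · exact prime_4557767
  · exact prime_4585249
  · exact prime_4612847
  · exact prime_4640557
  · exact prime_4668373
  · exact prime_4696303
  · exact prime_4724339
  · exact prime_4752481
  · exact prime_4780739
  · exact prime_4809107
  · exact prime_4837589
  · exact prime_4866187
  · exact prime_4894889
  · exact prime_4923703
  · exact prime_4952639
  · exact prime_4981673
  · exact prime_5010827
  · exact prime_5040071
  · exact prime_5069437
  · exact prime_5098943
  · exact prime_5128553
  · exact prime_5158289
  · exact prime_5188123
  · exact prime_5218091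
  · exact prime_5248169
  · exact prime_5278349
  · exact prime_5308663
  · exact prime_5339093
  · exact prime_5369627
  · exact prime_5400287
  · exact prime_5431067
  · exact prime_5461957
  · exact prime_5492953
  · exact prime_5524073
  · exact prime_5555321
  · exact prime_5586671
  · exact prime_5618149
  · exact prime_5649739
  · exact prime_5681453
  · exact prime_5713289
  · exact prime_5745221
  · exact prime_5777279
  · exact prime_5809469
  · exact prime_5841779
  · exact prime_5874199
  · exact prime_5906753
  · exact prime_5939429
  · exact prime_5972209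
  · exact prime_6005113
  · exact prime_6038129
  · exact prime_6071267
  · exact prime_6104537
  · exact prime_6137917
  · exact prime_6171427
  · exact prime_6205033
  · exact prime_6238787
  · exact prime_6272663
  · exact prime_6306673
  · exact prime_6340787
  · exact prime_6375043
  · exact prime_6409409
  · exact prime_6443911
  · exact prime_6478519
  · exact prime_6513239
  · exact prime_6548107
  · exact prime_6583103
  · exact prime_6618223
  · exact prime_6653467
  · exact prime_6688831
  · exact prime_6724307
  · exact prime_6759917
  · exact prime_6795667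
  · exact prime_6831533
  · exact prime_6867529
  · exact prime_6903647
  · exact prime_6939901
  · exact prime_6976279
  · exact prime_7012787
  · exact prime_7049411
  · exact prime_7086173
  · exact prime_7123063
  · exact prime_7160081
  · exact prime_7197227
  · exact prime_7234483
  · exact prime_7271881
  · exact prime_7309403
  · exact prime_7347059
  · exact prime_7384847
  · exact prime_7422743
  · exact prime_7460779
  · exact prime_7498957
  · exact prime_7537259
  · exact prime_7575691
  · exact prime_7614263
  · exact prime_7652959
  · exact prime_7691779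
  · exact prime_7730731
  · exact prime_7769819
  · exact prime_7808989
  · exact prime_7848331

end Cfsg.Agent.Lib.H20.S3571PC
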