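import Mathlib

/-!
# S3571 (Sylvester-Schur block) prime chain, part 6

The primes of the chain with consecutive gaps `(q' - q)^3 ≤ q^2`, checked by `norm_num`.
-/

namespace Cfsg.Agent.Lib.H20.S3571PC

/-- Part 6 of the prime chain. -/
def part6 : List ℕ :=
  [7887823, 7927441, 7967143, 8007019, 8047037, 8087153, 8127437, 8167847, 8208383, 8249071, 8289881, 8330837, 8371927, 8413157, 8454503, 8496001, 8537603, 8579357, 8621243, 8663279, 8705453, 8747759, 8790193, 8832779, 8875499, 8918347, 8961347, 9004481, 9047761, 9091157, 9134711, 9178409, 9222229, 9266197, 9310309, 9354557, 9398953, 9443479, 9488131, 9532949, 9577879, 9622979, 9668213, 9713591, 9759091, 9804757, 9850559, 9896507, 9942593, 9988817, 10035169, 10081681, 10128347, 10175159, 10222111, 10269191, 10316407, 10363781, 10411307, 10458983, 10506767, 10554727, 10602829, 10651063, 10699471, 10748011, 10796713, 10845559, 10894549, 10943689, 10992973, 11042399, 11091959, 11141693, 11191577, 11241583, 11291747, 11342057, 11392529, 11443153, 11493931, 11544859, 11595931, 11647151, 11698529, 11750059, 11801701, 11853529, 11905501, 11957633, 12009923, 12062357, 12114937, 12167681, 12220573, 12273623,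 12326813, 12380171, 12433627, 12487273]

theorem prime_7887823 : Nat.Prime 7887823 := by norm_num
theorem prime_7927441 : Nat.Prime 7927441 := by norm_num
theorem prime_7967143 : Nat.Prime 7967143 := by norm_num
theorem prime_8007019 : Nat.Prime 8007019 := by norm_num
theorem prime_8047037 : Nat.Prime 8047037 := by norm_num
theorem prime_8087153 : Nat.Prime 8087153 := by norm_num
theorem prime_8127437 : Nat.Prime 8127437 := by norm_num
theorem prime_8167847 : Nat.Prime 8167847 := by norm_num
theorem prime_8208383 : Nat.Prime 8208383 := by norm_num
theorem prime_8249071 : Nat.Prime 8249071 := by norm_num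
theorem prime_8289881 : Nat.Prime 8289881 := by norm_num
theorem prime_8330837 : Nat.Prime 8330837 := by norm_num
theorem prime_8371927 : Nat.Prime 8371927 := by norm_num
theorem prime_8413157 : Nat.Prime 8413157 := by norm_num
theorem prime_8454503 : Nat.Prime 8454503 := by norm_num
theorem prime_8496001 : Nat.Prime 8496001 := by norm_num
theorem prime_8537603 : Nat.Prime 8537603 := by norm_num
theorem prime_8579357 : Nat.Prime 8579357 := by norm_num
theorem prime_8621243 : Nat.Prime 8621243 := by norm_num
theorem prime_8663279 : Nat.Prime 8663279 := by norm_num
theorem prime_8705453 : Nat.Prime 8705453 := by norm_num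
theorem prime_8747759 : Nat.Prime 8747759 := by norm_num
theorem prime_8790193 : Nat.Prime 8790193 := by norm_num
theorem prime_8832779 : Nat.Prime 8832779 := by norm_num
theorem prime_8875499 : Nat.Prime 8875499 := by norm_num
theorem prime_8918347 : Nat.Prime 8918347 := by norm_num
theorem prime_8961347 : Nat.Prime 8961347 := by norm_num
theorem prime_9004481 : Nat.Prime 9004481 := by norm_num
theorem prime_9047761 : Nat.Prime 9047761 := by norm_num
theorem prime_9091157 : Nat.Prime 9091157 := by norm_num
theorem prime_9134711 : Nat.Prime 9134711 := by norm_num
theorem prime_9178409 : Nat.Prime 9178409 := by norm_num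
theorem prime_9222229 : Nat.Prime 9222229 := by norm_num
theorem prime_9266197 : Nat.Prime 9266197 := by norm_num
theorem prime_9310309 : Nat.Prime 9310309 := by norm_num
theorem prime_9354557 : Nat.Prime 9354557 := by norm_num
theorem prime_9398953 : Nat.Prime 9398953 := by norm_num
theorem prime_9443479 : Nat.Prime 9443479 := by norm_num
theorem prime_9488131 : Nat.Prime 9488131 := by norm_num
theorem prime_9532949 : Nat.Prime 9532949 := by norm_num
theorem prime_9577879 : Nat.Prime 9577879 := by norm_num
theorem prime_9622979 : Nat.Prime 9622979 := by norm_num
theorem prime_9668213 : Nat.Prime 9668213 := by norm_num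
theorem prime_9713591 : Nat.Prime 9713591 := by norm_num
theorem prime_9759091 : Nat.Prime 9759091 := by norm_num
theorem prime_9804757 : Nat.Prime 9804757 := by norm_num
theorem prime_9850559 : Nat.Prime 9850559 := by norm_num
theorem prime_9896507 : Nat.Prime 9896507 := by norm_num
theorem prime_9942593 : Nat.Prime 9942593 := by norm_num
theorem prime_9988817 : Nat.Prime 9988817 := by norm_num
theorem prime_10035169 : Nat.Prime 10035169 := by norm_num
theorem prime_10081681 : Nat.Prime 10081681 := by norm_num
theorem prime_10128347 : Nat.Prime 10128347 := by norm_num
theorem prime_10175159 : Nat.Prime 10175159 := by norm_num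
theorem prime_10222111 : Nat.Prime 10222111 := by norm_num
theorem prime_10269191 : Nat.Prime 10269191 := by norm_num
theorem prime_10316407 : Nat.Prime 10316407 := by norm_num
theorem prime_10363781 : Nat.Prime 10363781 := by norm_num
theorem prime_10411307 : Nat.Prime 10411307 := by norm_num
theorem prime_10458983 : Nat.Prime 10458983 := by norm_num
theorem prime_10506767 : Nat.Prime 10506767 := by norm_num
theorem prime_10554727 : Nat.Prime 10554727 := by norm_num
theorem prime_10602829 : Nat.Prime 10602829 := by norm_num
theorem prime_10651063 : Nat.Prime 10651063 := by norm_num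
theorem prime_10699471 : Nat.Prime 10699471 := by norm_num
theorem prime_10748011 : Nat.Prime 10748011 := by norm_num
theorem prime_10796713 : Nat.Prime 10796713 := by norm_num
theorem prime_10845559 : Nat.Prime 10845559 := by norm_num
theorem prime_10894549 : Nat.Prime 10894549 := by norm_num
theorem prime_10943689 : Nat.Prime 10943689 := by norm_num
theorem prime_10992973 : Nat.Prime 10992973 := by norm_num
theorem prime_11042399 : Nat.Prime 11042399 := by norm_num
theorem prime_11091959 : Nat.Prime 11091959 := by norm_num
theorem prime_11141693 : Nat.Prime 11141693 := by norm_num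
theorem prime_11191577 : Nat.Prime 11191577 := by norm_num
theorem prime_11241583 : Nat.Prime 11241583 := by norm_num
theorem prime_11291747 : Nat.Prime 11291747 := by norm_num
theorem prime_11342057 : Nat.Prime 11342057 := by norm_num
theorem prime_11392529 : Nat.Prime 11392529 := by norm_num
theorem prime_11443153 : Nat.Prime 11443153 := by norm_num
theorem prime_11493931 : Nat.Prime 11493931 := by norm_num
theorem prime_11544859 : Nat.Prime 11544859 := by norm_num
theorem prime_11595931 : Nat.Prime 11595931 := by norm_num
theorem prime_11647151 : Nat.Prime 11647151 := by norm_num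
theorem prime_11698529 : Nat.Prime 11698529 := by norm_num
theorem prime_11750059 : Nat.Prime 11750059 := by norm_num
theorem prime_11801701 : Nat.Prime 11801701 := by norm_num
theorem prime_11853529 : Nat.Prime 11853529 := by norm_num
theorem prime_11905501 : Nat.Prime 11905501 := by norm_num
theorem prime_11957633 : Nat.Prime 11957633 := by norm_num
theorem prime_12009923 : Nat.Prime 12009923 := by norm_num
theorem prime_12062357 : Nat.Prime 12062357 := by norm_num
theorem prime_12114937 : Nat.Prime 12114937 := by norm_num
theorem prime_12167681 : Nat.Prime 12167681 := by norm_num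
theorem prime_12220573 : Nat.Prime 12220573 := by norm_num
theorem prime_12273623 : Nat.Prime 12273623 := by norm_num
theorem prime_12326813 : Nat.Prime 12326813 := by norm_num
theorem prime_12380171 : Nat.Prime 12380171 := by norm_num
theorem prime_12433627 : Nat.Prime 12433627 := by norm_num
theorem prime_12487273 : Nat.Prime 12487273 := by norm_num

theorem primes6 : ∀ q ∈ part6, Nat.Prime q := by
  intro q hq
  simp only [part6, List.mem_cons, List.not_mem_nil, or_false] at hq
  rcases hq with rfl | rfl | rfl | rfl | rfl | rfl | rfl | rfl | rfl | rfl | rfl | rfl | rfl | rfl | rfl | rfl | rfl | rfl | rfl | rfl | rfl | rfl | rfl | rfl | rfl | rfl | rfl | rfl | rfl | rfl | rfl | rfl | rfl | rfl | rfl | rfl | rfl | rfl | rfl | rfl | rfl | rfl | rfl | rfl | rfl | rfl | rfl | rfl | rfl | rfl | rfl | rfl | rfl | rfl | rfl | rfl | rfl | rfl | rfl | rfl | rfl | rfl | rfl | rfl | rfl | rfl | rfl | rfl | rfl | rfl | rfl | rfl | rfl | rfl | rfl | rfl | rfl | rfl | rfl | rfl | rfl | rfl | rfl | rfl | rfl | rfl | rfl | rfl | rfl | rfl | rfl | rfl | rfl | rfl | rfl | rfl | rfl | rfl | rfl | rfl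
  · exact prime_7887823
  · exact prime_7927441
  · exact prime_7967143
  · exact prime_8007019
  · exact prime_8047037
  · exact prime_8087153
  · exact prime_8127437
  · exact prime_8167847
  · exact prime_8208383
  · exact prime_8249071
  · exact prime_8289881
  · exact prime_8330837
  · exact prime_8371927
  · exact prime_8413157
  · exact prime_8454503
  · exact prime_8496001
  · exact prime_8537603
  · exact prime_8579357
  · exact prime_8621243
  · exact prime_8663279
  · exact prime_8705453
  · exact prime_8747759
  · exact prime_8790193
  · exact prime_8832779
  · exact prime_8875499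
  · exact prime_8918347
  · exact prime_8961347
  · exact prime_9004481
  · exact prime_9047761
  · exact prime_9091157
  · exact prime_9134711
  · exact prime_9178409
  · exact prime_9222229
  · exact prime_9266197
  · exact prime_9310309
  · exact prime_9354557
  · exact prime_9398953
  · exact prime_9443479
  · exact prime_9488131
  · exact prime_9532949
  · exact prime_9577879
  · exact prime_9622979
  · exact prime_9668213
  · exact prime_9713591
  · exact prime_9759091
  · exact prime_9804757
  · exact prime_9850559
  · exact prime_9896507
  · exact prime_9942593
  · exact prime_9988817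
  · exact prime_10035169
  · exact prime_10081681
  · exact prime_10128347
  · exact prime_10175159
  · exact prime_10222111
  · exact prime_10269191
  · exact prime_10316407
  · exact prime_10363781
  · exact prime_10411307
  · exact prime_10458983
  · exact prime_10506767
  · exact prime_10554727
  · exact prime_10602829
  · exact prime_10651063
  · exact prime_10699471
  · exact prime_10748011
  · exact prime_10796713
  · exact prime_10845559
  · exact prime_10894549
  · exact prime_10943689
  · exact prime_10992973
  · exact prime_11042399
  · exact prime_11091959
  · exact prime_11141693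
  · exact prime_11191577
  · exact prime_11241583
  · exact prime_11291747
  · exact prime_11342057
  · exact prime_11392529
  · exact prime_11443153
  · exact prime_11493931
  · exact prime_11544859
  · exact prime_11595931
  · exact prime_11647151
  · exact prime_11698529
  · exact prime_11750059
  · exact prime_11801701
  · exact prime_11853529
  · exact prime_11905501
  · exact prime_11957633
  · exact prime_12009923
  · exact prime_12062357
  · exact prime_12114937
  · exact prime_12167681
  · exact prime_12220573
  · exact prime_12273623
  · exact prime_12326813
  · exact prime_12380171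
  · exact prime_12433627
  · exact prime_12487273

end Cfsg.Agent.Lib.H20.S3571PC
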