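import Mathlib

/-!
# S3571 (Sylvester-Schur block) prime chain, part 7

The primes of the chain with consecutive gaps `(q' - q)^3 ≤ q^2`, checked by `norm_num`.
-/

namespace Cfsg.Agent.Lib.H20.S3571PC

/-- Part 7 of the prime chain. -/
def part7 : List ℕ :=
  [12541093, 12595039, 12649171, 12703367, 12757807, 12812389, 12867131, 12922031, 12977087, 13032293, 13087649, 13143173, 13198859, 13254691, 13310669, 13366831, 13423117, 13479559, 13536197, 13592989, 13649917, 13707017, 13764263, 13821677, 13879267, 13937017, 13994923, 14052991, 14111219, 14169613, 14228161, 14286863, 14345717, 14404757, 14463881, 14523241, 14582767, 14642449, 14702293, 14762291, 14822461, 14882789, 14943283, 15003931, 15064759, 15125753, 15186911, 15248227, 15309713, 15371359, 15433169, 15495131, 15557251, 15619561, 15682019, 15744653, 15807469, 15870451, 15933583, 15996889, 16060367, 16123997, 16187813, 16251799, 16315939, 16380263, 16444751, 16509407, 16574231, 16639223, 16704397, 16769719, 16835233, 16900909, 16966717, 17032723, 17098919, 17165273, 17231813, 17298517, 17365399, 17432449, 17499649, 17567051, 17634613, 17702329, 17770231, 17838313, 17906573, 17975017, 18043633, 18112399, 18181367, 18250499,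 18319817, 18389309, 18458977, 18528751, 18598771, 18668959]

theorem prime_12541093 : Nat.Prime 12541093 := by norm_num
theorem prime_12595039 : Nat.Prime 12595039 := by norm_num
theorem prime_12649171 : Nat.Prime 12649171 := by norm_num
theorem prime_12703367 : Nat.Prime 12703367 := by norm_num
theorem prime_12757807 : Nat.Prime 12757807 := by norm_num
theorem prime_12812389 : Nat.Prime 12812389 := by norm_num
theorem prime_12867131 : Nat.Prime 12867131 := by norm_num
theorem prime_12922031 : Nat.Prime 12922031 := by norm_num
theorem prime_12977087 : Nat.Prime 12977087 := by norm_num
theorem prime_13032293 : Nat.Prime 13032293 := by norm_num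
theorem prime_13087649 : Nat.Prime 13087649 := by norm_num
theorem prime_13143173 : Nat.Prime 13143173 := by norm_num
theorem prime_13198859 : Nat.Prime 13198859 := by norm_num
theorem prime_13254691 : Nat.Prime 13254691 := by norm_num
theorem prime_13310669 : Nat.Prime 13310669 := by norm_num
theorem prime_13366831 : Nat.Prime 13366831 := by norm_num
theorem prime_13423117 : Nat.Prime 13423117 := by norm_num
theorem prime_13479559 : Nat.Prime 13479559 := by norm_num
theorem prime_13536197 : Nat.Prime 13536197 := by norm_num
theorem prime_13592989 : Nat.Prime 13592989 := by norm_num
theorem prime_13649917 : Nat.Prime 13649917 := by norm_num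
theorem prime_13707017 : Nat.Prime 13707017 := by norm_num
theorem prime_13764263 : Nat.Prime 13764263 := by norm_num
theorem prime_13821677 : Nat.Prime 13821677 := by norm_num
theorem prime_13879267 : Nat.Prime 13879267 := by norm_num
theorem prime_13937017 : Nat.Prime 13937017 := by norm_num
theorem prime_13994923 : Nat.Prime 13994923 := by norm_num
theorem prime_14052991 : Nat.Prime 14052991 := by norm_num
theorem prime_14111219 : Nat.Prime 14111219 := by norm_num
theorem prime_14169613 : Nat.Prime 14169613 := by norm_num
theorem prime_14228161 : Nat.Prime 14228161 := by norm_num
theorem prime_14286863 : Nat.Prime 14286863 := by norm_num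
theorem prime_14345717 : Nat.Prime 14345717 := by norm_num
theorem prime_14404757 : Nat.Prime 14404757 := by norm_num
theorem prime_14463881 : Nat.Prime 14463881 := by norm_num
theorem prime_14523241 : Nat.Prime 14523241 := by norm_num
theorem prime_14582767 : Nat.Prime 14582767 := by norm_num
theorem prime_14642449 : Nat.Prime 14642449 := by norm_num
theorem prime_14702293 : Nat.Prime 14702293 := by norm_num
theorem prime_14762291 : Nat.Prime 14762291 := by norm_num
theorem prime_14822461 : Nat.Prime 14822461 := by norm_num
theorem prime_14882789 : Nat.Prime 14882789 := by norm_num
theorem prime_14943283 : Nat.Prime 14943283 := by norm_num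
theorem prime_15003931 : Nat.Prime 15003931 := by norm_num
theorem prime_15064759 : Nat.Prime 15064759 := by norm_num
theorem prime_15125753 : Nat.Prime 15125753 := by norm_num
theorem prime_15186911 : Nat.Prime 15186911 := by norm_num
theorem prime_15248227 : Nat.Prime 15248227 := by norm_num
theorem prime_15309713 : Nat.Prime 15309713 := by norm_num
theorem prime_15371359 : Nat.Prime 15371359 := by norm_num
theorem prime_15433169 : Nat.Prime 15433169 := by norm_num
theorem prime_15495131 : Nat.Prime 15495131 := by norm_num
theorem prime_15557251 : Nat.Prime 15557251 := by norm_num
theorem prime_15619561 : Nat.Prime 15619561 := by norm_num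
theorem prime_15682019 : Nat.Prime 15682019 := by norm_num
theorem prime_15744653 : Nat.Prime 15744653 := by norm_num
theorem prime_15807469 : Nat.Prime 15807469 := by norm_num
theorem prime_15870451 : Nat.Prime 15870451 := by norm_num
theorem prime_15933583 : Nat.Prime 15933583 := by norm_num
theorem prime_15996889 : Nat.Prime 15996889 := by norm_num
theorem prime_16060367 : Nat.Prime 16060367 := by norm_num
theorem prime_16123997 : Nat.Prime 16123997 := by norm_num
theorem prime_16187813 : Nat.Prime 16187813 := by norm_num
theorem prime_16251799 : Nat.Prime 16251799 := by norm_num
theorem prime_16315939 : Nat.Prime 16315939 := by norm_num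
theorem prime_16380263 : Nat.Prime 16380263 := by norm_num
theorem prime_16444751 : Nat.Prime 16444751 := by norm_num
theorem prime_16509407 : Nat.Prime 16509407 := by norm_num
theorem prime_16574231 : Nat.Prime 16574231 := by norm_num
theorem prime_16639223 : Nat.Prime 16639223 := by norm_num
theorem prime_16704397 : Nat.Prime 16704397 := by norm_num
theorem prime_16769719 : Nat.Prime 16769719 := by norm_num
theorem prime_16835233 : Nat.Prime 16835233 := by norm_num
theorem prime_16900909 : Nat.Prime 16900909 := by norm_num
theorem prime_16966717 : Nat.Prime 16966717 := by norm_num
theorem prime_17032723 : Nat.Prime 17032723 := by norm_num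
theorem prime_17098919 : Nat.Prime 17098919 := by norm_num
theorem prime_17165273 : Nat.Prime 17165273 := by norm_num
theorem prime_17231813 : Nat.Prime 17231813 := by norm_num
theorem prime_17298517 : Nat.Prime 17298517 := by norm_num
theorem prime_17365399 : Nat.Prime 17365399 := by norm_num
theorem prime_17432449 : Nat.Prime 17432449 := by norm_num
theorem prime_17499649 : Nat.Prime 17499649 := by norm_num
theorem prime_17567051 : Nat.Prime 17567051 := by norm_num
theorem prime_17634613 : Nat.Prime 17634613 := by norm_num
theorem prime_17702329 : Nat.Prime 17702329 := by norm_num
theorem prime_17770231 : Nat.Prime 17770231 := by norm_num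
theorem prime_17838313 : Nat.Prime 17838313 := by norm_num
theorem prime_17906573 : Nat.Prime 17906573 := by norm_num
theorem prime_17975017 : Nat.Prime 17975017 := by norm_num
theorem prime_18043633 : Nat.Prime 18043633 := by norm_num
theorem prime_18112399 : Nat.Prime 18112399 := by norm_num
theorem prime_18181367 : Nat.Prime 18181367 := by norm_num
theorem prime_18250499 : Nat.Prime 18250499 := by norm_num
theorem prime_18319817 : Nat.Prime 18319817 := by norm_num
theorem prime_18389309 : Nat.Prime 18389309 := by norm_num
theorem prime_18458977 : Nat.Prime 18458977 := by norm_num
theorem prime_18528751 : Nat.Prime 18528751 := by norm_num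
theorem prime_18598771 : Nat.Prime 18598771 := by norm_num
theorem prime_18668959 : Nat.Prime 18668959 := by norm_num

theorem primes7 : ∀ q ∈ part7, Nat.Prime q := by
  intro q hq
  simp only [part7, List.mem_cons, List.not_mem_nil, or_false] at hq
  rcases hq with rfl | rfl | rfl | rfl | rfl | rfl | rfl | rfl | rfl | rfl | rfl | rfl | rfl | rfl | rfl | rfl | rfl | rfl | rfl | rfl | rfl | rfl | rfl | rfl | rfl | rfl | rfl | rfl | rfl | rfl | rfl | rfl | rfl | rfl | rfl | rfl | rfl | rfl | rfl | rfl | rfl | rfl | rfl | rfl | rfl | rfl | rfl | rfl | rfl | rfl | rfl | rfl | rfl | rfl | rfl | rfl | rfl | rfl | rfl | rfl | rfl | rfl | rfl | rfl | rfl | rfl | rfl | rfl | rfl | rfl | rfl | rfl | rfl | rfl | rfl | rfl | rfl | rfl | rfl | rfl | rfl | rfl | rfl | rfl | rfl | rfl | rfl | rfl | rfl | rfl | rfl | rfl | rfl | rfl | rfl | rfl | rfl | rfl | rfl | rfl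
  · exact prime_12541093
  · exact prime_12595039
  · exact prime_12649171
  · exact prime_12703367
  · exact prime_12757807
  · exact prime_12812389
  · exact prime_12867131
  · exact prime_12922031
  · exact prime_12977087
  · exact prime_13032293
  · exact prime_13087649
  · exact prime_13143173
  · exact prime_13198859
  · exact prime_13254691
  · exact prime_13310669
  · exact prime_13366831
  · exact prime_13423117
  · exact prime_13479559
  · exact prime_13536197
  · exact prime_13592989
  · exact prime_13649917
  · exact prime_13707017
  · exact prime_13764263
  · exact prime_13821677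
  · exact prime_13879267
  · exact prime_13937017
  · exact prime_13994923
  · exact prime_14052991
  · exact prime_14111219
  · exact prime_14169613
  · exact prime_14228161
  · exact prime_14286863
  · exact prime_14345717
  · exact prime_14404757
  · exact prime_14463881
  · exact prime_14523241
  · exact prime_14582767
  · exact prime_14642449
  · exact prime_14702293
  · exact prime_14762291
  · exact prime_14822461
  · exact prime_14882789
  · exact prime_14943283
  · exact prime_15003931
  · exact prime_15064759
  · exact prime_15125753
  · exact prime_15186911
  · exact prime_15248227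
  · exact prime_15309713
  · exact prime_15371359
  · exact prime_15433169
  · exact prime_15495131
  · exact prime_15557251
  · exact prime_15619561
  · exact prime_15682019
  · exact prime_15744653
  · exact prime_15807469
  · exact prime_15870451
  · exact prime_15933583
  · exact prime_15996889
  · exact prime_16060367
  · exact prime_16123997
  · exact prime_16187813
  · exact prime_16251799
  · exact prime_16315939
  · exact prime_16380263
  · exact prime_16444751
  · exact prime_16509407
  · exact prime_16574231
  · exact prime_16639223
  · exact prime_16704397
  · exact prime_16769719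
  · exact prime_16835233
  · exact prime_16900909
  · exact prime_16966717
  · exact prime_17032723
  · exact prime_17098919
  · exact prime_17165273
  · exact prime_17231813
  · exact prime_17298517
  · exact prime_17365399
  · exact prime_17432449
  · exact prime_17499649
  · exact prime_17567051
  · exact prime_17634613
  · exact prime_17702329
  · exact prime_17770231
  · exact prime_17838313
  · exact prime_17906573
  · exact prime_17975017
  · exact prime_18043633
  · exact prime_18112399
  · exact prime_18181367
  · exact prime_18250499
  · exact prime_18319817
  · exact prime_18389309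
  · exact prime_18458977
  · exact prime_18528751
  · exact prime_18598771
  · exact prime_18668959

end Cfsg.Agent.Lib.H20.S3571PC
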