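import Mathlib

/-!
# S3571 (Sylvester-Schur block) prime chain, part 8

The primes of the chain with consecutive gaps `(q' - q)^3 ≤ q^2`, checked by `norm_num`.
-/

namespace Cfsg.Agent.Lib.H20.S3571PC

/-- Part 8 of the prime chain. -/
def part8 : List ℕ :=
  [18739289, 18809807, 18880529, 18951431, 19022503, 19093733, 19165151, 19236743, 19308533, 19380469, 19452619, 19524949, 19597453, 19670113, 19742963, 19816007, 19889213, 19962619, 20036207, 20109953, 20183873, 20257997, 20332297, 20406791, 20481467, 20556307, 20631343, 20706563, 20781931, 20857517, 20933287, 21009217, 21085343, 21161653, 21238157, 21314837, 21391703, 21468751, 21545989, 21623419, 21701003, 21778793, 21856763, 21934907, 22013239, 22091779, 22170497, 22249387, 22328483, 22407769, 22487249, 22566893, 22646749, 22726789, 22807019, 22887433, 22967957, 23048749, 23129723, 23210857, 23292187, 23373737, 23455463, 23537387, 23619493, 23701801, 23784311, 23866991, 23949883, 24032969, 24116243, 24199709, 24283351, 24367199, 24451243, 24535463, 24619897, 24704501, 24789311, 24874313, 24959509, 25044889, 25130473, 25216229, 25302203, 25388387, 25474751, 25561321, 25648057, 25735019, 25822157, 25909519, 25997047, 26084803,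 26172743, 26260891, 26349229, 26437751, 26526497, 26615441]

theorem prime_18739289 : Nat.Prime 18739289 := by norm_num
theorem prime_18809807 : Nat.Prime 18809807 := by norm_num
theorem prime_18880529 : Nat.Prime 18880529 := by norm_num
theorem prime_18951431 : Nat.Prime 18951431 := by norm_num
theorem prime_19022503 : Nat.Prime 19022503 := by norm_num
theorem prime_19093733 : Nat.Prime 19093733 := by norm_num
theorem prime_19165151 : Nat.Prime 19165151 := by norm_num
theorem prime_19236743 : Nat.Prime 19236743 := by norm_num
theorem prime_19308533 : Nat.Prime 19308533 := by norm_num
theorem prime_19380469 : Nat.Prime 19380469 := by norm_num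
theorem prime_19452619 : Nat.Prime 19452619 := by norm_num
theorem prime_19524949 : Nat.Prime 19524949 := by norm_num
theorem prime_19597453 : Nat.Prime 19597453 := by norm_num
theorem prime_19670113 : Nat.Prime 19670113 := by norm_num
theorem prime_19742963 : Nat.Prime 19742963 := by norm_num
theorem prime_19816007 : Nat.Prime 19816007 := by norm_num
theorem prime_19889213 : Nat.Prime 19889213 := by norm_num
theorem prime_19962619 : Nat.Prime 19962619 := by norm_num
theorem prime_20036207 : Nat.Prime 20036207 := by norm_num
theorem prime_20109953 : Nat.Prime 20109953 := by norm_num
theorem prime_20183873 : Nat.Prime 20183873 := by norm_num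
theorem prime_20257997 : Nat.Prime 20257997 := by norm_num
theorem prime_20332297 : Nat.Prime 20332297 := by norm_num
theorem prime_20406791 : Nat.Prime 20406791 := by norm_num
theorem prime_20481467 : Nat.Prime 20481467 := by norm_num
theorem prime_20556307 : Nat.Prime 20556307 := by norm_num
theorem prime_20631343 : Nat.Prime 20631343 := by norm_num
theorem prime_20706563 : Nat.Prime 20706563 := by norm_num
theorem prime_20781931 : Nat.Prime 20781931 := by norm_num
theorem prime_20857517 : Nat.Prime 20857517 := by norm_num
theorem prime_20933287 : Nat.Prime 20933287 := by norm_num
theorem prime_21009217 : Nat.Prime 21009217 := by norm_num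
theorem prime_21085343 : Nat.Prime 21085343 := by norm_num
theorem prime_21161653 : Nat.Prime 21161653 := by norm_num
theorem prime_21238157 : Nat.Prime 21238157 := by norm_num
theorem prime_21314837 : Nat.Prime 21314837 := by norm_num
theorem prime_21391703 : Nat.Prime 21391703 := by norm_num
theorem prime_21468751 : Nat.Prime 21468751 := by norm_num
theorem prime_21545989 : Nat.Prime 21545989 := by norm_num
theorem prime_21623419 : Nat.Prime 21623419 := by norm_num
theorem prime_21701003 : Nat.Prime 21701003 := by norm_num
theorem prime_21778793 : Nat.Prime 21778793 := by norm_num
theorem prime_21856763 : Nat.Prime 21856763 := by norm_num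
theorem prime_21934907 : Nat.Prime 21934907 := by norm_num
theorem prime_22013239 : Nat.Prime 22013239 := by norm_num
theorem prime_22091779 : Nat.Prime 22091779 := by norm_num
theorem prime_22170497 : Nat.Prime 22170497 := by norm_num
theorem prime_22249387 : Nat.Prime 22249387 := by norm_num
theorem prime_22328483 : Nat.Prime 22328483 := by norm_num
theorem prime_22407769 : Nat.Prime 22407769 := by norm_num
theorem prime_22487249 : Nat.Prime 22487249 := by norm_num
theorem prime_22566893 : Nat.Prime 22566893 := by norm_num
theorem prime_22646749 : Nat.Prime 22646749 := by norm_num
theorem prime_22726789 : Nat.Prime 22726789 := by norm_num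
theorem prime_22807019 : Nat.Prime 22807019 := by norm_num
theorem prime_22887433 : Nat.Prime 22887433 := by norm_num
theorem prime_22967957 : Nat.Prime 22967957 := by norm_num
theorem prime_23048749 : Nat.Prime 23048749 := by norm_num
theorem prime_23129723 : Nat.Prime 23129723 := by norm_num
theorem prime_23210857 : Nat.Prime 23210857 := by norm_num
theorem prime_23292187 : Nat.Prime 23292187 := by norm_num
theorem prime_23373737 : Nat.Prime 23373737 := by norm_num
theorem prime_23455463 : Nat.Prime 23455463 := by norm_num
theorem prime_23537387 : Nat.Prime 23537387 := by norm_num
theorem prime_23619493 : Nat.Prime 23619493 := by norm_num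
theorem prime_23701801 : Nat.Prime 23701801 := by norm_num
theorem prime_23784311 : Nat.Prime 23784311 := by norm_num
theorem prime_23866991 : Nat.Prime 23866991 := by norm_num
theorem prime_23949883 : Nat.Prime 23949883 := by norm_num
theorem prime_24032969 : Nat.Prime 24032969 := by norm_num
theorem prime_24116243 : Nat.Prime 24116243 := by norm_num
theorem prime_24199709 : Nat.Prime 24199709 := by norm_num
theorem prime_24283351 : Nat.Prime 24283351 := by norm_num
theorem prime_24367199 : Nat.Prime 24367199 := by norm_num
theorem prime_24451243 : Nat.Prime 24451243 := by norm_num
theorem prime_24535463 : Nat.Prime 24535463 := by norm_num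
theorem prime_24619897 : Nat.Prime 24619897 := by norm_num
theorem prime_24704501 : Nat.Prime 24704501 := by norm_num
theorem prime_24789311 : Nat.Prime 24789311 := by norm_num
theorem prime_24874313 : Nat.Prime 24874313 := by norm_num
theorem prime_24959509 : Nat.Prime 24959509 := by norm_num
theorem prime_25044889 : Nat.Prime 25044889 := by norm_num
theorem prime_25130473 : Nat.Prime 25130473 := by norm_num
theorem prime_25216229 : Nat.Prime 25216229 := by norm_num
theorem prime_25302203 : Nat.Prime 25302203 := by norm_num
theorem prime_25388387 : Nat.Prime 25388387 := by norm_num
theorem prime_25474751 : Nat.Prime 25474751 := by norm_num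
theorem prime_25561321 : Nat.Prime 25561321 := by norm_num
theorem prime_25648057 : Nat.Prime 25648057 := by norm_num
theorem prime_25735019 : Nat.Prime 25735019 := by norm_num
theorem prime_25822157 : Nat.Prime 25822157 := by norm_num
theorem prime_25909519 : Nat.Prime 25909519 := by norm_num
theorem prime_25997047 : Nat.Prime 25997047 := by norm_num
theorem prime_26084803 : Nat.Prime 26084803 := by norm_num
theorem prime_26172743 : Nat.Prime 26172743 := by norm_num
theorem prime_26260891 : Nat.Prime 26260891 := by norm_num
theorem prime_26349229 : Nat.Prime 26349229 := by norm_num
theorem prime_26437751 : Nat.Prime 26437751 := by norm_num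
theorem prime_26526497 : Nat.Prime 26526497 := by norm_num
theorem prime_26615441 : Nat.Prime 26615441 := by norm_num

theorem primes8 : ∀ q ∈ part8, Nat.Prime q := by
  intro q hq
  simp only [part8, List.mem_cons, List.not_mem_nil, or_false] at hq
  rcases hq with rfl | rfl | rfl | rfl | rfl | rfl | rfl | rfl | rfl | rfl | rfl | rfl | rfl | rfl | rfl | rfl | rfl | rfl | rfl | rfl | rfl | rfl | rfl | rfl | rfl | rfl | rfl | rfl | rfl | rfl | rfl | rfl | rfl | rfl | rfl | rfl | rfl | rfl | rfl | rfl | rfl | rfl | rfl | rfl | rfl | rfl | rfl | rfl | rfl | rfl | rfl | rfl | rfl | rfl | rfl | rfl | rfl | rfl | rfl | rfl | rfl | rfl | rfl | rfl | rfl | rfl | rfl | rfl | rfl | rfl | rfl | rfl | rfl | rfl | rfl | rfl | rfl | rfl | rfl | rfl | rfl | rfl | rfl | rfl | rfl | rfl | rfl | rfl | rfl | rfl | rfl | rfl | rfl | rfl | rfl | rfl | rfl | rfl | rfl | rfl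
  · exact prime_18739289
  · exact prime_18809807
  · exact prime_18880529
  · exact prime_18951431
  · exact prime_19022503
  · exact prime_19093733
  · exact prime_19165151
  · exact prime_19236743
  · exact prime_19308533
  · exact prime_19380469
  · exact prime_19452619
  · exact prime_19524949
  · exact prime_19597453
  · exact prime_19670113
  · exact prime_19742963
  · exact prime_19816007
  · exact prime_19889213
  · exact prime_19962619
  · exact prime_20036207
  · exact prime_20109953
  · exact prime_20183873
  · exact prime_20257997
  · exact prime_20332297
  · exact prime_20406791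
  · exact prime_20481467
  · exact prime_20556307
  · exact prime_20631343
  · exact prime_20706563
  · exact prime_20781931
  · exact prime_20857517
  · exact prime_20933287
  · exact prime_21009217
  · exact prime_21085343
  · exact prime_21161653
  · exact prime_21238157
  · exact prime_21314837
  · exact prime_21391703
  · exact prime_21468751
  · exact prime_21545989
  · exact prime_21623419
  · exact prime_21701003
  · exact prime_21778793
  · exact prime_21856763
  · exact prime_21934907
  · exact prime_22013239
  · exact prime_22091779
  · exact prime_22170497
  · exact prime_22249387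
  · exact prime_22328483
  · exact prime_22407769
  · exact prime_22487249
  · exact prime_22566893
  · exact prime_22646749
  · exact prime_22726789
  · exact prime_22807019
  · exact prime_22887433
  · exact prime_22967957
  · exact prime_23048749
  · exact prime_23129723
  · exact prime_23210857
  · exact prime_23292187
  · exact prime_23373737
  · exact prime_23455463
  · exact prime_23537387
  · exact prime_23619493
  · exact prime_23701801
  · exact prime_23784311
  · exact prime_23866991
  · exact prime_23949883
  · exact prime_24032969
  · exact prime_24116243
  · exact prime_24199709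
  · exact prime_24283351
  · exact prime_24367199
  · exact prime_24451243
  · exact prime_24535463
  · exact prime_24619897
  · exact prime_24704501
  · exact prime_24789311
  · exact prime_24874313
  · exact prime_24959509
  · exact prime_25044889
  · exact prime_25130473
  · exact prime_25216229
  · exact prime_25302203
  · exact prime_25388387
  · exact prime_25474751
  · exact prime_25561321
  · exact prime_25648057
  · exact prime_25735019
  · exact prime_25822157
  · exact prime_25909519
  · exact prime_25997047
  · exact prime_26084803
  · exact prime_26172743
  · exact prime_26260891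
  · exact prime_26349229
  · exact prime_26437751
  · exact prime_26526497
  · exact prime_26615441

end Cfsg.Agent.Lib.H20.S3571PC
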