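import Mathlib

/-!
# S3571 (Sylvester-Schur block) prime chain, part 9

The primes of the chain with consecutive gaps `(q' - q)^3 ≤ q^2`, checked by `norm_num`.
-/

namespace Cfsg.Agent.Lib.H20.S3571PC

/-- Part 9 of the prime chain. -/
def part9 : List ℕ :=
  [26704567, 26793881, 26883403, 26973139, 27063079, 27153211, 27243551, 27334091, 27424759, 27515689, 27606769, 27698071, 27789599, 27881323, 27973259, 28065407, 28157741, 28250273, 28343023, 28435969, 28529113, 28622471, 28716041, 28809779, 28903753, 28997923, 29092289, 29186873, 29281663, 29376653, 29471843, 29567227, 29662799, 29758621, 29854651, 29950861, 30047287, 30143929, 30240781, 30337841, 30435113, 30532573, 30630253, 30728123, 30826223, 30924529, 31023037, 31121749, 31220681, 31319791, 31419121, 31518691, 31618463, 31718441, 31818613, 31919023, 32019641, 32120449, 32221489, 32322709, 32424169, 32525837, 32627687, 32729791, 32832101, 32934631, 33037369, 33140299, 33243451, 33346823, 33450409, 33554221, 33658201, 33762437, 33866897, 33971549, 34076423, 34181527, 34286843, 34392331, 34498073, 34604039, 34710223, 34816609, 34923193, 35030003, 35137051, 35244323, 35351803, 35459503, 35567431, 35675551, 35783899, 35892449,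 36001249, 36110273, 36219499, 36328933, 36438617, 36548513]

theorem prime_26704567 : Nat.Prime 26704567 := by norm_num
theorem prime_26793881 : Nat.Prime 26793881 := by norm_num
theorem prime_26883403 : Nat.Prime 26883403 := by norm_num
theorem prime_26973139 : Nat.Prime 26973139 := by norm_num
theorem prime_27063079 : Nat.Prime 27063079 := by norm_num
theorem prime_27153211 : Nat.Prime 27153211 := by norm_num
theorem prime_27243551 : Nat.Prime 27243551 := by norm_num
theorem prime_27334091 : Nat.Prime 27334091 := by norm_num
theorem prime_27424759 : Nat.Prime 27424759 := by norm_num
theorem prime_27515689 : Nat.Prime 27515689 := by norm_num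
theorem prime_27606769 : Nat.Prime 27606769 := by norm_num
theorem prime_27698071 : Nat.Prime 27698071 := by norm_num
theorem prime_27789599 : Nat.Prime 27789599 := by norm_num
theorem prime_27881323 : Nat.Prime 27881323 := by norm_num
theorem prime_27973259 : Nat.Prime 27973259 := by norm_num
theorem prime_28065407 : Nat.Prime 28065407 := by norm_num
theorem prime_28157741 : Nat.Prime 28157741 := by norm_num
theorem prime_28250273 : Nat.Prime 28250273 := by norm_num
theorem prime_28343023 : Nat.Prime 28343023 := by norm_num
theorem prime_28435969 : Nat.Prime 28435969 := by norm_num
theorem prime_28529113 : Nat.Prime 28529113 := by norm_num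
theorem prime_28622471 : Nat.Prime 28622471 := by norm_num
theorem prime_28716041 : Nat.Prime 28716041 := by norm_num
theorem prime_28809779 : Nat.Prime 28809779 := by norm_num
theorem prime_28903753 : Nat.Prime 28903753 := by norm_num
theorem prime_28997923 : Nat.Prime 28997923 := by norm_num
theorem prime_29092289 : Nat.Prime 29092289 := by norm_num
theorem prime_29186873 : Nat.Prime 29186873 := by norm_num
theorem prime_29281663 : Nat.Prime 29281663 := by norm_num
theorem prime_29376653 : Nat.Prime 29376653 := by norm_num
theorem prime_29471843 : Nat.Prime 29471843 := by norm_num
theorem prime_29567227 : Nat.Prime 29567227 := by norm_num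
theorem prime_29662799 : Nat.Prime 29662799 := by norm_num
theorem prime_29758621 : Nat.Prime 29758621 := by norm_num
theorem prime_29854651 : Nat.Prime 29854651 := by norm_num
theorem prime_29950861 : Nat.Prime 29950861 := by norm_num
theorem prime_30047287 : Nat.Prime 30047287 := by norm_num
theorem prime_30143929 : Nat.Prime 30143929 := by norm_num
theorem prime_30240781 : Nat.Prime 30240781 := by norm_num
theorem prime_30337841 : Nat.Prime 30337841 := by norm_num
theorem prime_30435113 : Nat.Prime 30435113 := by norm_num
theorem prime_30532573 : Nat.Prime 30532573 := by norm_num
theorem prime_30630253 : Nat.Prime 30630253 := by norm_num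
theorem prime_30728123 : Nat.Prime 30728123 := by norm_num
theorem prime_30826223 : Nat.Prime 30826223 := by norm_num
theorem prime_30924529 : Nat.Prime 30924529 := by norm_num
theorem prime_31023037 : Nat.Prime 31023037 := by norm_num
theorem prime_31121749 : Nat.Prime 31121749 := by norm_num
theorem prime_31220681 : Nat.Prime 31220681 := by norm_num
theorem prime_31319791 : Nat.Prime 31319791 := by norm_num
theorem prime_31419121 : Nat.Prime 31419121 := by norm_num
theorem prime_31518691 : Nat.Prime 31518691 := by norm_num
theorem prime_31618463 : Nat.Prime 31618463 := by norm_num
theorem prime_31718441 : Nat.Prime 31718441 := by norm_num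
theorem prime_31818613 : Nat.Prime 31818613 := by norm_num
theorem prime_31919023 : Nat.Prime 31919023 := by norm_num
theorem prime_32019641 : Nat.Prime 32019641 := by norm_num
theorem prime_32120449 : Nat.Prime 32120449 := by norm_num
theorem prime_32221489 : Nat.Prime 32221489 := by norm_num
theorem prime_32322709 : Nat.Prime 32322709 := by norm_num
theorem prime_32424169 : Nat.Prime 32424169 := by norm_num
theorem prime_32525837 : Nat.Prime 32525837 := by norm_num
theorem prime_32627687 : Nat.Prime 32627687 := by norm_num
theorem prime_32729791 : Nat.Prime 32729791 := by norm_num
theorem prime_32832101 : Nat.Prime 32832101 := by norm_num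
theorem prime_32934631 : Nat.Prime 32934631 := by norm_num
theorem prime_33037369 : Nat.Prime 33037369 := by norm_num
theorem prime_33140299 : Nat.Prime 33140299 := by norm_num
theorem prime_33243451 : Nat.Prime 33243451 := by norm_num
theorem prime_33346823 : Nat.Prime 33346823 := by norm_num
theorem prime_33450409 : Nat.Prime 33450409 := by norm_num
theorem prime_33554221 : Nat.Prime 33554221 := by norm_num
theorem prime_33658201 : Nat.Prime 33658201 := by norm_num
theorem prime_33762437 : Nat.Prime 33762437 := by norm_num
theorem prime_33866897 : Nat.Prime 33866897 := by norm_num
theorem prime_33971549 : Nat.Prime 33971549 := by norm_num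
theorem prime_34076423 : Nat.Prime 34076423 := by norm_num
theorem prime_34181527 : Nat.Prime 34181527 := by norm_num
theorem prime_34286843 : Nat.Prime 34286843 := by norm_num
theorem prime_34392331 : Nat.Prime 34392331 := by norm_num
theorem prime_34498073 : Nat.Prime 34498073 := by norm_num
theorem prime_34604039 : Nat.Prime 34604039 := by norm_num
theorem prime_34710223 : Nat.Prime 34710223 := by norm_num
theorem prime_34816609 : Nat.Prime 34816609 := by norm_num
theorem prime_34923193 : Nat.Prime 34923193 := by norm_num
theorem prime_35030003 : Nat.Prime 35030003 := by norm_num
theorem prime_35137051 : Nat.Prime 35137051 := by norm_num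
theorem prime_35244323 : Nat.Prime 35244323 := by norm_num
theorem prime_35351803 : Nat.Prime 35351803 := by norm_num
theorem prime_35459503 : Nat.Prime 35459503 := by norm_num
theorem prime_35567431 : Nat.Prime 35567431 := by norm_num
theorem prime_35675551 : Nat.Prime 35675551 := by norm_num
theorem prime_35783899 : Nat.Prime 35783899 := by norm_num
theorem prime_35892449 : Nat.Prime 35892449 := by norm_num
theorem prime_36001249 : Nat.Prime 36001249 := by norm_num
theorem prime_36110273 : Nat.Prime 36110273 := by norm_num
theorem prime_36219499 : Nat.Prime 36219499 := by norm_num
theorem prime_36328933 : Nat.Prime 36328933 := by norm_num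
theorem prime_36438617 : Nat.Prime 36438617 := by norm_num
theorem prime_36548513 : Nat.Prime 36548513 := by norm_num

theorem primes9 : ∀ q ∈ part9, Nat.Prime q := by
  intro q hq
  simp only [part9, List.mem_cons, List.not_mem_nil, or_false] at hq
  rcases hq with rfl | rfl | rfl | rfl | rfl | rfl | rfl | rfl | rfl | rfl | rfl | rfl | rfl | rfl | rfl | rfl | rfl | rfl | rfl | rfl | rfl | rfl | rfl | rfl | rfl | rfl | rfl | rfl | rfl | rfl | rfl | rfl | rfl | rfl | rfl | rfl | rfl | rfl | rfl | rfl | rfl | rfl | rfl | rfl | rfl | rfl | rfl | rfl | rfl | rfl | rfl | rfl | rfl | rfl | rfl | rfl | rfl | rfl | rfl | rfl | rfl | rfl | rfl | rfl | rfl | rfl | rfl | rfl | rfl | rfl | rfl | rfl | rfl | rfl | rfl | rfl | rfl | rfl | rfl | rfl | rfl | rfl | rfl | rfl | rfl | rfl | rfl | rfl | rfl | rfl | rfl | rfl | rfl | rfl | rfl | rfl | rfl | rfl | rfl | rfl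
  · exact prime_26704567
  · exact prime_26793881
  · exact prime_26883403
  · exact prime_26973139
  · exact prime_27063079
  · exact prime_27153211
  · exact prime_27243551
  · exact prime_27334091
  · exact prime_27424759
  · exact prime_27515689
  · exact prime_27606769
  · exact prime_27698071
  · exact prime_27789599
  · exact prime_27881323
  · exact prime_27973259
  · exact prime_28065407
  · exact prime_28157741
  · exact prime_28250273
  · exact prime_28343023
  · exact prime_28435969
  · exact prime_28529113
  · exact prime_28622471
  · exact prime_28716041
  · exact prime_28809779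
  · exact prime_28903753
  · exact prime_28997923
  · exact prime_29092289
  · exact prime_29186873
  · exact prime_29281663
  · exact prime_29376653
  · exact prime_29471843
  · exact prime_29567227
  · exact prime_29662799
  · exact prime_29758621
  · exact prime_29854651
  · exact prime_29950861
  · exact prime_30047287
  · exact prime_30143929
  · exact prime_30240781
  · exact prime_30337841
  · exact prime_30435113
  · exact prime_30532573
  · exact prime_30630253
  · exact prime_30728123
  · exact prime_30826223
  · exact prime_30924529
  · exact prime_31023037
  · exact prime_31121749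
  · exact prime_31220681
  · exact prime_31319791
  · exact prime_31419121
  · exact prime_31518691
  · exact prime_31618463
  · exact prime_31718441
  · exact prime_31818613
  · exact prime_31919023
  · exact prime_32019641
  · exact prime_32120449
  · exact prime_32221489
  · exact prime_32322709
  · exact prime_32424169
  · exact prime_32525837
  · exact prime_32627687
  · exact prime_32729791
  · exact prime_32832101
  · exact prime_32934631
  · exact prime_33037369
  · exact prime_33140299
  · exact prime_33243451
  · exact prime_33346823
  · exact prime_33450409
  · exact prime_33554221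
  · exact prime_33658201
  · exact prime_33762437
  · exact prime_33866897
  · exact prime_33971549
  · exact prime_34076423
  · exact prime_34181527
  · exact prime_34286843
  · exact prime_34392331
  · exact prime_34498073
  · exact prime_34604039
  · exact prime_34710223
  · exact prime_34816609
  · exact prime_34923193
  · exact prime_35030003
  · exact prime_35137051
  · exact prime_35244323
  · exact prime_35351803
  · exact prime_35459503
  · exact prime_35567431
  · exact prime_35675551
  · exact prime_35783899
  · exact prime_35892449
  · exact prime_36001249
  · exact prime_36110273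
  · exact prime_36219499
  · exact prime_36328933
  · exact prime_36438617
  · exact prime_36548513

end Cfsg.Agent.Lib.H20.S3571PC
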