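import Cfsg.Agent.Lib.H8.S3571SSDefs
import Cfsg.Agent.Lib.H20.S3571PC0
import Cfsg.Agent.Lib.H20.S3571PC1
import Cfsg.Agent.Lib.H20.S3571PC2
import Cfsg.Agent.Lib.H20.S3571PC3
import Cfsg.Agent.Lib.H20.S3571PC4
import Cfsg.Agent.Lib.H20.S3571PC5
import Cfsg.Agent.Lib.H20.S3571PC6
import Cfsg.Agent.Lib.H20.S3571PC7
import Cfsg.Agent.Lib.H20.S3571PC8
import Cfsg.Agent.Lib.H20.S3571PC9
import Cfsg.Agent.Lib.H20.S3571PC10
import Cfsg.Agent.Lib.H20.S3571PC11
import Cfsg.Agent.Lib.H20.S3571PC12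
import Cfsg.Agent.Lib.H20.S3571PC13
import Cfsg.Agent.Lib.H20.S3571PC14
import Cfsg.Agent.Lib.H20.S3571PC15

/-!
# S3571 (Sylvester-Schur block), piece SS11: the prime chain up to `2^27`

The concatenation of `part0, ..., part15` is a list of 1541 primes
`11 < 13 < 17 < 23 < ... < 134244503` (the last one is `> 2^27`) such that consecutive members
`q < q'` satisfy `(q' - q)^3 ≤ q^2`.  Consequently every `11 ≤ n < 2^27` has a prime `q ≤ n`
with `(n - q)^3 < n^2`, which is helper8's `SS11Stmt` (`ss11`).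
-/

namespace Cfsg.Agent.Lib.H20.S3571PCh

open Cfsg.Agent.Lib.H20.S3571PC

/-- Boolean checker: starting from `q`, the list is strictly increasing with cube-gap
condition `(q' - q)^3 ≤ q^2` between consecutive members. -/
def chk : ℕ → List ℕ → Bool
  | _, [] => true
  | q, q' :: l => decide (q < q') && (decide ((q' - q) ^ 3 ≤ q ^ 2) && chk q' l)

/-- Last member of the chain `q :: l`. -/
def lastD : ℕ → List ℕ → ℕ
  | q, [] => q
  | _, q' :: l => lastD q' l

theorem chk_cons (q q' : ℕ) (l : List ℕ) :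
    chk q (q' :: l) = true ↔ q < q' ∧ (q' - q) ^ 3 ≤ q ^ 2 ∧ chk q' l = true := by
  simp [chk]

/-- Generic chain lemma: between the first member and the last member of a checked chain,
every `n` lies in a window `a ≤ n < b` with `a` in the chain, `a < b` and `(b - a)^3 ≤ a^2`. -/
theorem exists_of_chk : ∀ (l : List ℕ) (q : ℕ), chk q l = true → ∀ n : ℕ, q ≤ n →
    n < lastD q l →
    ∃ a b : ℕ, a ∈ q :: l ∧ a ≤ n ∧ n < b ∧ (b - a) ^ 3 ≤ a ^ 2 := by
  intro l
  induction l with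
  | nil =>
    intro q _ n hqn hn
    simp only [lastD] at hn
    omega
  | cons q' l ih =>
    intro q hc n hqn hn
    rw [chk_cons] at hc
    obtain ⟨_, hgap, hc'⟩ := hc
    by_cases h : n < q'
    · exact ⟨q, q', List.mem_cons_self, hqn, h, hgap⟩
    · have hq'n : q' ≤ n := not_lt.mp h
      have hn' : n < lastD q' l := by
        simpa only [lastD] using hn
      obtain ⟨a, b, ha, han, hnb, hab⟩ := ih q' hc' n hq'n hn'
      exact ⟨a, b, List.mem_cons_of_mem _ ha, han, hnb, hab⟩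

/-- The tail of the prime chain (everything after `11`). -/
def chainTail : List ℕ :=
  (part0 ++ part1 ++ part2 ++ part3 ++ part4 ++ part5 ++ part6 ++ part7 ++ part8 ++ part9 ++ part10 ++ part11 ++ part12 ++ part13 ++ part14 ++ part15).tail

theorem chain_eq :
    part0 ++ part1 ++ part2 ++ part3 ++ part4 ++ part5 ++ part6 ++ part7 ++ part8 ++ part9 ++ part10 ++ part11 ++ part12 ++ part13 ++ part14 ++ part15 = 11 :: chainTail := by
  rfl

theorem chain_primes : ∀ q ∈ (11 :: chainTail), Nat.Prime q := by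
  intro q hq
  rw [← chain_eq] at hq
  simp only [List.mem_append] at hq
  rcases hq with ((((((((((((((hq | hq) | hq) | hq) | hq) | hq) | hq) | hq) | hq) | hq) | hq) | hq) | hq) | hq) | hq) | hq
  · exact primes0 q hq
  · exact primes1 q hq
  · exact primes2 q hq
  · exact primes3 q hq
  · exact primes4 q hq
  · exact primes5 q hq
  · exact primes6 q hq
  · exact primes7 q hq
  · exact primes8 q hq
  · exact primes9 q hq
  · exact primes10 q hq
  · exact primes11 q hq
  · exact primes12 q hq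
  · exact primes13 q hq
  · exact primes14 q hq
  · exact primes15 q hq

theorem chk_chain : chk 11 chainTail = true := by decide +kernel

theorem last_chain : lastD 11 chainTail = 134244503 := by decide +kernel

/-- Window form: every `11 ≤ n < 2^27` has a chain prime `q ≤ n` with `(n - q)^3 < n^2`. -/
theorem chain_window (n : ℕ) (h11 : 11 ≤ n) (hn : n < 2 ^ 27) :
    ∃ q : ℕ, q.Prime ∧ q ≤ n ∧ (n - q) ^ 3 < n ^ 2 := by
  have hlast : n < lastD 11 chainTail := by
    rw [last_chain]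
    have : (2 : ℕ) ^ 27 = 134217728 := by norm_num
    omega
  obtain ⟨a, b, ha, han, hnb, hab⟩ := exists_of_chk chainTail 11 chk_chain n h11 hlast
  refine ⟨a, chain_primes a ha, han, ?_⟩
  have h1 : n - a < b - a := by omega
  calc (n - a) ^ 3 < (b - a) ^ 3 := Nat.pow_lt_pow_left h1 (by norm_num)
    _ ≤ a ^ 2 := hab
    _ ≤ n ^ 2 := Nat.pow_le_pow_left han 2

/-- **SS11** in helper8's exact shape. -/
theorem ss11 : Cfsg.Agent.Lib.H8.S3571SS.SS11Stmt := by
  intro n hlo hhi
  exact chain_window n (by omega) hhi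

/-- Prime in the window `(n - k, n]` for `11 ≤ n < 2^27` and `n^2 ≤ k^3`. -/
theorem chain_prime (n k : ℕ) (h11 : 11 ≤ n) (hn : n < 2 ^ 27) (hk : n ^ 2 ≤ k ^ 3) :
    ∃ p : ℕ, p.Prime ∧ n - k < p ∧ p ≤ n := by
  obtain ⟨q, hq, hqn, hgap⟩ := chain_window n h11 hn
  refine ⟨q, hq, ?_, hqn⟩
  have h2 : n - q < k := lt_of_pow_lt_pow_left₀ 3 (Nat.zero_le k) (lt_of_lt_of_le hgap hk)
  have := hq.pos
  omega

/-- Divisor form: for `11 ≤ n < 2^27`, `2 * k ≤ n` and `n^2 ≤ k^3`, some prime `p > k`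
divides `n.choose k`. -/
theorem chain_dvd (n k : ℕ) (h11 : 11 ≤ n) (hn : n < 2 ^ 27) (h2k : 2 * k ≤ n)
    (hk : n ^ 2 ≤ k ^ 3) : ∃ p : ℕ, p.Prime ∧ k < p ∧ p ∣ n.choose k := by
  obtain ⟨p, hp, hlo, hhi⟩ := chain_prime n k h11 hn hk
  have hkp : k < p := by omega
  exact ⟨p, hp, hkp, hp.dvd_choose hkp hlo hhi⟩

end Cfsg.Agent.Lib.H20.S3571PCh
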