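import Mathlib

/-!
# S3777 (Vaughan-Lee), piece (P2)-CORE: the group-theoretic heart of the residual step

`G` a finite `p`-group, `M` a subgroup of index `p` with `M' = G'` (a *residual* pair) and `G`
nonabelian.  Then some subgroup `K ≠ M` of index `p` is either non-residual for `(K, K ⊓ M)`
(`K' ≠ (K ⊓ M)'`) or has the same derived group as `G`.  No breadth, no induction hypothesis here.
-/

set_option autoImplicit false
open scoped commutatorElement

namespace Cfsg.Agent.Lib.H20.S3777P2C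

variable {G : Type*} [Group G]

/-- The elements commuting with every element of `S` modulo the normal subgroup `N`. -/
def cen (N : Subgroup G) [hN : N.Normal] (S : Set G) : Subgroup G where
  carrier := {g | ∀ z ∈ S, ⁅z, g⁆ ∈ N}
  one_mem' := by
    intro z _
    have : ⁅z, (1 : G)⁆ = 1 := by simp [commutatorElement_def]
    rw [this]; exact one_mem _
  mul_mem' := by
    intro a b ha hb z hz
    have h : ⁅z, a * b⁆ = ⁅z, a⁆ * (a * ⁅z, b⁆ * a⁻¹) := by
      simp only [commutatorElement_def]; group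
    rw [h]
    exact mul_mem (ha z hz) (hN.conj_mem _ (hb z hz) a)
  inv_mem' := by
    intro a ha z hz
    have h : ⁅z, a⁻¹⁆ = a⁻¹ * (⁅z, a⁆)⁻¹ * a⁻¹⁻¹ := by
      simp only [commutatorElement_def]; group
    rw [h]
    exact hN.conj_mem _ (inv_mem (ha z hz)) a⁻¹

theorem mem_cen {N : Subgroup G} [N.Normal] {S : Set G} {g : G} :
    g ∈ cen N S ↔ ∀ z ∈ S, ⁅z, g⁆ ∈ N := Iff.rfl

variable [Finite G] {p : ℕ} [hp : Fact p.Prime]

/-- A maximal subgroup of a finite `p`-group is normal. -/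
theorem normal_of_isCoatom (hG : IsPGroup p G) {K : Subgroup G} (hK : IsCoatom K) : K.Normal := by
  have hnil : Group.IsNilpotent G := hG.isNilpotent
  exact Subgroup.NormalizerCondition.normal_of_coatom K Group.normalizerCondition_of_isNilpotent hK

/-- A maximal subgroup of a finite `p`-group has index `p`. -/
theorem index_of_isCoatom (hG : IsPGroup p G) {K : Subgroup G} (hK : IsCoatom K) :
    K.index = p := by
  haveI : K.Normal := normal_of_isCoatom hG hK
  have hQ : IsPGroup p (G ⧸ K) := hG.to_quotient K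
  have hcard : Nat.card (G ⧸ K) = K.index := (Subgroup.index_eq_card K).symm
  obtain ⟨n, hn⟩ := hQ.exists_card_eq
  have hn0 : n ≠ 0 := by
    intro h0
    rw [h0, pow_zero, hcard, Subgroup.index_eq_one] at hn
    exact hK.1 hn
  have hp_dvd : p ∣ Nat.card (G ⧸ K) := by rw [hn]; exact dvd_pow_self p hn0
  obtain ⟨x, hx⟩ := exists_prime_orderOf_dvd_card' p hp_dvd
  have hLtop : (Subgroup.zpowers x).comap (QuotientGroup.mk' K) = ⊤ := by
    by_contra h
    have hKL : K ≤ (Subgroup.zpowers x).comap (QuotientGroup.mk' K) := by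
      intro k hk
      rw [Subgroup.mem_comap, QuotientGroup.mk'_apply, (QuotientGroup.eq_one_iff k).2 hk]
      exact one_mem _
    have hLK : (Subgroup.zpowers x).comap (QuotientGroup.mk' K) ≤ K := by
      rcases hKL.lt_or_eq with hlt | heq
      · exact absurd (hK.2 _ hlt) h
      · exact heq.ge
    obtain ⟨g, rfl⟩ := QuotientGroup.mk_surjective x
    have hg : g ∈ (Subgroup.zpowers (g : G ⧸ K)).comap (QuotientGroup.mk' K) := by
      rw [Subgroup.mem_comap, QuotientGroup.mk'_apply]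
      exact Subgroup.mem_zpowers _
    have h1 : (g : G ⧸ K) = 1 := (QuotientGroup.eq_one_iff g).2 (hLK hg)
    rw [h1, orderOf_one] at hx
    exact hp.out.one_lt.ne hx
  have hz : Subgroup.zpowers x = ⊤ := by
    rw [eq_top_iff]
    intro q _
    obtain ⟨g, rfl⟩ := QuotientGroup.mk_surjective q
    have hg : g ∈ (Subgroup.zpowers x).comap (QuotientGroup.mk' K) := by rw [hLtop]; trivial
    exact hg
  rw [← hcard, ← hx, ← Nat.card_zpowers, hz, Subgroup.card_top]

/-- Two subgroups of the same prime index, one inside the other, are equal. -/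
theorem eq_of_le_of_index (H K : Subgroup G) (hHK : H ≤ K) (hH : H.index = p) (hK : K.index = p) :
    H = K := by
  have h := Subgroup.relIndex_mul_index hHK
  rw [hH, hK] at h
  have h1 : H.relIndex K = 1 := by
    have hp0 : 0 < p := hp.out.pos
    exact Nat.eq_of_mul_eq_mul_right hp0 (by rw [h, one_mul])
  exact le_antisymm hHK (Subgroup.relIndex_eq_one.mp h1)

/-- A nonabelian finite `p`-group has a maximal subgroup different from a given subgroup of
index `p`. -/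
theorem exists_isCoatom_ne (M : Subgroup G) (hM : M.index = p) (hna : commutator G ≠ ⊥) :
    ∃ K : Subgroup G, IsCoatom K ∧ ¬ K ≤ M := by
  have hMtop : M ≠ ⊤ := by
    intro h
    rw [h, Subgroup.index_top] at hM
    exact hp.out.one_lt.ne hM
  obtain ⟨g, hg⟩ : ∃ g, g ∉ M := by
    by_contra h
    push Not at h
    exact hMtop (eq_top_iff.2 fun x _ => h x)
  have hz : Subgroup.zpowers g ≠ ⊤ := by
    intro h
    apply hna
    rw [commutator_eq_bot_iff_center_eq_top, eq_top_iff]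
    intro x _
    rw [Subgroup.mem_center_iff]
    intro y
    have hx : x ∈ Subgroup.zpowers g := by rw [h]; trivial
    have hy : y ∈ Subgroup.zpowers g := by rw [h]; trivial
    obtain ⟨i, rfl⟩ := Subgroup.mem_zpowers_iff.1 hx
    obtain ⟨j, rfl⟩ := Subgroup.mem_zpowers_iff.1 hy
    exact zpow_mul_comm g j i
  rcases eq_top_or_exists_le_coatom (Subgroup.zpowers g) with h | ⟨K, hK, hgK⟩
  · exact absurd h hz
  · exact ⟨K, hK, fun hKM => hg (hKM (hgK (Subgroup.mem_zpowers g)))⟩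

/-- A third maximal subgroup over `K₀ ⊓ M`. -/
theorem exists_third (hG : IsPGroup p G) (M K₀ : Subgroup G) (hM : M.index = p)
    [hMn : M.Normal] (hK₀ : IsCoatom K₀) (hK₀M : ¬ K₀ ≤ M) :
    ∃ K₁ : Subgroup G, IsCoatom K₁ ∧ K₀ ⊓ M ≤ K₁ ∧ ¬ K₁ ≤ M ∧ ¬ K₁ ≤ K₀ := by
  haveI : K₀.Normal := normal_of_isCoatom hG hK₀
  have hK₀i : K₀.index = p := index_of_isCoatom hG hK₀
  have hMK₀ : ¬ M ≤ K₀ := by
    intro h
    exact hK₀M (eq_of_le_of_index M K₀ h hM hK₀i).ge
  obtain ⟨y, hyK, hyM⟩ := Set.not_subset.1 hK₀M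
  obtain ⟨m, hmM, hmK⟩ := Set.not_subset.1 hMK₀
  have hgM : y * m ∉ M := fun h => hyM (by simpa using M.mul_mem h (M.inv_mem hmM))
  have hgK : y * m ∉ K₀ := fun h => hmK (by simpa using K₀.mul_mem (K₀.inv_mem hyK) h)
  have hpowM : (y * m) ^ p ∈ M := by
    have := M.pow_index_mem (y * m)
    rwa [hM] at this
  have hpowK : (y * m) ^ p ∈ K₀ := by
    have := K₀.pow_index_mem (y * m)
    rwa [hK₀i] at this
  have hidx : p < (K₀ ⊓ M).index := by
    have h1 := Subgroup.relIndex_mul_index (inf_le_right : K₀ ⊓ M ≤ M)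
    rw [hM] at h1
    have h2 : (K₀ ⊓ M).relIndex M ≠ 1 := by
      intro h
      exact hMK₀ ((Subgroup.relIndex_eq_one.mp h).trans inf_le_left)
    have h3 : (K₀ ⊓ M).relIndex M ≠ 0 := by
      intro h
      rw [h, zero_mul] at h1
      exact (Subgroup.index_ne_zero_of_finite (H := K₀ ⊓ M)) h1.symm
    have h4 : 2 ≤ (K₀ ⊓ M).relIndex M := by omega
    have hp0 : 0 < p := hp.out.pos
    calc p < 2 * p := by omega
      _ ≤ (K₀ ⊓ M).relIndex M * p := Nat.mul_le_mul_right p h4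
      _ = (K₀ ⊓ M).index := h1
  have hH : (K₀ ⊓ M) ⊔ Subgroup.zpowers (y * m) ≠ ⊤ := by
    intro h
    -- then `G ⧸ (K₀ ⊓ M)` is cyclic generated by an element of order dividing `p`
    have hz : Subgroup.zpowers ((y * m : G) : G ⧸ (K₀ ⊓ M)) = ⊤ := by
      rw [eq_top_iff]
      intro q _
      obtain ⟨g, rfl⟩ := QuotientGroup.mk_surjective q
      have hg : g ∈ (K₀ ⊓ M) ⊔ Subgroup.zpowers (y * m) := by rw [h]; trivial
      rw [sup_comm, Subgroup.mem_sup_of_normal_right] at hg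
      obtain ⟨a, ha, b, hb, rfl⟩ := hg
      obtain ⟨i, rfl⟩ := Subgroup.mem_zpowers_iff.1 ha
      have hb1 : ((b : G) : G ⧸ (K₀ ⊓ M)) = 1 := (QuotientGroup.eq_one_iff b).2 hb
      have e : (((y * m) ^ i * b : G) : G ⧸ (K₀ ⊓ M)) = ((y * m : G) : G ⧸ (K₀ ⊓ M)) ^ i := by
        rw [QuotientGroup.mk_mul (K₀ ⊓ M) ((y * m) ^ i) b, hb1, mul_one, QuotientGroup.mk_zpow]
      rw [e]
      exact Subgroup.zpow_mem_zpowers _ i
    have hcard : (K₀ ⊓ M).index = orderOf ((y * m : G) : G ⧸ (K₀ ⊓ M)) := by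
      rw [Subgroup.index_eq_card, ← Nat.card_zpowers, hz, Subgroup.card_top]
    have hord : orderOf ((y * m : G) : G ⧸ (K₀ ⊓ M)) ∣ p := by
      apply orderOf_dvd_of_pow_eq_one
      rw [← QuotientGroup.mk_pow, QuotientGroup.eq_one_iff]
      exact ⟨hpowK, hpowM⟩
    have := Nat.le_of_dvd hp.out.pos hord
    omega
  rcases eq_top_or_exists_le_coatom ((K₀ ⊓ M) ⊔ Subgroup.zpowers (y * m)) with h | ⟨K₁, hK₁, hle⟩
  · exact absurd h hH
  · have hg₁ : y * m ∈ K₁ := hle (Subgroup.mem_sup_right (Subgroup.mem_zpowers _))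
    exact ⟨K₁, hK₁, le_sup_left.trans hle, fun h => hgM (h hg₁), fun h => hgK (h hg₁)⟩

/-- For a maximal `K` not inside the normal index-`p` subgroup `M`: `|M : K ⊓ M| = p`. -/
theorem relIndex_inf (hG : IsPGroup p G) (M K : Subgroup G) [M.Normal] (hK : IsCoatom K)
    (hMK : ¬ M ≤ K) : (K ⊓ M).relIndex M = p := by
  haveI : K.Normal := normal_of_isCoatom hG hK
  have hsup : M ⊔ K = ⊤ := by
    have hlt : K < M ⊔ K := lt_of_le_of_ne le_sup_right (fun h => hMK (h ▸ le_sup_left))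
    exact hK.2 _ hlt
  rw [Subgroup.inf_relIndex_right, ← Subgroup.relIndex_sup_right, hsup,
    Subgroup.relIndex_top_right, index_of_isCoatom hG hK]

/-- **(P2)-CORE.**  In a residual pair `(G, M)` (`M' = G'`) with `G` nonabelian there is a subgroup
`K ≠ M` of index `p` which is non-residual for `(K, K ⊓ M)` or has `K' = G'`. -/
theorem exists_maximal_of_residual (hG : IsPGroup p G) (M : Subgroup G) (hM : M.index = p)
    (hres : ⁅M, M⁆ = commutator G) (hna : commutator G ≠ ⊥) :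
    ∃ K : Subgroup G, K.index = p ∧ K ≠ M ∧
      (⁅K, K⁆ ≠ ⁅K ⊓ M, K ⊓ M⁆ ∨ ⁅K, K⁆ = commutator G) := by
  obtain ⟨K₀, hK₀, hK₀M⟩ := exists_isCoatom_ne M hM hna
  have hK₀i : K₀.index = p := index_of_isCoatom hG hK₀
  have hK₀ne : K₀ ≠ M := fun h => hK₀M h.le
  by_cases h0 : ⁅K₀, K₀⁆ = ⁅K₀ ⊓ M, K₀ ⊓ M⁆
  swap
  · exact ⟨K₀, hK₀i, hK₀ne, Or.inl h0⟩
  -- `M` is a coatom as well, hence normal
  have hMco : IsCoatom M := by
    refine ⟨?_, ?_⟩
    · intro h
      rw [h, Subgroup.index_top] at hM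
      exact hp.out.one_lt.ne hM
    · intro L hL
      by_contra hLtop
      obtain ⟨C, hC, hLC⟩ := (eq_top_or_exists_le_coatom L).resolve_left hLtop
      have hMC : M = C := eq_of_le_of_index M C (hL.le.trans hLC) hM (index_of_isCoatom hG hC)
      exact absurd (hMC ▸ hLC) (not_le_of_gt hL)
  haveI hMn : M.Normal := normal_of_isCoatom hG hMco
  haveI hK₀n : K₀.Normal := normal_of_isCoatom hG hK₀
  obtain ⟨K₁, hK₁, hM₀K₁, hK₁M, hK₁K₀⟩ := exists_third hG M K₀ hM hK₀ hK₀M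
  have hK₁i : K₁.index = p := index_of_isCoatom hG hK₁
  have hK₁ne : K₁ ≠ M := fun h => hK₁M h.le
  haveI hK₁n : K₁.Normal := normal_of_isCoatom hG hK₁
  have hMK₀ : ¬ M ≤ K₀ := fun h => hK₀M (eq_of_le_of_index M K₀ h hM hK₀i).ge
  have hMK₁ : ¬ M ≤ K₁ := fun h => hK₁M (eq_of_le_of_index M K₁ h hM hK₁i).ge
  -- `K₁ ⊓ M = K₀ ⊓ M`
  have hinf : K₁ ⊓ M = K₀ ⊓ M := by
    have hle : K₀ ⊓ M ≤ K₁ ⊓ M := le_inf hM₀K₁ inf_le_right
    have h1 := Subgroup.relIndex_mul_relIndex (K₀ ⊓ M) (K₁ ⊓ M) M hle inf_le_right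
    rw [relIndex_inf hG M K₁ hK₁ hMK₁, relIndex_inf hG M K₀ hK₀ hMK₀] at h1
    have h2 : (K₀ ⊓ M).relIndex (K₁ ⊓ M) = 1 :=
      Nat.eq_of_mul_eq_mul_right hp.out.pos (by rw [h1, one_mul])
    exact le_antisymm (Subgroup.relIndex_eq_one.mp h2) hle
  by_cases h1 : ⁅K₁, K₁⁆ = ⁅K₁ ⊓ M, K₁ ⊓ M⁆
  swap
  · exact ⟨K₁, hK₁i, hK₁ne, Or.inl h1⟩
  -- both residual: `M' = (K₀ ⊓ M)'`
  refine ⟨K₀, hK₀i, hK₀ne, Or.inr ?_⟩
  set M₀ : Subgroup G := K₀ ⊓ M with hM₀
  haveI hM₀n : M₀.Normal := by rw [hM₀]; infer_instance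
  haveI hNn : (⁅M₀, M₀⁆ : Subgroup G).Normal := inferInstance
  rw [hinf] at h1
  -- `cen N M₀ = ⊤`
  have hK₀Q : K₀ ≤ cen ⁅M₀, M₀⁆ (M₀ : Set G) := by
    intro k hk z hz
    rw [← h0]
    exact Subgroup.commutator_mem_commutator ((inf_le_left : K₀ ⊓ M ≤ K₀) hz) hk
  have hK₁Q : K₁ ≤ cen ⁅M₀, M₀⁆ (M₀ : Set G) := by
    intro k hk z hz
    rw [← h1]
    exact Subgroup.commutator_mem_commutator (hM₀K₁ hz) hk
  have hQtop : cen ⁅M₀, M₀⁆ (M₀ : Set G) = ⊤ := by
    have hlt : K₀ < K₀ ⊔ K₁ := lt_of_le_of_ne le_sup_left (fun h => hK₁K₀ (h ▸ le_sup_right))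
    have hsup : K₀ ⊔ K₁ = ⊤ := hK₀.2 _ hlt
    rw [eq_top_iff, ← hsup]
    exact sup_le hK₀Q hK₁Q
  have hcentral : ∀ a ∈ M₀, ∀ g : G, ⁅a, g⁆ ∈ ⁅M₀, M₀⁆ := by
    intro a ha g
    have hg : g ∈ cen ⁅M₀, M₀⁆ (M₀ : Set G) := by rw [hQtop]; trivial
    exact hg a ha
  have hcentral' : ∀ a ∈ M₀, ∀ g : G, ⁅g, a⁆ ∈ ⁅M₀, M₀⁆ := by
    intro a ha g
    rw [← commutatorElement_inv]
    exact inv_mem (hcentral a ha g)
  -- `M = M₀ ⊔ zpowers m`
  obtain ⟨m, hmM, hmK⟩ := Set.not_subset.1 hMK₀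
  have hMgen : M ≤ M₀ ⊔ Subgroup.zpowers m := by
    have hX1 : M₀ ≤ M₀ ⊔ Subgroup.zpowers m := le_sup_left
    have hX2 : M₀ ⊔ Subgroup.zpowers m ≤ M :=
      sup_le inf_le_right (by rw [Subgroup.zpowers_le]; exact hmM)
    have h2 := Subgroup.relIndex_mul_relIndex M₀ (M₀ ⊔ Subgroup.zpowers m) M hX1 hX2
    rw [relIndex_inf hG M K₀ hK₀ hMK₀] at h2
    have h3 : M₀.relIndex (M₀ ⊔ Subgroup.zpowers m) ≠ 1 := by
      intro h
      have := Subgroup.relIndex_eq_one.mp h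
      exact hmK ((inf_le_left : K₀ ⊓ M ≤ K₀) (this (Subgroup.mem_sup_right (Subgroup.mem_zpowers m))))
    rcases (Nat.dvd_prime hp.out).1 (Dvd.intro _ h2) with h | h
    · exact absurd h h3
    · rw [h] at h2
      have h4 : (M₀ ⊔ Subgroup.zpowers m).relIndex M = 1 :=
        Nat.eq_of_mul_eq_mul_left hp.out.pos (by rw [h2, mul_one])
      exact Subgroup.relIndex_eq_one.mp h4
  -- `m` is central in `M` modulo `N`
  have hC2 : M ≤ cen ⁅M₀, M₀⁆ ({m} : Set G) := by
    refine hMgen.trans (sup_le ?_ ?_)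
    · intro a ha z hz
      rw [Set.mem_singleton_iff] at hz
      subst hz
      exact hcentral' a ha z
    · rw [Subgroup.zpowers_le]
      intro z hz
      rw [Set.mem_singleton_iff] at hz
      subst hz
      rw [commutatorElement_self]
      exact one_mem _
  have hC3 : M ≤ cen ⁅M₀, M₀⁆ (M : Set G) := by
    refine hMgen.trans (sup_le ?_ ?_)
    · intro a ha z _
      exact hcentral' a ha z
    · rw [Subgroup.zpowers_le]
      intro z hz
      rw [← commutatorElement_inv]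
      exact inv_mem (hC2 hz m rfl)
  have hMN : ⁅M, M⁆ ≤ ⁅M₀, M₀⁆ := by
    rw [Subgroup.commutator_le]
    intro z hz x hx
    exact hC3 hx z hz
  rw [h0, ← hres]
  exact le_antisymm (Subgroup.commutator_mono inf_le_right inf_le_right) hMN

end Cfsg.Agent.Lib.H20.S3777P2C
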