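import Cfsg.Agent.Lib.H25.S3777P2Defs
import Cfsg.Agent.Lib.H20.S3777P2C

/-!
# S3777, `P2` step, piece (GEO) in helper25's exact shape

Two further maximal subgroups `K0 ≠ K1` over `K0 ⊓ M`, from the lemmas of `S3777P2C`.
-/

set_option autoImplicit false

namespace Cfsg.Agent.Lib.H20.S3777Geo

open Cfsg.Agent.Lib.H20.S3777P2C

universe u

/-- **(GEO)**, exact shape of `Cfsg.Agent.Lib.H25.S3777P2.GeoStmt`. -/
theorem geo : Cfsg.Agent.Lib.H25.S3777P2.GeoStmt.{u} := by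
  intro p hp G _ _ hG M hM hna
  obtain ⟨K₀, hK₀, hK₀M⟩ := exists_isCoatom_ne M hM hna
  have hK₀i : K₀.index = p := index_of_isCoatom hG hK₀
  have hK₀ne : K₀ ≠ M := fun h => hK₀M h.le
  -- `M` is a coatom as well, hence normal
  have hMco : IsCoatom M := by
    refine ⟨?_, ?_⟩
    · intro h
      rw [h, Subgroup.index_top] at hM
      exact hp.out.one_lt.ne hM
    · intro L hL
      by_contra hLtop
      obtain ⟨C, hC, hLC⟩ := (eq_top_or_exists_le_coatom L).resolve_left hLtop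
      have hMC : M = C := eq_of_le_of_index M C (hL.le.trans hLC) hM (index_of_isCoatom hG hC)
      exact absurd (hMC ▸ hLC) (not_le_of_gt hL)
  have hMn : M.Normal := normal_of_isCoatom hG hMco
  have hK₀n : K₀.Normal := normal_of_isCoatom hG hK₀
  obtain ⟨K₁, hK₁, hM₀K₁, hK₁M, hK₁K₀⟩ := exists_third hG M K₀ hM hK₀ hK₀M
  have hK₁i : K₁.index = p := index_of_isCoatom hG hK₁
  have hK₁ne : K₁ ≠ M := fun h => hK₁M h.le
  have hK₁n : K₁.Normal := normal_of_isCoatom hG hK₁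
  have hMK₀ : ¬ M ≤ K₀ := fun h => hK₀M (eq_of_le_of_index M K₀ h hM hK₀i).ge
  have hMK₁ : ¬ M ≤ K₁ := fun h => hK₁M (eq_of_le_of_index M K₁ h hM hK₁i).ge
  have hinf : K₁ ⊓ M = K₀ ⊓ M := by
    have hle : K₀ ⊓ M ≤ K₁ ⊓ M := le_inf hM₀K₁ inf_le_right
    have h1 := Subgroup.relIndex_mul_relIndex (K₀ ⊓ M) (K₁ ⊓ M) M hle inf_le_right
    rw [relIndex_inf hG M K₁ hK₁ hMK₁, relIndex_inf hG M K₀ hK₀ hMK₀] at h1
    have h2 : (K₀ ⊓ M).relIndex (K₁ ⊓ M) = 1 :=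
      Nat.eq_of_mul_eq_mul_right hp.out.pos (by rw [h1, one_mul])
    exact le_antisymm (Subgroup.relIndex_eq_one.mp h2) hle
  have hsup : K₀ ⊔ K₁ = ⊤ := by
    have hlt : K₀ < K₀ ⊔ K₁ := lt_of_le_of_ne le_sup_left (fun h => hK₁K₀ (h ▸ le_sup_right))
    exact hK₀.2 _ hlt
  obtain ⟨m, hmM, hmK⟩ := Set.not_subset.1 hMK₀
  have hMgen : M ≤ (K₀ ⊓ M) ⊔ Subgroup.zpowers m := by
    have hX1 : K₀ ⊓ M ≤ (K₀ ⊓ M) ⊔ Subgroup.zpowers m := le_sup_left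
    have hX2 : (K₀ ⊓ M) ⊔ Subgroup.zpowers m ≤ M :=
      sup_le inf_le_right (by rw [Subgroup.zpowers_le]; exact hmM)
    have h2 := Subgroup.relIndex_mul_relIndex (K₀ ⊓ M) ((K₀ ⊓ M) ⊔ Subgroup.zpowers m) M hX1 hX2
    rw [relIndex_inf hG M K₀ hK₀ hMK₀] at h2
    have h3 : (K₀ ⊓ M).relIndex ((K₀ ⊓ M) ⊔ Subgroup.zpowers m) ≠ 1 := by
      intro h
      have := Subgroup.relIndex_eq_one.mp h
      exact hmK ((inf_le_left : K₀ ⊓ M ≤ K₀)
        (this (Subgroup.mem_sup_right (Subgroup.mem_zpowers m))))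
    rcases (Nat.dvd_prime hp.out).1 (Dvd.intro _ h2) with h | h
    · exact absurd h h3
    · rw [h] at h2
      have h4 : ((K₀ ⊓ M) ⊔ Subgroup.zpowers m).relIndex M = 1 :=
        Nat.eq_of_mul_eq_mul_left hp.out.pos (by rw [h2, mul_one])
      exact Subgroup.relIndex_eq_one.mp h4
  have hMeq : M = (K₀ ⊓ M) ⊔ Subgroup.zpowers m :=
    le_antisymm hMgen (sup_le inf_le_right (by rw [Subgroup.zpowers_le]; exact hmM))
  have hM₀n : (K₀ ⊓ M).Normal := inferInstance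
  exact ⟨K₀, K₁, hK₀n, hK₁n, hK₀i, hK₁i, hK₀ne, hK₁ne, hsup, hinf.symm, hM₀n, m, hmM, hMeq⟩

end Cfsg.Agent.Lib.H20.S3777Geo
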