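import Mathlib

/-!
# S3797, MAIN LEMMA (M1): the arithmetic (helper20)

`2 ^ u = 1 + (2 ^ n - 1) * N₁` and `(N₁ - 1) ^ 2 ∈ {0, 2 ^ (u + ρ)}` force `u ∈ {0, n}` or `u = 2 n ∧ ρ = 0`.
-/

set_option autoImplicit false

namespace Cfsg.Agent.Lib.H20.S3797Arith

/-- an odd divisor of a power of two is one -/
theorem odd_dvd_two_pow {c u : ℕ} (hodd : c % 2 = 1) (h : c ∣ 2 ^ u) : c = 1 := by
  obtain ⟨k, -, rfl⟩ := (Nat.dvd_prime_pow Nat.prime_two).1 h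
  rcases k with _ | k
  · simp
  · exfalso
    rw [pow_succ] at hodd
    omega

/-- `2 ^ u = 2 ^ j * c` with `c` odd forces `c = 1` -/
theorem odd_factor_eq_one {c u j : ℕ} (hodd : c % 2 = 1) (h : 2 ^ u = 2 ^ j * c) : c = 1 :=
  odd_dvd_two_pow hodd ⟨2 ^ j, by rw [h]; ring⟩

/-- abstract form of the case `j < n`: `P + J = J (2D) + J (J (2D))` with `J, D ≥ 1` is impossible for `P` a power of two -/
theorem aux_lt {u J D : ℕ} (hJ : 1 ≤ J) (hD : 1 ≤ D) (h : 2 ^ u + J = J * (2 * D) + J * (J * (2 * D)))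
    (hJpow : ∃ j, J = 2 ^ j) : False := by
  obtain ⟨j, rfl⟩ := hJpow
  have hJD : 1 ≤ 2 ^ j * D := Nat.mul_pos hJ hD
  have e0 : 2 ^ j * (2 * D) = 2 * (2 ^ j * D) := by ring
  obtain ⟨c, hc⟩ : ∃ c, c + 1 = 2 * D + 2 ^ j * (2 * D) := ⟨2 * D + 2 ^ j * (2 * D) - 1, by omega⟩
  have h1 : 2 ^ u = 2 ^ j * c := by
    have : 2 ^ u + 2 ^ j = 2 ^ j * c + 2 ^ j := by
      rw [h]
      have : 2 ^ j * c + 2 ^ j = 2 ^ j * (c + 1) := by ring
      rw [this, hc]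
      ring
    exact Nat.add_right_cancel this
  have hodd : c % 2 = 1 := by omega
  have hc1 := odd_factor_eq_one hodd h1
  omega

/-- abstract form of the case `j > n` -/
theorem aux_gt {u n D : ℕ} (hn : 1 ≤ n) (hD : 1 ≤ D)
    (h : 2 ^ u + 2 ^ n * (2 * D) = 2 ^ n + 2 ^ n * (2 ^ n * (2 * D))) : False := by
  obtain ⟨a, ha⟩ : ∃ a, 2 ^ n = a + 1 := ⟨2 ^ n - 1, by have := Nat.one_le_two_pow (n := n); omega⟩
  have ha1 : 1 ≤ a := by
    have : 2 ≤ 2 ^ n := by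
      calc 2 = 2 ^ 1 := by norm_num
        _ ≤ 2 ^ n := Nat.pow_le_pow_right (by norm_num) hn
    omega
  have hDa : 1 ≤ D * a := Nat.mul_pos hD ha1
  have h1 : 2 ^ u = 2 ^ n * (1 + 2 * (D * a)) := by
    have : 2 ^ u + 2 ^ n * (2 * D) = 2 ^ n * (1 + 2 * (D * a)) + 2 ^ n * (2 * D) := by
      rw [h]
      have e : 2 ^ n * (1 + 2 * (D * a)) + 2 ^ n * (2 * D) = 2 ^ n * (1 + (a + 1) * (2 * D)) := by ring
      rw [e, ← ha]
      ring
    exact Nat.add_right_cancel this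
  have hodd : (1 + 2 * (D * a)) % 2 = 1 := by omega
  have hc1 := odd_factor_eq_one hodd h1
  omega

/-- the core: `2 ^ u + 2 ^ j = 2 ^ n + 2 ^ (n + j)` with `n ≥ 1` forces `j = n` and `u = 2 n` -/
theorem core {n u j : ℕ} (hn : 1 ≤ n) (h : 2 ^ u + 2 ^ j = 2 ^ n + 2 ^ (n + j)) :
    j = n ∧ u = 2 * n := by
  rcases lt_trichotomy j n with hlt | heq | hgt
  · -- `j < n`
    exfalso
    obtain ⟨d, rfl⟩ : ∃ d, n = j + (d + 1) := ⟨n - j - 1, by omega⟩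
    have e1 : 2 ^ (j + (d + 1)) = 2 ^ j * (2 * 2 ^ d) := by rw [pow_add, pow_succ]; ring
    have e2 : 2 ^ (j + (d + 1) + j) = 2 ^ j * (2 ^ j * (2 * 2 ^ d)) := by
      rw [pow_add, e1]; ring
    rw [e1, e2] at h
    exact aux_lt Nat.one_le_two_pow Nat.one_le_two_pow h ⟨j, rfl⟩
  · -- `j = n`
    subst heq
    refine ⟨rfl, ?_⟩
    have h1 : 2 ^ u = 2 ^ (j + j) := by omega
    have := Nat.pow_right_injective (le_refl 2) h1
    omega
  · -- `j > n`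
    exfalso
    obtain ⟨d, rfl⟩ : ∃ d, j = n + (d + 1) := ⟨j - n - 1, by omega⟩
    have e1 : 2 ^ (n + (d + 1)) = 2 ^ n * (2 * 2 ^ d) := by rw [pow_add, pow_succ]; ring
    have e2 : 2 ^ (n + (n + (d + 1))) = 2 ^ n * (2 ^ n * (2 * 2 ^ d)) := by
      rw [pow_add, e1]
    rw [e1, e2] at h
    exact aux_gt hn Nat.one_le_two_pow h

/-- **(M1) arithmetic.**  `|U| = 2 ^ u`, `|V| = 2 ^ n`, every nonzero value of `κ` has `N₁` preimages, and the character sum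
`s = 1 - N₁` of `λ ∘ κ` has `s ^ 2 ∈ {0, 2 ^ (u + ρ)}`. -/
theorem m1_arith {n u N₁ ρ : ℕ} (hn : 1 ≤ n) (hcount : 2 ^ u = 1 + (2 ^ n - 1) * N₁)
    (hs : ((1 : ℤ) - N₁) ^ 2 = 0 ∨ ((1 : ℤ) - N₁) ^ 2 = 2 ^ (u + ρ)) :
    u = 0 ∨ u = n ∨ (u = 2 * n ∧ ρ = 0) := by
  have hpn : 1 ≤ 2 ^ n := Nat.one_le_two_pow
  rcases hs with hs | hs
  · -- `N₁ = 1`
    have h1 : (1 : ℤ) - N₁ = 0 := by
      rcases pow_eq_zero_iff (n := 2) (by norm_num) |>.1 hs with h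
      exact h
    have hN : N₁ = 1 := by omega
    subst hN
    right; left
    have h2 : 2 ^ u = 2 ^ n := by omega
    exact Nat.pow_right_injective (le_refl 2) h2
  · rcases Nat.eq_zero_or_pos N₁ with h0 | hpos
    · -- `N₁ = 0`
      subst h0
      left
      simp only [mul_zero, add_zero] at hcount
      by_contra hu
      have : 2 ≤ 2 ^ u := by
        calc 2 = 2 ^ 1 := by norm_num
          _ ≤ 2 ^ u := Nat.pow_le_pow_right (by norm_num) (by omega)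
      omega
    · -- `N₁ = 1 + m`, `m ^ 2 = 2 ^ (u + ρ)`
      obtain ⟨m, rfl⟩ : ∃ m, N₁ = 1 + m := ⟨N₁ - 1, by omega⟩
      have hm2 : m ^ 2 = 2 ^ (u + ρ) := by
        have : ((1 : ℤ) - ((1 + m : ℕ) : ℤ)) ^ 2 = (m : ℤ) ^ 2 := by push_cast; ring
        rw [this] at hs
        exact_mod_cast hs
      have hmd : m ∣ 2 ^ (u + ρ) := ⟨m, by rw [← hm2]; ring⟩
      obtain ⟨j, -, rfl⟩ := (Nat.dvd_prime_pow Nat.prime_two).1 hmd
      have hj2 : 2 * j = u + ρ := by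
        have : 2 ^ (j * 2) = 2 ^ (u + ρ) := by rw [pow_mul]; exact hm2
        have := Nat.pow_right_injective (le_refl 2) this
        omega
      have hcore : 2 ^ u + 2 ^ j = 2 ^ n + 2 ^ (n + j) := by
        have e : 2 ^ (n + j) = 2 ^ n * 2 ^ j := pow_add 2 n j
        have : (2 ^ n - 1) * (1 + 2 ^ j) + (1 + 2 ^ j) = 2 ^ n * (1 + 2 ^ j) := by
          have : 2 ^ n - 1 + 1 = 2 ^ n := by omega
          calc (2 ^ n - 1) * (1 + 2 ^ j) + (1 + 2 ^ j) = (2 ^ n - 1 + 1) * (1 + 2 ^ j) := by ring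
            _ = 2 ^ n * (1 + 2 ^ j) := by rw [this]
        rw [e]
        have e3 : 2 ^ n * (1 + 2 ^ j) = 2 ^ n + 2 ^ n * 2 ^ j := by ring
        omega
      obtain ⟨hjn, hu⟩ := core hn hcore
      right; right
      exact ⟨hu, by omega⟩

end Cfsg.Agent.Lib.H20.S3797Arith
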