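import Mathlib
import Cfsg.Agent.Lib.H19.S3797Defs
import Cfsg.Agent.Lib.H22.PPrimeCore
import Cfsg.Agent.Lib.H1.Hall
import Cfsg.Agent.Lib.H3.HallSystem3

/-!
# S3797, piece (DESC) = step (2) of helper19's proof (helper20)

A normal subgroup `G1` of index 2 and the induction hypothesis give `S ⊴ G`.
-/

set_option autoImplicit false
open scoped Pointwise

namespace Cfsg.Agent.Lib.H20.S3797Desc

open Cfsg.Agent.Lib.H19.S3797

universe u

variable {G : Type u} [Group G]

/-- elements of odd order lie in every subgroup of index 2 -/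
theorem mem_of_odd_order {G1 : Subgroup G} (h2 : G1.index = 2) {h : G} (hodd : Odd (orderOf h)) :
    h ∈ G1 := by
  obtain ⟨j, hj⟩ := hodd
  have h1 : h ^ (2 * j + 1) = 1 := by rw [← hj]; exact pow_orderOf_eq_one h
  have h3 : h = (h ^ (j + 1)) ^ 2 := by
    rw [← pow_mul]
    have : (j + 1) * 2 = (2 * j + 1) + 1 := by ring
    rw [this, pow_succ, h1, one_mul]
  rw [h3]
  exact Subgroup.sq_mem_of_index_two h2 _

/-- in a group with a normal Sylow `2`-subgroup every `2`-element lies in it -/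
theorem mem_of_normal_sylow {H : Type*} [Group H] [Finite H] (P : Sylow 2 H)
    (hP : (P : Subgroup H).Normal) {x : H} (hx : ∃ k : ℕ, x ^ 2 ^ k = 1) : x ∈ (P : Subgroup H) := by
  obtain ⟨k, hk⟩ := hx
  have hz : IsPGroup 2 ↥(Subgroup.zpowers x) := by
    apply IsPGroup.of_card_dvd_pow (n := k)
    rw [Nat.card_zpowers]
    exact orderOf_dvd_of_pow_eq_one hk
  obtain ⟨P', hP'⟩ := hz.exists_le_sylow
  haveI := Sylow.unique_of_normal P hP
  have : P' = P := Subsingleton.elim _ _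
  rw [← this]
  exact hP' (Subgroup.mem_zpowers x)

/-- `V ≤ G1` -/
theorem V_le [Finite G] {Q V G1 : Subgroup G} (hF : Frame Q V)
    (hodd : ∀ N : Subgroup G, N.Normal → Odd (Nat.card N) → N = ⊥)
    (hn : G1.Normal) (h2 : G1.index = 2) : V ≤ G1 := by
  by_cases hex : ∃ w ∈ V, w ∈ G1 ∧ w ≠ 1
  · obtain ⟨w, hwV, hwG, hw1⟩ := hex
    intro v hv
    by_cases hv1 : v = 1
    · rw [hv1]; exact G1.one_mem
    · obtain ⟨g, hg⟩ := hF.trans w v hwV hv hw1 hv1
      rw [← hg]; exact hn.conj_mem w hwG g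
  · exfalso
    push_neg at hex
    have hoddG1 : Odd (Nat.card G1) := by
      by_contra hne
      rw [Nat.not_odd_iff_even] at hne
      obtain ⟨x, hx⟩ := exists_prime_orderOf_dvd_card' (G := ↥G1) 2 hne.two_dvd
      have hx2 : (x : G) ^ 2 = 1 := by
        have : x ^ 2 = 1 := by rw [← hx]; exact pow_orderOf_eq_one x
        have := congrArg Subtype.val this
        simpa using this
      have hxV : (x : G) ∈ V := (hF.Vmem _).2 hx2
      have hx1 : (x : G) = 1 := hex _ hxV x.2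
      have : x = 1 := Subtype.ext hx1
      rw [this, orderOf_one] at hx
      omega
    have hbot := hodd G1 hn hoddG1
    rw [hbot, Subgroup.index_bot] at h2
    obtain ⟨x, y, hxy, hx1, -, hy1, -⟩ := hF.four
    obtain ⟨a, b, -, huniv⟩ := Nat.card_eq_two_iff.1 h2
    have m1 : (1 : G) ∈ ({a, b} : Set G) := huniv ▸ Set.mem_univ _
    have mx : x ∈ ({a, b} : Set G) := huniv ▸ Set.mem_univ _
    have my : y ∈ ({a, b} : Set G) := huniv ▸ Set.mem_univ _
    simp only [Set.mem_insert_iff, Set.mem_singleton_iff] at m1 mx my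
    rcases m1 with m1 | m1 <;> rcases mx with mx | mx <;> rcases my with my | my <;>
      simp_all

/-- a central involution of a Sylow `2`-subgroup `S`, and an element of `S` outside `G1` -/
theorem exists_central_inv [Finite G] {G1 : Subgroup G} (h2 : G1.index = 2) (S : Sylow 2 G) :
    ∃ s0 ∈ (S : Subgroup G), s0 ∉ G1 ∧ ∃ x0 : G, x0 ≠ 1 ∧ x0 ^ 2 = 1 ∧
      ∀ s ∈ (S : Subgroup G), s * x0 * s⁻¹ = x0 := by
  have hSG1 : ¬ (S : Subgroup G) ≤ G1 := by
    intro hle
    have h := Subgroup.index_dvd_of_le hle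
    rw [h2] at h
    exact S.not_dvd_index h
  obtain ⟨s0, hs0S, hs0⟩ := SetLike.not_le_iff_exists.1 hSG1
  refine ⟨s0, hs0S, hs0, ?_⟩
  haveI : Nontrivial ↥(S : Subgroup G) :=
    ⟨⟨⟨s0, hs0S⟩, 1, fun h => hs0 (by
      have := congrArg Subtype.val h
      simp only [Subgroup.coe_one] at this
      rw [this]; exact G1.one_mem)⟩⟩
  haveI := S.isPGroup'.center_nontrivial
  have hZp : IsPGroup 2 ↥(Subgroup.center ↥(S : Subgroup G)) := S.isPGroup'.to_subgroup _
  obtain ⟨n, hn0, hn⟩ := hZp.nontrivial_iff_card.1 inferInstance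
  have hdvd : 2 ∣ Nat.card ↥(Subgroup.center ↥(S : Subgroup G)) := by
    rw [hn]; exact dvd_pow_self 2 hn0.ne'
  obtain ⟨c, hc⟩ := exists_prime_orderOf_dvd_card' (G := ↥(Subgroup.center ↥(S : Subgroup G))) 2 hdvd
  have hc2 : c ^ 2 = 1 := by
    have := pow_orderOf_eq_one c
    rwa [hc] at this
  refine ⟨((c : ↥(S : Subgroup G)) : G), ?_, ?_, ?_⟩
  · intro h
    have h1 : (c : ↥(S : Subgroup G)) = 1 := Subtype.ext h
    have h2 : c = 1 := Subtype.ext h1
    rw [h2, orderOf_one] at hc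
    omega
  · have := congrArg (fun z : ↥(Subgroup.center ↥(S : Subgroup G)) => ((z : ↥(S : Subgroup G)) : G)) hc2
    simpa using this
  · intro s hs
    have hcomm := Subgroup.mem_center_iff.1 c.2 ⟨s, hs⟩
    have hcomm' : s * ((c : ↥(S : Subgroup G)) : G) = ((c : ↥(S : Subgroup G)) : G) * s := by
      have := congrArg Subtype.val hcomm
      simpa using this
    rw [hcomm', mul_assoc, mul_inv_cancel, mul_one]

/-- the hypotheses of Theorem T pass to `G1` -/
theorem thyp_sub [Finite G] {Q V G1 : Subgroup G} (hT : THyp G) (hF : Frame Q V)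
    (hn : G1.Normal) (h2 : G1.index = 2) (S : Sylow 2 G) : THyp ↥G1 := by
  obtain ⟨hsolv, hodd, hconj, hfour⟩ := hT
  have hVG1 : V ≤ G1 := V_le hF hodd hn h2
  refine ⟨?_, ?_, ?_, ?_⟩
  · haveI := hsolv
    infer_instance
  · -- no normal subgroups of odd order
    intro N hN hNodd
    haveI := hn
    have hO1 : Cfsg.pPrimeCore 2 ↥G1 = ⊥ := by
      have hnorm : ((Cfsg.pPrimeCore 2 ↥G1).map G1.subtype).Normal := by
        constructor
        intro n hn' g
        obtain ⟨m, hm, rfl⟩ := hn'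
        have hle := Cfsg.Agent.Lib.H22.pPrimeCore_map_le (G := ↥G1) 2 (MulAut.conjNormal g)
        have hm' : (MulAut.conjNormal g : ↥G1 ≃* ↥G1) m ∈ Cfsg.pPrimeCore 2 ↥G1 :=
          hle ⟨m, hm, rfl⟩
        refine ⟨_, hm', ?_⟩
        simp [MulAut.conjNormal_apply]
      have hoddc : Odd (Nat.card ((Cfsg.pPrimeCore 2 ↥G1).map G1.subtype)) := by
        rw [Subgroup.card_map_of_injective G1.subtype_injective]
        exact Nat.coprime_two_right.1 (Cfsg.Agent.Lib.H22.card_pPrimeCore_coprime (G := ↥G1) 2)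
      have := hodd _ hnorm hoddc
      exact (Subgroup.map_eq_bot_iff_of_injective _ G1.subtype_injective).1 this
    have hle := Cfsg.Agent.Lib.H22.le_pPrimeCore 2 N hN (Nat.coprime_two_right.2 hNodd)
    rw [hO1] at hle
    exact le_bot_iff.1 hle
  · -- one class of involutions
    obtain ⟨s0, hs0S, hs0, x0, hx01, hx02, hx0c⟩ := exists_central_inv h2 S
    have hx0V : x0 ∈ V := (hF.Vmem _).2 hx02
    intro x y hx1 hx2 hy1 hy2
    have hxV : (x : G) ∈ V := (hF.Vmem _).2 (by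
      have := congrArg Subtype.val hx2
      simpa using this)
    have hyV : (y : G) ∈ V := (hF.Vmem _).2 (by
      have := congrArg Subtype.val hy2
      simpa using this)
    have hx1' : (x : G) ≠ 1 := fun h => hx1 (Subtype.ext h)
    have hy1' : (y : G) ≠ 1 := fun h => hy1 (Subtype.ext h)
    obtain ⟨gx, hgx⟩ := hF.trans x0 x hx0V hxV hx01 hx1'
    obtain ⟨gy, hgy⟩ := hF.trans x0 y hx0V hyV hx01 hy1'
    rw [isConj_iff]
    by_cases hg : gy * gx⁻¹ ∈ G1
    · refine ⟨⟨gy * gx⁻¹, hg⟩, Subtype.ext ?_⟩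
      show gy * gx⁻¹ * (x : G) * (gy * gx⁻¹)⁻¹ = y
      rw [← hgx, ← hgy]; group
    · have hw : gx * s0 * gx⁻¹ ∉ G1 := by
        intro h
        apply hs0
        have := hn.conj_mem _ h gx⁻¹
        simpa [mul_assoc] using this
      have hg' : gy * gx⁻¹ * (gx * s0 * gx⁻¹) ∈ G1 :=
        (Subgroup.mul_mem_iff_of_index_two h2).2 ⟨fun h => absurd h hg, fun h => absurd h hw⟩
      refine ⟨⟨gy * gx⁻¹ * (gx * s0 * gx⁻¹), hg'⟩, Subtype.ext ?_⟩
      show gy * gx⁻¹ * (gx * s0 * gx⁻¹) * (x : G) * (gy * gx⁻¹ * (gx * s0 * gx⁻¹))⁻¹ = y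
      rw [← hgx, ← hgy]
      have e : gy * gx⁻¹ * (gx * s0 * gx⁻¹) * (gx * x0 * gx⁻¹) * (gy * gx⁻¹ * (gx * s0 * gx⁻¹))⁻¹ =
          gy * (s0 * x0 * s0⁻¹) * gy⁻¹ := by group
      rw [e, hx0c s0 hs0S]
  · obtain ⟨x, y, hxy, hx1, hx2, hy1, hy2⟩ := hfour
    have hxG : x ∈ G1 := hVG1 ((hF.Vmem _).2 hx2)
    have hyG : y ∈ G1 := hVG1 ((hF.Vmem _).2 hy2)
    refine ⟨⟨x, hxG⟩, ⟨y, hyG⟩, ?_, ?_, ?_, ?_, ?_⟩
    · intro h; exact hxy (congrArg Subtype.val h)
    · intro h; exact hx1 (congrArg Subtype.val h)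
    · exact Subtype.ext (by simpa using hx2)
    · intro h; exact hy1 (congrArg Subtype.val h)
    · exact Subtype.ext (by simpa using hy2)

/-- **(DESC)** step (2) of the proof. -/
theorem desc : DescStmt.{u} := by
  intro G _ _ hT hIH Q V hF G1 hG1n hG1i S
  have hT' := hT
  obtain ⟨hsolv, hodd, hconj, hfour⟩ := hT
  haveI := hsolv
  haveI := hG1n
  haveI := hF.Qn
  have hVG1 : V ≤ G1 := V_le hF hodd hG1n hG1i
  -- the induction hypothesis for `G1`
  have hcardG1 : Nat.card ↥G1 * 2 = Nat.card G := by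
    rw [← hG1i]; exact G1.card_mul_index
  have hlt : Nat.card ↥G1 < Nat.card G := by
    have : 0 < Nat.card ↥G1 := Nat.card_pos
    omega
  have hS1n := hIH ↥G1 hlt (thyp_sub hT' hF hG1n hG1i S)
  obtain ⟨S1⟩ : Nonempty (Sylow 2 ↥G1) := inferInstance
  have hS1 := hS1n S1
  -- the image of `S1` is a normal `2`-subgroup of `G`
  have hT'n : ((S1 : Subgroup ↥G1).map G1.subtype).Normal := by
    constructor
    intro n hn' g
    obtain ⟨m, hm, rfl⟩ := hn'
    have hm2 : ∃ k : ℕ, ((MulAut.conjNormal g : ↥G1 ≃* ↥G1) m) ^ 2 ^ k = 1 := by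
      obtain ⟨k, hk⟩ := S1.isPGroup' ⟨m, hm⟩
      refine ⟨k, ?_⟩
      have hk' : m ^ 2 ^ k = 1 := by
        have := congrArg Subtype.val hk
        simpa using this
      rw [← map_pow, hk', map_one]
    refine ⟨_, mem_of_normal_sylow S1 hS1 hm2, ?_⟩
    simp [MulAut.conjNormal_apply]
  have hT'2 : IsPGroup 2 ↥((S1 : Subgroup ↥G1).map G1.subtype) := S1.isPGroup'.map _
  have hT'Q : (S1 : Subgroup ↥G1).map G1.subtype ≤ Q := hF.Qmax _ hT'n hT'2
  -- `2`-elements of `G1` lie in `Q`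
  have key : ∀ x ∈ G1, (∃ k : ℕ, x ^ 2 ^ k = 1) → x ∈ Q := by
    intro x hx ⟨k, hk⟩
    have hmem : (⟨x, hx⟩ : ↥G1) ∈ (S1 : Subgroup ↥G1) :=
      mem_of_normal_sylow S1 hS1 ⟨k, Subtype.ext (by simpa using hk)⟩
    exact hT'Q ⟨⟨x, hx⟩, hmem, rfl⟩
  have hS2 : ∀ x ∈ (S : Subgroup G), ∃ k : ℕ, x ^ 2 ^ k = 1 := by
    intro x hx
    obtain ⟨k, hk⟩ := S.isPGroup' ⟨x, hx⟩
    refine ⟨k, ?_⟩
    have := congrArg Subtype.val hk
    simpa using this
  have hSG1Q : ∀ x ∈ (S : Subgroup G), x ∈ G1 → x ∈ Q := fun x hxS hxG => key x hxG (hS2 x hxS)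
  have hQS : Q ≤ (S : Subgroup G) := hF.Q2.le_sylow_of_normal S
  by_cases hSQ : (S : Subgroup G) ≤ Q
  · have : (S : Subgroup G) = Q := le_antisymm hSQ hQS
    rw [this]; exact hF.Qn
  · exfalso
    obtain ⟨s1, hs1S, hs1Q⟩ := SetLike.not_le_iff_exists.1 hSQ
    have hs1G : s1 ∉ G1 := fun h => hs1Q (hSG1Q s1 hs1S h)
    have hmul := fun a b : G => Subgroup.mul_mem_iff_of_index_two (a := a) (b := b) hG1i
    -- `Q ≤ G1`
    have hQG1 : Q ≤ G1 := by
      intro q hq
      by_contra hqG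
      apply hSQ
      intro s hs
      by_cases hsG : s ∈ G1
      · exact hSG1Q s hs hsG
      · have hqi : q⁻¹ ∉ G1 := fun h => hqG (by simpa using G1.inv_mem h)
        have h1 : s * q⁻¹ ∈ G1 := (hmul s q⁻¹).2 ⟨fun h => absurd h hsG, fun h => absurd h hqi⟩
        have h2 : s * q⁻¹ ∈ (S : Subgroup G) := (S : Subgroup G).mul_mem hs ((S : Subgroup G).inv_mem (hQS hq))
        have h3 := Q.mul_mem (hSG1Q _ h2 h1) hq
        simpa using h3
    have hQeq : Q = (S : Subgroup G) ⊓ G1 :=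
      le_antisymm (le_inf hQS hQG1) (fun x hx => hSG1Q x hx.1 hx.2)
    -- orders
    have hSG1 : ¬ (S : Subgroup G) ≤ G1 := fun h => hs1G (h hs1S)
    have hrel : G1.relIndex (S : Subgroup G) = 2 := by
      have h1 : G1.relIndex (S : Subgroup G) ∣ 2 := by
        have := Subgroup.relIndex_dvd_index_of_normal G1 (S : Subgroup G)
        rwa [hG1i] at this
      rcases (Nat.dvd_prime Nat.prime_two).1 h1 with h | h
      · exact absurd (Subgroup.relIndex_eq_one.1 h) hSG1
      · exact h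
    have hQcard : Nat.card ↥Q * 2 = Nat.card ↥(S : Subgroup G) := by
      have h := Subgroup.relIndex_mul_relIndex ⊥ ((S : Subgroup G) ⊓ G1) (S : Subgroup G) bot_le inf_le_left
      rw [Subgroup.relIndex_bot_left, Subgroup.relIndex_bot_left, Subgroup.inf_relIndex_left, hrel,
        ← hQeq] at h
      exact h
    have hGmn : Nat.card G = (S : Subgroup G).index * Nat.card ↥(S : Subgroup G) := by
      rw [mul_comm]; exact ((S : Subgroup G).card_mul_index).symm
    have hcop : ((S : Subgroup G).index).Coprime (Nat.card ↥(S : Subgroup G)) :=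
      (S.card_coprime_index).symm
    have hmodd : Odd (S : Subgroup G).index := by
      rw [← Nat.not_even_iff_odd, even_iff_two_dvd]
      exact S.not_dvd_index
    obtain ⟨H, hH⟩ := Cfsg.Agent.Lib.H1.hall_exists hGmn hcop
    have hHodd : ∀ h ∈ H, Odd (orderOf h) := by
      intro h hh
      have h1 : orderOf h ∣ Nat.card ↥H := by
        have := orderOf_dvd_natCard (⟨h, hh⟩ : ↥H)
        rwa [Subgroup.orderOf_mk] at this
      rw [hH] at h1
      exact Odd.of_dvd_nat hmodd h1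
    have hHG1 : H ≤ G1 := fun h hh => mem_of_odd_order hG1i (hHodd h hh)
    -- Frattini: an element of `N_G(H)` outside `G1`
    have hKcard : Nat.card ↥(MulAut.conj s1 • H : Subgroup G) = (S : Subgroup G).index := by
      rw [← hH]
      exact Subgroup.card_map_of_injective (MulAut.conj s1).injective
    have hKG1 : (MulAut.conj s1 • H : Subgroup G) ≤ G1 := by
      intro x hx
      obtain ⟨h, hh, rfl⟩ := hx
      show s1 * h * s1⁻¹ ∈ G1
      exact hG1n.conj_mem h (hHG1 hh) s1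
    obtain ⟨y, hyG1, hy⟩ := Cfsg.Agent.Lib.H3.hall_conj_in_subgroup hGmn hcop G1
      (MulAut.conj s1 • H) H hKG1 hHG1 hKcard hH
    have htN : y * s1 ∈ Subgroup.normalizer (H : Set G) := by
      apply Cfsg.Agent.Lib.H3.mem_normalizer_of_conj_smul_eq
      rw [map_mul, mul_smul]
      exact hy
    have htG1 : y * s1 ∉ G1 := fun h => hs1G (((hmul y s1).1 h).1 hyG1)
    -- its `2`-part `s`
    obtain ⟨a, b, hbodd, hab⟩ := Nat.exists_eq_two_pow_mul_odd (orderOf_pos (y * s1)).ne'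
    set t := y * s1 with ht
    set s := t ^ b with hs
    have hs2a : s ^ 2 ^ a = 1 := by
      rw [hs, ← pow_mul, mul_comm, ← hab]
      exact pow_orderOf_eq_one t
    have hsG1 : s ∉ G1 := by
      obtain ⟨j, hj⟩ := hbodd
      have e : s = (t ^ j) ^ 2 * t := by
        rw [hs, hj, ← pow_mul, ← pow_succ]
        congr 1
        ring
      rw [e]
      intro h
      exact htG1 (((hmul _ t).1 h).1 (Subgroup.sq_mem_of_index_two hG1i _))
    have hsN : s ∈ Subgroup.normalizer (H : Set G) := Subgroup.pow_mem _ htN b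
    have hs1 : s ≠ 1 := fun h => hsG1 (h ▸ G1.one_mem)
    have hssG1 : s ^ 2 ∈ G1 := Subgroup.sq_mem_of_index_two hG1i s
    have hssQ : s ^ 2 ∈ Q := by
      refine key _ hssG1 ⟨a, ?_⟩
      rw [← pow_mul, mul_comm, pow_mul, hs2a, one_pow]
    have hss1 : s ^ 2 ≠ 1 := by
      intro h
      exact hsG1 (hVG1 ((hF.Vmem s).2 h))
    -- `Q ⊓ H = ⊥`
    have hQpow : ∃ n : ℕ, Nat.card ↥Q = 2 ^ n := (IsPGroup.iff_card).1 hF.Q2
    have hQH : Q ⊓ H = ⊥ := by
      apply Subgroup.inf_eq_bot_of_coprime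
      obtain ⟨n, hn⟩ := hQpow
      rw [hn, hH]
      exact Nat.Coprime.pow_left n (Nat.coprime_two_left.2 hmodd)
    -- `s ^ 2` centralises `H`
    have hssH : ∀ h ∈ H, s ^ 2 * h = h * s ^ 2 := by
      intro h hh
      have hssN : s ^ 2 ∈ Subgroup.normalizer (H : Set G) := Subgroup.pow_mem _ hsN 2
      have h1 : s ^ 2 * h * (s ^ 2)⁻¹ ∈ H := (Subgroup.mem_normalizer_iff.1 hssN h).1 hh
      have h2 : s ^ 2 * h * (s ^ 2)⁻¹ * h⁻¹ ∈ H := H.mul_mem h1 (H.inv_mem hh)
      have h3 : s ^ 2 * h * (s ^ 2)⁻¹ * h⁻¹ ∈ Q := by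
        have : s ^ 2 * h * (s ^ 2)⁻¹ * h⁻¹ = s ^ 2 * (h * (s ^ 2)⁻¹ * h⁻¹) := by group
        rw [this]
        exact Q.mul_mem hssQ (hF.Qn.conj_mem _ (Q.inv_mem hssQ) h)
      have h4 : s ^ 2 * h * (s ^ 2)⁻¹ * h⁻¹ ∈ Q ⊓ H := ⟨h3, h2⟩
      rw [hQH, Subgroup.mem_bot] at h4
      have : s ^ 2 * h = (s ^ 2 * h * (s ^ 2)⁻¹ * h⁻¹) * (h * s ^ 2) := by group
      rw [this, h4, one_mul]
    -- the involution `v` of `⟨s⟩`
    obtain ⟨e, he⟩ : ∃ e : ℕ, orderOf s = 2 ^ e :=
      (Nat.dvd_prime_pow Nat.prime_two).1 (orderOf_dvd_of_pow_eq_one hs2a) |>.imp fun _ h => h.2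
    have he2 : 2 ≤ e := by
      rcases e with _ | _ | e
      · exfalso; apply hs1
        rw [pow_zero] at he
        exact orderOf_eq_one_iff.1 he
      · exfalso; apply hss1
        have := pow_orderOf_eq_one s
        rw [he] at this
        simpa using this
      · omega
    obtain ⟨d, rfl⟩ : ∃ d, e = d + 2 := ⟨e - 2, by omega⟩
    set v := (s ^ 2) ^ 2 ^ d with hv
    have hvs : v = s ^ 2 ^ (d + 1) := by
      rw [hv, ← pow_mul]; congr 1; rw [pow_succ]; ring
    have hv2 : v ^ 2 = 1 := by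
      rw [hvs, ← pow_mul, ← pow_succ, ← he]
      exact pow_orderOf_eq_one s
    have hv1 : v ≠ 1 := by
      rw [hvs]
      apply pow_ne_one_of_lt_orderOf (by positivity)
      rw [he]
      exact Nat.pow_lt_pow_right (by norm_num) (by omega)
    have hvV : v ∈ V := (hF.Vmem v).2 hv2
    -- the centraliser of `v` is everything
    have hQC : Q ≤ Subgroup.centralizer ({v} : Set G) := by
      intro q hq
      rw [Subgroup.mem_centralizer_iff]
      intro w hw
      rw [Set.mem_singleton_iff] at hw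
      rw [hw]
      exact (hF.Vcen v hvV q hq).symm
    have hHC : H ≤ Subgroup.centralizer ({v} : Set G) := by
      intro h hh
      rw [Subgroup.mem_centralizer_iff]
      intro w hw
      rw [Set.mem_singleton_iff] at hw
      rw [hw, hv]
      exact ((Commute.pow_left (show Commute (s ^ 2) h from hssH h hh) (2 ^ d))).eq
    have hsC : s ∈ Subgroup.centralizer ({v} : Set G) := by
      rw [Subgroup.mem_centralizer_iff]
      intro w hw
      rw [Set.mem_singleton_iff] at hw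
      rw [hw, hvs]
      exact ((Commute.refl s).pow_left _).eq
    have hQHG1 : Q ⊔ H = G1 := by
      apply Subgroup.eq_of_le_of_card_ge (sup_le hQG1 hHG1)
      have h1 : Nat.card ↥Q * Nat.card ↥H ∣ Nat.card ↥(Q ⊔ H : Subgroup G) := by
        apply Nat.Coprime.mul_dvd_of_dvd_of_dvd
        · obtain ⟨n, hn⟩ := hQpow
          rw [hn, hH]
          exact Nat.Coprime.pow_left n (Nat.coprime_two_left.2 hmodd)
        · exact Subgroup.card_dvd_of_le le_sup_left
        · exact Subgroup.card_dvd_of_le le_sup_right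
      have h2 : Nat.card ↥Q * Nat.card ↥H = Nat.card ↥G1 := by
        have : Nat.card ↥Q * Nat.card ↥H * 2 = Nat.card ↥G1 * 2 := by
          rw [hcardG1, hGmn, hH, ← hQcard]; ring
        omega
      rw [← h2]
      exact Nat.le_of_dvd Nat.card_pos h1
    have hG1C : G1 ≤ Subgroup.centralizer ({v} : Set G) := by
      rw [← hQHG1]; exact sup_le hQC hHC
    have hall : ∀ g : G, g * v * g⁻¹ = v := by
      intro g
      have hgC : g ∈ Subgroup.centralizer ({v} : Set G) := by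
        by_cases hg : g ∈ G1
        · exact hG1C hg
        · have hsi : s⁻¹ ∉ G1 := fun h => hsG1 (by simpa using G1.inv_mem h)
          have h1 : g * s⁻¹ ∈ G1 := (hmul g s⁻¹).2 ⟨fun h => absurd h hg, fun h => absurd h hsi⟩
          have := Subgroup.mul_mem _ (hG1C h1) hsC
          simpa using this
      have := Subgroup.mem_centralizer_iff.1 hgC v (Set.mem_singleton v)
      rw [← this, mul_assoc, mul_inv_cancel, mul_one]
    obtain ⟨x, y', hxy, hx1, hx2, hy1, hy2⟩ := hfour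
    obtain ⟨g1, hg1⟩ := hF.trans v x hvV ((hF.Vmem x).2 hx2) hv1 hx1
    obtain ⟨g2, hg2⟩ := hF.trans v y' hvV ((hF.Vmem y').2 hy2) hv1 hy1
    rw [hall g1] at hg1
    rw [hall g2] at hg2
    exact hxy (hg1.symm.trans hg2)

example : DescStmt.{0} := desc

end Cfsg.Agent.Lib.H20.S3797Desc
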