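import Mathlib
import Cfsg.Agent.Lib.H25.S3797MLDefs
import Cfsg.Agent.Lib.H1.CoprimeAction

/-!
# S3797, MAIN LEMMA, piece (M0B) of helper25's sub-cut (helper20, twin seat): `GCoreStmt → MLStmt`
-/

set_option autoImplicit false

namespace Cfsg.Agent.Lib.H20.S3797M0B

open Cfsg.Agent.Lib.H25.S3797ML

universe u

variable {G : Type u} [Group G]

/-- the kernel of the action on `K/V` -/
def kerOn (V K : Subgroup G) (hV : V.Normal) : Subgroup G where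
  carrier := {x | TrivOn V K x}
  one_mem' := by
    intro k _
    simp [V.one_mem]
  mul_mem' := by
    intro x y hx hy k hk
    have h1 : x * (y * k * y⁻¹ * k⁻¹) * x⁻¹ ∈ V := hV.conj_mem _ (hy k hk) x
    have h2 := V.mul_mem h1 (hx k hk)
    have e : x * (y * k * y⁻¹ * k⁻¹) * x⁻¹ * (x * k * x⁻¹ * k⁻¹) = x * y * k * (x * y)⁻¹ * k⁻¹ := by group
    rwa [e] at h2
  inv_mem' := by
    intro x hx k hk
    have h1 := hV.conj_mem _ (V.inv_mem (hx k hk)) x⁻¹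
    have e : x⁻¹ * (x * k * x⁻¹ * k⁻¹)⁻¹ * x⁻¹⁻¹ = x⁻¹ * k * x⁻¹⁻¹ * k⁻¹ := by group
    rwa [e] at h1

theorem mem_kerOn {V K : Subgroup G} {hV : V.Normal} {x : G} : x ∈ kerOn V K hV ↔ TrivOn V K x :=
  Iff.rfl

theorem kerOn_normal (V K : Subgroup G) (hV : V.Normal) (hK : K.Normal) : (kerOn V K hV).Normal := by
  constructor
  intro x hx g k hk
  have hk' : g⁻¹ * k * g⁻¹⁻¹ ∈ K := hK.conj_mem k hk g⁻¹
  have h1 := hV.conj_mem _ (hx _ hk') g
  have e : g * (x * (g⁻¹ * k * g⁻¹⁻¹) * x⁻¹ * (g⁻¹ * k * g⁻¹⁻¹)⁻¹) * g⁻¹ =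
      g * x * g⁻¹ * k * (g * x * g⁻¹)⁻¹ * k⁻¹ := by group
  rwa [e] at h1

/-- **(M0B)** -/
theorem m0b : M0BStmt.{u} := by
  intro hcore G _ _ V K S E hVn hKn hVK hVmem hVcen hKsq hS2 hSV hEodd hES hEtr hCSE
  set D := kerOn V K hVn with hD
  have hDn : D.Normal := kerOn_normal V K hVn hKn
  by_contra hcon
  have hne : ¬ S ≤ D := by
    intro h
    apply hcon
    intro s hs k hk
    exact h hs k hk
  haveI := hDn
  -- a central involution of `S / (S ⊓ D)`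
  have hN'top : D.subgroupOf S ≠ ⊤ := fun h => hne (Subgroup.subgroupOf_eq_top.1 h)
  obtain ⟨x0, hx0⟩ : ∃ x : ↥S, x ∉ D.subgroupOf S := by
    by_contra h
    push_neg at h
    exact hN'top (eq_top_iff.2 fun x _ => h x)
  haveI : Nontrivial (↥S ⧸ D.subgroupOf S) :=
    ⟨⟨(QuotientGroup.mk x0 : ↥S ⧸ D.subgroupOf S), 1, fun h => hx0 ((QuotientGroup.eq_one_iff x0).1 h)⟩⟩
  have hQp : IsPGroup 2 (↥S ⧸ D.subgroupOf S) := hS2.to_quotient _
  haveI := hQp.center_nontrivial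
  have hZp : IsPGroup 2 ↥(Subgroup.center (↥S ⧸ D.subgroupOf S)) := hQp.to_subgroup _
  obtain ⟨n, hn0, hn⟩ := hZp.nontrivial_iff_card.1 inferInstance
  have hdvd : 2 ∣ Nat.card ↥(Subgroup.center (↥S ⧸ D.subgroupOf S)) := by
    rw [hn]; exact dvd_pow_self 2 hn0.ne'
  obtain ⟨c, hc⟩ := exists_prime_orderOf_dvd_card'
    (G := ↥(Subgroup.center (↥S ⧸ D.subgroupOf S))) 2 hdvd
  obtain ⟨z, hz⟩ := QuotientGroup.mk_surjective (c : ↥S ⧸ D.subgroupOf S)
  have hc1 : (c : ↥S ⧸ D.subgroupOf S) ≠ 1 := by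
    intro h
    have : c = 1 := Subtype.ext h
    rw [this, orderOf_one] at hc
    omega
  have hc2 : (c : ↥S ⧸ D.subgroupOf S) ^ 2 = 1 := by
    have h1 := pow_orderOf_eq_one c
    rw [hc] at h1
    have := congrArg Subtype.val h1
    simpa using this
  have hzD : (z : G) ∉ D := by
    intro h
    apply hc1
    rw [← hz]
    exact (QuotientGroup.eq_one_iff z).2 (Subgroup.mem_subgroupOf.2 h)
  have hz2 : (z : G) ^ 2 ∈ D := by
    have h1 : ((z ^ 2 : ↥S) : ↥S ⧸ D.subgroupOf S) = 1 := by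
      rw [QuotientGroup.mk_pow, hz, hc2]
    have := (QuotientGroup.eq_one_iff (z ^ 2)).1 h1
    have := Subgroup.mem_subgroupOf.1 this
    simpa using this
  have hz3 : ∀ t ∈ S, (z : G) * t * (z : G)⁻¹ * t⁻¹ ∈ D := by
    intro t ht
    have hcomm := Subgroup.mem_center_iff.1 c.2 (QuotientGroup.mk (⟨t, ht⟩ : ↥S))
    have h1 : ((z * ⟨t, ht⟩ * z⁻¹ * (⟨t, ht⟩ : ↥S)⁻¹ : ↥S) : ↥S ⧸ D.subgroupOf S) = 1 := by
      rw [QuotientGroup.mk_mul, QuotientGroup.mk_mul, QuotientGroup.mk_mul, QuotientGroup.mk_inv,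
        QuotientGroup.mk_inv, hz, ← hcomm]
      group
    have := (QuotientGroup.eq_one_iff _).1 h1
    have := Subgroup.mem_subgroupOf.1 this
    simpa using this
  -- the set `T`
  set T : Set G := {s | s ∈ S ∧ s ^ 2 ∈ D ∧ ∀ t ∈ S, s * t * s⁻¹ * t⁻¹ ∈ D} with hT
  have hzT : (z : G) ∈ T := ⟨z.2, hz2, hz3⟩
  have hTE : ∀ e ∈ E, ∀ t ∈ T, e * t * e⁻¹ ∈ T := by
    intro e he t ⟨htS, ht2, ht3⟩
    refine ⟨hES e he t htS, ?_, ?_⟩
    · have := hDn.conj_mem _ ht2 e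
      have e1 : e * t ^ 2 * e⁻¹ = (e * t * e⁻¹) ^ 2 := by rw [sq, sq]; group
      rwa [e1] at this
    · intro t' ht'
      have ht'' : e⁻¹ * t' * e⁻¹⁻¹ ∈ S := hES e⁻¹ (E.inv_mem he) t' ht'
      have := hDn.conj_mem _ (ht3 _ ht'') e
      have e1 : e * (t * (e⁻¹ * t' * e⁻¹⁻¹) * t⁻¹ * (e⁻¹ * t' * e⁻¹⁻¹)⁻¹) * e⁻¹ =
          e * t * e⁻¹ * t' * (e * t * e⁻¹)⁻¹ * t'⁻¹ := by group
      rwa [e1] at this
  have hG := hcore G V K E T hVn hKn hVK hVmem hVcen hKsq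
    (fun t ht v hv => hSV t ht.1 v hv) hTE hEtr
    (fun t ht => ht.2.1) (fun t ht t' ht' => ht.2.2 t' ht'.1)
  -- the coset of `z` is `E`-invariant
  set N := S ⊓ D with hN
  have hfix : ∀ e ∈ E, (z : G)⁻¹ * e * (z : G) * e⁻¹ ∈ N := by
    intro e he
    have hezT := hTE e he _ hzT
    have hezD : ¬ TrivOn V K (e * (z : G) * e⁻¹) := by
      intro h
      apply hzD
      have h' : e * (z : G) * e⁻¹ ∈ D := h
      have := hDn.conj_mem _ h' e⁻¹
      simpa [mul_assoc] using this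
    have h1 := hG _ hzT _ hezT hzD hezD
    have h2 : (z : G)⁻¹ * (e * (z : G) * e⁻¹) ∈ D := h1
    refine ⟨?_, ?_⟩
    · have := S.mul_mem (S.inv_mem z.2) hezT.1
      simpa [mul_assoc] using this
    · simpa [mul_assoc] using h2
  -- coprime action of `E` on `N`
  have hEN : E ≤ Subgroup.normalizer (N : Set G) := by
    intro e he
    rw [Subgroup.mem_normalizer_iff]
    intro x
    constructor
    · intro hx
      exact ⟨hES e he x hx.1, hDn.conj_mem x hx.2 e⟩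
    · intro hx
      have h1 := hES e⁻¹ (E.inv_mem he) _ hx.1
      have h2 := hDn.conj_mem _ hx.2 e⁻¹
      have e1 : e⁻¹ * (e * x * e⁻¹) * e⁻¹⁻¹ = x := by group
      rw [e1] at h1 h2
      exact ⟨h1, h2⟩
  have hN2 : IsPGroup 2 ↥N := hS2.to_le inf_le_left
  have hcop : Cfsg.Agent.Lib.H1.CoprimeAction E N := by
    refine ⟨hEN, ?_, Or.inr ?_⟩
    · obtain ⟨m, hm⟩ := (IsPGroup.iff_card).1 hN2
      rw [hm]
      exact Nat.Coprime.pow_right m (Nat.coprime_two_right.2 hEodd)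
    · haveI := hN2.isNilpotent
      infer_instance
  obtain ⟨d, hdN, hcen⟩ := Cfsg.Agent.Lib.H1.coprime_coset_fixed hcop (z : G) hfix
  have hcS : (z : G) * d ∈ S := S.mul_mem z.2 hdN.1
  have hc1 : (z : G) * d = 1 := by
    apply hCSE _ hcS
    intro e he
    have := Subgroup.mem_centralizer_iff.1 hcen e he
    rw [this, mul_assoc, mul_inv_cancel, mul_one]
  apply hzD
  have : (z : G) = d⁻¹ := eq_inv_of_mul_eq_one_left hc1
  rw [this]
  exact D.inv_mem hdN.2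

example : M0BStmt.{0} := m0b

end Cfsg.Agent.Lib.H20.S3797M0B
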