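import Cfsg.Agent.Lib.H27.S3814C1Defs
import Cfsg.Agent.Lib.H21.S3814FactA

/-!
# S3814, Case 1, piece (13) A5 (helper20, twin seat)

`u`, `w ∈ X` commuting of orders `t`, `t'`: `M = C_M(u) C_M(w)`.

Route: the norm map `N_g(a) = ∏_{i<n} g^i a g^{-i}` of an element `g` (`g ^ n = 1`, `n` prime to
the exponent `c`) on an abelian `g`-invariant subgroup `S`: every `m ∈ S` is `m₁ * m₂` with `m₁`
centralised by `g` and `N_g(m₂) = 1`; `g` has no nontrivial fixed point on the kernel of `N_g`.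
Twice: `S₁ = ker N_u` on `M`, `S₂ = ker N_w` on `S₁`.  On `S₂` the cyclic group `⟨u w⟩` of order
`t t'` is semiregular, and `u w` is fixed-point-free on `V` (`KFacts.n1`), so `S₂` centralises `V`
(`Lib/H10/FrobActGen.t1_cyclic`), so `S₂ = 1` (`ShapeI.faithful`).
-/

set_option autoImplicit false

namespace Cfsg.Agent.Lib.H20.S3814C1A5

open Cfsg.Agent.H7.S3814Defs Cfsg.Agent.H27.S3814C1

universe u

variable {G : Type u} [Group G]

/-- conjugation by a power of `g` preserves a `g`-invariant subgroup -/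
theorem pow_conj_mem {S : Subgroup G} {g : G} (hg : ∀ a ∈ S, g * a * g⁻¹ ∈ S) (i : ℕ) :
    ∀ a ∈ S, g ^ i * a * (g ^ i)⁻¹ ∈ S := by
  induction i with
  | zero => intro a ha; simpa using ha
  | succ i ih =>
    intro a ha
    have h1 := hg _ (ih a ha)
    have e : g ^ (i + 1) * a * (g ^ (i + 1))⁻¹ = g * (g ^ i * a * (g ^ i)⁻¹) * g⁻¹ := by
      rw [pow_succ']; group
    rw [e]; exact h1

/-- the norm `∏_{i<n} g^i a g^{-i}` (product taken in this order in `G`) -/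
def nrm (g : G) : ℕ → G → G
  | 0, _ => 1
  | n + 1, a => nrm g n a * (g ^ n * a * (g ^ n)⁻¹)

theorem nrm_zero (g a : G) : nrm g 0 a = 1 := rfl

theorem nrm_succ (g : G) (n : ℕ) (a : G) :
    nrm g (n + 1) a = nrm g n a * (g ^ n * a * (g ^ n)⁻¹) := rfl

theorem nrm_mem {S : Subgroup G} {g : G} (hg : ∀ a ∈ S, g * a * g⁻¹ ∈ S) (n : ℕ) {a : G}
    (ha : a ∈ S) : nrm g n a ∈ S := by
  induction n with
  | zero => rw [nrm_zero]; exact S.one_mem
  | succ n ih => rw [nrm_succ]; exact S.mul_mem ih (pow_conj_mem hg n a ha)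

theorem nrm_mul {S : Subgroup G} {g : G} (hS : ∀ a ∈ S, ∀ b ∈ S, a * b = b * a)
    (hg : ∀ a ∈ S, g * a * g⁻¹ ∈ S) (n : ℕ) {a b : G} (ha : a ∈ S) (hb : b ∈ S) :
    nrm g n (a * b) = nrm g n a * nrm g n b := by
  induction n with
  | zero => simp [nrm_zero]
  | succ n ih =>
    rw [nrm_succ, nrm_succ, nrm_succ, ih]
    have hc : nrm g n b * (g ^ n * a * (g ^ n)⁻¹) = (g ^ n * a * (g ^ n)⁻¹) * nrm g n b :=
      hS _ (nrm_mem hg n hb) _ (pow_conj_mem hg n a ha)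
    have e : g ^ n * (a * b) * (g ^ n)⁻¹ = (g ^ n * a * (g ^ n)⁻¹) * (g ^ n * b * (g ^ n)⁻¹) := by
      group
    rw [e]
    calc nrm g n a * nrm g n b * (g ^ n * a * (g ^ n)⁻¹ * (g ^ n * b * (g ^ n)⁻¹))
        = nrm g n a * (nrm g n b * (g ^ n * a * (g ^ n)⁻¹)) * (g ^ n * b * (g ^ n)⁻¹) := by
          simp only [mul_assoc]
      _ = nrm g n a * ((g ^ n * a * (g ^ n)⁻¹) * nrm g n b) * (g ^ n * b * (g ^ n)⁻¹) := by
          rw [hc]
      _ = nrm g n a * (g ^ n * a * (g ^ n)⁻¹) * (nrm g n b * (g ^ n * b * (g ^ n)⁻¹)) := by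
          simp only [mul_assoc]

theorem nrm_of_comm {g a : G} (h : g * a = a * g) (n : ℕ) : nrm g n a = a ^ n := by
  induction n with
  | zero => simp [nrm_zero]
  | succ n ih =>
    rw [nrm_succ, ih, pow_succ]
    have hc : Commute (g ^ n) a := (show Commute g a from h).pow_left n
    have e : g ^ n * a * (g ^ n)⁻¹ = a := by
      rw [hc.eq, mul_assoc, mul_inv_cancel, mul_one]
    rw [e]

theorem nrm_one (g : G) (n : ℕ) : nrm g n 1 = 1 := by
  rw [nrm_of_comm (by simp) n, one_pow]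

theorem nrm_inv {S : Subgroup G} {g : G} (hS : ∀ a ∈ S, ∀ b ∈ S, a * b = b * a)
    (hg : ∀ a ∈ S, g * a * g⁻¹ ∈ S) (n : ℕ) {a : G} (ha : a ∈ S) :
    nrm g n a⁻¹ = (nrm g n a)⁻¹ := by
  have h1 := nrm_mul hS hg n ha (S.inv_mem ha)
  rw [mul_inv_cancel, nrm_one] at h1
  exact (inv_eq_of_mul_eq_one_right h1.symm).symm

/-- `a * (g N g⁻¹) = N_{n+1}` -/
theorem nrm_shift (g a : G) (n : ℕ) : a * (g * nrm g n a * g⁻¹) = nrm g (n + 1) a := by
  induction n with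
  | zero => simp [nrm_succ, nrm_zero]
  | succ n ih =>
    calc a * (g * nrm g (n + 1) a * g⁻¹)
        = a * (g * (nrm g n a * (g ^ n * a * (g ^ n)⁻¹)) * g⁻¹) := by rw [nrm_succ]
      _ = (a * (g * nrm g n a * g⁻¹)) * (g ^ (n + 1) * a * (g ^ (n + 1))⁻¹) := by
          rw [pow_succ']; group
      _ = nrm g (n + 1) a * (g ^ (n + 1) * a * (g ^ (n + 1))⁻¹) := by rw [ih]
      _ = nrm g (n + 1 + 1) a := (nrm_succ g (n + 1) a).symm

theorem nrm_fixed {S : Subgroup G} {g : G} (hS : ∀ a ∈ S, ∀ b ∈ S, a * b = b * a)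
    (hg : ∀ a ∈ S, g * a * g⁻¹ ∈ S) {n : ℕ} (hn : g ^ n = 1) {a : G} (ha : a ∈ S) :
    g * nrm g n a * g⁻¹ = nrm g n a := by
  have h1 := nrm_shift g a n
  rw [nrm_succ, hn, one_mul, inv_one, mul_one, ← hS _ ha _ (nrm_mem hg n ha)] at h1
  exact mul_left_cancel h1

theorem nrm_conj {g h : G} (hgh : h * g = g * h) (n : ℕ) (a : G) :
    nrm g n (h * a * h⁻¹) = h * nrm g n a * h⁻¹ := by
  induction n with
  | zero => simp [nrm_zero]
  | succ n ih =>
    rw [nrm_succ, nrm_succ, ih]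
    have hc : Commute h (g ^ n) := (show Commute h g from hgh).pow_right n
    have e : g ^ n * (h * a * h⁻¹) * (g ^ n)⁻¹ = h * (g ^ n * a * (g ^ n)⁻¹) * h⁻¹ := by
      have e1 : g ^ n * h = h * g ^ n := hc.eq.symm
      have e2 : h⁻¹ * (g ^ n)⁻¹ = (g ^ n)⁻¹ * h⁻¹ := by
        rw [← mul_inv_rev, ← mul_inv_rev, e1]
      calc g ^ n * (h * a * h⁻¹) * (g ^ n)⁻¹
          = (g ^ n * h) * a * (h⁻¹ * (g ^ n)⁻¹) := by simp only [mul_assoc]
        _ = (h * g ^ n) * a * ((g ^ n)⁻¹ * h⁻¹) := by rw [e1, e2]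
        _ = h * (g ^ n * a * (g ^ n)⁻¹) * h⁻¹ := by simp only [mul_assoc]
    rw [e]
    group

/-- the kernel of the norm of `g` on an abelian `g`-invariant subgroup `S` -/
def kerN (S : Subgroup G) (g : G) (n : ℕ) (hS : ∀ a ∈ S, ∀ b ∈ S, a * b = b * a)
    (hg : ∀ a ∈ S, g * a * g⁻¹ ∈ S) : Subgroup G where
  carrier := {a | a ∈ S ∧ nrm g n a = 1}
  mul_mem' := by
    rintro a b ⟨ha, ha1⟩ ⟨hb, hb1⟩
    exact ⟨S.mul_mem ha hb, by rw [nrm_mul hS hg n ha hb, ha1, hb1, one_mul]⟩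
  one_mem' := ⟨S.one_mem, nrm_one g n⟩
  inv_mem' := by
    rintro a ⟨ha, ha1⟩
    exact ⟨S.inv_mem ha, by rw [nrm_inv hS hg n ha, ha1, inv_one]⟩

theorem mem_kerN {S : Subgroup G} {g : G} {n : ℕ} {hS : ∀ a ∈ S, ∀ b ∈ S, a * b = b * a}
    {hg : ∀ a ∈ S, g * a * g⁻¹ ∈ S} {a : G} :
    a ∈ kerN S g n hS hg ↔ a ∈ S ∧ nrm g n a = 1 := Iff.rfl

theorem kerN_le {S : Subgroup G} {g : G} {n : ℕ} {hS : ∀ a ∈ S, ∀ b ∈ S, a * b = b * a}
    {hg : ∀ a ∈ S, g * a * g⁻¹ ∈ S} : kerN S g n hS hg ≤ S := fun _ ha => ha.1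

/-- an element commuting with `g` and normalising `S` normalises the kernel of the norm -/
theorem kerN_conj {S : Subgroup G} {g : G} {n : ℕ} {hS : ∀ a ∈ S, ∀ b ∈ S, a * b = b * a}
    {hg : ∀ a ∈ S, g * a * g⁻¹ ∈ S} {h : G} (hgh : h * g = g * h)
    (hh : ∀ a ∈ S, h * a * h⁻¹ ∈ S) :
    ∀ a ∈ kerN S g n hS hg, h * a * h⁻¹ ∈ kerN S g n hS hg := by
  rintro a ⟨ha, ha1⟩
  refine ⟨hh a ha, ?_⟩
  rw [nrm_conj hgh, ha1, mul_one, mul_inv_cancel]

/-- `g` has no nontrivial fixed point on the kernel of its norm -/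
theorem kerN_fpf {S : Subgroup G} {g : G} {n c : ℕ} {hS : ∀ a ∈ S, ∀ b ∈ S, a * b = b * a}
    {hg : ∀ a ∈ S, g * a * g⁻¹ ∈ S} (hexp : ∀ a ∈ S, a ^ c = 1) (hnc : n.Coprime c) :
    ∀ a ∈ kerN S g n hS hg, g * a = a * g → a = 1 := by
  rintro a ⟨ha, ha1⟩ hga
  rw [nrm_of_comm hga] at ha1
  exact Cfsg.Agent.Lib.H21.S3814FactA.eq_one_of_pow_pow hnc ha1 (hexp a ha)

/-- the decomposition `m = m₁ * m₂`, `m₁` fixed, `N(m₂) = 1` -/
theorem dec {S : Subgroup G} {g : G} {n c : ℕ} (hS : ∀ a ∈ S, ∀ b ∈ S, a * b = b * a)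
    (hg : ∀ a ∈ S, g * a * g⁻¹ ∈ S) (hexp : ∀ a ∈ S, a ^ c = 1) (hn : g ^ n = 1)
    (hnc : n.Coprime c) (hc : 1 < c) {m : G} (hm : m ∈ S) :
    ∃ m₁ ∈ S, g * m₁ = m₁ * g ∧ m * m₁⁻¹ ∈ kerN S g n hS hg := by
  obtain ⟨s, -, hs⟩ := Nat.exists_mul_mod_eq_one_of_coprime hnc hc
  have hN : nrm g n m ∈ S := nrm_mem hg n hm
  have hfix : g * nrm g n m * g⁻¹ = nrm g n m := nrm_fixed hS hg hn hm
  have hcomm : Commute g (nrm g n m) := by
    show g * nrm g n m = nrm g n m * g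
    calc g * nrm g n m = (g * nrm g n m * g⁻¹) * g := by group
      _ = nrm g n m * g := by rw [hfix]
  refine ⟨nrm g n m ^ s, S.pow_mem hN s, (hcomm.pow_right s).eq, ?_⟩
  refine ⟨S.mul_mem hm (S.inv_mem (S.pow_mem hN s)), ?_⟩
  rw [nrm_mul hS hg n hm (S.inv_mem (S.pow_mem hN s)), nrm_inv hS hg n (S.pow_mem hN s),
    nrm_of_comm (hcomm.pow_right s).eq n, ← pow_mul, mul_comm s n,
    pow_eq_pow_mod (n * s) (hexp _ hN), hs, pow_one, mul_inv_cancel]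

/-- semiregularity of `⟨u w⟩` from that of the two parts -/
theorem fpf_zpowers_mul {a b : ℕ} (ha : a.Prime) (hb : b.Prime) (hab : a ≠ b)
    {S : Subgroup G} {u w : G} (hu : orderOf u = a) (hw : orderOf w = b)
    (huw : Commute u w) (hu0 : ∀ k ∈ S, u * k = k * u → k = 1)
    (hw0 : ∀ k ∈ S, w * k = k * w → k = 1) :
    ∀ y ∈ Subgroup.zpowers (u * w), y ≠ 1 → ∀ k ∈ S, y * k * y⁻¹ = k → k = 1 := by
  intro y hy hy1 k hk h
  by_contra hk1
  have hyk : Commute y k := by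
    show y * k = k * y
    calc y * k = (y * k * y⁻¹) * y := by group
      _ = k * y := by rw [h]
  obtain ⟨i, rfl⟩ := Subgroup.mem_zpowers_iff.mp hy
  have e : (u * w) ^ i = u ^ i * w ^ i := huw.mul_zpow i
  have hcz : Commute (u ^ i) (w ^ i) := huw.zpow_zpow i i
  have hwb : (w ^ i) ^ b = 1 :=
    Cfsg.Agent.Lib.H21.S3814FactA.zpow_pow_eq_one (by rw [← hw]; exact pow_orderOf_eq_one w) i
  have hua : (u ^ i) ^ a = 1 :=
    Cfsg.Agent.Lib.H21.S3814FactA.zpow_pow_eq_one (by rw [← hu]; exact pow_orderOf_eq_one u) i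
  have hyb : ((u * w) ^ i) ^ b = (u ^ i) ^ b := by rw [e, hcz.mul_pow, hwb, mul_one]
  have hya : ((u * w) ^ i) ^ a = (w ^ i) ^ a := by rw [e, hcz.mul_pow, hua, one_mul]
  have h1 : (u ^ i) ^ b = 1 := by
    by_contra hne
    have hmem : (u ^ i) ^ b ∈ Subgroup.zpowers u :=
      Subgroup.pow_mem _ (Subgroup.zpow_mem _ (Subgroup.mem_zpowers u) i) b
    have hu' : u ∈ Subgroup.zpowers ((u ^ i) ^ b) :=
      Cfsg.Agent.Lib.H21.S3814FactA.mem_zpowers_of_prime ha hu hmem hne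
    obtain ⟨j, hj⟩ := Subgroup.mem_zpowers_iff.mp hu'
    have hc1 : Commute (((u * w) ^ i) ^ b) k := hyk.pow_left b
    rw [hyb] at hc1
    have hc2 : Commute u k := by rw [← hj]; exact hc1.zpow_left j
    exact hk1 (hu0 k hk hc2.eq)
  have h2 : (w ^ i) ^ a = 1 := by
    by_contra hne
    have hmem : (w ^ i) ^ a ∈ Subgroup.zpowers w :=
      Subgroup.pow_mem _ (Subgroup.zpow_mem _ (Subgroup.mem_zpowers w) i) a
    have hw' : w ∈ Subgroup.zpowers ((w ^ i) ^ a) :=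
      Cfsg.Agent.Lib.H21.S3814FactA.mem_zpowers_of_prime hb hw hmem hne
    obtain ⟨j, hj⟩ := Subgroup.mem_zpowers_iff.mp hw'
    have hc1 : Commute (((u * w) ^ i) ^ a) k := hyk.pow_left a
    rw [hya] at hc1
    have hc2 : Commute w k := by rw [← hj]; exact hc1.zpow_left j
    exact hk1 (hw0 k hk hc2.eq)
  rw [← hyb] at h1
  rw [← hya] at h2
  exact hy1 (Cfsg.Agent.Lib.H21.S3814FactA.eq_one_of_pow_pow
    ((Nat.coprime_primes ha hb).mpr hab) h2 h1)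

/-- **PIECE A5.** -/
theorem a5 : A5Stmt.{u} := by
  intro G _ σ p V K c M X t t' h u hu w hw huw ou ow m hm
  haveI := h.c0.cex.fin
  have ht : t.Prime := h.c0.cex.prime t h.oth.ht
  have ht' : t'.Prime := h.c0.cex.prime t' h.oth.ht'
  have hp : p.Prime := h.c0.cex.prime p h.c0.shape.hp
  have hc : c.Prime := h.c0.hc
  have hMc := h.c0.hMe.1
  have hMe := h.c0.hMe.2
  have huK : u ∈ K := h.compl.le hu
  have hwK : w ∈ K := h.compl.le hw
  have hnorm : ∀ k ∈ K, ∀ a ∈ M, k * a * k⁻¹ ∈ M := fun k hk a ha =>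
    ((Subgroup.mem_normalizer_iff.mp (h.c0.hMn hk)) a).mp ha
  have hu_inv : ∀ a ∈ M, u * a * u⁻¹ ∈ M := hnorm u huK
  have hw_inv : ∀ a ∈ M, w * a * w⁻¹ ∈ M := hnorm w hwK
  have hut : u ^ t = 1 := by rw [← ou]; exact pow_orderOf_eq_one u
  have hwt : w ^ t' = 1 := by rw [← ow]; exact pow_orderOf_eq_one w
  have htc : t.Coprime c := (Nat.coprime_primes ht hc).mpr h.oth.tc
  have ht'c : t'.Coprime c := (Nat.coprime_primes ht' hc).mpr h.oth.t'c
  have hcu : Commute u w := huw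
  -- the two kernels
  let S : Subgroup G := kerN M u t hMc hu_inv
  have hSM : S ≤ M := kerN_le
  have hSc : ∀ a ∈ S, ∀ b ∈ S, a * b = b * a := fun a ha b hb => hMc a (hSM ha) b (hSM hb)
  have hSe : ∀ a ∈ S, a ^ c = 1 := fun a ha => hMe a (hSM ha)
  have hu_invS : ∀ a ∈ S, u * a * u⁻¹ ∈ S := kerN_conj rfl hu_inv
  have hw_invS : ∀ a ∈ S, w * a * w⁻¹ ∈ S := kerN_conj huw.symm hw_inv
  have hS0 : ∀ a ∈ S, u * a = a * u → a = 1 := kerN_fpf hMe htc
  let S2 : Subgroup G := kerN S w t' hSc hw_invS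
  have hS2S : S2 ≤ S := kerN_le
  have hu_invS2 : ∀ a ∈ S2, u * a * u⁻¹ ∈ S2 := kerN_conj huw hu_invS
  have hw_invS2 : ∀ a ∈ S2, w * a * w⁻¹ ∈ S2 := kerN_conj rfl hw_invS
  have hS2w : ∀ a ∈ S2, w * a = a * w → a = 1 := kerN_fpf hSe ht'c
  have hS2u : ∀ a ∈ S2, u * a = a * u → a = 1 := fun a ha => hS0 a (hS2S ha)
  -- `S2` is trivial
  have hS2bot : ∀ k ∈ S2, k = 1 := by
    have hxK : u * w ∈ K := K.mul_mem huK hwK
    have hcop0 : (orderOf u).Coprime (orderOf w) := by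
      rw [ou, ow]
      exact (Nat.coprime_primes ht ht').mpr h.oth.tt'
    have hox : orderOf (u * w) = t * t' := by
      rw [hcu.orderOf_mul_eq_mul_orderOf_of_coprime hcop0, ou, ow]
    have hxfin : IsOfFinOrder (u * w) := by
      rw [← orderOf_pos_iff, hox]; exact Nat.mul_pos ht.pos ht'.pos
    have hfpfV : Fpf (u * w) V :=
      h.c0.kf.n1 (u * w) hxK t h.oth.ht t' h.oth.ht' h.oth.tp h.oth.t'p h.oth.tt'
        (by rw [hox])
    have hVn := h.c0.shape.normal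
    have hx_inv : ∀ a ∈ S2, (u * w) * a * (u * w)⁻¹ ∈ S2 := by
      intro a ha
      have h1 := hu_invS2 _ (hw_invS2 a ha)
      have e : (u * w) * a * (u * w)⁻¹ = u * (w * a * w⁻¹) * u⁻¹ := by group
      rw [e]; exact h1
    have hx_inv' : ∀ a ∈ S2, (u * w)⁻¹ * a * (u * w) ∈ S2 := by
      intro a ha
      have h1 := pow_conj_mem hx_inv (t * t' - 1) a ha
      have hpow : (u * w) ^ (t * t' - 1) = (u * w)⁻¹ := by
        have h2 : (u * w) ^ (t * t' - 1) * (u * w) = 1 := by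
          rw [← pow_succ, Nat.sub_add_cancel (Nat.mul_pos ht.pos ht'.pos), ← hox,
            pow_orderOf_eq_one]
        exact eq_inv_of_mul_eq_one_left h2
      rw [hpow, inv_inv] at h1
      exact h1
    have hcardS2 : ∃ n : ℕ, Nat.card S2 = c ^ n := by
      haveI : Fact c.Prime := ⟨hc⟩
      have hpg : IsPGroup c S2 := by
        intro ⟨a, ha⟩
        refine ⟨1, ?_⟩
        apply Subtype.ext
        rw [pow_one]
        simpa using hSe a (hS2S ha)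
      exact hpg.exists_card_eq
    have hcent : ∀ k ∈ S2, ∀ v ∈ V, k * v = v * k := by
      apply Cfsg.Agent.Lib.H10.FrobActGen.t1_cyclic S2 V (u * w) hxfin h.c0.shape.elem.1
      · intro k _ v hv; exact hVn.conj_mem v hv k
      · intro v hv; exact hVn.conj_mem v hv (u * w)
      · intro v hv
        have := hVn.conj_mem v hv (u * w)⁻¹
        rwa [inv_inv] at this
      · exact hx_inv
      · exact hx_inv'
      · exact fpf_zpowers_mul ht ht' h.oth.tt' ou ow hcu hS2u hS2w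
      · intro v hv hv1
        obtain ⟨n, hn⟩ := hcardS2
        rw [hn] at hv1
        have hcop : (c ^ n).Coprime p :=
          Nat.Coprime.pow_left n ((Nat.coprime_primes hc hp).mpr h.oth.cp)
        exact Cfsg.Agent.Lib.H21.S3814FactA.eq_one_of_pow_pow hcop hv1
          (h.c0.shape.elem.2 v hv)
      · intro v hv hxv
        apply hfpfV v hv
        calc (u * w) * v = ((u * w) * v * (u * w)⁻¹) * (u * w) := by group
          _ = v * (u * w) := by rw [hxv]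
    intro k hk
    exact h.c0.shape.faithful k (h.c0.hMK (hSM (hS2S hk))) (hcent k hk)
  -- decompose
  obtain ⟨m₁, hm₁M, hum₁, hm₂S⟩ := dec hMc hu_inv hMe hut htc hc.one_lt hm
  obtain ⟨n₁, hn₁S, hwn₁, hm₃⟩ := dec hSc hw_invS hSe hwt ht'c hc.one_lt hm₂S
  have h3 : m * m₁⁻¹ * n₁⁻¹ = 1 := hS2bot _ hm₃
  have h4 : m * m₁⁻¹ = n₁ := by
    have := mul_eq_one_iff_eq_inv.mp h3
    rwa [inv_inv] at this
  refine ⟨m₁, hm₁M, n₁, hSM hn₁S, ?_, hum₁, hwn₁⟩
  rw [hMc m₁ hm₁M n₁ (hSM hn₁S), ← h4]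
  group

example : A5Stmt.{0} := a5

end Cfsg.Agent.Lib.H20.S3814C1A5
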