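import Mathlib
import Cfsg.Agent.Lib.H1.Hall
import Cfsg.Agent.Lib.H1.FpfAction
import Cfsg.Agent.Lib.H8.FrobFpf
import Cfsg.Agent.Lib.H19.HallPi
import Cfsg.Agent.Lib.H20.ThreePrimes

/-!
# Solvable groups acting with fixed-point-free elements of two prime orders (helper20)

If a finite solvable group `L` acts on a nontrivial finite abelian group `A` of order prime to `|L|`
so that every element of order `b` and every element of order `c` (`b ≠ c` primes dividing `|L|`)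
is fixed-point-free, then `L` has an element of order `b * c`.
-/

set_option autoImplicit false

namespace Cfsg.Agent.Lib.H20.SemiRegBC

universe u v

open Cfsg.Agent.Lib.H20

/-- abstract form -/
theorem exists_orderOf_eq_mul {L : Type u} [Group L] [Finite L] [Group.IsSolvable L]
    {A : Type v} [CommGroup A] [Finite A] [Nontrivial A] (ρ : L →* MulAut A)
    (hcop : (Nat.card A).Coprime (Nat.card L)) {b c : ℕ} (hb : b.Prime) (hc : c.Prime)
    (hbc : b ≠ c) (hbL : b ∣ Nat.card L) (hcL : c ∣ Nat.card L)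
    (hfpf : ∀ l : L, (orderOf l = b ∨ orderOf l = c) → ∀ a : A, ρ l a = a → a = 1) :
    ∃ x : L, orderOf x = b * c := by
  by_contra hno
  push_neg at hno
  -- Hall `{b, c}`-subgroup
  obtain ⟨m, n', hmn, hm, hn'⟩ :=
    Cfsg.Agent.Lib.H19.exists_pi_decomp ({b, c} : Set ℕ) (Nat.card L) Nat.card_pos.ne'
  have hcopmn : m.Coprime n' := by
    apply Nat.coprime_of_dvd
    intro l hl hlm hln
    exact hn' l hl hln (hm l hl hlm)
  obtain ⟨K, hK⟩ := Cfsg.Agent.Lib.H1.hall_exists (G := L) hmn hcopmn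
  have hdvdm : ∀ l : ℕ, l.Prime → l ∈ ({b, c} : Set ℕ) → l ∣ Nat.card L → l ∣ m := by
    intro l hl hlπ hlG
    rw [hmn] at hlG
    rcases (Nat.Prime.dvd_mul hl).mp hlG with h | h
    · exact h
    · exact absurd hlπ (hn' l hl h)
  have hbm : b ∣ m := hdvdm b hb (Or.inl rfl) hbL
  have hcm : c ∣ m := hdvdm c hc (Or.inr rfl) hcL
  haveI : Nontrivial K := by
    rw [← Finite.one_lt_card_iff_nontrivial, hK]
    exact lt_of_lt_of_le hb.one_lt (Nat.le_of_dvd (Nat.pos_of_ne_zero (by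
      rintro rfl; rw [zero_mul] at hmn; exact Nat.card_pos.ne' hmn)) hbm)
  obtain ⟨t, M₀, ht, hM₀n, hM₀1, hM₀t, hM₀c⟩ := exists_normal_abelian_exponent_prime (G := K)
  haveI : Fact t.Prime := ⟨ht⟩
  have htm : t ∣ m := by
    obtain ⟨z, hz⟩ := Subgroup.ne_bot_iff_exists_ne_one.mp hM₀1
    have hzt : (z : K) ^ t = 1 := hM₀t z z.2
    have hz1 : (z : K) ≠ 1 := fun h => hz (Subtype.ext h)
    have : orderOf (z : K) = t := orderOf_eq_prime hzt hz1
    rw [← this, ← hK]
    exact orderOf_dvd_natCard _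
  have htbc : t = b ∨ t = c := hm t ht htm
  -- the other prime
  obtain ⟨t', ht'p, ht't, ht'm, htt'⟩ : ∃ t' : ℕ, t'.Prime ∧ t' ≠ t ∧ t' ∣ m ∧
      ((t = b ∧ t' = c) ∨ (t = c ∧ t' = b)) := by
    rcases htbc with rfl | rfl
    · exact ⟨c, hc, hbc.symm, hcm, Or.inl ⟨rfl, rfl⟩⟩
    · exact ⟨b, hb, hbc, hbm, Or.inr ⟨rfl, rfl⟩⟩
  haveI : Fact t'.Prime := ⟨ht'p⟩
  obtain ⟨y₀, hy₀⟩ := exists_prime_orderOf_dvd_card' (G := K) t' (by rw [hK]; exact ht'm)
  have hy1 : y₀ ≠ 1 := by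
    intro h
    rw [h, orderOf_one] at hy₀
    exact ht'p.one_lt.ne hy₀
  have hyt' : y₀ ^ t' = 1 := by rw [← hy₀]; exact pow_orderOf_eq_one _
  -- orders `t`, `t'` are `b`, `c`
  have hord : ∀ l : K, (orderOf l = t ∨ orderOf l = t') → ∀ a : A, ρ (l : L) a = a → a = 1 := by
    intro l hl a ha
    apply hfpf (l : L) _ a ha
    rw [Subgroup.orderOf_coe]
    rcases htt' with ⟨h1, h2⟩ | ⟨h1, h2⟩
    · rcases hl with h | h
      · left; rw [h, h1]
      · right; rw [h, h2]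
    · rcases hl with h | h
      · right; rw [h, h1]
      · left; rw [h, h2]
  have hnoK : ∀ z : K, orderOf z ≠ t * t' := by
    intro z hz
    apply hno (z : L)
    rw [Subgroup.orderOf_coe, hz]
    rcases htt' with ⟨h1, h2⟩ | ⟨h1, h2⟩
    · rw [h1, h2]
    · rw [h1, h2, mul_comm]
  have hMel : ∀ x ∈ M₀, ∃ k : ℕ, x ^ (t ^ k) = 1 :=
    fun x hx => ⟨1, by rw [pow_one]; exact hM₀t x hx⟩
  have hyel : ∃ k : ℕ, y₀ ^ (t' ^ k) = 1 := ⟨1, by rw [pow_one]; exact hyt'⟩
  have key := Cfsg.Agent.Lib.H8.pow_card_eq_one_of_fpf_aux (A := A) (Γ := K)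
    (ρ.comp K.subtype) M₀ hM₀1 y₀ t' ht'p.pos hyt' (fun x hx => hM₀n.conj_mem x hx y₀)
    (by
      intro x hx hx1 a ha
      exact hord x (Or.inl (orderOf_eq_prime (hM₀t x hx) hx1)) a ha)
    (by
      intro a ha
      exact hord y₀ (Or.inr hy₀) a ha)
    (by
      intro i hi0 hit x hx hcomm
      by_contra hx1
      have hcop' : Nat.Coprime i (orderOf y₀) := by
        rw [hy₀]
        exact (Nat.coprime_of_lt_prime hi0.ne' hit ht'p).symm
      obtain ⟨j, hj⟩ := exists_pow_eq_self_of_coprime hcop'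
      have hcomm' : y₀ * x = x * y₀ := by
        have h1 : Commute (y₀ ^ i) x := hcomm
        have h2 : Commute ((y₀ ^ i) ^ j) x := h1.pow_left j
        rw [hj] at h2
        exact h2
      obtain ⟨z, hz⟩ := exists_orderOf_eq_mul_of_commute ht'p ht ht't hy1 hx1 hyel (hMel x hx) hcomm'
      exact hnoK z (by rw [hz, mul_comm]))
  -- contradiction: `A` is trivial
  obtain ⟨a, ha1⟩ := exists_ne (1 : A)
  apply ha1
  have h1 : a ^ Nat.card M₀ = 1 := key a
  have h2 : a ^ Nat.card A = 1 := pow_card_eq_one'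
  have hdvdL : Nat.card M₀ ∣ Nat.card L := by
    have h3 : Nat.card M₀ ∣ Nat.card K := Subgroup.card_subgroup_dvd_card M₀
    exact h3.trans (Subgroup.card_subgroup_dvd_card K)
  have hcop2 : (Nat.card M₀).Coprime (Nat.card A) :=
    (Nat.Coprime.coprime_dvd_right hdvdL hcop).symm
  have h3 : orderOf a ∣ Nat.gcd (Nat.card M₀) (Nat.card A) :=
    Nat.dvd_gcd (orderOf_dvd_of_pow_eq_one h1) (orderOf_dvd_of_pow_eq_one h2)
  rw [hcop2.gcd_eq_one, Nat.dvd_one] at h3
  exact orderOf_eq_one_iff.mp h3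

/-- subgroup form: `L` normalises the abelian subgroup `W ≠ ⊥`, elements of `L` of order `b` or `c`
have no nontrivial fixed point in `W` -/
theorem exists_mem_orderOf_eq_mul {G : Type u} [Group G] [Finite G] (L W : Subgroup G)
    (hLW : L ≤ Subgroup.normalizer (W : Set G)) (hsol : Group.IsSolvable L)
    (hWab : ∀ v ∈ W, ∀ w ∈ W, v * w = w * v) (hW1 : W ≠ ⊥)
    (hcop : (Nat.card W).Coprime (Nat.card L)) {b c : ℕ} (hb : b.Prime) (hc : c.Prime)
    (hbc : b ≠ c) (hbL : b ∣ Nat.card L) (hcL : c ∣ Nat.card L)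
    (hfpf : ∀ l ∈ L, (orderOf l = b ∨ orderOf l = c) → ∀ w ∈ W, l * w = w * l → w = 1) :
    ∃ x ∈ L, orderOf x = b * c := by
  haveI := hsol
  letI : CommGroup W :=
    { (inferInstance : Group W) with
      mul_comm := fun v w => Subtype.ext (hWab v v.2 w w.2) }
  have hWnt : Nontrivial W := by
    obtain ⟨w, hw1⟩ := (Subgroup.ne_bot_iff_exists_ne_one).mp hW1
    exact ⟨⟨w, 1, hw1⟩⟩
  obtain ⟨x, hx⟩ := exists_orderOf_eq_mul (L := L) (A := W) (Cfsg.Agent.Lib.H1.conjAutHom hLW)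
    hcop hb hc hbc hbL hcL (by
      intro l hl w hw
      apply Subtype.ext
      apply hfpf (l : G) l.2 (by rwa [Subgroup.orderOf_coe]) (w : G) w.2
      have h1 := congrArg Subtype.val hw
      rw [Cfsg.Agent.Lib.H1.conjAutHom_apply] at h1
      calc (l : G) * (w : G) = ((l : G) * w * (l : G)⁻¹) * l := by group
        _ = (w : G) * l := by rw [h1])
  exact ⟨(x : G), x.2, by rw [Subgroup.orderOf_coe]; exact hx⟩

end Cfsg.Agent.Lib.H20.SemiRegBC
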