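import Mathlib
import Cfsg.Agent.Lib.H27.S3814C1Defs
import Cfsg.Agent.Lib.H20.SemiRegBC

/-!
# S3814, Case 1 (and Case 2'), piece (G1) (helper20): a prime-order element of `K` commuting with
elements of two further primes is fixed-point-free on `V`
-/

set_option autoImplicit false

namespace Cfsg.Agent.Lib.H20.S3814C1G1

open Cfsg.Agent.H7.S3814Defs Cfsg.Agent.H27.S3814C1

universe u

theorem g1 : G1Stmt.{u} := by
  intro G _ σ hG p V K hI hKF x hx y hy z hz hox hoy hoz hxy hxz hyz hcxy hcxz
  classical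
  haveI hfin : Finite G := hG.fin
  haveI hsol : Group.IsSolvable G := hG.sol
  haveI hVn : V.Normal := hI.normal
  have hp : p.Prime := hG.prime p hI.hp
  haveI : Fact p.Prime := ⟨hp⟩
  -- the primes
  have hordK : ∀ g ∈ K, orderOf g ∣ Nat.card K := by
    intro g hg
    have h1 : orderOf (⟨g, hg⟩ : K) ∣ Nat.card K := orderOf_dvd_natCard _
    rwa [← Subgroup.orderOf_coe] at h1
  have hsσ := hKF.primes _ hox (hordK x hx)
  have hqσ := hKF.primes _ hoy (hordK y hy)
  have hq'σ := hKF.primes _ hoz (hordK z hz)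
  -- suppose `x` has a fixed point
  intro v₀ hv₀V hv₀c
  by_contra hv₀1
  let W : Subgroup G := V ⊓ Subgroup.centralizer ({x} : Set G)
  let L : Subgroup G := K ⊓ Subgroup.centralizer ({x} : Set G)
  have hmemC : ∀ g : G, g ∈ Subgroup.centralizer ({x} : Set G) ↔ x * g = g * x := by
    intro g
    rw [Subgroup.mem_centralizer_iff]
    constructor
    · intro h; exact h x rfl
    · intro h a ha
      rw [Set.mem_singleton_iff] at ha
      rw [ha]; exact h
  have hW1 : W ≠ ⊥ := by
    intro hbot
    have hmem : v₀ ∈ W := ⟨hv₀V, (hmemC v₀).mpr hv₀c⟩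
    rw [hbot, Subgroup.mem_bot] at hmem
    exact hv₀1 hmem
  have hLW : L ≤ Subgroup.normalizer (W : Set G) := by
    intro l hl
    apply Subgroup.mem_normalizer_fintype
    intro w hw
    have hlx : x * l = l * x := (hmemC l).mp hl.2
    have hwx : x * w = w * x := (hmemC w).mp hw.2
    refine ⟨hVn.conj_mem w hw.1 l, (hmemC _).mpr ?_⟩
    calc x * (l * w * l⁻¹) = (x * l) * w * l⁻¹ := by group
      _ = l * (x * w) * l⁻¹ := by rw [hlx]; group
      _ = l * (w * x) * l⁻¹ := by rw [hwx]
      _ = l * w * (x * l⁻¹) := by group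
      _ = l * w * (l⁻¹ * x) := by
        have : x * l⁻¹ = l⁻¹ * x := by
          calc x * l⁻¹ = l⁻¹ * (l * x) * l⁻¹ := by group
            _ = l⁻¹ * (x * l) * l⁻¹ := by rw [hlx]
            _ = l⁻¹ * x := by group
        rw [this]
      _ = l * w * l⁻¹ * x := by group
  have hWab : ∀ v ∈ W, ∀ w ∈ W, v * w = w * v := fun v hv w hw => hI.elem.1 v hv.1 w hw.1
  -- coprimality
  have hVp : IsPGroup p V := by
    intro v
    refine ⟨1, ?_⟩
    apply Subtype.ext
    rw [pow_one]
    exact hI.elem.2 v v.2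
  obtain ⟨k, hk⟩ := IsPGroup.iff_card.mp hVp
  have hcop : (Nat.card W).Coprime (Nat.card L) := by
    have h1 : Nat.card W ∣ Nat.card V := Subgroup.card_dvd_of_le inf_le_left
    have h2 : Nat.card L ∣ Nat.card K := Subgroup.card_dvd_of_le inf_le_left
    have h3 : (Nat.card V).Coprime (Nat.card K) := by
      rw [hk]; exact (Nat.Coprime.pow_right k hI.coprime).symm
    exact Nat.Coprime.coprime_dvd_left h1 (Nat.Coprime.coprime_dvd_right h2 h3)
  have hyL : y ∈ L := ⟨hy, (hmemC y).mpr hcxy⟩
  have hzL : z ∈ L := ⟨hz, (hmemC z).mpr hcxz⟩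
  have hdvdL : ∀ g ∈ L, orderOf g ∣ Nat.card L := by
    intro g hg
    have h1 : orderOf (⟨g, hg⟩ : L) ∣ Nat.card L := orderOf_dvd_natCard _
    rwa [← Subgroup.orderOf_coe] at h1
  -- elements of order `q`, `q'` of `L` are fixed-point-free on `W`
  have hfpf : ∀ l ∈ L, (orderOf l = orderOf y ∨ orderOf l = orderOf z) → ∀ w ∈ W,
      l * w = w * l → w = 1 := by
    intro l hl hol w hw hlw
    have hlx : x * l = l * x := (hmemC l).mp hl.2
    have hwx : x * w = w * x := (hmemC w).mp hw.2
    have hne : orderOf x ≠ orderOf l := by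
      rcases hol with h | h
      · rw [h]; exact hxy
      · rw [h]; exact hxz
    have holp : (orderOf l).Prime := by
      rcases hol with h | h
      · rw [h]; exact hoy
      · rw [h]; exact hoz
    have hlσ : orderOf l ∈ σ ∧ orderOf l ≠ p := by
      rcases hol with h | h
      · rw [h]; exact hqσ
      · rw [h]; exact hq'σ
    have hc : Commute x l := hlx
    have hord : orderOf (x * l) = orderOf x * orderOf l :=
      hc.orderOf_mul_eq_mul_orderOf_of_coprime ((Nat.coprime_primes hox holp).mpr hne)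
    have hF := hKF.n1 (x * l) (K.mul_mem hx hl.1) (orderOf x) hsσ.1 (orderOf l) hlσ.1 hsσ.2 hlσ.2
      hne (by rw [hord])
    apply hF w hw.1
    calc x * l * w = x * (l * w) := by group
      _ = x * (w * l) := by rw [hlw]
      _ = (x * w) * l := by group
      _ = (w * x) * l := by rw [hwx]
      _ = w * (x * l) := by group
  obtain ⟨h', hh'L, hh'o⟩ := Cfsg.Agent.Lib.H20.SemiRegBC.exists_mem_orderOf_eq_mul L W hLW
    inferInstance hWab hW1 hcop hoy hoz hyz (hdvdL y hyL) (hdvdL z hzL) hfpf
  -- the element of order `s q q'`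
  have hc : Commute x h' := (hmemC h').mp hh'L.2
  have hcop2 : (orderOf x).Coprime (orderOf h') := by
    rw [hh'o]
    exact Nat.Coprime.mul_right ((Nat.coprime_primes hox hoy).mpr hxy)
      ((Nat.coprime_primes hox hoz).mpr hxz)
  have hord : orderOf (x * h') = orderOf x * orderOf y * orderOf z := by
    rw [hc.orderOf_mul_eq_mul_orderOf_of_coprime hcop2, hh'o, mul_assoc]
  exact hG.notriple (orderOf x) hsσ.1 (orderOf y) hqσ.1 (orderOf z) hq'σ.1 hxy hyz hxz (x * h') hord

example : G1Stmt.{0} := g1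

end Cfsg.Agent.Lib.H20.S3814C1G1
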