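import Mathlib
import Cfsg.Agent.Lib.H7.S3814Defs2
import Cfsg.Agent.Lib.H12.S3814A3
import Cfsg.Agent.Lib.H1.IndexBasic

/-!
# S3814, piece KFACTS (helper20): the facts (N1), (J1), (J2), (F2) inside the complement `K`
of shape (I)
-/

set_option autoImplicit false

namespace Cfsg.Agent.Lib.H20.S3814KFacts

open Cfsg.Agent.H7.S3814Defs

universe u

theorem kfacts : KFactsStmt.{u} := by
  intro hF2 hR G _ σ hG p V K hI
  haveI hfin : Finite G := hG.fin
  haveI hsol : Group.IsSolvable G := hG.sol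
  haveI hVn : V.Normal := hI.normal
  have hp : p.Prime := hG.prime p hI.hp
  haveI : Fact p.Prime := ⟨hp⟩
  -- orders
  have hcard : Nat.card G = Nat.card K * Nat.card V := by
    have h := Cfsg.Agent.Lib.H1.card_sup_mul_card_inf K V
    rw [sup_comm, hI.compl_sup, hI.compl_inf, Subgroup.card_top, Subgroup.card_bot, mul_one] at h
    exact h
  have hVp : IsPGroup p V := by
    intro v
    refine ⟨1, ?_⟩
    apply Subtype.ext
    rw [pow_one]
    exact hI.elem.2 v v.2
  obtain ⟨k, hk⟩ := IsPGroup.iff_card.mp hVp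
  have hcop : (Nat.card K).Coprime (Nat.card V) := by
    rw [hk]; exact Nat.Coprime.pow_right k hI.coprime
  have hVpos : 0 < Nat.card V := Nat.card_pos
  have hquot : Nat.card (G ⧸ V) = Nat.card K := by
    have h1 := Subgroup.card_eq_card_quotient_mul_card_subgroup V
    rw [hcard] at h1
    exact (Nat.eq_of_mul_eq_mul_right hVpos h1).symm
  -- a `p`-element lies in `V`
  have hpV : ∀ v : G, v ^ p = 1 → v ∈ V := by
    intro v hv
    rw [← QuotientGroup.eq_one_iff]
    have h1 : ((QuotientGroup.mk v : G ⧸ V)) ^ p = 1 := by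
      rw [← QuotientGroup.mk_pow, hv]; rfl
    have h2 : orderOf (QuotientGroup.mk v : G ⧸ V) ∣ p := orderOf_dvd_of_pow_eq_one h1
    have h3 : orderOf (QuotientGroup.mk v : G ⧸ V) ∣ Nat.card K := by
      rw [← hquot]; exact orderOf_dvd_natCard _
    have h4 : orderOf (QuotientGroup.mk v : G ⧸ V) ∣ Nat.gcd (Nat.card K) p := Nat.dvd_gcd h3 h2
    rw [hI.coprime.gcd_eq_one, Nat.dvd_one] at h4
    exact orderOf_eq_one_iff.mp h4
  -- a prime `t ≠ p` is prime to `|V|`
  have hcopt : ∀ t : ℕ, t.Prime → t ≠ p → t.Coprime (Nat.card V) := by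
    intro t ht htp
    rw [hk]
    exact Nat.Coprime.pow_right k ((Nat.coprime_primes ht hp).mpr htp)
  -- the order of an element of `K` divides `|K|`
  have hordK : ∀ x ∈ K, orderOf x ∣ Nat.card K := by
    intro x hx
    have h1 : orderOf (⟨x, hx⟩ : K) ∣ Nat.card K := orderOf_dvd_natCard _
    rwa [← Subgroup.orderOf_coe] at h1
  refine ⟨?_, ?_, ?_, ?_, ?_⟩
  · -- primes
    intro t ht htK
    refine ⟨hG.sgrp t ht (by rw [hcard]; exact Dvd.dvd.mul_right htK _), ?_⟩
    rintro rfl
    have h1 : t ∣ Nat.gcd (Nat.card K) t := Nat.dvd_gcd htK dvd_rfl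
    rw [hI.coprime.gcd_eq_one, Nat.dvd_one] at h1
    exact ht.one_lt.ne' h1
  · -- (N1)
    intro x hx t ht t' ht' htp ht'p htt' hdvd v hv hcomm
    by_contra hv1
    have hvo : orderOf v = p := orderOf_eq_prime (hI.elem.2 v hv) hv1
    have hxo : (orderOf x).Coprime p :=
      Nat.Coprime.coprime_dvd_left (hordK x hx) hI.coprime
    have hc : Commute x v := hcomm
    have hN : orderOf (x * v) = orderOf x * p := by
      rw [hc.orderOf_mul_eq_mul_orderOf_of_coprime (by rw [hvo]; exact hxo), hvo]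
    have hd : t * t' * p ∣ orderOf (x * v) := by
      rw [hN]; exact Nat.mul_dvd_mul hdvd dvd_rfl
    have hpos : orderOf (x * v) ≠ 0 := by
      rw [hN]
      exact Nat.mul_ne_zero (orderOf_pos x).ne' hp.ne_zero
    have hne : orderOf (x * v) / (t * t' * p) ≠ 0 := by
      intro h0
      have := Nat.div_mul_cancel hd
      rw [h0, zero_mul] at this
      exact hpos this.symm
    apply hG.notriple t ht t' ht' p hI.hp htt' ht'p htp
      ((x * v) ^ (orderOf (x * v) / (t * t' * p)))
    rw [orderOf_pow_of_dvd hne (Nat.div_dvd_of_dvd hd), Nat.div_div_self hd hpos]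
  · -- (J1)
    intro t ht htp
    have htP : t.Prime := hG.prime t ht
    obtain ⟨g, hg⟩ := hG.pairs p hI.hp t ht (Ne.symm htp)
    have hgt : orderOf (g ^ p) = t := by
      rw [orderOf_pow_of_dvd hp.ne_zero (by rw [hg]; exact Dvd.intro _ rfl), hg,
        Nat.mul_div_cancel_left _ hp.pos]
    have hgp : orderOf (g ^ t) = p := by
      rw [orderOf_pow_of_dvd htP.ne_zero (by rw [hg]; exact Dvd.intro_left _ rfl), hg,
        Nat.mul_div_cancel _ htP.pos]
    obtain ⟨x, hx⟩ := Cfsg.Agent.Lib.H12.S3814A3.exists_conj_mem_hall hcard hcop K rfl (g ^ p)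
      (by rw [hgt]; exact hcopt t htP htp)
    refine ⟨x * g ^ p * x⁻¹, hx, ?_, ?_⟩
    · rw [← hgt]
      exact orderOf_injective (MulAut.conj x).toMonoidHom (MulAut.conj x).injective (g ^ p)
    · intro hF
      have hvV : x * g ^ t * x⁻¹ ∈ V := by
        apply hpV
        rw [conj_pow, ← hgp, pow_orderOf_eq_one, mul_one, mul_inv_cancel]
      have hcomm : x * g ^ p * x⁻¹ * (x * g ^ t * x⁻¹) = x * g ^ t * x⁻¹ * (x * g ^ p * x⁻¹) := by
        have h1 : g ^ p * g ^ t = g ^ t * g ^ p := by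
          rw [← pow_add, ← pow_add, add_comm]
        calc x * g ^ p * x⁻¹ * (x * g ^ t * x⁻¹) = x * (g ^ p * g ^ t) * x⁻¹ := by group
          _ = x * (g ^ t * g ^ p) * x⁻¹ := by rw [h1]
          _ = x * g ^ t * x⁻¹ * (x * g ^ p * x⁻¹) := by group
      have h1 := hF _ hvV hcomm
      have h2 : g ^ t = 1 := by
        have : g ^ t = x⁻¹ * (x * g ^ t * x⁻¹) * x := by group
        rw [this, h1]; group
      rw [h2, orderOf_one] at hgp
      exact hp.one_lt.ne hgp
  · -- (J2)
    intro t ht t' ht' htp ht'p htt'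
    have htP : t.Prime := hG.prime t ht
    have ht'P : t'.Prime := hG.prime t' ht'
    obtain ⟨g, hg⟩ := hG.pairs t ht t' ht' htt'
    obtain ⟨h, hhK, hh⟩ := Cfsg.Agent.Lib.H12.S3814A3.exists_orderOf_eq_in_hall hcard hcop K rfl g
      (by rw [hg]; exact Nat.Coprime.mul_left (hcopt t htP htp) (hcopt t' ht'P ht'p))
    exact ⟨h, hhK, by rw [hh, hg]⟩
  · -- (F2)
    intro t ht htp
    have htP : t.Prime := hG.prime t ht
    apply hR G K t htP (hF2 G σ hG t ht)
    intro hdvd
    have hidx : K.index = Nat.card V := by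
      have h1 := K.card_mul_index
      rw [hcard] at h1
      exact Nat.eq_of_mul_eq_mul_left Nat.card_pos h1
    rw [hidx] at hdvd
    have h1 : t ∣ Nat.gcd t (Nat.card V) := Nat.dvd_gcd dvd_rfl hdvd
    rw [(hcopt t htP htp).gcd_eq_one, Nat.dvd_one] at h1
    exact htP.one_lt.ne' h1

example : KFactsStmt.{0} := kfacts

end Cfsg.Agent.Lib.H20.S3814KFacts
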