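import Mathlib
import Cfsg.Agent.Lib.H8.S3814MPDefs
import Cfsg.Agent.Lib.H1.FpfAction

/-!
# S3814, block (MP), piece (K3d) (helper20): the norm argument
-/

set_option autoImplicit false

namespace Cfsg.Agent.Lib.H20.S3814MPK3d

open Cfsg.Agent.H7.S3814Defs Cfsg.Agent.Lib.H8.S3814MP

universe u

section Abstract

variable {M : Type*} [CommGroup M]

theorem prod_shift (f : ℕ → M) (n : ℕ) (h : f n = f 0) :
    ∏ i ∈ Finset.range n, f (i + 1) = ∏ i ∈ Finset.range n, f i := by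
  have h1 := Finset.prod_range_succ' f n
  have h2 := Finset.prod_range_succ f n
  rw [h1, h] at h2
  exact mul_right_cancel h2

/-- the norm argument, abstract form -/
theorem norm_lemma (φ τ : MulAut M) (ψ : ℕ → MulAut M) {r s : ℕ}
    (hs : 0 < s) (hφ : φ ^ r = 1) (hτ : τ ^ s = 1) (v : M) (hv : φ v = v)
    (hψv : ∀ i, 0 < i → i < s → ψ i ((τ ^ i) v) = (τ ^ i) v)
    (hcomm : ∀ i, 0 < i → i < s → ∀ u : M, ψ i (φ u) = φ (ψ i u))
    (hncf : ∀ i, 0 < i → i < s → ∀ u : M, φ u = u → ψ i u = u → u = 1) :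
    ∃ w : M, τ w = w ∧ ∏ k ∈ Finset.range r, (φ ^ k) w = v ^ r := by
  refine ⟨∏ i ∈ Finset.range s, (τ ^ i) v, ?_, ?_⟩
  · rw [map_prod]
    have h1 : ∀ i, τ ((τ ^ i) v) = (τ ^ (i + 1)) v := by
      intro i; rw [pow_succ', MulAut.mul_apply]
    simp_rw [h1]
    apply prod_shift (fun i => (τ ^ i) v) s
    show (τ ^ s) v = (τ ^ 0) v
    rw [hτ, pow_zero]
  · have hN_mul : ∀ (f : ℕ → M) (S : Finset ℕ),
        ∏ k ∈ Finset.range r, (φ ^ k) (∏ i ∈ S, f i) =
          ∏ i ∈ S, ∏ k ∈ Finset.range r, (φ ^ k) (f i) := by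
      intro f S
      simp_rw [map_prod]
      exact Finset.prod_comm
    rw [hN_mul]
    have hfix : ∀ u : M, φ (∏ k ∈ Finset.range r, (φ ^ k) u) = ∏ k ∈ Finset.range r, (φ ^ k) u := by
      intro u
      rw [map_prod]
      have h1 : ∀ k, φ ((φ ^ k) u) = (φ ^ (k + 1)) u := by
        intro k; rw [pow_succ', MulAut.mul_apply]
      simp_rw [h1]
      apply prod_shift (fun k => (φ ^ k) u) r
      show (φ ^ r) u = (φ ^ 0) u
      rw [hφ, pow_zero]
    rw [Finset.prod_eq_single 0]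
    · rw [pow_zero, MulAut.one_apply]
      have hfixv : ∀ k : ℕ, (φ ^ k) v = v := by
        intro k
        induction k with
        | zero => rw [pow_zero, MulAut.one_apply]
        | succ k ih => rw [pow_succ', MulAut.mul_apply, ih, hv]
      simp_rw [hfixv]
      rw [Finset.prod_const, Finset.card_range]
    · intro i hi hi0
      have his : i < s := Finset.mem_range.mp hi
      have hi0' : 0 < i := Nat.pos_of_ne_zero hi0
      apply hncf i hi0' his _ (hfix _)
      rw [map_prod]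
      apply Finset.prod_congr rfl
      intro k _
      have hk : ∀ (k : ℕ) (u : M), ψ i ((φ ^ k) u) = (φ ^ k) (ψ i u) := by
        intro k
        induction k with
        | zero => intro u; rw [pow_zero, MulAut.one_apply, MulAut.one_apply]
        | succ k ih =>
          intro u
          rw [pow_succ', MulAut.mul_apply, MulAut.mul_apply, hcomm i hi0' his, ih]
      rw [hk, hψv i hi0' his]
    · intro h0
      exact absurd (Finset.mem_range.mpr hs) h0

end Abstract

section Pair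

variable {G : Type u} [Group G]

theorem closure_pair_comm {a b : G} (hab : a * b = b * a) :
    ∀ x ∈ Subgroup.closure ({a, b} : Set G), ∀ y ∈ Subgroup.closure ({a, b} : Set G),
      x * y = y * x := by
  intro x hx y hy
  have hk : ∀ x ∈ ({a, b} : Set G), ∀ y ∈ ({a, b} : Set G), x * y = y * x := by
    rintro x (rfl | rfl) y (rfl | rfl)
    · rfl
    · exact hab
    · exact hab.symm
    · rfl
  letI := Subgroup.closureCommGroupOfComm hk
  have h1 := mul_comm (⟨x, hx⟩ : Subgroup.closure ({a, b} : Set G)) ⟨y, hy⟩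
  exact congrArg Subtype.val h1

theorem closure_pair_pow {a b : G} {n : ℕ} (hab : a * b = b * a) (ha : a ^ n = 1) (hb : b ^ n = 1) :
    ∀ x ∈ Subgroup.closure ({a, b} : Set G), x ^ n = 1 := by
  intro x hx
  induction hx using Subgroup.closure_induction with
  | mem x hx =>
    rcases hx with rfl | rfl
    · exact ha
    · exact hb
  | one => exact one_pow n
  | mul x y hx hy ihx ihy =>
    have hc : Commute x y := closure_pair_comm hab x hx y hy
    rw [hc.mul_pow, ihx, ihy, one_mul]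
  | inv x hx ihx => rw [inv_pow, ihx, inv_one]

theorem closure_pair_conj {a b g : G}
    (h1 : g * a * g⁻¹ ∈ Subgroup.closure ({a, b} : Set G))
    (h2 : g * b * g⁻¹ ∈ Subgroup.closure ({a, b} : Set G)) :
    ∀ x ∈ Subgroup.closure ({a, b} : Set G), g * x * g⁻¹ ∈ Subgroup.closure ({a, b} : Set G) := by
  intro x hx
  induction hx using Subgroup.closure_induction with
  | mem x hx =>
    rcases hx with rfl | rfl
    · exact h1
    · exact h2
  | one => simp
  | mul x y hx hy ihx ihy =>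
    have : g * (x * y) * g⁻¹ = (g * x * g⁻¹) * (g * y * g⁻¹) := by group
    rw [this]; exact Subgroup.mul_mem _ ihx ihy
  | inv x hx ihx =>
    have : g * x⁻¹ * g⁻¹ = (g * x * g⁻¹)⁻¹ := by group
    rw [this]; exact Subgroup.inv_mem _ ihx

end Pair

/-- the heart of (K3d): `t₁` is `V`-coloured -/
theorem col_t1 (hL : LineProp.{u}) (hN : NcfProp.{u}) (hK2 : K2Prop.{u})
    {G : Type u} [Group G] [Finite G] {r s : ℕ} {V W X : Subgroup G} (h : Hyp r s V W X)
    {a b c d : G} (ctx : K3Ctx r s X a b c d)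
    (y₀ : G) (hy₀ : y₀ ∈ Subgroup.closure ({c, d} : Set G)) (hy₀1 : y₀ ≠ 1)
    (hy₀c : ∀ e ∈ Subgroup.closure ({a, b} : Set G), y₀ * e = e * y₀)
    (t₁ : G) (ht₁ : t₁ ∈ Subgroup.closure ({c, d} : Set G))
    (hnc : ¬ ∀ e ∈ Subgroup.closure ({a, b} : Set G), t₁ * e = e * t₁) : Col t₁ V := by
  classical
  have hr := h.hr
  have hs := h.hs
  haveI : Fact r.Prime := ⟨hr⟩
  haveI : Fact s.Prime := ⟨hs⟩
  obtain ⟨hoa, hob, hab, hba⟩ := ctx.pab
  obtain ⟨hoc, hod, hcd, hdc⟩ := ctx.pcd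
  have hAX : Subgroup.closure ({a, b} : Set G) ≤ X := by
    rw [Subgroup.closure_le]
    rintro x (rfl | rfl)
    · exact ctx.ha
    · exact ctx.hb
  have hTX : Subgroup.closure ({c, d} : Set G) ≤ X := by
    rw [Subgroup.closure_le]
    rintro x (rfl | rfl)
    · exact ctx.hc
    · exact ctx.hd
  have hAcomm := closure_pair_comm hab
  have hTcomm := closure_pair_comm hcd
  have hAr : ∀ x ∈ Subgroup.closure ({a, b} : Set G), x ^ r = 1 :=
    closure_pair_pow hab (by rw [← hoa]; exact pow_orderOf_eq_one a)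
      (by rw [← hob]; exact pow_orderOf_eq_one b)
  have hTs : ∀ x ∈ Subgroup.closure ({c, d} : Set G), x ^ s = 1 :=
    closure_pair_pow hcd (by rw [← hoc]; exact pow_orderOf_eq_one c)
      (by rw [← hod]; exact pow_orderOf_eq_one d)
  -- `T` normalises `A`
  have hTN : Subgroup.closure ({c, d} : Set G) ≤
      Subgroup.normalizer ((Subgroup.closure ({a, b} : Set G) : Subgroup G) : Set G) := by
    rw [Subgroup.closure_le]
    rintro x (rfl | rfl)
    · exact Subgroup.mem_normalizer_fintype (closure_pair_conj ctx.nca ctx.ncb)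
    · exact Subgroup.mem_normalizer_fintype (closure_pair_conj ctx.nda ctx.ndb)
  have hconjA : ∀ g ∈ Subgroup.closure ({c, d} : Set G), ∀ x ∈ Subgroup.closure ({a, b} : Set G),
      g * x * g⁻¹ ∈ Subgroup.closure ({a, b} : Set G) := by
    intro g hg x hx
    exact (Subgroup.mem_normalizer_iff.mp (hTN hg) x).mp hx
  have hXV : ∀ g ∈ X, ∀ u ∈ V, g * u * g⁻¹ ∈ V := by
    intro g hg u hu
    exact (Subgroup.mem_normalizer_iff.mp (h.normV hg) u).mp hu
  -- `t₁ ≠ 1`, orders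
  have ht₁1 : t₁ ≠ 1 := by
    intro h1
    apply hnc
    intro e _
    rw [h1, one_mul, mul_one]
  have hot₁ : orderOf t₁ = s := orderOf_eq_prime (hTs t₁ ht₁) ht₁1
  have hoy₀ : orderOf y₀ = s := orderOf_eq_prime (hTs y₀ hy₀) hy₀1
  -- a coloured element of `A`
  obtain ⟨e, heA, he1, v, hvV, hv1, hev⟩ := hL h hr ctx.ha ctx.hb ctx.pab V le_rfl h.neV
    (hXV a ctx.ha) (hXV b ctx.hb)
  have hoe : orderOf e = r := orderOf_eq_prime (hAr e heA) he1
  have heiA : ∀ i : ℕ, t₁ ^ i * e * (t₁ ^ i)⁻¹ ∈ Subgroup.closure ({a, b} : Set G) :=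
    fun i => hconjA _ (Subgroup.pow_mem _ ht₁ i) e heA
  have hoei : ∀ i : ℕ, orderOf (t₁ ^ i * e * (t₁ ^ i)⁻¹) = r := by
    intro i
    rw [← hoe]
    exact orderOf_injective (MulAut.conj (t₁ ^ i)).toMonoidHom (MulAut.conj (t₁ ^ i)).injective e
  -- the conjugates generate different subgroups
  have hnotin : ∀ i : ℕ, 0 < i → i < s → t₁ ^ i * e * (t₁ ^ i)⁻¹ ∉ Subgroup.zpowers e := by
    intro i hi0 his hmem
    have hgT : t₁ ^ i ∈ Subgroup.closure ({c, d} : Set G) := Subgroup.pow_mem _ ht₁ i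
    have hcop : Nat.Coprime i (orderOf t₁) := by
      rw [hot₁]
      exact (Nat.coprime_of_lt_prime hi0.ne' his hs).symm
    obtain ⟨j, hj⟩ := exists_pow_eq_self_of_coprime hcop
    have hg1 : t₁ ^ i ≠ 1 := by
      intro h1
      rw [h1, one_pow] at hj
      exact ht₁1 hj.symm
    have hog : orderOf (t₁ ^ i) = s := orderOf_eq_prime (hTs _ hgT) hg1
    have hgnot : t₁ ^ i ∉ Subgroup.zpowers y₀ := by
      intro hgz
      apply hnc
      intro e' he'
      obtain ⟨k, hk⟩ := Subgroup.mem_zpowers_iff.mp hgz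
      have hc1 : Commute y₀ e' := hy₀c e' he'
      have hc2 : Commute (t₁ ^ i) e' := by
        rw [← hk]; exact hc1.zpow_left k
      have hc3 : Commute ((t₁ ^ i) ^ j) e' := hc2.pow_left j
      rw [hj] at hc3
      exact hc3
    refine hK2 h (x := e) (hAX heA) hoe ⟨v, hvV, hv1, hev⟩ (c := y₀) (d := t₁ ^ i) (hTX hy₀)
      (hTX hgT) ⟨hoy₀, hog, hTcomm y₀ hy₀ _ hgT, hgnot⟩ ?_ hmem
    rw [hy₀c e heA, mul_inv_cancel_right]
    exact Subgroup.mem_zpowers e
  have hncf : ∀ i : ℕ, 0 < i → i < s → ∀ v' ∈ V, e * v' = v' * e →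
      (t₁ ^ i * e * (t₁ ^ i)⁻¹) * v' = v' * (t₁ ^ i * e * (t₁ ^ i)⁻¹) → v' = 1 := by
    intro i hi0 his
    exact hN h hr (hAX heA) (hAX (heiA i))
      ⟨hoe, hoei i, hAcomm e heA _ (heiA i), hnotin i hi0 his⟩
  -- the module
  letI : CommGroup V :=
    { (inferInstance : Group V) with
      mul_comm := fun x y => Subtype.ext (h.commV x x.2 y y.2) }
  let ρ : X →* MulAut V := Cfsg.Agent.Lib.H1.conjAutHom h.normV
  have hρ : ∀ (g : X) (u : V), ((ρ g u : V) : G) = (g : G) * u * (g : G)⁻¹ := fun g u => rfl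
  have hfixiff : ∀ (g : X) (u : V), ρ g u = u → (g : G) * (u : G) = (u : G) * (g : G) := by
    intro g u hu
    have h1 := congrArg Subtype.val hu
    rw [hρ] at h1
    calc (g : G) * (u : G) = ((g : G) * u * (g : G)⁻¹) * g := by group
      _ = (u : G) * g := by rw [h1]
  let eX : X := ⟨e, hAX heA⟩
  let tX : X := ⟨t₁, hTX ht₁⟩
  let vV : V := ⟨v, hvV⟩
  have heX : eX ^ r = 1 := Subtype.ext (by
    show e ^ r = 1
    exact hAr e heA)
  have htX : tX ^ s = 1 := Subtype.ext (by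
    show t₁ ^ s = 1
    exact hTs t₁ ht₁)
  have hvfix : ρ eX vV = vV := by
    apply Subtype.ext
    rw [hρ]
    show e * v * e⁻¹ = v
    rw [hev, mul_inv_cancel_right]
  obtain ⟨w, hτw, hNw⟩ := norm_lemma (M := V) (ρ eX) (ρ tX) (fun i => ρ (tX ^ i * eX * (tX ^ i)⁻¹))
    (r := r) (s := s) hs.pos (by rw [← map_pow, heX, map_one]) (by rw [← map_pow, htX, map_one])
    vV hvfix
    (by
      intro i _ _
      show ρ (tX ^ i * eX * (tX ^ i)⁻¹) ((ρ tX ^ i) vV) = (ρ tX ^ i) vV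
      rw [← map_pow, ← MulAut.mul_apply, ← map_mul]
      have : tX ^ i * eX * (tX ^ i)⁻¹ * tX ^ i = tX ^ i * eX := by group
      rw [this, map_mul, MulAut.mul_apply, hvfix])
    (by
      intro i _ _ u
      show ρ (tX ^ i * eX * (tX ^ i)⁻¹) (ρ eX u) = ρ eX (ρ (tX ^ i * eX * (tX ^ i)⁻¹) u)
      rw [← MulAut.mul_apply, ← MulAut.mul_apply, ← map_mul, ← map_mul]
      have : tX ^ i * eX * (tX ^ i)⁻¹ * eX = eX * (tX ^ i * eX * (tX ^ i)⁻¹) := by
        apply Subtype.ext
        show t₁ ^ i * e * (t₁ ^ i)⁻¹ * e = e * (t₁ ^ i * e * (t₁ ^ i)⁻¹)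
        exact hAcomm _ (heiA i) e heA
      rw [this])
    (by
      intro i hi0 his u hu1 hu2
      apply Subtype.ext
      exact hncf i hi0 his (u : G) u.2 (hfixiff eX u hu1) (hfixiff (tX ^ i * eX * (tX ^ i)⁻¹) u hu2))
  -- conclusion
  refine ⟨(w : G), w.2, ?_, hfixiff tX w hτw⟩
  intro hw1
  have hw1' : w = 1 := Subtype.ext hw1
  rw [hw1'] at hNw
  have h1 : vV ^ r = 1 := by
    rw [← hNw]
    simp
  have hvr : v ^ r = 1 := by
    have := congrArg Subtype.val h1
    simpa using this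
  have hrX : r ∣ Nat.card X := by
    have h2 : orderOf (⟨a, ctx.ha⟩ : X) ∣ Nat.card X := orderOf_dvd_natCard _
    rwa [← Subgroup.orderOf_coe, hoa] at h2
  have hcopr : (Nat.card V).Coprime r := Nat.Coprime.coprime_dvd_right hrX h.copV
  have hov : orderOf v ∣ Nat.card V := by
    have h2 : orderOf (⟨v, hvV⟩ : V) ∣ Nat.card V := orderOf_dvd_natCard _
    rwa [← Subgroup.orderOf_coe] at h2
  have h3 : orderOf v ∣ Nat.gcd (Nat.card V) r :=
    Nat.dvd_gcd hov (orderOf_dvd_of_pow_eq_one hvr)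
  rw [hcopr.gcd_eq_one, Nat.dvd_one] at h3
  exact hv1 (orderOf_eq_one_iff.mp h3)

/-- PIECE (K3d) -/
theorem k3d : K3dStmt.{u} := by
  intro hL hN hK2 G _ _ r s V W X h a b c d ctx y₀ hy₀ hy₀1 hy₀c t₁ ht₁ hnc
  have hTX : Subgroup.closure ({c, d} : Set G) ≤ X := by
    rw [Subgroup.closure_le]
    rintro x (rfl | rfl)
    · exact ctx.hc
    · exact ctx.hd
  have ht₁1 : t₁ ≠ 1 := by
    intro h1
    apply hnc
    intro e _
    rw [h1, one_mul, mul_one]
  exact h.h1 t₁ (hTX ht₁) ht₁1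
    (col_t1 hL hN hK2 h ctx y₀ hy₀ hy₀1 hy₀c t₁ ht₁ hnc)
    (col_t1 hL hN hK2 h.swapVW ctx y₀ hy₀ hy₀1 hy₀c t₁ ht₁ hnc)

example : K3dStmt.{0} := k3d

end Cfsg.Agent.Lib.H20.S3814MPK3d
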