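import Mathlib

/-!
# Coprime fixed points in cosets, pairs of automorphisms generating an action of the symmetric
group of degree three, and quotient actions (helper20, S4305)
-/

set_option autoImplicit false
set_option linter.unusedSectionVars false
set_option linter.unusedVariables false
set_option linter.style.haveILetI false

namespace Cfsg.Agent.Lib.H20.S3F

open Subgroup

section FP

variable {H : Type*} [Group H]

/-- an automorphism of `r`-power order fixes a point in each invariant coset of an invariant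
subgroup of order prime to `r` -/
theorem exists_fixed_in_coset {r k : ℕ} (hr : r.Prime) (φ : MulAut H) (hφ : φ ^ (r ^ k) = 1)
    (N : Subgroup H) [Finite N] (hN : ∀ n ∈ N, φ n ∈ N) (hrN : ¬ r ∣ Nat.card N)
    {h : H} (hh : h⁻¹ * φ h ∈ N) : ∃ n ∈ N, φ (h * n) = h * n := by
  classical
  haveI : Fact r.Prime := ⟨hr⟩
  haveI := Fintype.ofFinite N
  let f : Function.End N := fun n => ⟨h⁻¹ * φ (h * n), by
    rw [map_mul, ← mul_assoc]
    exact N.mul_mem hh (hN n n.2)⟩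
  have hf : ∀ j : ℕ, ∀ n : N, (((f ^ j) n : N) : H) = h⁻¹ * (φ ^ j) (h * n) := by
    intro j
    induction j with
    | zero =>
      intro n
      rw [pow_zero, pow_zero]
      show (n : H) = h⁻¹ * (h * n)
      rw [inv_mul_cancel_left]
    | succ j ih =>
      intro n
      rw [pow_succ']
      show h⁻¹ * φ (h * ((f ^ j) n : N)) = _
      rw [ih, mul_inv_cancel_left, pow_succ', MulAut.mul_apply]
  have hfpow : f ^ (r ^ k) = 1 := by
    funext n
    apply Subtype.ext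
    rw [hf, hφ]
    show h⁻¹ * (h * n) = n
    rw [inv_mul_cancel_left]
  have hmod := Equiv.Perm.card_fixedPoints_modEq (f := f) (p := r) (n := k) hfpow
  have hne : (Function.fixedPoints f).Nonempty := by
    by_contra hempty
    rw [Set.not_nonempty_iff_eq_empty] at hempty
    have h0 : Fintype.card (Function.fixedPoints f) = 0 := by
      rw [Fintype.card_eq_zero_iff, Set.isEmpty_coe_sort]
      exact hempty
    rw [h0] at hmod
    apply hrN
    rw [Nat.card_eq_fintype_card]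
    exact (Nat.modEq_zero_iff_dvd).mp hmod
  obtain ⟨n, hn⟩ := hne
  refine ⟨n, n.2, ?_⟩
  have h1 : ((f n : N) : H) = n := congrArg Subtype.val hn
  have h2 : h⁻¹ * φ (h * n) = n := h1
  calc φ (h * n) = h * (h⁻¹ * φ (h * n)) := by group
    _ = h * n := by rw [h2]

end FP

/-- a pair of automorphisms satisfying the relations of the symmetric group of degree three -/
structure S3Pair {H : Type*} [Group H] (σ τ : MulAut H) : Prop where
  s3 : ∀ x, σ (σ (σ x)) = x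
  t2 : ∀ x, τ (τ x) = x
  ts : ∀ x, τ (σ x) = σ (σ (τ x))

namespace S3Pair

variable {H : Type*} [Group H] {σ τ : MulAut H}

theorem pow_three (h : S3Pair σ τ) : σ ^ (3 ^ 1) = 1 := by
  ext x
  rw [pow_one, pow_succ, pow_two, MulAut.mul_apply, MulAut.mul_apply]
  exact h.s3 x

theorem pow_two (h : S3Pair σ τ) : τ ^ (2 ^ 1) = 1 := by
  ext x
  rw [pow_one, _root_.pow_two, MulAut.mul_apply]
  exact h.t2 x

/-- `σ τ = τ σ²` -/
theorem st (h : S3Pair σ τ) (x : H) : σ (τ x) = τ (σ (σ x)) := by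
  rw [h.ts, h.ts, h.s3]

theorem s_inv (h : S3Pair σ τ) (x : H) : σ⁻¹ x = σ (σ x) := by
  have := h.s3 x
  rw [← this, MulAut.inv_apply_self, h.s3]

theorem t_inv (h : S3Pair σ τ) (x : H) : τ⁻¹ x = τ x := by
  have := h.t2 x
  rw [← this, MulAut.inv_apply_self, h.t2]

end S3Pair

section LL

variable {H : Type*} [Group H] [Finite H]

/-- **Lifting of fixed points** for a pair `σ, τ` -/
theorem exists_fixed_pair {σ τ : MulAut H} (hp : S3Pair σ τ) (N : Subgroup H)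
    (hcop : (Nat.card N).Coprime 6) (hσN : ∀ n ∈ N, σ n ∈ N) (hτN : ∀ n ∈ N, τ n ∈ N) {h : H}
    (h1 : h⁻¹ * σ h ∈ N) (h2 : h⁻¹ * τ h ∈ N) :
    ∃ n ∈ N, σ (h * n) = h * n ∧ τ (h * n) = h * n := by
  have hN2 : ¬ 2 ∣ Nat.card N := by
    intro hd
    have : 2 ∣ Nat.gcd (Nat.card N) 6 := Nat.dvd_gcd hd (by norm_num)
    rw [hcop] at this
    omega
  have hN3 : ¬ 3 ∣ Nat.card N := by
    intro hd
    have : 3 ∣ Nat.gcd (Nat.card N) 6 := Nat.dvd_gcd hd (by norm_num)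
    rw [hcop] at this
    omega
  obtain ⟨n₁, hn₁, hfix₁⟩ := exists_fixed_in_coset Nat.prime_three σ hp.pow_three N hσN hN3 h1
  obtain ⟨N₂, hN₂⟩ : ∃ N₂ : Subgroup H,
      N₂ = N ⊓ MonoidHom.eqLocus σ.toMonoidHom (MonoidHom.id H) := ⟨_, rfl⟩
  have hmemN₂ : ∀ x, x ∈ N₂ ↔ x ∈ N ∧ σ x = x := by
    intro x
    rw [hN₂, Subgroup.mem_inf]
    rfl
  have hN₂N : N₂ ≤ N := fun x hx => ((hmemN₂ x).mp hx).1
  have hN₂2 : ¬ 2 ∣ Nat.card N₂ := fun hd => hN2 (hd.trans (Subgroup.card_dvd_of_le hN₂N))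
  have hτN₂ : ∀ n ∈ N₂, τ n ∈ N₂ := by
    intro n hn
    obtain ⟨hnN, hσn⟩ := (hmemN₂ n).mp hn
    refine (hmemN₂ _).mpr ⟨hτN n hnN, ?_⟩
    rw [hp.st, hσn, hσn]
  obtain ⟨h₁, hh₁⟩ : ∃ h₁ : H, h₁ = h * n₁ := ⟨_, rfl⟩
  rw [← hh₁] at hfix₁
  have hh₁N₂ : h₁⁻¹ * τ h₁ ∈ N₂ := by
    refine (hmemN₂ _).mpr ⟨?_, ?_⟩
    · have : h₁⁻¹ * τ h₁ = n₁⁻¹ * (h⁻¹ * τ h) * τ n₁ := by
        rw [hh₁, map_mul]
        group
      rw [this]
      exact N.mul_mem (N.mul_mem (N.inv_mem hn₁) h2) (hτN n₁ hn₁)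
    · rw [map_mul, map_inv, hfix₁, hp.st, hfix₁, hfix₁]
  obtain ⟨n₂, hn₂, hfix₂⟩ := exists_fixed_in_coset Nat.prime_two τ hp.pow_two N₂ hτN₂ hN₂2 hh₁N₂
  obtain ⟨hn₂N, hσn₂⟩ := (hmemN₂ n₂).mp hn₂
  refine ⟨n₁ * n₂, N.mul_mem hn₁ hn₂N, ?_, ?_⟩
  · rw [← mul_assoc, ← hh₁, map_mul, hfix₁, hσn₂]
  · rw [← mul_assoc, ← hh₁]
    exact hfix₂

end LL

/-! ### quotient actions -/

section Quot

variable {H : Type*} [Group H] [Finite H]

theorem map_eq_of_forall_mem (N : Subgroup H) (φ : MulAut H) (hφ : ∀ n ∈ N, φ n ∈ N) :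
    N.map φ.toMonoidHom = N := by
  have hle : N.map φ.toMonoidHom ≤ N := by
    rintro x ⟨n, hn, rfl⟩
    exact hφ n hn
  have hcard : Nat.card (N.map φ.toMonoidHom) = Nat.card N :=
    Subgroup.card_map_of_injective φ.injective
  exact Subgroup.eq_of_le_of_card_ge hle hcard.ge

theorem inv_mem_of_forall_mem (N : Subgroup H) (φ : MulAut H) (hφ : ∀ n ∈ N, φ n ∈ N) :
    ∀ n ∈ N, φ⁻¹ n ∈ N := by
  intro n hn
  have h1 := map_eq_of_forall_mem N φ hφ
  rw [← h1] at hn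
  obtain ⟨m, hm, rfl⟩ := hn
  have : φ⁻¹ (φ.toMonoidHom m) = m := MulAut.inv_apply_self H φ m
  rw [this]
  exact hm

/-- the automorphism induced on a quotient -/
noncomputable def quotAut (N : Subgroup H) [N.Normal] (φ : MulAut H) (hφ : ∀ n ∈ N, φ n ∈ N) :
    MulAut (H ⧸ N) :=
  QuotientGroup.congr N N φ (map_eq_of_forall_mem N φ hφ)

theorem quotAut_mk (N : Subgroup H) [N.Normal] (φ : MulAut H) (hφ : ∀ n ∈ N, φ n ∈ N) (x : H) :
    quotAut N φ hφ (QuotientGroup.mk x) = QuotientGroup.mk (φ x) := rfl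

theorem S3Pair.quot {σ τ : MulAut H} (hp : S3Pair σ τ) (N : Subgroup H) [N.Normal]
    (hσ : ∀ n ∈ N, σ n ∈ N) (hτ : ∀ n ∈ N, τ n ∈ N) :
    S3Pair (quotAut N σ hσ) (quotAut N τ hτ) := by
  refine ⟨?_, ?_, ?_⟩
  · intro x
    induction x using QuotientGroup.induction_on with
    | H x => rw [quotAut_mk, quotAut_mk, quotAut_mk, hp.s3]
  · intro x
    induction x using QuotientGroup.induction_on with
    | H x => rw [quotAut_mk, quotAut_mk, hp.t2]
  · intro x
    induction x using QuotientGroup.induction_on with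
    | H x => rw [quotAut_mk, quotAut_mk, quotAut_mk, quotAut_mk, quotAut_mk, hp.ts]

end Quot

end Cfsg.Agent.Lib.H20.S3F
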