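import Mathlib
import Cfsg.Agent.Lib.H20.S3F9

/-!
# The covering lemma for fixed-point-free actions of the symmetric group of degree three
(helper20, S4305)
-/

set_option autoImplicit false
set_option linter.unusedSectionVars false
set_option linter.unusedVariables false
set_option linter.style.haveILetI false

namespace Cfsg.Agent.Lib.H20.S3F

open Subgroup

universe u

section Four

variable {H : Type*} [Group H] [Finite H]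

theorem not_dvd_of_coprime_six {n : ℕ} (h : n.Coprime 6) : ¬ 2 ∣ n ∧ ¬ 3 ∣ n := by
  constructor
  · intro hd
    have : 2 ∣ Nat.gcd n 6 := Nat.dvd_gcd hd (by norm_num)
    rw [h] at this
    omega
  · intro hd
    have : 3 ∣ Nat.gcd n 6 := Nat.dvd_gcd hd (by norm_num)
    rw [h] at this
    omega

theorem five_mul_card_le {N U : Subgroup H} (hcop : (Nat.card N).Coprime 6) (hUN : U ≤ N)
    (hne : U ≠ N) : 5 * Nat.card U ≤ Nat.card N := by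
  obtain ⟨k, hk⟩ := Subgroup.card_dvd_of_le hUN
  have hNpos : 0 < Nat.card N := Nat.card_pos
  have hUpos : 0 < Nat.card U := Nat.card_pos
  have hk1 : k ≠ 1 := by
    intro h1
    rw [h1, mul_one] at hk
    exact hne (Subgroup.eq_of_le_of_card_ge hUN hk.le)
  have hk0 : k ≠ 0 := by
    rintro rfl
    rw [mul_zero] at hk
    omega
  have hkd : k ∣ Nat.card N := ⟨Nat.card U, by rw [hk, mul_comm]⟩
  obtain ⟨h2, h3⟩ := not_dvd_of_coprime_six hcop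
  have hk2 : k ≠ 2 := fun e => h2 (e ▸ hkd)
  have hk3 : k ≠ 3 := fun e => h3 (e ▸ hkd)
  have hk4 : k ≠ 4 := fun e => h2 ((by norm_num : 2 ∣ 4).trans (e ▸ hkd))
  have hk5 : 5 ≤ k := by omega
  rw [hk]
  calc 5 * Nat.card U ≤ k * Nat.card U := Nat.mul_le_mul_right _ hk5
    _ = Nat.card U * k := mul_comm _ _

/-- a group of order prime to `6` is not the union of four proper subgroups -/
theorem eq_of_union_four {N U₁ U₂ U₃ U₄ : Subgroup H} (hcop : (Nat.card N).Coprime 6)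
    (h₁ : U₁ ≤ N) (h₂ : U₂ ≤ N) (h₃ : U₃ ≤ N) (h₄ : U₄ ≤ N)
    (hcov : ∀ n ∈ N, n ∈ U₁ ∨ n ∈ U₂ ∨ n ∈ U₃ ∨ n ∈ U₄) :
    U₁ = N ∨ U₂ = N ∨ U₃ = N ∨ U₄ = N := by
  by_contra hcon
  push Not at hcon
  obtain ⟨n₁, n₂, n₃, n₄⟩ := hcon
  have c₁ := five_mul_card_le hcop h₁ n₁
  have c₂ := five_mul_card_le hcop h₂ n₂
  have c₃ := five_mul_card_le hcop h₃ n₃
  have c₄ := five_mul_card_le hcop h₄ n₄
  have hsub : (N : Set H) ⊆ ((U₁ : Set H) ∪ U₂) ∪ ((U₃ : Set H) ∪ U₄) := by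
    intro n hn
    rcases hcov n hn with h | h | h | h
    · exact Or.inl (Or.inl h)
    · exact Or.inl (Or.inr h)
    · exact Or.inr (Or.inl h)
    · exact Or.inr (Or.inr h)
  have hle : (N : Set H).ncard ≤ (((U₁ : Set H) ∪ U₂) ∪ ((U₃ : Set H) ∪ U₄)).ncard :=
    Set.ncard_le_ncard hsub (Set.toFinite _)
  have hu : (((U₁ : Set H) ∪ U₂) ∪ ((U₃ : Set H) ∪ U₄)).ncard ≤
      (U₁ : Set H).ncard + (U₂ : Set H).ncard + ((U₃ : Set H).ncard + (U₄ : Set H).ncard) :=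
    (Set.ncard_union_le _ _).trans (add_le_add (Set.ncard_union_le _ _) (Set.ncard_union_le _ _))
  have e : ∀ U : Subgroup H, (U : Set H).ncard = Nat.card U := fun U =>
    (Nat.card_coe_set_eq (U : Set H)).symm
  rw [e, e, e, e] at hu
  rw [e] at hle
  have hNpos : 0 < Nat.card N := Nat.card_pos
  omega

end Four

section Abel

variable {H : Type*} [Group H] [Finite H]

/-- the subgroup `{n ∈ N | n⁻¹ a(n) ∈ N₁}` of an abelian subgroup `N` -/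
def comSub (N N₁ : Subgroup H) (a : MulAut H) (hab : ∀ x ∈ N, ∀ y ∈ N, x * y = y * x)
    (haN : ∀ n ∈ N, a n ∈ N) : Subgroup H where
  carrier := {n | n ∈ N ∧ n⁻¹ * a n ∈ N₁}
  mul_mem' := by
    intro n m hn hm
    refine ⟨N.mul_mem hn.1 hm.1, ?_⟩
    have h1 : n⁻¹ * a n ∈ N := N.mul_mem (N.inv_mem hn.1) (haN n hn.1)
    have h2 : (n * m)⁻¹ * a (n * m) = (n⁻¹ * a n) * (m⁻¹ * a m) := by
      rw [map_mul, mul_inv_rev]
      calc m⁻¹ * n⁻¹ * (a n * a m) = m⁻¹ * (n⁻¹ * a n) * a m := by group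
        _ = (n⁻¹ * a n) * m⁻¹ * a m := by rw [hab m⁻¹ (N.inv_mem hm.1) _ h1]
        _ = (n⁻¹ * a n) * (m⁻¹ * a m) := by group
    rw [h2]
    exact N₁.mul_mem hn.2 hm.2
  one_mem' := ⟨N.one_mem, by rw [map_one, inv_one, one_mul]; exact N₁.one_mem⟩
  inv_mem' := by
    intro n hn
    refine ⟨N.inv_mem hn.1, ?_⟩
    have h2 : (n⁻¹)⁻¹ * a n⁻¹ = (n⁻¹ * a n)⁻¹ := by
      rw [map_inv, mul_inv_rev, inv_inv]
      exact hab n hn.1 _ (N.inv_mem (haN n hn.1))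
    rw [h2]
    exact N₁.inv_mem hn.2

theorem comSub_le (N N₁ : Subgroup H) (a : MulAut H)
    (hab : ∀ x ∈ N, ∀ y ∈ N, x * y = y * x) (haN : ∀ n ∈ N, a n ∈ N) :
    comSub N N₁ a hab haN ≤ N := fun n hn => hn.1

theorem mem_comSub {N N₁ : Subgroup H} {a : MulAut H}
    {hab : ∀ x ∈ N, ∀ y ∈ N, x * y = y * x} {haN : ∀ n ∈ N, a n ∈ N} {n : H} :
    n ∈ comSub N N₁ a hab haN ↔ n ∈ N ∧ n⁻¹ * a n ∈ N₁ := Iff.rfl

/-- transport of the condition `n⁻¹ a(n) ∈ N₁` along conjugation by `ρ` -/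
theorem conj_transport {N N₁ : Subgroup H} {a a' ρ : MulAut H} (hρN : ∀ n ∈ N, ρ n ∈ N)
    (hρN₁ : ∀ n ∈ N₁, ρ n ∈ N₁) (hconj : ∀ x, a' (ρ x) = ρ (a x))
    (h : ∀ n ∈ N, n⁻¹ * a n ∈ N₁) : ∀ n ∈ N, n⁻¹ * a' n ∈ N₁ := by
  intro n hn
  have hm : ρ⁻¹ n ∈ N := inv_mem_of_forall_mem N ρ hρN n hn
  have h1 := hρN₁ _ (h _ hm)
  rw [map_mul, map_inv, ← hconj, MulAut.apply_inv_self] at h1
  exact h1

/-- **the abelian step of the covering lemma** -/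
theorem covering_abelian {σ τ : MulAut H} (hp : S3Pair σ τ) {N H₁ : Subgroup H}
    (hab : ∀ x ∈ N, ∀ y ∈ N, x * y = y * x) (hcop : (Nat.card N).Coprime 6)
    (hσN : ∀ n ∈ N, σ n ∈ N) (hτN : ∀ n ∈ N, τ n ∈ N)
    (hσH₁ : ∀ x ∈ H₁, σ x ∈ H₁) (hτH₁ : ∀ x ∈ H₁, τ x ∈ H₁)
    (hcov : ∀ h ∈ N, h⁻¹ * σ h ∈ H₁ ∨ h⁻¹ * τ h ∈ H₁ ∨ h⁻¹ * σ (τ (σ (σ h))) ∈ H₁ ∨
      h⁻¹ * σ (σ (τ (σ h))) ∈ H₁) :
    ∀ n ∈ N, ∃ c ∈ N, σ c = c ∧ c⁻¹ * n ∈ H₁ := by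
  obtain ⟨N₁, hN₁⟩ : ∃ N₁ : Subgroup H, N₁ = N ⊓ H₁ := ⟨_, rfl⟩
  have hmemN₁ : ∀ x, x ∈ N₁ ↔ x ∈ N ∧ x ∈ H₁ := by
    intro x
    rw [hN₁, Subgroup.mem_inf]
  have hσN₁ : ∀ n ∈ N₁, σ n ∈ N₁ := fun n hn =>
    (hmemN₁ _).mpr ⟨hσN n ((hmemN₁ n).mp hn).1, hσH₁ n ((hmemN₁ n).mp hn).2⟩
  have hτN₁ : ∀ n ∈ N₁, τ n ∈ N₁ := fun n hn =>
    (hmemN₁ _).mpr ⟨hτN n ((hmemN₁ n).mp hn).1, hτH₁ n ((hmemN₁ n).mp hn).2⟩
  -- the two other involutions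
  obtain ⟨τ₂, hτ₂⟩ : ∃ τ₂ : MulAut H, τ₂ = σ * τ * σ * σ := ⟨_, rfl⟩
  obtain ⟨τ₃, hτ₃⟩ : ∃ τ₃ : MulAut H, τ₃ = σ * σ * τ * σ := ⟨_, rfl⟩
  have hτ₂a : ∀ x, τ₂ x = σ (τ (σ (σ x))) := fun x => by rw [hτ₂]; rfl
  have hτ₃a : ∀ x, τ₃ x = σ (σ (τ (σ x))) := fun x => by rw [hτ₃]; rfl
  have hτ₂N : ∀ n ∈ N, τ₂ n ∈ N := fun n hn => by
    rw [hτ₂a]; exact hσN _ (hτN _ (hσN _ (hσN n hn)))
  have hτ₃N : ∀ n ∈ N, τ₃ n ∈ N := fun n hn => by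
    rw [hτ₃a]; exact hσN _ (hσN _ (hτN _ (hσN n hn)))
  have hσσN : ∀ n ∈ N, (σ * σ) n ∈ N := fun n hn => hσN _ (hσN n hn)
  have hσσN₁ : ∀ n ∈ N₁, (σ * σ) n ∈ N₁ := fun n hn => hσN₁ _ (hσN₁ n hn)
  -- the four subgroups
  have hcov' : ∀ n ∈ N, n ∈ comSub N N₁ σ hab hσN ∨ n ∈ comSub N N₁ τ hab hτN ∨
      n ∈ comSub N N₁ τ₂ hab hτ₂N ∨ n ∈ comSub N N₁ τ₃ hab hτ₃N := by
    intro n hn
    have hmem : ∀ a : MulAut H, (∀ n ∈ N, a n ∈ N) → n⁻¹ * a n ∈ H₁ → n⁻¹ * a n ∈ N₁ :=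
      fun a ha h => (hmemN₁ _).mpr ⟨N.mul_mem (N.inv_mem hn) (ha n hn), h⟩
    rcases hcov n hn with h | h | h | h
    · exact Or.inl ⟨hn, hmem σ hσN h⟩
    · exact Or.inr (Or.inl ⟨hn, hmem τ hτN h⟩)
    · exact Or.inr (Or.inr (Or.inl ⟨hn, hmem τ₂ hτ₂N (by rw [hτ₂a]; exact h)⟩))
    · exact Or.inr (Or.inr (Or.inr ⟨hn, hmem τ₃ hτ₃N (by rw [hτ₃a]; exact h)⟩))
  have hfour := eq_of_union_four hcop (comSub_le N N₁ σ hab hσN) (comSub_le N N₁ τ hab hτN)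
    (comSub_le N N₁ τ₂ hab hτ₂N) (comSub_le N N₁ τ₃ hab hτ₃N) hcov'
  -- reduce to `τ`
  have hτall : (∀ n ∈ N, n⁻¹ * τ n ∈ N₁) → ∀ n ∈ N, n⁻¹ * σ n ∈ N₁ := by
    intro hτ'
    -- `τ₂`
    have h2 : ∀ n ∈ N, n⁻¹ * τ₂ n ∈ N₁ := by
      refine conj_transport (ρ := σ) hσN hσN₁ ?_ hτ'
      intro x
      rw [hτ₂a, hp.s3]
    -- `σ = τ τ₂`
    intro n hn
    have e : σ n = τ (τ₂ n) := by
      rw [hτ₂a, hp.ts, hp.t2, hp.s3]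
    have e2 : n⁻¹ * σ n = (n⁻¹ * τ n) * τ (n⁻¹ * τ₂ n) := by
      rw [e, map_mul, map_inv]
      group
    rw [e2]
    exact N₁.mul_mem (hτ' n hn) (hτN₁ _ (h2 n hn))
  have hσall : ∀ n ∈ N, n⁻¹ * σ n ∈ N₁ := by
    rcases hfour with h | h | h | h
    · intro n hn
      have : n ∈ comSub N N₁ σ hab hσN := by rw [h]; exact hn
      exact this.2
    · apply hτall
      intro n hn
      have : n ∈ comSub N N₁ τ hab hτN := by rw [h]; exact hn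
      exact this.2
    · apply hτall
      have h2 : ∀ n ∈ N, n⁻¹ * τ₂ n ∈ N₁ := by
        intro n hn
        have : n ∈ comSub N N₁ τ₂ hab hτ₂N := by rw [h]; exact hn
        exact this.2
      refine conj_transport (ρ := σ * σ) hσσN hσσN₁ ?_ h2
      intro x
      rw [MulAut.mul_apply, MulAut.mul_apply, hτ₂a, hp.s3]
    · apply hτall
      have h3 : ∀ n ∈ N, n⁻¹ * τ₃ n ∈ N₁ := by
        intro n hn
        have : n ∈ comSub N N₁ τ₃ hab hτ₃N := by rw [h]; exact hn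
        exact this.2
      refine conj_transport (ρ := σ) hσN hσN₁ ?_ h3
      intro x
      rw [hτ₃a, hp.s3]
  -- conclude
  intro n hn
  have hN₁3 : ¬ 3 ∣ Nat.card N₁ := by
    intro hd
    have hle : N₁ ≤ N := fun x hx => ((hmemN₁ x).mp hx).1
    exact (not_dvd_of_coprime_six hcop).2 (hd.trans (Subgroup.card_dvd_of_le hle))
  obtain ⟨m, hm, hfix⟩ := exists_fixed_in_coset Nat.prime_three σ hp.pow_three N₁ hσN₁ hN₁3
    (hσall n hn)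
  refine ⟨n * m, N.mul_mem hn ((hmemN₁ m).mp hm).1, hfix, ?_⟩
  have : (n * m)⁻¹ * n = m⁻¹ := by group
  rw [this]
  exact H₁.inv_mem ((hmemN₁ m).mp hm).2

end Abel

end Cfsg.Agent.Lib.H20.S3F
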