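import Mathlib
import Cfsg.Agent.Lib.H20.S3F10

/-!
# The covering lemma (helper20, S4305)
-/

set_option autoImplicit false
set_option linter.unusedSectionVars false
set_option linter.unusedVariables false
set_option linter.style.haveILetI false

namespace Cfsg.Agent.Lib.H20.S3F

open Subgroup

universe u

/-- a nontrivial solvable group has a nontrivial abelian characteristic subgroup -/
theorem exists_char_abelian (H : Type*) [Group H] [Group.IsSolvable H] [Nontrivial H] :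
    ∃ N : Subgroup H, N.Characteristic ∧ N ≠ ⊥ ∧ ∀ a ∈ N, ∀ b ∈ N, a * b = b * a := by
  classical
  obtain ⟨hex⟩ := (inferInstance : Group.IsSolvable H)
  have h0 : Nat.find hex ≠ 0 := by
    intro h
    have := Nat.find_spec hex
    rw [h, derivedSeries_zero] at this
    exact top_ne_bot this
  obtain ⟨j, hj⟩ : ∃ j, Nat.find hex = j + 1 := ⟨Nat.find hex - 1, by omega⟩
  refine ⟨derivedSeries H j, derivedSeries_characteristic H j, Nat.find_min hex (by omega), ?_⟩
  have h1 : ⁅derivedSeries H j, derivedSeries H j⁆ = ⊥ := by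
    rw [← derivedSeries_succ, ← hj]
    exact Nat.find_spec hex
  rw [Subgroup.commutator_eq_bot_iff_le_centralizer] at h1
  intro a ha b hb
  exact (Subgroup.mem_centralizer_iff.mp (h1 ha) b hb).symm

theorem char_apply_mem {H : Type*} [Group H] {N : Subgroup H} (hN : N.Characteristic)
    (φ : MulAut H) {x : H} (hx : x ∈ N) : φ x ∈ N := by
  have h1 := hN.fixed φ
  rw [← h1] at hx
  exact hx

theorem covering_aux (n : ℕ) : ∀ (H : Type u) [Group H] [Finite H], Nat.card H = n →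
    Group.IsSolvable H → (Nat.card H).Coprime 6 → ∀ (σ τ : MulAut H), S3Pair σ τ →
    (∀ h, σ h = h → τ h = h → h = 1) → ∀ H₁ : Subgroup H, (∀ x ∈ H₁, σ x ∈ H₁) →
    (∀ x ∈ H₁, τ x ∈ H₁) →
    (∀ h, h⁻¹ * σ h ∈ H₁ ∨ h⁻¹ * τ h ∈ H₁ ∨ h⁻¹ * σ (τ (σ (σ h))) ∈ H₁ ∨
      h⁻¹ * σ (σ (τ (σ h))) ∈ H₁) →
    ∀ h, ∃ c, σ c = c ∧ c⁻¹ * h ∈ H₁ := by
  induction n using Nat.strong_induction_on with
  | _ n ih =>
    intro H _ _ hn hsolv hcop σ τ hp hfpf H₁ hσH₁ hτH₁ hcov h
    by_cases htriv : Subsingleton H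
    · exact ⟨1, map_one σ, by rw [Subsingleton.elim (1⁻¹ * h) 1]; exact H₁.one_mem⟩
    · haveI : Nontrivial H := not_subsingleton_iff_nontrivial.mp htriv
      haveI := hsolv
      obtain ⟨N, hNchar, hNne, hNab⟩ := exists_char_abelian H
      haveI := hNchar
      haveI : N.Normal := Subgroup.normal_of_characteristic N
      have hφN : ∀ φ : MulAut H, ∀ x ∈ N, φ x ∈ N := fun φ x hx => char_apply_mem hNchar φ hx
      have hcard := Subgroup.card_eq_card_quotient_mul_card_subgroup N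
      have hN1 : 1 < Nat.card N := (Subgroup.one_lt_card_iff_ne_bot (H := N)).mpr hNne
      have hqpos : 0 < Nat.card (H ⧸ N) := Nat.card_pos
      have hlt : Nat.card (H ⧸ N) < n := by
        rw [← hn, hcard]
        nlinarith
      have hcopN : (Nat.card N).Coprime 6 :=
        Nat.Coprime.coprime_dvd_left (Subgroup.card_subgroup_dvd_card N) hcop
      have hcopq : (Nat.card (H ⧸ N)).Coprime 6 :=
        Nat.Coprime.coprime_dvd_left (Subgroup.card_quotient_dvd_card N) hcop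
      have hN3 : ¬ 3 ∣ Nat.card N := (not_dvd_of_coprime_six hcopN).2
      -- fixed points in the quotient
      have hfpf' : ∀ x : H ⧸ N, quotAut N σ (hφN σ) x = x → quotAut N τ (hφN τ) x = x →
          x = 1 := by
        intro x
        induction x using QuotientGroup.induction_on with
        | H x =>
          intro h1 h2
          rw [quotAut_mk] at h1 h2
          have h1' : x⁻¹ * σ x ∈ N := QuotientGroup.eq.mp h1.symm
          have h2' : x⁻¹ * τ x ∈ N := QuotientGroup.eq.mp h2.symm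
          obtain ⟨m, hm, hf1, hf2⟩ := exists_fixed_pair hp N hcopN (hφN σ) (hφN τ) h1' h2'
          have h3 := hfpf (x * m) hf1 hf2
          have h4 : x = m⁻¹ := eq_inv_of_mul_eq_one_left h3
          rw [QuotientGroup.eq_one_iff, h4]
          exact N.inv_mem hm
      -- the image of `H₁`
      obtain ⟨K, hK⟩ : ∃ K : Subgroup (H ⧸ N), K = H₁.map (QuotientGroup.mk' N) := ⟨_, rfl⟩
      have hmemK : ∀ x : H, x ∈ H₁ → (QuotientGroup.mk x : H ⧸ N) ∈ K := by
        intro x hx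
        rw [hK]
        exact ⟨x, hx, rfl⟩
      have hσK : ∀ x ∈ K, quotAut N σ (hφN σ) x ∈ K := by
        intro x hx
        rw [hK] at hx
        obtain ⟨y, hy, rfl⟩ := hx
        exact hmemK _ (hσH₁ y hy)
      have hτK : ∀ x ∈ K, quotAut N τ (hφN τ) x ∈ K := by
        intro x hx
        rw [hK] at hx
        obtain ⟨y, hy, rfl⟩ := hx
        exact hmemK _ (hτH₁ y hy)
      have hcovK : ∀ x : H ⧸ N,
          x⁻¹ * quotAut N σ (hφN σ) x ∈ K ∨ x⁻¹ * quotAut N τ (hφN τ) x ∈ K ∨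
          x⁻¹ * quotAut N σ (hφN σ) (quotAut N τ (hφN τ)
            (quotAut N σ (hφN σ) (quotAut N σ (hφN σ) x))) ∈ K ∨
          x⁻¹ * quotAut N σ (hφN σ) (quotAut N σ (hφN σ)
            (quotAut N τ (hφN τ) (quotAut N σ (hφN σ) x))) ∈ K := by
        intro x
        induction x using QuotientGroup.induction_on with
        | H x =>
          rcases hcov x with h' | h' | h' | h'
          · exact Or.inl (hmemK _ h')
          · exact Or.inr (Or.inl (hmemK _ h'))
          · exact Or.inr (Or.inr (Or.inl (hmemK _ h')))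
          · exact Or.inr (Or.inr (Or.inr (hmemK _ h')))
      obtain ⟨cbar, hcfix, hcmem⟩ := ih (Nat.card (H ⧸ N)) hlt (H ⧸ N) rfl inferInstance hcopq
        (quotAut N σ (hφN σ)) (quotAut N τ (hφN τ)) (hp.quot N (hφN σ) (hφN τ)) hfpf' K hσK hτK
        hcovK (QuotientGroup.mk h)
      obtain ⟨c', rfl⟩ := QuotientGroup.mk_surjective cbar
      rw [quotAut_mk] at hcfix
      have hc'N : c'⁻¹ * σ c' ∈ N := QuotientGroup.eq.mp hcfix.symm
      obtain ⟨n₀, hn₀, hfix₀⟩ := exists_fixed_in_coset Nat.prime_three σ hp.pow_three N (hφN σ)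
        hN3 hc'N
      rw [hK] at hcmem
      obtain ⟨h₁, hh₁, e⟩ := hcmem
      have e' : (QuotientGroup.mk h₁ : H ⧸ N) = QuotientGroup.mk (c'⁻¹ * h) := e
      have hm : h₁⁻¹ * (c'⁻¹ * h) ∈ N := QuotientGroup.eq.mp e'
      obtain ⟨m, hmdef⟩ : ∃ m : H, m = h₁⁻¹ * (c'⁻¹ * h) := ⟨_, rfl⟩
      rw [← hmdef] at hm
      obtain ⟨n₁, hn₁def⟩ : ∃ n₁ : H, n₁ = n₀⁻¹ * (h₁ * m * h₁⁻¹) := ⟨_, rfl⟩
      have hn₁N : n₁ ∈ N := by
        rw [hn₁def]
        exact N.mul_mem (N.inv_mem hn₀) (‹N.Normal›.conj_mem m hm h₁)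
      have hch : (c' * n₀)⁻¹ * h = n₁ * h₁ := by
        rw [hn₁def, hmdef]
        group
      obtain ⟨c₂, hc₂N, hc₂fix, hc₂mem⟩ := covering_abelian hp hNab hcopN (hφN σ) (hφN τ) hσH₁
        hτH₁ (fun x _ => hcov x) n₁ hn₁N
      refine ⟨c' * n₀ * c₂, ?_, ?_⟩
      · rw [map_mul, hfix₀, hc₂fix]
      · have : (c' * n₀ * c₂)⁻¹ * h = (c₂⁻¹ * n₁) * h₁ := by
          rw [mul_inv_rev, mul_assoc, hch, mul_assoc]
        rw [this]
        exact H₁.mul_mem hc₂mem hh₁

/-- **Covering lemma.**  If every coset of the invariant subgroup `H₁` is fixed by a nontrivial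
element of the acting group `⟨σ, τ⟩ ≅ S₃` (acting fixed-point-freely on the solvable group `H` of
order prime to `6`) then `H = C_H(σ) H₁`. -/
theorem covering {H : Type u} [Group H] [Finite H] (hsolv : Group.IsSolvable H)
    (hcop : (Nat.card H).Coprime 6) {σ τ : MulAut H} (hp : S3Pair σ τ)
    (hfpf : ∀ h, σ h = h → τ h = h → h = 1) (H₁ : Subgroup H) (hσH₁ : ∀ x ∈ H₁, σ x ∈ H₁)
    (hτH₁ : ∀ x ∈ H₁, τ x ∈ H₁)
    (hcov : ∀ h, h⁻¹ * σ h ∈ H₁ ∨ h⁻¹ * τ h ∈ H₁ ∨ h⁻¹ * σ (τ (σ (σ h))) ∈ H₁ ∨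
      h⁻¹ * σ (σ (τ (σ h))) ∈ H₁) (h : H) : ∃ c, σ c = c ∧ c⁻¹ * h ∈ H₁ :=
  covering_aux _ H rfl hsolv hcop σ τ hp hfpf H₁ hσH₁ hτH₁ hcov h

end Cfsg.Agent.Lib.H20.S3F
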