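import Mathlib
import Cfsg.Agent.Lib.H20.S3F9

/-!
# Three normal subgroups permuted by a fixed-point-free action of the symmetric group of degree
three (helper20, S4305)
-/

set_option autoImplicit false
set_option linter.unusedSectionVars false
set_option linter.unusedVariables false
set_option linter.style.haveILetI false

namespace Cfsg.Agent.Lib.H20.S3F

open Subgroup

/-- **Lemma β.**  `⟨σ, τ⟩ ≅ S₃` acts on `H` (of order prime to `6`) without nontrivial fixed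
points.  If `K₁` is a normal subgroup containing `[H, τ]` and the three `σ`-conjugates of `K₁`
intersect trivially, then `H` is abelian. -/
theorem beta {H : Type*} [Group H] [Finite H] (hcop : (Nat.card H).Coprime 6) {σ τ : MulAut H}
    (hp : S3Pair σ τ) (hfpf : ∀ h, σ h = h → τ h = h → h = 1) (K₁ : Subgroup H) [hK₁ : K₁.Normal]
    (hτK : ∀ h : H, h⁻¹ * τ h ∈ K₁)
    (hint : ∀ x, x ∈ K₁ → σ x ∈ K₁ → σ (σ x) ∈ K₁ → x = 1) : ∀ a b : H, a * b = b * a := by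
  -- the conjugates
  obtain ⟨K₂, hK₂def⟩ : ∃ K₂ : Subgroup H, K₂ = K₁.comap (σ * σ).toMonoidHom := ⟨_, rfl⟩
  obtain ⟨K₃, hK₃def⟩ : ∃ K₃ : Subgroup H, K₃ = K₁.comap σ.toMonoidHom := ⟨_, rfl⟩
  have hmem₂ : ∀ x, x ∈ K₂ ↔ σ (σ x) ∈ K₁ := by
    intro x
    rw [hK₂def]
    rfl
  have hmem₃ : ∀ x, x ∈ K₃ ↔ σ x ∈ K₁ := by
    intro x
    rw [hK₃def]
    rfl
  haveI hK₂ : K₂.Normal := by rw [hK₂def]; infer_instance
  haveI hK₃ : K₃.Normal := by rw [hK₃def]; infer_instance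
  -- `σ` permutes them
  have hσ12 : ∀ x ∈ K₁, σ x ∈ K₂ := fun x hx => (hmem₂ _).mpr (by rw [hp.s3]; exact hx)
  have hσ23 : ∀ x ∈ K₂, σ x ∈ K₃ := fun x hx => (hmem₃ _).mpr ((hmem₂ x).mp hx)
  have hσ31 : ∀ x ∈ K₃, σ x ∈ K₁ := fun x hx => (hmem₃ x).mp hx
  -- `τ`
  have hτ11 : ∀ x ∈ K₁, τ x ∈ K₁ := by
    intro x hx
    have : τ x = x * (x⁻¹ * τ x) := by group
    rw [this]
    exact K₁.mul_mem hx (hτK x)
  have hτ23 : ∀ x ∈ K₂, τ x ∈ K₃ := by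
    intro x hx
    refine (hmem₃ _).mpr ?_
    rw [hp.st]
    exact hτ11 _ ((hmem₂ x).mp hx)
  have hτ32 : ∀ x ∈ K₃, τ x ∈ K₂ := by
    intro x hx
    refine (hmem₂ _).mpr ?_
    rw [← hp.ts]
    exact hτ11 _ ((hmem₃ x).mp hx)
  -- `K₃ ≤ K₁ ⊔ K₂`
  have hK₃le : K₃ ≤ K₁ ⊔ K₂ := by
    intro x hx
    have h1 : x = τ x * (x⁻¹ * τ x)⁻¹ := by group
    rw [h1]
    exact Subgroup.mul_mem _ ((le_sup_right : K₂ ≤ K₁ ⊔ K₂) (hτ32 x hx))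
      (Subgroup.inv_mem _ ((le_sup_left : K₁ ≤ K₁ ⊔ K₂) (hτK x)))
  -- invariance of `P = K₁ ⊔ K₂`
  have hσP : ∀ x ∈ K₁ ⊔ K₂, σ x ∈ K₁ ⊔ K₂ := by
    intro x hx
    obtain ⟨y, hy, z, hz, rfl⟩ := Subgroup.mem_sup_of_normal_right.mp hx
    rw [map_mul]
    exact Subgroup.mul_mem _ ((le_sup_right : K₂ ≤ K₁ ⊔ K₂) (hσ12 y hy)) (hK₃le (hσ23 z hz))
  have hτP : ∀ x ∈ K₁ ⊔ K₂, τ x ∈ K₁ ⊔ K₂ := by
    intro x hx
    obtain ⟨y, hy, z, hz, rfl⟩ := Subgroup.mem_sup_of_normal_right.mp hx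
    rw [map_mul]
    exact Subgroup.mul_mem _ ((le_sup_left : K₁ ≤ K₁ ⊔ K₂) (hτ11 y hy)) (hK₃le (hτ23 z hz))
  -- `[H, τ₂] ≤ K₂`
  have hτ₂K : ∀ h : H, h⁻¹ * σ (τ (σ (σ h))) ∈ K₂ := by
    intro h
    refine (hmem₂ _).mpr ?_
    rw [map_mul, map_mul, map_inv, map_inv, hp.s3]
    exact hτK _
  -- `H = K₁ K₂`
  have hP12 : ∀ h : H, ∃ k₁ ∈ K₁, ∃ k₂ ∈ K₂, k₁ * k₂ = h := by
    intro h
    have h1 : h⁻¹ * τ h ∈ K₁ ⊔ K₂ := (le_sup_left : K₁ ≤ K₁ ⊔ K₂) (hτK h)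
    have h2 : h⁻¹ * σ h ∈ K₁ ⊔ K₂ := by
      have e : σ h = τ (σ (τ (σ (σ h)))) := by
        rw [hp.ts, hp.t2, hp.s3]
      have e2 : h⁻¹ * σ h = (h⁻¹ * τ h) * τ (h⁻¹ * σ (τ (σ (σ h)))) := by
        rw [map_mul, map_inv, ← e]
        group
      rw [e2]
      exact Subgroup.mul_mem _ h1 (hτP _ ((le_sup_right : K₂ ≤ K₁ ⊔ K₂) (hτ₂K h)))
    have hcopP : (Nat.card (K₁ ⊔ K₂ : Subgroup H)).Coprime 6 :=
      Nat.Coprime.coprime_dvd_left (Subgroup.card_subgroup_dvd_card _) hcop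
    obtain ⟨n, hn, hf1, hf2⟩ := exists_fixed_pair hp (K₁ ⊔ K₂) hcopP hσP hτP h2 h1
    have h3 := hfpf _ hf1 hf2
    have h4 : h = n⁻¹ := eq_inv_of_mul_eq_one_left h3
    have h5 : h ∈ K₁ ⊔ K₂ := by
      rw [h4]
      exact Subgroup.inv_mem _ hn
    exact Subgroup.mem_sup_of_normal_right.mp h5
  have hP23 : ∀ h : H, ∃ k₂ ∈ K₂, ∃ k₃ ∈ K₃, k₂ * k₃ = h := by
    intro h
    obtain ⟨k₁, hk₁, k₂, hk₂, e⟩ := hP12 (σ (σ h))
    refine ⟨σ k₁, hσ12 k₁ hk₁, σ k₂, hσ23 k₂ hk₂, ?_⟩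
    rw [← map_mul, e, hp.s3]
  have hP31 : ∀ h : H, ∃ k₃ ∈ K₃, ∃ k₁ ∈ K₁, k₃ * k₁ = h := by
    intro h
    obtain ⟨k₂, hk₂, k₃, hk₃, e⟩ := hP23 (σ (σ h))
    refine ⟨σ k₂, hσ23 k₂ hk₂, σ k₃, hσ31 k₃ hk₃, ?_⟩
    rw [← map_mul, e, hp.s3]
  -- `K₁ ⊓ K₂ = ⊥`
  have hD3 : ∀ e, e ∈ K₁ → e ∈ K₂ → e = 1 := by
    intro e he1 he2
    -- `τ₃ e = e`
    have hτ₃e : σ (σ (τ (σ e))) = e := by
      have hm1 : e⁻¹ * σ (σ (τ (σ e))) ∈ K₁ := by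
        refine K₁.mul_mem (K₁.inv_mem he1) ?_
        -- `σ e ∈ K₂`, `τ σ e ∈ K₃`, `σ τ σ e ∈ K₁`, `σ σ τ σ e ∈ K₂`?  use the other membership
        have h1 : σ e ∈ K₃ := hσ23 e he2
        have h2 : τ (σ e) ∈ K₂ := hτ32 _ h1
        exact (hmem₂ _).mp h2
      have hm2 : e⁻¹ * σ (σ (τ (σ e))) ∈ K₂ := by
        refine K₂.mul_mem (K₂.inv_mem he2) ?_
        have h1 : σ e ∈ K₂ := hσ12 e he1
        have h2 : τ (σ e) ∈ K₃ := hτ23 _ h1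
        exact hσ12 _ (hσ31 _ h2)
      have hm3 : e⁻¹ * σ (σ (τ (σ e))) ∈ K₃ := by
        refine (hmem₃ _).mpr ?_
        rw [map_mul, map_inv, hp.s3]
        exact hτK _
      have := hint _ hm1 ((hmem₃ _).mp hm3) ((hmem₂ _).mp hm2)
      exact (inv_mul_eq_one.mp this).symm
    -- `τ` fixes `σ e` and swaps `e` and `σ (σ e)`
    have hτe₁ : τ (σ e) = σ e := by
      have := congrArg σ hτ₃e
      rwa [hp.s3] at this
    have hτe : τ e = σ (σ e) := by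
      have h1 : e = σ (σ (σ e)) := (hp.s3 e).symm
      conv_lhs => rw [h1]
      rw [← hp.st, hτe₁]
    have hτe₂ : τ (σ (σ e)) = e := by
      rw [← hτe, hp.t2]
    -- memberships
    have he₁2 : σ e ∈ K₂ := hσ12 e he1
    have he₁3 : σ e ∈ K₃ := hσ23 e he2
    have he₂3 : σ (σ e) ∈ K₃ := hσ23 _ he₁2
    have he₂1 : σ (σ e) ∈ K₁ := hσ31 _ he₁3
    -- commutation
    have hcomm : ∀ (A B C : Subgroup H), A.Normal → B.Normal → C.Normal →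
        (∀ x, x ∈ A → x ∈ B → x ∈ C → x = 1) → ∀ x y, x ∈ A → x ∈ B → y ∈ B → y ∈ C →
        x * y = y * x := by
      intro A B C hA hB hC hABC x y hxA hxB hyB hyC
      have h1 : x * y * x⁻¹ * y⁻¹ ∈ A := by
        have : x * y * x⁻¹ * y⁻¹ = x * (y * x⁻¹ * y⁻¹) := by group
        rw [this]
        exact A.mul_mem hxA (hA.conj_mem _ (A.inv_mem hxA) _)
      have h2 : x * y * x⁻¹ * y⁻¹ ∈ B :=
        B.mul_mem (B.mul_mem (B.mul_mem hxB hyB) (B.inv_mem hxB)) (B.inv_mem hyB)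
      have h3 : x * y * x⁻¹ * y⁻¹ ∈ C :=
        C.mul_mem (hC.conj_mem _ hyC _) (C.inv_mem hyC)
      have h4 := hABC _ h1 h2 h3
      calc x * y = (x * y * x⁻¹ * y⁻¹) * (y * x) := by group
        _ = y * x := by rw [h4, one_mul]
    have hint123 : ∀ x, x ∈ K₁ → x ∈ K₂ → x ∈ K₃ → x = 1 := fun x h1 h2 h3 =>
      hint x h1 ((hmem₃ x).mp h3) ((hmem₂ x).mp h2)
    have hint231 : ∀ x, x ∈ K₂ → x ∈ K₃ → x ∈ K₁ → x = 1 := fun x h2 h3 h1 => hint123 x h1 h2 h3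
    have hint312 : ∀ x, x ∈ K₃ → x ∈ K₁ → x ∈ K₂ → x = 1 := fun x h3 h1 h2 => hint123 x h1 h2 h3
    have c01 : e * σ e = σ e * e := hcomm K₁ K₂ K₃ hK₁ hK₂ hK₃ hint123 e (σ e) he1 he2 he₁2 he₁3
    have c12 : σ e * σ (σ e) = σ (σ e) * σ e :=
      hcomm K₂ K₃ K₁ hK₂ hK₃ hK₁ hint231 _ _ he₁2 he₁3 he₂3 he₂1
    have c20 : σ (σ e) * e = e * σ (σ e) :=
      hcomm K₃ K₁ K₂ hK₃ hK₁ hK₂ hint312 _ _ he₂3 he₂1 he1 he2
    -- the fixed element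
    have hfσ : σ (e * σ e * σ (σ e)) = e * σ e * σ (σ e) := by
      rw [map_mul, map_mul, hp.s3]
      calc σ e * σ (σ e) * e = σ e * (σ (σ e) * e) := by group
        _ = σ e * (e * σ (σ e)) := by rw [c20]
        _ = (σ e * e) * σ (σ e) := by group
        _ = e * σ e * σ (σ e) := by rw [← c01]
    have hfτ : τ (e * σ e * σ (σ e)) = e * σ e * σ (σ e) := by
      rw [map_mul, map_mul, hτe, hτe₁, hτe₂]
      calc σ (σ e) * σ e * e = (σ (σ e) * σ e) * e := rfl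
        _ = (σ e * σ (σ e)) * e := by rw [c12]
        _ = σ e * (σ (σ e) * e) := by group
        _ = σ e * (e * σ (σ e)) := by rw [c20]
        _ = (σ e * e) * σ (σ e) := by group
        _ = e * σ e * σ (σ e) := by rw [← c01]
    have hf1 := hfpf _ hfσ hfτ
    have he3 : e ∈ K₃ := by
      have : e = (σ e * σ (σ e))⁻¹ := by
        rw [mul_assoc] at hf1
        exact eq_inv_of_mul_eq_one_left hf1
      rw [this]
      exact K₃.inv_mem (K₃.mul_mem he₁3 he₂3)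
    exact hint123 e he1 he2 he3
  have hD1 : ∀ x, x ∈ K₂ → x ∈ K₃ → x = 1 := by
    intro x h2 h3
    have h1 : σ (σ x) = 1 := hD3 _ ((hmem₂ x).mp h2) (hσ12 _ ((hmem₃ x).mp h3))
    have := congrArg σ h1
    rwa [hp.s3, map_one] at this
  have hD2 : ∀ x, x ∈ K₃ → x ∈ K₁ → x = 1 := by
    intro x h3 h1
    have h4 : σ x = 1 := hD3 _ ((hmem₃ x).mp h3) (hσ12 _ h1)
    have := congrArg (σ * σ) h4
    rwa [MulAut.mul_apply, hp.s3, map_one] at this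
  have c12 : ∀ x ∈ K₁, ∀ y ∈ K₂, x * y = y * x := fun x hx y hy =>
    (Subgroup.commute_of_normal_of_disjoint K₁ K₂ hK₁ hK₂
      (Subgroup.disjoint_def.mpr (fun {z} h1 h2 => hD3 z h1 h2)) x y hx hy).eq
  have c23 : ∀ x ∈ K₂, ∀ y ∈ K₃, x * y = y * x := fun x hx y hy =>
    (Subgroup.commute_of_normal_of_disjoint K₂ K₃ hK₂ hK₃
      (Subgroup.disjoint_def.mpr (fun {z} h1 h2 => hD1 z h1 h2)) x y hx hy).eq
  have c31 : ∀ x ∈ K₃, ∀ y ∈ K₁, x * y = y * x := fun x hx y hy =>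
    (Subgroup.commute_of_normal_of_disjoint K₃ K₁ hK₃ hK₁
      (Subgroup.disjoint_def.mpr (fun {z} h1 h2 => hD2 z h1 h2)) x y hx hy).eq
  -- `K₁` and `K₂` are central
  have hcen1 : ∀ x ∈ K₁, ∀ h : H, x * h = h * x := by
    intro x hx h
    obtain ⟨k₂, hk₂, k₃, hk₃, rfl⟩ := hP23 h
    calc x * (k₂ * k₃) = (x * k₂) * k₃ := by group
      _ = (k₂ * x) * k₃ := by rw [c12 x hx k₂ hk₂]
      _ = k₂ * (x * k₃) := by group
      _ = k₂ * (k₃ * x) := by rw [← c31 k₃ hk₃ x hx]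
      _ = k₂ * k₃ * x := by group
  have hcen2 : ∀ x ∈ K₂, ∀ h : H, x * h = h * x := by
    intro x hx h
    obtain ⟨k₃, hk₃, k₁, hk₁, rfl⟩ := hP31 h
    calc x * (k₃ * k₁) = (x * k₃) * k₁ := by group
      _ = (k₃ * x) * k₁ := by rw [c23 x hx k₃ hk₃]
      _ = k₃ * (x * k₁) := by group
      _ = k₃ * (k₁ * x) := by rw [← c12 k₁ hk₁ x hx]
      _ = k₃ * k₁ * x := by group
  intro a b
  obtain ⟨k₁, hk₁, k₂, hk₂, rfl⟩ := hP12 a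
  calc k₁ * k₂ * b = k₁ * (k₂ * b) := by group
    _ = k₁ * (b * k₂) := by rw [hcen2 k₂ hk₂ b]
    _ = (k₁ * b) * k₂ := by group
    _ = (b * k₁) * k₂ := by rw [hcen1 k₁ hk₁ b]
    _ = b * (k₁ * k₂) := by group

end Cfsg.Agent.Lib.H20.S3F
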