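import Mathlib
import Cfsg.Agent.Lib.H20.S3F4

/-!
# Minimal counterexamples to the order three Hall–Higman lemma: basics and the abelian case
(helper20, S4305)
-/

set_option autoImplicit false
set_option linter.unusedSectionVars false
set_option linter.unusedVariables false
set_option linter.style.haveILetI false

namespace Cfsg.Agent.Lib.H20.S3F

open Subgroup

/-! ### general group facts -/

section Grp

variable {Γ : Type*} [Group Γ]

theorem inv_eq_sq_of_pow_three {s : Γ} (hs3 : s ^ 3 = 1) : s⁻¹ = s ^ 2 := by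
  have : s ^ 2 * s = 1 := by rw [← pow_succ]; exact hs3
  exact inv_eq_of_mul_eq_one_left this

theorem inv_conj_eq_of_pow_three {s : Γ} (hs3 : s ^ 3 = 1) (l : Γ) :
    s⁻¹ * l * s = s * (s * l * s⁻¹) * s⁻¹ := by
  have h1 : s⁻¹ = s * s := by rw [inv_eq_sq_of_pow_three hs3, pow_two]
  have h2 : s = s⁻¹ * s⁻¹ := by
    have : s * s * s = 1 := by rw [← pow_two, ← pow_succ]; exact hs3
    calc s = (s⁻¹ * s⁻¹) * (s * s * s) := by group
      _ = s⁻¹ * s⁻¹ := by rw [this, mul_one]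
  calc s⁻¹ * l * s = (s * s) * l * (s⁻¹ * s⁻¹) := by rw [← h1, ← h2]
    _ = s * (s * l * s⁻¹) * s⁻¹ := by group

theorem conj_conj_conj_of_pow_three {s : Γ} (hs3 : s ^ 3 = 1) (l : Γ) :
    s * (s * (s * l * s⁻¹) * s⁻¹) * s⁻¹ = l := by
  have h1 : s * s * s = 1 := by rw [← pow_two, ← pow_succ]; exact hs3
  have h2 : s⁻¹ * s⁻¹ * s⁻¹ = 1 := by
    rw [← mul_inv_rev, ← mul_inv_rev, ← mul_assoc, h1, inv_one]
  calc s * (s * (s * l * s⁻¹) * s⁻¹) * s⁻¹ = (s * s * s) * l * (s⁻¹ * s⁻¹ * s⁻¹) := by group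
    _ = l := by rw [h1, h2, one_mul, mul_one]

/-- a nontrivial element of a `q`-group has a power of order `q` -/
theorem exists_pow_prime_order {q : ℕ} (hq : q.Prime) {Q : Subgroup Γ} (hQ : IsPGroup q Q) {g : Γ}
    (hg : g ∈ Q) (hg1 : g ≠ 1) : ∃ k : ℕ, g ^ k ≠ 1 ∧ (g ^ k) ^ q = 1 := by
  haveI : Fact q.Prime := ⟨hq⟩
  obtain ⟨n, hn⟩ := (IsPGroup.iff_orderOf.mp hQ) ⟨g, hg⟩
  rw [Subgroup.orderOf_mk] at hn
  have hn0 : n ≠ 0 := by
    rintro rfl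
    rw [pow_zero, orderOf_eq_one_iff] at hn
    exact hg1 hn
  obtain ⟨m, rfl⟩ : ∃ m, n = m + 1 := ⟨n - 1, by omega⟩
  refine ⟨q ^ m, ?_, ?_⟩
  · apply pow_ne_one_of_lt_orderOf (pow_pos hq.pos m).ne'
    rw [hn, pow_succ]
    exact lt_mul_of_one_lt_right (pow_pos hq.pos m) hq.one_lt
  · rw [← pow_mul, ← pow_succ, ← hn, pow_orderOf_eq_one]

theorem commutator_ne_self {q : ℕ} (hq : q.Prime) {Q : Subgroup Γ} [Finite Q] (hQ : IsPGroup q Q)
    (hne : Q ≠ ⊥) : ⁅Q, Q⁆ ≠ Q := by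
  intro h
  haveI : Fact q.Prime := ⟨hq⟩
  haveI : Group.IsNilpotent Q := hQ.isNilpotent
  haveI : Nontrivial Q := (Subgroup.nontrivial_iff_ne_bot Q).mpr hne
  have h1 := Group.IsSolvable.commutator_lt_top_of_nontrivial Q
  rw [← Subgroup.map_subtype_commutator] at h
  have h2 : (_root_.commutator Q).map Q.subtype = (⊤ : Subgroup Q).map Q.subtype := by
    rw [h, ← MonoidHom.range_eq_map, Q.range_subtype]
  have h3 := Subgroup.map_injective Q.subtype_injective h2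
  exact h1.ne h3

/-- `x ^ k * x₁ = c ^ k * x₁ * x ^ k` when `x * x₁ = c * (x₁ * x)` and `c` commutes with `x` -/
theorem pow_mul_of_comm {x x₁ c : Γ} (h2 : x * x₁ = c * (x₁ * x)) (hcx : c * x = x * c) (k : ℕ) :
    x ^ k * x₁ = c ^ k * x₁ * x ^ k := by
  induction k with
  | zero => simp
  | succ k ih =>
    have hck : c ^ k * x = x * c ^ k := (Commute.pow_left (show Commute c x from hcx) k).eq
    calc x ^ (k + 1) * x₁ = x * (x ^ k * x₁) := by rw [pow_succ', mul_assoc]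
      _ = x * (c ^ k * x₁ * x ^ k) := by rw [ih]
      _ = (x * c ^ k) * x₁ * x ^ k := by simp only [mul_assoc]
      _ = c ^ k * (x * x₁) * x ^ k := by rw [← hck]; simp only [mul_assoc]
      _ = c ^ k * (c * (x₁ * x)) * x ^ k := by rw [h2]
      _ = c ^ (k + 1) * x₁ * x ^ (k + 1) := by rw [pow_succ, pow_succ']; simp only [mul_assoc]

end Grp

variable {V : Type*} [CommGroup V] [Finite V]

/-- a minimal counterexample -/
structure MinCE (q : ℕ) (Q : Subgroup (MulAut V)) (s : MulAut V) : Prop where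
  hq : q.Prime
  hq2 : q ≠ 2
  hq3 : q ≠ 3
  cop : (Nat.card V).Coprime q
  pgrp : IsPGroup q Q
  s3 : s ^ 3 = 1
  norm : ∀ g ∈ Q, s * g * s⁻¹ ∈ Q
  fix : fix1 s = ⊥
  sub : ∀ Q₀ : Subgroup (MulAut V), Q₀ ≤ Q → Q₀ ≠ Q → (∀ g ∈ Q₀, s * g * s⁻¹ ∈ Q₀) →
    ∀ g ∈ Q₀, s * g * s⁻¹ = g
  res : ∀ U : Subgroup V, U ≠ ⊤ → (∀ g ∈ Q, ∀ u ∈ U, g u ∈ U) → (∀ u ∈ U, s u ∈ U) →
    ∀ g ∈ Q, ∀ u ∈ U, (s * g * s⁻¹) u = g u
  ce : ∃ g ∈ Q, s * g * s⁻¹ ≠ g

namespace MinCE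

variable {q : ℕ} {Q : Subgroup (MulAut V)} {s : MulAut V}

theorem norm' (h : MinCE q Q s) : ∀ g ∈ Q, s⁻¹ * g * s ∈ Q := by
  intro g hg
  rw [inv_conj_eq_of_pow_three h.s3]
  exact h.norm _ (h.norm g hg)

theorem card_coprime (h : MinCE q Q s) {N : Subgroup (MulAut V)} (hN : N ≤ Q) :
    (Nat.card V).Coprime (Nat.card N) := by
  haveI : Fact q.Prime := ⟨h.hq⟩
  obtain ⟨n, hn⟩ := IsPGroup.iff_card.mp (h.pgrp.to_le hN)
  rw [hn]
  exact Nat.Coprime.pow_right n h.cop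

/-- a nontrivial normal `s`-invariant subgroup acts without fixed points -/
theorem fixG_eq_bot (h : MinCE q Q s) {N : Subgroup (MulAut V)} (hNQ : N ≤ Q) (hN : N ≠ ⊥)
    (hQN : ∀ g ∈ Q, ∀ n ∈ N, g * n * g⁻¹ ∈ N) (hsN : ∀ n ∈ N, s * n * s⁻¹ ∈ N) :
    fixG N = ⊥ := by
  by_contra hne
  have hcop := h.card_coprime hNQ
  have hsN' : ∀ n ∈ N, s⁻¹ * n * s ∈ N := by
    intro n hn
    rw [inv_conj_eq_of_pow_three h.s3]
    exact hsN _ (hsN n hn)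
  have hQN' : ∀ g ∈ Q, ∀ n ∈ N, g⁻¹ * n * g ∈ N := by
    intro g hg n hn
    have := hQN g⁻¹ (Q.inv_mem hg) n hn
    rwa [inv_inv] at this
  have hV₁top : fixG N ≠ ⊤ := fixG_ne_top hN
  have hV₂top : (trK N).ker ≠ ⊤ := by
    intro htop
    apply hne
    have := fixG_inf_ker_trK N hcop
    rwa [htop, inf_top_eq] at this
  -- invariance
  have hQ1 : ∀ g ∈ Q, ∀ u ∈ fixG N, g u ∈ fixG N := fun g hg u hu =>
    apply_mem_fixG (hQN' g hg) hu
  have hs1 : ∀ u ∈ fixG N, s u ∈ fixG N := fun u hu => apply_mem_fixG hsN' hu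
  have hQ2 : ∀ g ∈ Q, ∀ u ∈ (trK N).ker, g u ∈ (trK N).ker := by
    intro g hg u hu
    rw [MonoidHom.mem_ker] at hu ⊢
    rw [← apply_trK_of_normalizes N (hQN g hg) (hQN' g hg), hu, map_one]
  have hs2 : ∀ u ∈ (trK N).ker, s u ∈ (trK N).ker := by
    intro u hu
    rw [MonoidHom.mem_ker] at hu ⊢
    rw [← apply_trK_of_normalizes N hsN hsN', hu, map_one]
  have r1 := h.res _ hV₁top hQ1 hs1
  have r2 := h.res _ hV₂top hQ2 hs2
  obtain ⟨g, hg, hgne⟩ := h.ce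
  apply hgne
  ext v
  obtain ⟨v₁, hv₁, v₂, hv₂, rfl⟩ := exists_mul_of_coprime N hcop v
  rw [map_mul, map_mul, r1 g hg v₁ hv₁, r2 g hg v₂ hv₂]

theorem ne_bot (h : MinCE q Q s) : Q ≠ ⊥ := by
  intro hQ
  obtain ⟨g, hg, hgne⟩ := h.ce
  rw [hQ, Subgroup.mem_bot] at hg
  apply hgne
  rw [hg, mul_one, mul_inv_cancel]

end MinCE

end Cfsg.Agent.Lib.H20.S3F
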