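import Mathlib
import Cfsg.Agent.Lib.H20.S3F5

/-!
# Minimal counterexamples to the order three Hall–Higman lemma: the abelian case
(helper20, S4305)
-/

set_option autoImplicit false
set_option linter.unusedSectionVars false
set_option linter.unusedVariables false
set_option linter.style.haveILetI false

namespace Cfsg.Agent.Lib.H20.S3F

open Subgroup

section Conj

variable {Γ : Type*} [Group Γ]

theorem map_conj_eq_of_forall {K : Subgroup Γ} {s : Γ} (h : ∀ k ∈ K, s * k * s⁻¹ ∈ K)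
    (h' : ∀ k ∈ K, s⁻¹ * k * s ∈ K) : K.map (MulAut.conj s).toMonoidHom = K := by
  apply le_antisymm
  · rintro x ⟨k, hk, rfl⟩
    exact h k hk
  · intro k hk
    refine ⟨s⁻¹ * k * s, h' k hk, ?_⟩
    show s * (s⁻¹ * k * s) * s⁻¹ = k
    group

theorem conj_mem_of_map_conj_eq {K : Subgroup Γ} {s : Γ}
    (h : K.map (MulAut.conj s).toMonoidHom = K) {k : Γ} (hk : k ∈ K) : s * k * s⁻¹ ∈ K := by
  rw [← h]
  exact ⟨k, hk, rfl⟩

theorem inv_conj_mem_of_map_conj_eq {K : Subgroup Γ} {s : Γ}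
    (h : K.map (MulAut.conj s).toMonoidHom = K) {k : Γ} (hk : k ∈ K) : s⁻¹ * k * s ∈ K := by
  rw [← h] at hk
  obtain ⟨k', hk', rfl⟩ := hk
  have : s⁻¹ * ((MulAut.conj s).toMonoidHom k') * s = k' := by
    show s⁻¹ * (s * k' * s⁻¹) * s = k'
    group
  rw [this]
  exact hk'

theorem map_conj_three {K : Subgroup Γ} {s : Γ} (hs3 : s ^ 3 = 1) :
    ((K.map (MulAut.conj s).toMonoidHom).map (MulAut.conj s).toMonoidHom).map
      (MulAut.conj s).toMonoidHom = K := by
  rw [Subgroup.map_map, Subgroup.map_map]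
  have : (((MulAut.conj s).toMonoidHom.comp (MulAut.conj s).toMonoidHom).comp
      (MulAut.conj s).toMonoidHom) = MonoidHom.id Γ := by
    ext l
    show s * (s * (s * l * s⁻¹) * s⁻¹) * s⁻¹ = l
    exact conj_conj_conj_of_pow_three hs3 l
  rw [this, Subgroup.map_id]

end Conj

variable {V : Type*} [CommGroup V] [Finite V]

/-- two automorphisms agreeing on all `fixG K` are equal -/
theorem HD.eq_of_forall_fixG {q : ℕ} {M : Subgroup (MulAut V)} (h : HD q M) {a b : MulAut V}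
    (hab : ∀ K : Subgroup (MulAut V), IsHyp M K → ∀ u ∈ fixG K, a u = b u) : a = b := by
  have h1 : (⊤ : Subgroup V) ≤ fix1 (b⁻¹ * a) := by
    rw [← h.gen]
    apply iSup_le
    rintro ⟨K, hK⟩ u hu
    show (b⁻¹ * a) u = u
    rw [MulAut.mul_apply, hab K hK u hu, MulAut.inv_apply_self]
  have h2 : b⁻¹ * a = 1 := eq_one_of_forall_apply (fun v => h1 (Subgroup.mem_top v))
  exact (inv_mul_eq_one.mp h2).symm

/-- a hyperplane with nontrivial fixed points is normalized by a fixed-point-free automorphism of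
order three normalizing `M` -/
theorem HD.map_conj_eq {q : ℕ} {M : Subgroup (MulAut V)} (h : HD q M) {s : MulAut V}
    (hs3 : s ^ 3 = 1) (hfix : fix1 s = ⊥) (hM : M.map (MulAut.conj s).toMonoidHom = M)
    {K : Subgroup (MulAut V)} (hK : IsHyp M K) (hne : fixG K ≠ ⊥) :
    K.map (MulAut.conj s).toMonoidHom = K := by
  by_contra hK₁ne
  apply hne
  obtain ⟨K₁, hK₁⟩ : ∃ K₁ : Subgroup (MulAut V), K₁ = K.map (MulAut.conj s).toMonoidHom :=
    ⟨_, rfl⟩
  obtain ⟨K₂, hK₂⟩ : ∃ K₂ : Subgroup (MulAut V), K₂ = K₁.map (MulAut.conj s).toMonoidHom :=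
    ⟨_, rfl⟩
  rw [← hK₁] at hK₁ne
  have hyp₁ : IsHyp M K₁ := by rw [hK₁]; exact hK.map_conj s hM
  have hyp₂ : IsHyp M K₂ := by rw [hK₂]; exact hyp₁.map_conj s hM
  have hK₂ne : K₂ ≠ K := by
    intro e
    apply hK₁ne
    have h3 := map_conj_three (K := K) hs3
    rw [← hK₁, ← hK₂, e, ← hK₁] at h3
    exact h3
  rw [eq_bot_iff]
  intro v hv
  have hsv : s v ∈ fixG K₁ := by
    apply apply_mem_fixG (K := K) (L := K₁) (g := s) _ hv
    intro l hl
    rw [hK₁] at hl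
    obtain ⟨k, hk, rfl⟩ := hl
    have : s⁻¹ * ((MulAut.conj s).toMonoidHom k) * s = k := by
      show s⁻¹ * (s * k * s⁻¹) * s = k
      group
    rw [this]
    exact hk
  have hssv : s (s v) ∈ fixG K₂ := by
    apply apply_mem_fixG (K := K₁) (L := K₂) (g := s) _ hsv
    intro l hl
    rw [hK₂] at hl
    obtain ⟨k, hk, rfl⟩ := hl
    have : s⁻¹ * ((MulAut.conj s).toMonoidHom k) * s = k := by
      show s⁻¹ * (s * k * s⁻¹) * s = k
      group
    rw [this]
    exact hk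
  have hN : v * s v * s (s v) = 1 := by
    rw [← nrm_three]
    exact nrm_eq_one hs3 hfix v
  have hind := h.indep hK ({K₁, K₂} : Set (Subgroup (MulAut V)))
    (by
      intro K' hK'
      rcases hK' with rfl | hK'
      · exact hyp₁
      · rw [Set.mem_singleton_iff] at hK'
        rw [hK']; exact hyp₂)
    (by
      intro hmem
      rcases hmem with e | e
      · exact hK₁ne e.symm
      · rw [Set.mem_singleton_iff] at e
        exact hK₂ne e.symm)
  have hv' : v = (s v * s (s v))⁻¹ := by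
    rw [mul_assoc] at hN
    exact eq_inv_of_mul_eq_one_left hN
  have hmem : v ∈ ⨆ K' ∈ ({K₁, K₂} : Set (Subgroup (MulAut V))), fixG K' := by
    rw [hv']
    apply Subgroup.inv_mem
    apply Subgroup.mul_mem
    · exact Subgroup.mem_iSup_of_mem K₁ (Subgroup.mem_iSup_of_mem (Set.mem_insert _ _) hsv)
    · exact Subgroup.mem_iSup_of_mem K₂ (Subgroup.mem_iSup_of_mem
        (Set.mem_insert_of_mem _ (Set.mem_singleton _)) hssv)
  have : v ∈ fixG K ⊓ ⨆ K' ∈ ({K₁, K₂} : Set (Subgroup (MulAut V))), fixG K' :=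
    Subgroup.mem_inf.mpr ⟨hv, hmem⟩
  rw [hind] at this
  exact this

namespace MinCE

variable {q : ℕ} {Q : Subgroup (MulAut V)} {s : MulAut V}

/-- the elements of order dividing `q` in a commutative `Q` -/
def omega (Q : Subgroup (MulAut V)) (q : ℕ) (hc : ∀ a ∈ Q, ∀ b ∈ Q, a * b = b * a) :
    Subgroup (MulAut V) where
  carrier := {g | g ∈ Q ∧ g ^ q = 1}
  mul_mem' := by
    intro a b ha hb
    refine ⟨Q.mul_mem ha.1 hb.1, ?_⟩
    rw [(show Commute a b from hc a ha.1 b hb.1).mul_pow, ha.2, hb.2, one_mul]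
  one_mem' := ⟨Q.one_mem, one_pow q⟩
  inv_mem' := by
    intro a ha
    exact ⟨Q.inv_mem ha.1, by rw [inv_pow, ha.2, inv_one]⟩

/-- **The abelian case.** -/
theorem false_of_comm (h : MinCE q Q s) (hc : ∀ a ∈ Q, ∀ b ∈ Q, a * b = b * a) : False := by
  classical
  haveI : Fact q.Prime := ⟨h.hq⟩
  obtain ⟨Q₁, hQ₁def⟩ : ∃ Q₁ : Subgroup (MulAut V), Q₁ = omega Q q hc := ⟨_, rfl⟩
  have hmemQ₁ : ∀ g, g ∈ Q₁ ↔ g ∈ Q ∧ g ^ q = 1 := by
    intro g
    rw [hQ₁def]
    rfl
  have hQ₁Q : Q₁ ≤ Q := fun g hg => ((hmemQ₁ g).mp hg).1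
  have hQ₁ne : Q₁ ≠ ⊥ := by
    obtain ⟨g, hg, hgne⟩ := h.ce
    have hg1 : g ≠ 1 := by
      rintro rfl
      apply hgne
      rw [mul_one, mul_inv_cancel]
    obtain ⟨k, hk1, hk2⟩ := exists_pow_prime_order h.hq h.pgrp hg hg1
    intro hbot
    have : g ^ k ∈ Q₁ := (hmemQ₁ _).mpr ⟨Q.pow_mem hg k, hk2⟩
    rw [hbot, Subgroup.mem_bot] at this
    exact hk1 this
  have hQn : ∀ g ∈ Q, ∀ n ∈ Q₁, g * n * g⁻¹ ∈ Q₁ := by
    intro g hg n hn
    have : g * n * g⁻¹ = n := by rw [hc g hg n (hQ₁Q hn), mul_inv_cancel_right]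
    rw [this]
    exact hn
  have hsn : ∀ n ∈ Q₁, s * n * s⁻¹ ∈ Q₁ := by
    intro n hn
    have hn' := (hmemQ₁ n).mp hn
    exact (hmemQ₁ _).mpr ⟨h.norm n hn'.1, by rw [conj_pow, hn'.2, mul_one, mul_inv_cancel]⟩
  have hsn' : ∀ n ∈ Q₁, s⁻¹ * n * s ∈ Q₁ := by
    intro n hn
    rw [inv_conj_eq_of_pow_three h.s3]
    exact hsn _ (hsn n hn)
  have hfixQ₁ := h.fixG_eq_bot hQ₁Q hQ₁ne hQn hsn
  have hHD : HD q Q₁ :=
    ⟨h.hq, fun x hx y hy => hc x (hQ₁Q hx) y (hQ₁Q hy), fun x hx => ((hmemQ₁ x).mp hx).2, h.cop,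
      hfixQ₁⟩
  have hmapQ₁ : Q₁.map (MulAut.conj s).toMonoidHom = Q₁ := map_conj_eq_of_forall hsn hsn'
  have hKinv : ∀ K : Subgroup (MulAut V), IsHyp Q₁ K → fixG K ≠ ⊥ →
      K.map (MulAut.conj s).toMonoidHom = K :=
    fun K hK hne => hHD.map_conj_eq h.s3 h.fix hmapQ₁ hK hne
  obtain ⟨g, hg, hgne⟩ := h.ce
  apply hgne
  by_cases hB : ∀ K : Subgroup (MulAut V), IsHyp Q₁ K → fixG K ≠ ⊤
  · -- all components are proper
    apply hHD.eq_of_forall_fixG
    intro K hK u hu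
    by_cases hb : fixG K = ⊥
    · rw [hb, Subgroup.mem_bot] at hu
      rw [hu, map_one, map_one]
    · have hKs := hKinv K hK hb
      refine h.res (fixG K) (hB K hK) ?_ ?_ g hg u hu
      · intro g' hg' u' hu'
        apply apply_mem_fixG (K := K) (L := K) _ hu'
        intro l hl
        have hlQ : l ∈ Q := hQ₁Q (hK.1 hl)
        have : g'⁻¹ * l * g' = l := by
          rw [mul_assoc, hc l hlQ g' hg', inv_mul_cancel_left]
        rw [this]
        exact hl
      · intro u' hu'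
        apply apply_mem_fixG (K := K) (L := K) (g := s) _ hu'
        intro l hl
        exact inv_conj_mem_of_map_conj_eq hKs hl
  · -- some hyperplane acts trivially: `Q` acts semiregularly
    push Not at hB
    obtain ⟨K, hK, hKtop⟩ := hB
    have hKbot : K = ⊥ := by
      by_contra hne
      exact fixG_ne_top hne hKtop
    have hfpf : ∀ z ∈ Q, z ≠ 1 → fix1 z = ⊥ := by
      intro z hz hz1
      obtain ⟨k, hk1, hk2⟩ := exists_pow_prime_order h.hq h.pgrp hz hz1
      have hzk : z ^ k ∈ Q₁ := (hmemQ₁ _).mpr ⟨Q.pow_mem hz k, hk2⟩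
      have hzkK : z ^ k ∉ K := by
        rw [hKbot, Subgroup.mem_bot]
        exact hk1
      have h1 := hHD.fix_inf_eq_bot hK hzk hzkK
      rw [hKtop, top_inf_eq] at h1
      rw [eq_bot_iff, ← h1]
      exact fix1_le_fix1_pow z k
    ext w
    refine descent Q hc s h.s3 h.norm ⊤ (fun _ _ _ _ => Subgroup.mem_top _)
      (fun _ _ => Subgroup.mem_top _) (by rw [top_inf_eq]; exact h.fix) ?_ hg (Subgroup.mem_top w)
    intro z hz
    by_cases hz1 : z = 1
    · left
      intro u _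
      rw [hz1]
      rfl
    · right
      rw [top_inf_eq]
      exact hfpf z hz hz1

end MinCE

end Cfsg.Agent.Lib.H20.S3F
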