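import Mathlib
import Cfsg.Agent.Lib.H20.S3F6
import Cfsg.Agent.Lib.H10.CoprimeAut

/-!
# Minimal counterexamples to the order three Hall–Higman lemma: the nonabelian case, and the lemma
(helper20, S4305)
-/

set_option autoImplicit false
set_option linter.unusedSectionVars false
set_option linter.unusedVariables false
set_option linter.style.haveILetI false

namespace Cfsg.Agent.Lib.H20.S3F

open Subgroup

section Grp

variable {Γ : Type*} [Group Γ]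

theorem mem_centralizer_singleton {x b : Γ} :
    b ∈ Subgroup.centralizer ({x} : Set Γ) ↔ x * b = b * x := by
  rw [Subgroup.mem_centralizer_iff]
  constructor
  · intro h
    exact h x (Set.mem_singleton x)
  · intro h y hy
    rw [Set.mem_singleton_iff] at hy
    rw [hy]
    exact h

theorem conj_comm_of_comm {a b : Γ} (s : Γ) (h : a * b = b * a) :
    (s * a * s⁻¹) * (s * b * s⁻¹) = (s * b * s⁻¹) * (s * a * s⁻¹) := by
  calc (s * a * s⁻¹) * (s * b * s⁻¹) = s * (a * b) * s⁻¹ := by group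
    _ = s * (b * a) * s⁻¹ := by rw [h]
    _ = (s * b * s⁻¹) * (s * a * s⁻¹) := by group

theorem telescope_of_pow_three {s x₀ : Γ} (hs3 : s ^ 3 = 1) :
    (x₀⁻¹ * (s * x₀ * s⁻¹)) * (s * (x₀⁻¹ * (s * x₀ * s⁻¹)) * s⁻¹) *
      (s * (s * (x₀⁻¹ * (s * x₀ * s⁻¹)) * s⁻¹) * s⁻¹) = 1 := by
  have h1 : s * s * s = 1 := by rw [← pow_two, ← pow_succ]; exact hs3
  calc (x₀⁻¹ * (s * x₀ * s⁻¹)) * (s * (x₀⁻¹ * (s * x₀ * s⁻¹)) * s⁻¹) *
      (s * (s * (x₀⁻¹ * (s * x₀ * s⁻¹)) * s⁻¹) * s⁻¹)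
      = x₀⁻¹ * (s * s * s) * x₀ * (s * s * s)⁻¹ := by group
    _ = 1 := by rw [h1, inv_one, mul_one, mul_one, inv_mul_cancel]

end Grp

variable {V : Type*} [CommGroup V] [Finite V]

namespace MinCE

variable {q : ℕ} {Q : Subgroup (MulAut V)} {s : MulAut V}

/-- **The nonabelian case.** -/
theorem false_of_not_comm (h : MinCE q Q s) (hnc : ¬ ∀ a ∈ Q, ∀ b ∈ Q, a * b = b * a) : False := by
  classical
  haveI : Fact q.Prime := ⟨h.hq⟩
  have hs3 := h.s3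
  -- the centre `Z` and the centralizer `C` of `s`
  obtain ⟨Z, hZdef⟩ : ∃ Z : Subgroup (MulAut V),
      Z = Q ⊓ Subgroup.centralizer (Q : Set (MulAut V)) := ⟨_, rfl⟩
  have hmemZ : ∀ z, z ∈ Z ↔ z ∈ Q ∧ ∀ g ∈ Q, g * z = z * g := by
    intro z
    rw [hZdef, Subgroup.mem_inf, Subgroup.mem_centralizer_iff]
    rfl
  obtain ⟨C, hCdef⟩ : ∃ C : Subgroup (MulAut V),
      C = Q ⊓ Subgroup.centralizer ({s} : Set (MulAut V)) := ⟨_, rfl⟩
  have hmemC : ∀ g, g ∈ C ↔ g ∈ Q ∧ s * g * s⁻¹ = g := by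
    intro g
    rw [hCdef, Subgroup.mem_inf, mem_centralizer_singleton]
    constructor
    · rintro ⟨hg, hc⟩
      exact ⟨hg, by rw [hc, mul_inv_cancel_right]⟩
    · rintro ⟨hg, hc⟩
      refine ⟨hg, ?_⟩
      calc s * g = (s * g * s⁻¹) * s := by group
        _ = g * s := by rw [hc]
  have hZQ : Z ≤ Q := fun z hz => ((hmemZ z).mp hz).1
  have hCQ : C ≤ Q := fun z hz => ((hmemC z).mp hz).1
  -- (a) `Z ≤ C`
  have hZne : Z ≠ Q := by
    intro e
    apply hnc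
    intro a ha b hb
    have haZ : a ∈ Z := by rw [e]; exact ha
    exact (((hmemZ a).mp haZ).2 b hb).symm
  have hZinv : ∀ z ∈ Z, s * z * s⁻¹ ∈ Z := by
    intro z hz
    obtain ⟨hzQ, hzc⟩ := (hmemZ z).mp hz
    refine (hmemZ _).mpr ⟨h.norm z hzQ, ?_⟩
    intro g hg
    have h1 := hzc _ (h.norm' g hg)
    calc g * (s * z * s⁻¹) = s * ((s⁻¹ * g * s) * z) * s⁻¹ := by group
      _ = s * (z * (s⁻¹ * g * s)) * s⁻¹ := by rw [h1]
      _ = s * z * s⁻¹ * g := by group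
  have hZC : ∀ z ∈ Z, s * z * s⁻¹ = z := h.sub Z hZQ hZne hZinv
  -- (b) the commutator subgroup lies in `C`
  have hQ'Q : ⁅Q, Q⁆ ≤ Q := Subgroup.commutator_le_self Q
  have hQ'ne : ⁅Q, Q⁆ ≠ Q := commutator_ne_self h.hq h.pgrp h.ne_bot
  have hQ'inv : ∀ x ∈ ⁅Q, Q⁆, s * x * s⁻¹ ∈ ⁅Q, Q⁆ := by
    have hmapQ : Q.map (MulAut.conj s).toMonoidHom ≤ Q := by
      rintro x ⟨g, hg, rfl⟩
      exact h.norm g hg
    intro x hx
    have h1 : (MulAut.conj s).toMonoidHom x ∈ (⁅Q, Q⁆).map (MulAut.conj s).toMonoidHom :=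
      Subgroup.mem_map_of_mem _ hx
    rw [Subgroup.map_commutator] at h1
    exact Subgroup.commutator_mono hmapQ hmapQ h1
  have hQ'C : ∀ x ∈ ⁅Q, Q⁆, s * x * s⁻¹ = x := h.sub _ hQ'Q hQ'ne hQ'inv
  have hcomC : ∀ a ∈ Q, ∀ b ∈ Q, a * b * a⁻¹ * b⁻¹ ∈ C := by
    intro a ha b hb
    have h1 : a * b * a⁻¹ * b⁻¹ ∈ ⁅Q, Q⁆ := by
      rw [← commutatorElement_def]
      exact Subgroup.commutator_mem_commutator ha hb
    exact (hmemC _).mpr ⟨hQ'Q h1, hQ'C _ h1⟩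
  -- (c) `C` is normal in `Q`
  have hCnorm : ∀ g ∈ Q, ∀ c ∈ C, g * c * g⁻¹ ∈ C := by
    intro g hg c hc
    have h1 : g * c * g⁻¹ = (g * c * g⁻¹ * c⁻¹) * c := by group
    rw [h1]
    exact C.mul_mem (hcomC g hg c (hCQ hc)) hc
  -- (d) `Q` centralizes `C`
  obtain ⟨D, hDdef⟩ : ∃ D : Subgroup (MulAut V),
      D = Q ⊓ Subgroup.centralizer (C : Set (MulAut V)) := ⟨_, rfl⟩
  have hmemD : ∀ d, d ∈ D ↔ d ∈ Q ∧ ∀ c ∈ C, c * d = d * c := by
    intro d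
    rw [hDdef, Subgroup.mem_inf, Subgroup.mem_centralizer_iff]
    rfl
  have hDQ : D ≤ Q := fun z hz => ((hmemD z).mp hz).1
  have hDinv : ∀ d ∈ D, s * d * s⁻¹ ∈ D := by
    intro d hd
    obtain ⟨hdQ, hdc⟩ := (hmemD d).mp hd
    refine (hmemD _).mpr ⟨h.norm d hdQ, ?_⟩
    intro c hc
    have hc' : s * c * s⁻¹ = c := ((hmemC c).mp hc).2
    calc c * (s * d * s⁻¹) = (s * c * s⁻¹) * (s * d * s⁻¹) := by rw [hc']
      _ = s * (c * d) * s⁻¹ := by group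
      _ = s * (d * c) * s⁻¹ := by rw [hdc c hc]
      _ = (s * d * s⁻¹) * (s * c * s⁻¹) := by group
      _ = (s * d * s⁻¹) * c := by rw [hc']
  have hyD : ∀ g ∈ Q, g⁻¹ * (s * g * s⁻¹) ∈ D := by
    intro g hg
    refine (hmemD _).mpr ⟨Q.mul_mem (Q.inv_mem hg) (h.norm g hg), ?_⟩
    intro c hc
    have hc' : s * c * s⁻¹ = c := ((hmemC c).mp hc).2
    have e2 : s * (g * c * g⁻¹) * s⁻¹ = g * c * g⁻¹ := ((hmemC _).mp (hCnorm g hg c hc)).2
    calc c * (g⁻¹ * (s * g * s⁻¹)) = g⁻¹ * (g * c * g⁻¹) * (s * g * s⁻¹) := by group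
      _ = g⁻¹ * (s * (g * c * g⁻¹) * s⁻¹) * (s * g * s⁻¹) := by rw [e2]
      _ = g⁻¹ * (s * g * s⁻¹) * (s * c * s⁻¹) := by group
      _ = g⁻¹ * (s * g * s⁻¹) * c := by rw [hc']
  have hDeq : D = Q := by
    by_contra hDne
    have hDC := h.sub D hDQ hDne hDinv
    obtain ⟨g, hg, hgne⟩ := h.ce
    apply hgne
    apply conj_eq_of_commute h.hq h.hq3 h.pgrp hs3 hg (h.norm g hg)
    have h1 := hDC _ (hyD g hg)
    calc s * (g⁻¹ * (s * g * s⁻¹)) = (s * (g⁻¹ * (s * g * s⁻¹)) * s⁻¹) * s := by group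
      _ = (g⁻¹ * (s * g * s⁻¹)) * s := by rw [h1]
  have hCZ : ∀ c ∈ C, c ∈ Z := by
    intro c hc
    refine (hmemZ c).mpr ⟨hCQ hc, ?_⟩
    intro g hg
    have hgD : g ∈ D := by rw [hDeq]; exact hg
    exact (((hmemD g).mp hgD).2 c hc).symm
  -- (e) class two
  have hcomZ : ∀ a ∈ Q, ∀ b ∈ Q, a * b * a⁻¹ * b⁻¹ ∈ Z := fun a ha b hb =>
    hCZ _ (hcomC a ha b hb)
  have hZcomm : ∀ z ∈ Z, ∀ g ∈ Q, z * g = g * z := fun z hz g hg =>
    (((hmemZ z).mp hz).2 g hg).symm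
  -- (f) an element `x₀ ∉ Z` with `x₀ ^ q ∈ Z`
  obtain ⟨x₀, hx₀Q, hx₀Z, hx₀q⟩ : ∃ x₀ ∈ Q, x₀ ∉ Z ∧ x₀ ^ q ∈ Z := by
    obtain ⟨g, hg, hgZ⟩ : ∃ g ∈ Q, g ∉ Z := by
      by_contra hno
      push Not at hno
      exact hZne (le_antisymm hZQ hno)
    have hex : ∃ j : ℕ, g ^ (q ^ j) ∈ Z := by
      obtain ⟨k, hk⟩ := h.pgrp ⟨g, hg⟩
      refine ⟨k, ?_⟩
      have : g ^ (q ^ k) = 1 := by
        have := congrArg Subtype.val hk
        simpa using this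
      rw [this]
      exact Z.one_mem
    have hj0 : Nat.find hex ≠ 0 := by
      intro h0
      have := Nat.find_spec hex
      rw [h0, pow_zero, pow_one] at this
      exact hgZ this
    obtain ⟨j, hj⟩ : ∃ j, Nat.find hex = j + 1 := ⟨Nat.find hex - 1, by omega⟩
    refine ⟨g ^ (q ^ j), Q.pow_mem hg _, ?_, ?_⟩
    · exact Nat.find_min hex (by omega)
    · have := Nat.find_spec hex
      rw [hj, pow_succ, pow_mul] at this
      exact this
  -- (g) the element `x`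
  obtain ⟨x, hx⟩ : ∃ x : MulAut V, x = x₀⁻¹ * (s * x₀ * s⁻¹) := ⟨_, rfl⟩
  have hxQ : x ∈ Q := by
    rw [hx]
    exact Q.mul_mem (Q.inv_mem hx₀Q) (h.norm x₀ hx₀Q)
  have hxZ : x ∉ Z := by
    intro hxZ
    apply hx₀Z
    apply hCZ
    refine (hmemC x₀).mpr ⟨hx₀Q, ?_⟩
    apply conj_eq_of_commute h.hq h.hq3 h.pgrp hs3 hx₀Q (h.norm x₀ hx₀Q)
    have h1 := hZC x hxZ
    rw [← hx]
    calc s * x = (s * x * s⁻¹) * s := by group
      _ = x * s := by rw [h1]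
  have hx1 : x * (s * x * s⁻¹) * (s * (s * x * s⁻¹) * s⁻¹) = 1 := by
    rw [hx]
    exact telescope_of_pow_three hs3
  have hxq : x ^ q = 1 := by
    obtain ⟨a, ha⟩ : ∃ a : MulAut V, a = s * x₀ * s⁻¹ := ⟨_, rfl⟩
    obtain ⟨y, hy⟩ : ∃ y : MulAut V, y = x₀⁻¹ := ⟨_, rfl⟩
    obtain ⟨c₀, hc₀⟩ : ∃ c₀ : MulAut V, c₀ = (y * a)⁻¹ * (a * y) := ⟨_, rfl⟩
    have haQ : a ∈ Q := by rw [ha]; exact h.norm x₀ hx₀Q
    have hyQ : y ∈ Q := by rw [hy]; exact Q.inv_mem hx₀Q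
    have hc₀Z : c₀ ∈ Z := by
      have : c₀ = a⁻¹ * y⁻¹ * (a⁻¹)⁻¹ * (y⁻¹)⁻¹ := by rw [hc₀]; group
      rw [this]
      exact hcomZ _ (Q.inv_mem haQ) _ (Q.inv_mem hyQ)
    have hc : a * y = y * a * c₀ := by rw [hc₀]; group
    have hcy : c₀ * y = y * c₀ := hZcomm c₀ hc₀Z y hyQ
    have hca : c₀ * a = a * c₀ := hZcomm c₀ hc₀Z a haQ
    have hyqZ : y ^ q ∈ Z := by
      rw [hy, inv_pow]
      exact Z.inv_mem hx₀q
    have haq : a ^ q = x₀ ^ q := by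
      rw [ha, conj_pow]
      exact hZC _ hx₀q
    have hc₀q : c₀ ^ q = 1 := by
      have h1 := Cfsg.Agent.Lib.H10.CopAut.mul_pow_eq_of_comm hc hcy q
      have h2 : a * y ^ q = y ^ q * a := (hZcomm _ hyqZ a haQ).symm
      rw [h2] at h1
      exact (mul_eq_left.mp h1.symm)
    have hdvd : q ∣ q.choose 2 := by
      apply h.hq.dvd_choose_self (by norm_num)
      have := h.hq.two_le
      have := h.hq2
      omega
    have h3 := Cfsg.Agent.Lib.H10.CopAut.mul_pow_comm2 hc hcy hca q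
    obtain ⟨m, hm⟩ := hdvd
    rw [hm, pow_mul, hc₀q, one_pow, mul_one, haq, hy, inv_pow, inv_mul_cancel] at h3
    rw [hx, ← ha, ← hy]
    rw [hy]
    exact h3
  -- (h) the commutator `c`
  obtain ⟨x₁, hx₁⟩ : ∃ x₁ : MulAut V, x₁ = s * x * s⁻¹ := ⟨_, rfl⟩
  obtain ⟨x₂, hx₂⟩ : ∃ x₂ : MulAut V, x₂ = s * x₁ * s⁻¹ := ⟨_, rfl⟩
  have hx₁Q : x₁ ∈ Q := by rw [hx₁]; exact h.norm x hxQ
  have hx₂Q : x₂ ∈ Q := by rw [hx₂]; exact h.norm x₁ hx₁Q
  have hx₃ : s * x₂ * s⁻¹ = x := by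
    rw [hx₂, hx₁]
    exact conj_conj_conj_of_pow_three hs3 x
  obtain ⟨c, hc⟩ : ∃ c : MulAut V, c = x * x₁ * (x₁ * x)⁻¹ := ⟨_, rfl⟩
  have h2 : x * x₁ = c * (x₁ * x) := by rw [hc]; group
  have hcZ : c ∈ Z := by
    have : c = x * x₁ * x⁻¹ * x₁⁻¹ := by rw [hc]; group
    rw [this]
    exact hcomZ x hxQ x₁ hx₁Q
  have hcx : c * x = x * c := hZcomm c hcZ x hxQ
  have hcx₁ : c * x₁ = x₁ * c := hZcomm c hcZ x₁ hx₁Q
  have hc1 : c ≠ 1 := by
    intro hc1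
    rw [hc1, one_mul] at h2
    -- the centralizer of `x, x₁, x₂` in `Q`
    obtain ⟨B, hBdef⟩ : ∃ B : Subgroup (MulAut V),
        B = Q ⊓ (Subgroup.centralizer ({x} : Set (MulAut V)) ⊓
          (Subgroup.centralizer ({x₁} : Set (MulAut V)) ⊓
            Subgroup.centralizer ({x₂} : Set (MulAut V)))) := ⟨_, rfl⟩
    have hmemB : ∀ b, b ∈ B ↔ b ∈ Q ∧ x * b = b * x ∧ x₁ * b = b * x₁ ∧ x₂ * b = b * x₂ := by
      intro b
      rw [hBdef, Subgroup.mem_inf, Subgroup.mem_inf, Subgroup.mem_inf, mem_centralizer_singleton,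
        mem_centralizer_singleton, mem_centralizer_singleton]
    have hBQ : B ≤ Q := fun z hz => ((hmemB z).mp hz).1
    have h12 : x₁ * x₂ = x₂ * x₁ := by
      rw [hx₂, hx₁]
      have := conj_comm_of_comm s h2
      rw [← hx₁] at this ⊢
      exact this
    have h20 : x₂ * x = x * x₂ := by
      have := conj_comm_of_comm s h12
      rw [← hx₂, hx₃] at this
      exact this
    have hxB : x ∈ B := (hmemB x).mpr ⟨hxQ, rfl, h2.symm, h20⟩
    have hBne : B ≠ Q := by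
      intro e
      apply hxZ
      refine (hmemZ x).mpr ⟨hxQ, ?_⟩
      intro g hg
      have hgB : g ∈ B := by rw [e]; exact hg
      exact (((hmemB g).mp hgB).2.1).symm
    have hBinv : ∀ b ∈ B, s * b * s⁻¹ ∈ B := by
      intro b hb
      obtain ⟨hbQ, hb0, hb1, hb2⟩ := (hmemB b).mp hb
      refine (hmemB _).mpr ⟨h.norm b hbQ, ?_, ?_, ?_⟩
      · have := conj_comm_of_comm s hb2
        rwa [hx₃] at this
      · have := conj_comm_of_comm s hb0
        rwa [← hx₁] at this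
      · have := conj_comm_of_comm s hb1
        rwa [← hx₂] at this
    have h3 := h.sub B hBQ hBne hBinv x hxB
    exact hxZ (hCZ x ((hmemC x).mpr ⟨hxQ, h3⟩))
  have hcq : c ^ q = 1 := by
    have h3 := pow_mul_of_comm h2 hcx q
    rw [hxq, one_mul, mul_one] at h3
    exact (mul_eq_right.mp h3.symm)
  have hcfix : fix1 c = ⊥ := by
    have hNZ : Subgroup.zpowers c ≤ Z := by
      rw [Subgroup.zpowers_le]
      exact hcZ
    have h3 := h.fixG_eq_bot (N := Subgroup.zpowers c) (hNZ.trans hZQ)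
      (by rw [Ne, Subgroup.zpowers_eq_bot]; exact hc1)
      (by
        intro g hg n hn
        have : g * n * g⁻¹ = n := by
          rw [← hZcomm n (hNZ hn) g hg, mul_inv_cancel_right]
        rw [this]
        exact hn)
      (by
        intro n hn
        rw [hZC n (hNZ hn)]
        exact hn)
    rwa [fixG_zpowers] at h3
  have hxfix : fix1 x = ⊥ := by
    refine hh3_core h.cop hs3 h.fix hx1 ?_ hcx hcq hcfix hxq
    rw [← hx₁]
    exact h2
  -- (i) the rank two contradiction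
  have hconj : ∀ m : ℕ, (x₁ ^ m)⁻¹ * x * x₁ ^ m = x * c ^ m := by
    intro m
    induction m with
    | zero => simp
    | succ m ih =>
      have e1 : x₁⁻¹ * x * x₁ = x * c := by
        calc x₁⁻¹ * x * x₁ = x₁⁻¹ * (x * x₁) := by group
          _ = x₁⁻¹ * (c * (x₁ * x)) := by rw [h2]
          _ = x₁⁻¹ * (x₁ * c) * x := by rw [← hcx₁]; group
          _ = c * x := by group
          _ = x * c := hcx
      have hcm : c ^ m * x₁ = x₁ * c ^ m :=
        (Commute.pow_left (show Commute c x₁ from hcx₁) m).eq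
      calc (x₁ ^ (m + 1))⁻¹ * x * x₁ ^ (m + 1)
          = x₁⁻¹ * ((x₁ ^ m)⁻¹ * x * x₁ ^ m) * x₁ := by rw [pow_succ]; group
        _ = x₁⁻¹ * (x * c ^ m) * x₁ := by rw [ih]
        _ = x₁⁻¹ * x * (c ^ m * x₁) := by group
        _ = x₁⁻¹ * x * (x₁ * c ^ m) := by rw [hcm]
        _ = (x₁⁻¹ * x * x₁) * c ^ m := by group
        _ = x * c ^ (m + 1) := by rw [e1, pow_succ', mul_assoc]
  have hxc : x * c = c * x := hcx.symm
  have hfix' : ∀ i j : ZMod q, (i ≠ 0 ∨ j ≠ 0) →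
      (⊤ : Subgroup V) ⊓ fix1 (x ^ i.val * c ^ j.val) = ⊥ := by
    intro i j hij
    rw [top_inf_eq]
    by_cases hi : i = 0
    · have hj : j ≠ 0 := by
        rcases hij with h' | h'
        · exact absurd hi h'
        · exact h'
      rw [hi, ZMod.val_zero, pow_zero, one_mul]
      have e : (c ^ j.val) ^ (j⁻¹).val = c := by
        rw [← pow_mul, ← pow_val_mul' hcq, mul_inv_cancel₀ hj, ZMod.val_one, pow_one]
      rw [eq_bot_iff, ← hcfix]
      conv_rhs => rw [← e]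
      exact fix1_le_fix1_pow _ _
    · obtain ⟨k, hk⟩ : ∃ k : ZMod q, k = j * i⁻¹ := ⟨_, rfl⟩
      obtain ⟨gk, hgk⟩ : ∃ gk : MulAut V, gk = x * c ^ k.val := ⟨_, rfl⟩
      have hgkfix : fix1 gk = ⊥ := by
        rw [hgk, ← hconj k.val]
        have := fix1_conj_eq_bot (g := (x₁ ^ k.val)⁻¹) hxfix
        rwa [inv_inv] at this
      have hcomm : Commute x (c ^ k.val) := Commute.pow_right (show Commute x c from hxc) _
      have hgkq : gk ^ q = 1 := by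
        rw [hgk, hcomm.mul_pow, hxq, one_mul, ← pow_mul, mul_comm, pow_mul, hcq, one_pow]
      have hgki : gk ^ i.val = x ^ i.val * c ^ j.val := by
        rw [hgk, hcomm.mul_pow, ← pow_mul, ← pow_val_mul' hcq, hk, mul_assoc, inv_mul_cancel₀ hi,
          mul_one]
      have e : (gk ^ i.val) ^ (i⁻¹).val = gk := by
        rw [← pow_mul, ← pow_val_mul' hgkq, mul_inv_cancel₀ hi, ZMod.val_one, pow_one]
      rw [← hgki, eq_bot_iff, ← hgkfix]
      conv_rhs => rw [← e]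
      exact fix1_le_fix1_pow _ _
  have htop : (⊤ : Subgroup V) = ⊥ :=
    rank_two_fpf_false (q := q) x c hxc hxq hcq h.cop (fun _ _ => Subgroup.mem_top _)
      (fun _ _ => Subgroup.mem_top _) hfix'
  apply hc1
  ext v
  have hv : v ∈ (⊤ : Subgroup V) := Subgroup.mem_top v
  rw [htop, Subgroup.mem_bot] at hv
  rw [hv, map_one]
  rfl

end MinCE

end Cfsg.Agent.Lib.H20.S3F
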