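import Mathlib
import Cfsg.Agent.Lib.H20.S3F7
import Cfsg.Agent.Lib.H1.Fitting
import Cfsg.Agent.Lib.H7.DihedralLemma2

/-!
# The order three Hall–Higman lemma for `q`-groups and for solvable groups (helper20, S4305)
-/

set_option autoImplicit false
set_option linter.unusedSectionVars false
set_option linter.unusedVariables false
set_option linter.style.haveILetI false

namespace Cfsg.Agent.Lib.H20.S3F

open Subgroup

universe u

theorem hh3_aux (q : ℕ) (hq : q.Prime) (hq2 : q ≠ 2) (hq3 : q ≠ 3) (n : ℕ) :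
    ∀ (V : Type u) [CommGroup V] [Finite V] (Q : Subgroup (MulAut V)) (s : MulAut V),
      Nat.card V + Nat.card Q = n → (Nat.card V).Coprime q → IsPGroup q Q → s ^ 3 = 1 →
      (∀ g ∈ Q, s * g * s⁻¹ ∈ Q) → fix1 s = ⊥ → ∀ g ∈ Q, s * g * s⁻¹ = g := by
  induction n using Nat.strong_induction_on with
  | _ n ih =>
    intro V _ _ Q s hn hcop hQ hs3 hsQ hfix
    by_contra hcon
    push Not at hcon
    have hmin : MinCE q Q s := by
      refine ⟨hq, hq2, hq3, hcop, hQ, hs3, hsQ, hfix, ?_, ?_, hcon⟩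
      · intro Q₀ hle hne hinv
        have hlt := card_lt_of_le_of_ne hle hne
        exact ih (Nat.card V + Nat.card Q₀) (by omega) V Q₀ s rfl hcop (hQ.to_le hle) hs3 hinv
          hfix
      · intro U hU hQU hsU
        have hsU' : s ∈ stabU U := mem_stabU_of_forall hsU
        have hQU' : Q ≤ stabU U := fun g hg => mem_stabU_of_forall (hQU g hg)
        have hlt := card_lt_of_ne_top hU
        have hle := card_resQ_le U Q
        have hcop' : (Nat.card U).Coprime q :=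
          Nat.Coprime.coprime_dvd_left (Subgroup.card_subgroup_dvd_card U) hcop
        have hs3' : (resU U ⟨s, hsU'⟩) ^ 3 = 1 := by
          rw [← map_pow]
          have : (⟨s, hsU'⟩ : stabU U) ^ 3 = 1 := Subtype.ext hs3
          rw [this, map_one]
        have key := ih (Nat.card U + Nat.card (resQ U Q)) (by omega) U (resQ U Q)
          (resU U ⟨s, hsU'⟩) rfl hcop' (isPGroup_resQ hQ) hs3' (res_normalizes hsU' hsQ)
          (fix1_resU_eq_bot hsU' (by rw [hfix, inf_bot_eq]))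
        exact res_conj_eq hQU' hsU' key
    by_cases hc : ∀ a ∈ Q, ∀ b ∈ Q, a * b = b * a
    · exact hmin.false_of_comm hc
    · exact hmin.false_of_not_comm hc

/-- **Hall–Higman type lemma for an automorphism of order three.**  A fixed-point-free
automorphism `s` of order three of a finite abelian group `V` normalizing a `q`-group `Q` of
automorphisms of `V`, `q ≥ 5` prime to `|V|`, centralizes `Q`. -/
theorem hh3 {V : Type u} [CommGroup V] [Finite V] {q : ℕ} (hq : q.Prime) (hq2 : q ≠ 2)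
    (hq3 : q ≠ 3) (hcop : (Nat.card V).Coprime q) {Q : Subgroup (MulAut V)} (hQ : IsPGroup q Q)
    {s : MulAut V} (hs3 : s ^ 3 = 1) (hsQ : ∀ g ∈ Q, s * g * s⁻¹ ∈ Q) (hfix : fix1 s = ⊥) :
    ∀ g ∈ Q, s * g * s⁻¹ = g :=
  hh3_aux q hq hq2 hq3 _ V Q s rfl hcop hQ hs3 hsQ hfix

/-! ### conjugation automorphisms of a subgroup -/

section ConjAut

variable {Γ : Type*} [Group Γ]

/-- conjugation by an element normalizing `H`, as an automorphism of `H` -/
def conjAut (H : Subgroup Γ) (g : Γ) (hg : ∀ h ∈ H, g * h * g⁻¹ ∈ H)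
    (hg' : ∀ h ∈ H, g⁻¹ * h * g ∈ H) : MulAut ↥H where
  toFun h := ⟨g * h * g⁻¹, hg h h.2⟩
  invFun h := ⟨g⁻¹ * h * g, hg' h h.2⟩
  left_inv h := by
    apply Subtype.ext
    show g⁻¹ * (g * h * g⁻¹) * g = h
    group
  right_inv h := by
    apply Subtype.ext
    show g * (g⁻¹ * h * g) * g⁻¹ = h
    group
  map_mul' a b := by
    apply Subtype.ext
    show g * (a * b) * g⁻¹ = (g * a * g⁻¹) * (g * b * g⁻¹)
    group

theorem conjAut_apply (H : Subgroup Γ) (g : Γ) (hg : ∀ h ∈ H, g * h * g⁻¹ ∈ H)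
    (hg' : ∀ h ∈ H, g⁻¹ * h * g ∈ H) (h : ↥H) :
    ((conjAut H g hg hg' h : ↥H) : Γ) = g * h * g⁻¹ := rfl

theorem inv_conj_mem_of_pow_three {H : Subgroup Γ} {s : Γ} (hs3 : s ^ 3 = 1)
    (hsH : ∀ h ∈ H, s * h * s⁻¹ ∈ H) : ∀ h ∈ H, s⁻¹ * h * s ∈ H := by
  intro h hh
  rw [inv_conj_eq_of_pow_three hs3]
  exact hsH _ (hsH h hh)

end ConjAut

/-- **Hall–Higman type lemma for solvable groups.** -/
theorem hh3gen {V : Type u} [CommGroup V] [Finite V] (H : Subgroup (MulAut V))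
    (hHs : Group.IsSolvable ↥H) (hH6 : (Nat.card H).Coprime 6) {s : MulAut V} (hs3 : s ^ 3 = 1)
    (hsH : ∀ h ∈ H, s * h * s⁻¹ ∈ H) (hfix : fix1 s = ⊥)
    (hOp : ∀ r : ℕ, r.Prime → ¬ (Nat.card V).Coprime r → Cfsg.pCore r ↥H = ⊥) :
    ∀ h ∈ H, s * h * s⁻¹ = h := by
  classical
  have hsH' := inv_conj_mem_of_pow_three hs3 hsH
  obtain ⟨e, he⟩ : ∃ e : MulAut ↥H, e = conjAut H s hsH hsH' := ⟨_, rfl⟩
  have he_apply : ∀ x : ↥H, ((e x : ↥H) : MulAut V) = s * x * s⁻¹ := by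
    intro x
    rw [he]
    rfl
  have hH2 : ¬ 2 ∣ Nat.card H := by
    intro h2
    have : 2 ∣ Nat.gcd (Nat.card H) 6 := Nat.dvd_gcd h2 (by norm_num)
    rw [hH6] at this
    omega
  have hH3 : ¬ 3 ∣ Nat.card H := by
    intro h3
    have : 3 ∣ Nat.gcd (Nat.card H) 6 := Nat.dvd_gcd h3 (by norm_num)
    rw [hH6] at this
    omega
  -- Step 1: `s` centralizes each `O_r(H)`
  have hstep1 : ∀ r : Nat.Primes, Cfsg.pCore (r : ℕ) ↥H ≤
      MonoidHom.eqLocus e.toMonoidHom (MonoidHom.id ↥H) := by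
    intro r
    haveI : Fact (r : ℕ).Prime := ⟨r.2⟩
    by_cases hbot : Cfsg.pCore (r : ℕ) ↥H = ⊥
    · rw [hbot]
      exact bot_le
    have hcopr : (Nat.card V).Coprime (r : ℕ) := by
      by_contra hnc
      exact hbot (hOp r r.2 hnc)
    have hrdvd : (r : ℕ) ∣ Nat.card H := by
      by_contra hnd
      exact hbot (Cfsg.Agent.Lib.H1.pCore_eq_bot_of_not_dvd hnd)
    have hr2 : (r : ℕ) ≠ 2 := fun h2 => hH2 (h2 ▸ hrdvd)
    have hr3 : (r : ℕ) ≠ 3 := fun h3 => hH3 (h3 ▸ hrdvd)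
    obtain ⟨Q, hQdef⟩ : ∃ Q : Subgroup (MulAut V), Q = (Cfsg.pCore (r : ℕ) ↥H).map H.subtype :=
      ⟨_, rfl⟩
    have hQp : IsPGroup (r : ℕ) Q := by
      rw [hQdef]
      exact IsPGroup.map (Cfsg.Agent.Lib.H1.pCore_isPGroup (r : ℕ) ↥H) _
    have hchar : ∀ x ∈ Cfsg.pCore (r : ℕ) ↥H, e x ∈ Cfsg.pCore (r : ℕ) ↥H := by
      intro x hx
      have hc := Cfsg.Agent.Lib.H1.pCore_characteristic (r : ℕ) ↥H
      have h1 := (Subgroup.characteristic_iff_map_eq.mp hc) e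
      rw [← h1]
      exact Subgroup.mem_map_of_mem _ hx
    have hsQ : ∀ g ∈ Q, s * g * s⁻¹ ∈ Q := by
      intro g hg
      rw [hQdef] at hg ⊢
      obtain ⟨x, hx, rfl⟩ := hg
      exact ⟨e x, hchar x hx, he_apply x⟩
    have key := hh3 r.2 hr2 hr3 hcopr hQp hs3 hsQ hfix
    intro x hx
    show e.toMonoidHom x = MonoidHom.id ↥H x
    apply Subtype.ext
    show ((e x : ↥H) : MulAut V) = x
    rw [he_apply]
    apply key
    rw [hQdef]
    exact ⟨x, hx, rfl⟩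
  -- Step 2: `s` centralizes the Fitting subgroup
  have hstep2 : Cfsg.fittingSubgroup ↥H ≤ MonoidHom.eqLocus e.toMonoidHom (MonoidHom.id ↥H) := by
    rw [Cfsg.Agent.Lib.H1.fittingSubgroup_eq_iSup_pCore]
    exact iSup_le hstep1
  have hF : ∀ f ∈ (Cfsg.fittingSubgroup ↥H).map H.subtype, s * f * s⁻¹ = f := by
    rintro _ ⟨x, hx, rfl⟩
    have h1 : e.toMonoidHom x = MonoidHom.id ↥H x := hstep2 hx
    have h2 := congrArg Subtype.val h1
    show s * (x : MulAut V) * s⁻¹ = x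
    rw [← he_apply]
    exact h2
  have hFn : ∀ h ∈ H, ∀ f ∈ (Cfsg.fittingSubgroup ↥H).map H.subtype,
      h * f * h⁻¹ ∈ (Cfsg.fittingSubgroup ↥H).map H.subtype := by
    rintro h hh _ ⟨x, hx, rfl⟩
    have hn := Cfsg.Agent.Lib.H1.fittingSubgroup_normal ↥H
    exact ⟨⟨h, hh⟩ * x * ⟨h, hh⟩⁻¹, hn.conj_mem x hx ⟨h, hh⟩, rfl⟩
  -- Step 3
  intro h hh
  obtain ⟨y, hy⟩ : ∃ y : MulAut V, y = h⁻¹ * (s * h * s⁻¹) := ⟨_, rfl⟩
  have hyH : y ∈ H := by
    rw [hy]
    exact H.mul_mem (H.inv_mem hh) (hsH h hh)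
  have hycent : y ∈ Subgroup.centralizer
      (((Cfsg.fittingSubgroup ↥H).map H.subtype : Subgroup (MulAut V)) : Set (MulAut V)) := by
    rw [Subgroup.mem_centralizer_iff]
    intro f hf
    have e1 : s * f * s⁻¹ = f := hF f hf
    have e2 : s * (h * f * h⁻¹) * s⁻¹ = h * f * h⁻¹ := hF _ (hFn h hh f hf)
    calc f * y = h⁻¹ * (h * f * h⁻¹) * (s * h * s⁻¹) := by rw [hy]; group
      _ = h⁻¹ * (s * (h * f * h⁻¹) * s⁻¹) * (s * h * s⁻¹) := by rw [e2]
      _ = h⁻¹ * (s * h * s⁻¹) * (s * f * s⁻¹) := by group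
      _ = y * f := by rw [e1, hy]
  have hyF := Cfsg.Agent.Lib.H7.inf_centralizer_fittingG_le H hHs
    (Subgroup.mem_inf.mpr ⟨hyH, hycent⟩)
  have hsy : s * y * s⁻¹ = y := hF y hyF
  have hcomm : s * (h⁻¹ * (s * h * s⁻¹)) = (h⁻¹ * (s * h * s⁻¹)) * s := by
    rw [← hy]
    calc s * y = (s * y * s⁻¹) * s := by group
      _ = y * s := by rw [hsy]
  have hy3 := pow_three_eq_one_of_commute hs3 hcomm
  rw [← hy] at hy3
  have hy1 : y = 1 := by
    have h1 : orderOf y ∣ 3 := orderOf_dvd_of_pow_eq_one hy3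
    have h2 : orderOf y ∣ Nat.card H := by
      have := orderOf_dvd_natCard (⟨y, hyH⟩ : ↥H)
      rwa [Subgroup.orderOf_mk] at this
    have h3 : orderOf y ∣ Nat.gcd 3 (Nat.card H) := Nat.dvd_gcd h1 h2
    have h4 : Nat.gcd 3 (Nat.card H) = 1 := by
      have := (Nat.Prime.coprime_iff_not_dvd Nat.prime_three).mpr hH3
      exact this
    rw [h4] at h3
    exact orderOf_eq_one_iff.mp (Nat.dvd_one.mp h3)
  rw [hy] at hy1
  exact (inv_mul_eq_one.mp hy1).symm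

end Cfsg.Agent.Lib.H20.S3F
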