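import Mathlib
import Cfsg.Agent.Lib.H20.S3F8
import Cfsg.Agent.Lib.H20.S3F11
import Cfsg.Agent.Lib.H20.S3F12

/-!
# The module theorem: set-up and the case of a fixed-point-free element of order three
(helper20, S4305)
-/

set_option autoImplicit false
set_option linter.unusedSectionVars false
set_option linter.unusedVariables false
set_option linter.style.haveILetI false

namespace Cfsg.Agent.Lib.H20.S3F

open Subgroup

/-! ### the symmetric group of degree three -/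

/-- the three-cycle -/
def σ₀ : Equiv.Perm (Fin 3) := finRotate 3

/-- the transposition -/
def τ₀ : Equiv.Perm (Fin 3) := Equiv.swap 0 1

theorem σ₀_pow : σ₀ ^ 3 = 1 := by decide

theorem τ₀_pow : τ₀ ^ 2 = 1 := by decide

theorem τ₀_mul_σ₀ : τ₀ * σ₀ = σ₀ * σ₀ * τ₀ := by decide

theorem perm_cases : ∀ π : Equiv.Perm (Fin 3), π = 1 ∨ π = σ₀ ∨ π = σ₀ * σ₀ ∨ π = τ₀ ∨
    π = σ₀ * τ₀ ∨ π = σ₀ * σ₀ * τ₀ := by decide

theorem perm_univ : (Finset.univ : Finset (Equiv.Perm (Fin 3))) =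
    {1, σ₀, σ₀ * σ₀, τ₀, σ₀ * τ₀, σ₀ * σ₀ * τ₀} := by decide

/-! ### conjugates of subgroups -/

section Cj

variable {Γ : Type*} [Group Γ]

/-- the conjugate `g K g⁻¹` -/
def cj (g : Γ) (K : Subgroup Γ) : Subgroup Γ := K.map (MulAut.conj g).toMonoidHom

theorem mem_cj {g x : Γ} {K : Subgroup Γ} : x ∈ cj g K ↔ g⁻¹ * x * g ∈ K := by
  constructor
  · rintro ⟨k, hk, rfl⟩
    have : g⁻¹ * ((MulAut.conj g).toMonoidHom k) * g = k := by
      show g⁻¹ * (g * k * g⁻¹) * g = k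
      group
    rw [this]
    exact hk
  · intro h
    refine ⟨g⁻¹ * x * g, h, ?_⟩
    show g * (g⁻¹ * x * g) * g⁻¹ = x
    group

theorem conj_mem_cj {g k : Γ} {K : Subgroup Γ} (hk : k ∈ K) : g * k * g⁻¹ ∈ cj g K :=
  ⟨k, hk, rfl⟩

theorem cj_one (K : Subgroup Γ) : cj 1 K = K := by
  ext x
  rw [mem_cj, inv_one, one_mul, mul_one]

theorem cj_mul (g g' : Γ) (K : Subgroup Γ) : cj (g * g') K = cj g (cj g' K) := by
  ext x
  rw [mem_cj, mem_cj, mem_cj]
  have : (g * g')⁻¹ * x * (g * g') = g'⁻¹ * (g⁻¹ * x * g) * g' := by group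
  rw [this]

theorem cj_eq_self_of_mem {g : Γ} {K : Subgroup Γ} (hg : g ∈ K) : cj g K = K := by
  ext x
  rw [mem_cj]
  constructor
  · intro h
    have : x = g * (g⁻¹ * x * g) * g⁻¹ := by group
    rw [this]
    exact K.mul_mem (K.mul_mem hg h) (K.inv_mem hg)
  · intro h
    exact K.mul_mem (K.mul_mem (K.inv_mem hg) h) hg

theorem cj_inv_of_eq {g : Γ} {K : Subgroup Γ} (h : cj g K = K) : cj g⁻¹ K = K := by
  conv_lhs => rw [← h]
  rw [← cj_mul, inv_mul_cancel, cj_one]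

theorem cj_mul_of_eq {g g' : Γ} {K : Subgroup Γ} (h : cj g K = K) (h' : cj g' K = K) :
    cj (g * g') K = K := by
  rw [cj_mul, h', h]

theorem cj_pow_of_eq {g : Γ} {K : Subgroup Γ} (h : cj g K = K) (n : ℕ) : cj (g ^ n) K = K := by
  induction n with
  | zero => rw [pow_zero, cj_one]
  | succ n ih => rw [pow_succ, cj_mul, h, ih]

theorem cj_eq_of_forall {g : Γ} {K : Subgroup Γ} (h : ∀ k ∈ K, g * k * g⁻¹ ∈ K)
    (h' : ∀ k ∈ K, g⁻¹ * k * g ∈ K) : cj g K = K :=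
  map_conj_eq_of_forall h h'

theorem cj_le_of_forall {g : Γ} {K L : Subgroup Γ} (h : ∀ k ∈ K, g * k * g⁻¹ ∈ L) :
    cj g K ≤ L := by
  rintro x ⟨k, hk, rfl⟩
  exact h k hk

theorem cj_mono {g : Γ} {K L : Subgroup Γ} (h : K ≤ L) : cj g K ≤ cj g L :=
  Subgroup.map_mono h

theorem cj_injective (g : Γ) {K L : Subgroup Γ} (h : cj g K = cj g L) : K = L :=
  Subgroup.map_injective (MulAut.conj g).injective h

end Cj

variable {V : Type*} [CommGroup V] [Finite V]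

theorem apply_mem_fixG_cj {K : Subgroup (MulAut V)} (g : MulAut V) {v : V} (hv : v ∈ fixG K) :
    g v ∈ fixG (cj g K) := by
  apply apply_mem_fixG (K := K) (L := cj g K) _ hv
  intro l hl
  exact mem_cj.mp hl

theorem fixG_cj_ne_bot {K : Subgroup (MulAut V)} (g : MulAut V) (h : fixG K ≠ ⊥) :
    fixG (cj g K) ≠ ⊥ := by
  intro hb
  apply h
  rw [eq_bot_iff]
  intro v hv
  have h1 := apply_mem_fixG_cj g hv
  rw [hb, Subgroup.mem_bot] at h1
  rw [Subgroup.mem_bot]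
  have := congrArg (g⁻¹ : MulAut V) h1
  rwa [MulAut.inv_apply_self, map_one] at this

theorem IsHyp.cj {M K : Subgroup (MulAut V)} (hK : IsHyp M K) (g : MulAut V)
    (hg : cj g M = M) : IsHyp M (cj g K) :=
  hK.map_conj g hg

/-- a `p`-group of automorphisms of a nontrivial `p`-group has nontrivial fixed points -/
theorem fixG_ne_bot_of_isPGroup {p : ℕ} (hp : p.Prime) (hV : IsPGroup p V)
    (hVne : (⊤ : Subgroup V) ≠ ⊥) {P : Subgroup (MulAut V)} (hP : IsPGroup p P) :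
    fixG P ≠ ⊥ := by
  haveI : Fact p.Prime := ⟨hp⟩
  obtain ⟨n, hn⟩ := IsPGroup.iff_card.mp hV
  have hn0 : n ≠ 0 := by
    rintro rfl
    rw [pow_zero] at hn
    apply hVne
    have : Subsingleton V := (Nat.card_eq_one_iff_unique.mp hn).1
    exact Subsingleton.elim _ _
  have hdvd : p ∣ Nat.card V := by
    rw [hn]
    exact dvd_pow_self p hn0
  have h1 : (1 : V) ∈ MulAction.fixedPoints ↥P V := by
    intro g
    show (g : MulAut V) 1 = 1
    exact map_one _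
  obtain ⟨b, hb, hne⟩ := hP.exists_fixed_point_of_prime_dvd_card_of_fixed_point V hdvd h1
  intro hbot
  apply hne
  have hb' : b ∈ fixG P := by
    intro k hk
    exact hb ⟨k, hk⟩
  rw [hbot, Subgroup.mem_bot] at hb'
  exact hb'.symm

/-! ### the context of the module theorem -/

/-- the hypotheses of the module theorem -/
structure MTH (α : Equiv.Perm (Fin 3) →* MulAut V) (H : Subgroup (MulAut V)) : Prop where
  nH : ∀ π, ∀ h ∈ H, α π * h * (α π)⁻¹ ∈ H
  solv : Group.IsSolvable ↥H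
  cop : (Nat.card H).Coprime 6
  copV : (Nat.card V).Coprime 6
  fixH : ∀ h ∈ H, (∀ π, α π * h * (α π)⁻¹ = h) → h = 1
  fixV : ∀ v : V, (∀ π, α π v = v) → v = 1
  irr : ∀ U : Subgroup V, (∀ h ∈ H, ∀ u ∈ U, h u ∈ U) → (∀ π, ∀ u ∈ U, α π u ∈ U) →
    U = ⊥ ∨ U = ⊤
  pV : ∃ p, p.Prime ∧ IsPGroup p V
  ntV : (⊤ : Subgroup V) ≠ ⊥

namespace MTH

variable {α : Equiv.Perm (Fin 3) →* MulAut V} {H : Subgroup (MulAut V)}

theorem s3 (α : Equiv.Perm (Fin 3) →* MulAut V) : (α σ₀) ^ 3 = 1 := by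
  rw [← map_pow, σ₀_pow, map_one]

theorem t2 (α : Equiv.Perm (Fin 3) →* MulAut V) : (α τ₀) ^ 2 = 1 := by
  rw [← map_pow, τ₀_pow, map_one]

theorem ts (α : Equiv.Perm (Fin 3) →* MulAut V) : α τ₀ * α σ₀ = α σ₀ * α σ₀ * α τ₀ := by
  rw [← map_mul, ← map_mul, ← map_mul, τ₀_mul_σ₀]

theorem nH' (h : MTH α H) : ∀ π, ∀ x ∈ H, (α π)⁻¹ * x * α π ∈ H := by
  intro π x hx
  have := h.nH π⁻¹ x hx
  rwa [map_inv, inv_inv] at this

/-- fixed by `s` and `t` implies fixed by everything -/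
theorem forall_of_two {P : Equiv.Perm (Fin 3) → Prop} (h1 : P 1)
    (hmul : ∀ π ρ, P π → P ρ → P (π * ρ)) (hs : P σ₀) (ht : P τ₀) : ∀ π, P π := by
  intro π
  rcases perm_cases π with rfl | rfl | rfl | rfl | rfl | rfl
  · exact h1
  · exact hs
  · exact hmul _ _ hs hs
  · exact ht
  · exact hmul _ _ hs ht
  · exact hmul _ _ (hmul _ _ hs hs) ht

theorem fixH' (h : MTH α H) {x : MulAut V} (hx : x ∈ H) (hs : α σ₀ * x * (α σ₀)⁻¹ = x)
    (ht : α τ₀ * x * (α τ₀)⁻¹ = x) : x = 1 := by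
  apply h.fixH x hx
  apply forall_of_two (P := fun π => α π * x * (α π)⁻¹ = x)
  · rw [map_one, one_mul, inv_one, mul_one]
  · intro π ρ hπ hρ
    rw [map_mul]
    calc α π * α ρ * x * (α π * α ρ)⁻¹ = α π * (α ρ * x * (α ρ)⁻¹) * (α π)⁻¹ := by group
      _ = x := by rw [hρ, hπ]
  · exact hs
  · exact ht

theorem fixV' (h : MTH α H) {v : V} (hs : α σ₀ v = v) (ht : α τ₀ v = v) : v = 1 := by
  apply h.fixV v
  apply forall_of_two (P := fun π => α π v = v)
  · rw [map_one]; rfl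
  · intro π ρ hπ hρ
    rw [map_mul, MulAut.mul_apply, hρ, hπ]
  · exact hs
  · exact ht

/-- a subgroup of `H` invariant under all automorphisms of `H` is normalized by `H` and `α` -/
theorem conj_mem_of_char (h : MTH α H) {P : Subgroup ↥H} (hP : ∀ φ : MulAut ↥H, ∀ x ∈ P, φ x ∈ P)
    {g : MulAut V} (hg : ∀ x ∈ H, g * x * g⁻¹ ∈ H) (hg' : ∀ x ∈ H, g⁻¹ * x * g ∈ H) :
    ∀ x ∈ P.map H.subtype, g * x * g⁻¹ ∈ P.map H.subtype := by
  rintro _ ⟨x, hx, rfl⟩
  exact ⟨conjAut H g hg hg' x, hP _ x hx, rfl⟩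

theorem conj_mem_H (h : MTH α H) {g : MulAut V} (hg : g ∈ H) : ∀ x ∈ H, g * x * g⁻¹ ∈ H :=
  fun x hx => H.mul_mem (H.mul_mem hg hx) (H.inv_mem hg)

theorem conj_mem_H' (h : MTH α H) {g : MulAut V} (hg : g ∈ H) : ∀ x ∈ H, g⁻¹ * x * g ∈ H :=
  fun x hx => H.mul_mem (H.mul_mem (H.inv_mem hg) hx) hg

/-- the fixed points of a subgroup normalized by `H` and `α` are everything or nothing -/
theorem fixG_eq_bot_of_normalized (h : MTH α H) {P : Subgroup (MulAut V)} (hPne : P ≠ ⊥)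
    (hPH : ∀ g ∈ H, ∀ x ∈ P, g⁻¹ * x * g ∈ P) (hPα : ∀ π, ∀ x ∈ P, (α π)⁻¹ * x * α π ∈ P) :
    fixG P = ⊥ := by
  rcases h.irr (fixG P) (fun g hg u hu => apply_mem_fixG (hPH g hg) hu)
    (fun π u hu => apply_mem_fixG (hPα π) hu) with h1 | h1
  · exact h1
  · exact absurd h1 (fixG_ne_top hPne)

/-- **Step A.**  If the element of order three acts fixed-point-freely then `H` is abelian. -/
theorem comm_of_fix1 (h : MTH α H) (hfix : fix1 (α σ₀) = ⊥) : ∀ a ∈ H, ∀ b ∈ H, a * b = b * a := by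
  obtain ⟨p, hp, hpV⟩ := h.pV
  haveI : Fact p.Prime := ⟨hp⟩
  have hOp : ∀ r : ℕ, r.Prime → ¬ (Nat.card V).Coprime r → Cfsg.pCore r ↥H = ⊥ := by
    intro r hr hnc
    obtain ⟨n, hn⟩ := IsPGroup.iff_card.mp hpV
    have hrp : r = p := by
      by_contra hne
      apply hnc
      rw [hn]
      exact Nat.Coprime.pow_left n ((Nat.coprime_primes hp hr).mpr (Ne.symm hne))
    subst hrp
    by_contra hne
    have hchar : ∀ φ : MulAut ↥H, ∀ x ∈ Cfsg.pCore r ↥H, φ x ∈ Cfsg.pCore r ↥H :=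
      fun φ x hx => char_apply_mem (Cfsg.Agent.Lib.H1.pCore_characteristic r ↥H) φ hx
    have hPne : (Cfsg.pCore r ↥H).map H.subtype ≠ ⊥ := by
      intro hb
      apply hne
      exact (Subgroup.map_eq_bot_iff_of_injective _ H.subtype_injective).mp hb
    have hPp : IsPGroup r ((Cfsg.pCore r ↥H).map H.subtype) :=
      IsPGroup.map (Cfsg.Agent.Lib.H1.pCore_isPGroup r ↥H) _
    have h1 := h.fixG_eq_bot_of_normalized hPne
      (fun g hg => h.conj_mem_of_char hchar (h.conj_mem_H' hg) (by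
        intro x hx
        rw [inv_inv]
        exact h.conj_mem_H hg x hx))
      (fun π => h.conj_mem_of_char hchar (h.nH' π) (by
        intro x hx
        rw [inv_inv]
        exact h.nH π x hx))
    exact fixG_ne_bot_of_isPGroup hp hpV h.ntV hPp h1
  have hs := hh3gen H h.solv h.cop (s3 α) (h.nH σ₀) hfix hOp
  -- `t` acts fixed-point-freely on `H`
  obtain ⟨τH, hτH⟩ : ∃ τH : MulAut ↥H, τH = conjAut H (α τ₀) (h.nH τ₀) (h.nH' τ₀) := ⟨_, rfl⟩
  have hτH_apply : ∀ x : ↥H, ((τH x : ↥H) : MulAut V) = α τ₀ * x * (α τ₀)⁻¹ := by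
    intro x
    rw [hτH]
    rfl
  have hfpf : MonoidHom.FixedPointFree τH := by
    intro x hx
    have h1 : α τ₀ * (x : MulAut V) * (α τ₀)⁻¹ = x := by
      rw [← hτH_apply, hx]
    exact Subtype.ext (h.fixH' x.2 (hs x x.2) h1)
  have hinv : Function.Involutive τH := by
    intro x
    apply Subtype.ext
    rw [hτH_apply, hτH_apply]
    have h2 : α τ₀ * α τ₀ = 1 := by rw [← pow_two]; exact t2 α
    calc α τ₀ * (α τ₀ * (x : MulAut V) * (α τ₀)⁻¹) * (α τ₀)⁻¹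
        = (α τ₀ * α τ₀) * x * (α τ₀ * α τ₀)⁻¹ := by group
      _ = x := by rw [h2, inv_one, one_mul, mul_one]
  intro a ha b hb
  have := hfpf.commute_all_of_involutive hinv ⟨a, ha⟩ ⟨b, hb⟩
  exact congrArg Subtype.val this.eq

end MTH

end Cfsg.Agent.Lib.H20.S3F
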