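import Mathlib
import Cfsg.Agent.Lib.H20.S3F13

/-!
# The module theorem: the elementary abelian normal subgroup and transitivity (helper20, S4305)
-/

set_option autoImplicit false
set_option linter.unusedSectionVars false
set_option linter.unusedVariables false
set_option linter.style.haveILetI false

namespace Cfsg.Agent.Lib.H20.S3F

open Subgroup

/-- a nontrivial finite solvable group has a nontrivial elementary abelian subgroup invariant
under all automorphisms -/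
theorem exists_char_elem_abelian (H : Type*) [Group H] [Finite H] [Group.IsSolvable H]
    [Nontrivial H] :
    ∃ (q : ℕ) (M : Subgroup H), q.Prime ∧ q ∣ Nat.card H ∧ M ≠ ⊥ ∧
      (∀ a ∈ M, ∀ b ∈ M, a * b = b * a) ∧ (∀ a ∈ M, a ^ q = 1) ∧
      ∀ φ : MulAut H, ∀ x ∈ M, φ x ∈ M := by
  obtain ⟨N, hNchar, hNne, hNab⟩ := exists_char_abelian H
  have hN1 : 1 < Nat.card N := (Subgroup.one_lt_card_iff_ne_bot (H := N)).mpr hNne
  obtain ⟨q, hq⟩ : ∃ q : ℕ, q = (Nat.card N).minFac := ⟨_, rfl⟩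
  have hqp : q.Prime := by
    rw [hq]
    exact Nat.minFac_prime (by omega)
  have hqd : q ∣ Nat.card N := by
    rw [hq]
    exact Nat.minFac_dvd _
  haveI : Fact q.Prime := ⟨hqp⟩
  obtain ⟨x, hx⟩ := exists_prime_orderOf_dvd_card' q hqd
  let M : Subgroup H :=
    { carrier := {y | y ∈ N ∧ y ^ q = 1}
      mul_mem' := by
        intro a b ha hb
        refine ⟨N.mul_mem ha.1 hb.1, ?_⟩
        rw [(show Commute a b from hNab a ha.1 b hb.1).mul_pow, ha.2, hb.2, one_mul]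
      one_mem' := ⟨N.one_mem, one_pow q⟩
      inv_mem' := by
        intro a ha
        exact ⟨N.inv_mem ha.1, by rw [inv_pow, ha.2, inv_one]⟩ }
  refine ⟨q, M, hqp, hqd.trans (Subgroup.card_subgroup_dvd_card N), ?_, ?_, ?_, ?_⟩
  · intro hM
    have hxM : (x : H) ∈ M := by
      refine ⟨x.2, ?_⟩
      have h1 : x ^ q = 1 := by rw [← hx]; exact pow_orderOf_eq_one x
      have := congrArg Subtype.val h1
      simpa using this
    rw [hM, Subgroup.mem_bot] at hxM
    have hx1 : x = 1 := Subtype.ext hxM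
    rw [hx1, orderOf_one] at hx
    exact hqp.one_lt.ne hx
  · intro a ha b hb
    exact hNab a ha.1 b hb.1
  · intro a ha
    exact ha.2
  · intro φ y hy
    exact ⟨char_apply_mem hNchar φ hy.1, by rw [← map_pow, hy.2, map_one]⟩

variable {V : Type*} [CommGroup V] [Finite V]

/-- `g` normalizes `H` -/
def NrmH (H : Subgroup (MulAut V)) (g : MulAut V) : Prop :=
  (∀ x ∈ H, g * x * g⁻¹ ∈ H) ∧ (∀ x ∈ H, g⁻¹ * x * g ∈ H)

theorem NrmH.of_mem {H : Subgroup (MulAut V)} {g : MulAut V} (hg : g ∈ H) : NrmH H g :=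
  ⟨fun x hx => H.mul_mem (H.mul_mem hg hx) (H.inv_mem hg),
    fun x hx => H.mul_mem (H.mul_mem (H.inv_mem hg) hx) hg⟩

theorem NrmH.mul {H : Subgroup (MulAut V)} {g g' : MulAut V} (hg : NrmH H g) (hg' : NrmH H g') :
    NrmH H (g * g') := by
  constructor
  · intro x hx
    have : g * g' * x * (g * g')⁻¹ = g * (g' * x * g'⁻¹) * g⁻¹ := by group
    rw [this]
    exact hg.1 _ (hg'.1 x hx)
  · intro x hx
    have : (g * g')⁻¹ * x * (g * g') = g'⁻¹ * (g⁻¹ * x * g) * g' := by group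
    rw [this]
    exact hg'.2 _ (hg.2 x hx)

theorem NrmH.inv {H : Subgroup (MulAut V)} {g : MulAut V} (hg : NrmH H g) : NrmH H g⁻¹ :=
  ⟨fun x hx => by rw [inv_inv]; exact hg.2 x hx, fun x hx => by rw [inv_inv]; exact hg.1 x hx⟩

theorem MTH.nrmH {α : Equiv.Perm (Fin 3) →* MulAut V} {H : Subgroup (MulAut V)} (h : MTH α H)
    (π : Equiv.Perm (Fin 3)) : NrmH H (α π) :=
  ⟨h.nH π, h.nH' π⟩

/-- the data of the chosen elementary abelian normal subgroup -/
structure MData (H : Subgroup (MulAut V)) (q : ℕ) (M : Subgroup (MulAut V)) : Prop where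
  hd : HD q M
  le : M ≤ H
  ne : M ≠ ⊥
  q2 : q ≠ 2
  cjM : ∀ g : MulAut V, NrmH H g → cj g M = M

theorem MTH.exists_MData {α : Equiv.Perm (Fin 3) →* MulAut V} {H : Subgroup (MulAut V)}
    (h : MTH α H) (hH : H ≠ ⊥) : ∃ (q : ℕ) (M : Subgroup (MulAut V)), MData H q M := by
  haveI := h.solv
  haveI : Nontrivial ↥H := (Subgroup.nontrivial_iff_ne_bot H).mpr hH
  obtain ⟨q, M', hqp, hqd, hM'ne, hM'ab, hM'exp, hM'char⟩ := exists_char_elem_abelian ↥H
  obtain ⟨M, hM⟩ : ∃ M : Subgroup (MulAut V), M = M'.map H.subtype := ⟨_, rfl⟩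
  have hMle : M ≤ H := by
    rw [hM]
    exact Subgroup.map_subtype_le M'
  have hMne : M ≠ ⊥ := by
    intro hb
    apply hM'ne
    rw [hM] at hb
    exact (Subgroup.map_eq_bot_iff_of_injective _ H.subtype_injective).mp hb
  have hconj : ∀ g : MulAut V, NrmH H g → ∀ x ∈ M, g * x * g⁻¹ ∈ M := by
    intro g hg
    rw [hM]
    exact h.conj_mem_of_char hM'char hg.1 hg.2
  have hcjM : ∀ g : MulAut V, NrmH H g → cj g M = M := by
    intro g hg
    apply cj_eq_of_forall (hconj g hg)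
    intro x hx
    have := hconj g⁻¹ hg.inv x hx
    rwa [inv_inv] at this
  have hq2 : q ≠ 2 := by
    rintro rfl
    exact (not_dvd_of_coprime_six h.cop).1 hqd
  have hcomm : ∀ x ∈ M, ∀ y ∈ M, x * y = y * x := by
    rw [hM]
    rintro _ ⟨x, hx, rfl⟩ _ ⟨y, hy, rfl⟩
    have := hM'ab x hx y hy
    exact congrArg Subtype.val this
  have hexp : ∀ x ∈ M, x ^ q = 1 := by
    rw [hM]
    rintro _ ⟨x, hx, rfl⟩
    have := hM'exp x hx
    have h2 := congrArg Subtype.val this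
    simpa using h2
  -- fixed points
  have hfix : fixG M = ⊥ := by
    apply h.fixG_eq_bot_of_normalized hMne
    · intro g hg x hx
      have := hconj g⁻¹ (NrmH.of_mem hg).inv x hx
      rwa [inv_inv] at this
    · intro π x hx
      have := hconj (α π)⁻¹ (h.nrmH π).inv x hx
      rwa [inv_inv] at this
  -- coprimality
  have hcop : (Nat.card V).Coprime q := by
    obtain ⟨p, hp, hpV⟩ := h.pV
    haveI : Fact p.Prime := ⟨hp⟩
    obtain ⟨n, hn⟩ := IsPGroup.iff_card.mp hpV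
    by_contra hnc
    have hqp' : q = p := by
      by_contra hne
      apply hnc
      rw [hn]
      exact Nat.Coprime.pow_left n ((Nat.coprime_primes hp hqp).mpr (Ne.symm hne))
    subst hqp'
    have hMp : IsPGroup q M := by
      intro x
      refine ⟨1, ?_⟩
      apply Subtype.ext
      rw [pow_one]
      simpa using hexp x x.2
    exact fixG_ne_bot_of_isPGroup hp hpV h.ntV hMp hfix
  exact ⟨q, M, ⟨hqp, hcomm, hexp, hcop, hfix⟩, hMle, hMne, hq2, hcjM⟩

/-- the hyperplanes with nontrivial fixed points -/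
def Om (M K : Subgroup (MulAut V)) : Prop := IsHyp M K ∧ fixG K ≠ ⊥

theorem Om.cj {M K : Subgroup (MulAut V)} (hK : Om M K) {g : MulAut V} (hg : cj g M = M) :
    Om M (Cfsg.Agent.Lib.H20.S3F.cj g K) :=
  ⟨hK.1.cj g hg, fixG_cj_ne_bot g hK.2⟩

/-- **Transitivity** of `H ⋊ S₃` on the hyperplanes with nontrivial fixed points -/
theorem MTH.trans {α : Equiv.Perm (Fin 3) →* MulAut V} {H : Subgroup (MulAut V)} (h : MTH α H)
    {q : ℕ} {M : Subgroup (MulAut V)} (d : MData H q M) {K K' : Subgroup (MulAut V)}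
    (hK : Om M K) (hK' : Om M K') : ∃ x ∈ H, ∃ π, K' = cj (x * α π) K := by
  classical
  by_contra hcon
  obtain ⟨S, hS⟩ : ∃ S : Set (Subgroup (MulAut V)),
      S = {K'' | ∃ x ∈ H, ∃ π, K'' = cj (x * α π) K} := ⟨_, rfl⟩
  have hmemS : ∀ K'', K'' ∈ S ↔ ∃ x ∈ H, ∃ π, K'' = cj (x * α π) K := by
    intro K''
    rw [hS]
    rfl
  have hK'S : K' ∉ S := fun hmem => hcon ((hmemS K').mp hmem)
  have hShyp : ∀ K'' ∈ S, IsHyp M K'' := by
    intro K'' hK''
    obtain ⟨x, hx, π, rfl⟩ := (hmemS K'').mp hK''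
    exact hK.1.cj _ (d.cjM _ ((NrmH.of_mem hx).mul (h.nrmH π)))
  have hind := d.hd.indep hK'.1 S hShyp hK'S
  -- the sum is invariant
  have hUH : ∀ g ∈ H, ∀ u ∈ ⨆ K'' ∈ S, fixG K'', g u ∈ ⨆ K'' ∈ S, fixG K'' := by
    intro g hg u hu
    have hle : (⨆ K'' ∈ S, fixG K'') ≤ (⨆ K'' ∈ S, fixG K'').comap (g : V ≃* V).toMonoidHom := by
      refine iSup₂_le ?_
      intro K'' hK'' v hv
      obtain ⟨x, hx, π, rfl⟩ := (hmemS K'').mp hK''
      rw [Subgroup.mem_comap]
      have h1 : g v ∈ fixG (cj g (cj (x * α π) K)) := apply_mem_fixG_cj g hv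
      have h2 : cj g (cj (x * α π) K) ∈ S := by
        refine (hmemS _).mpr ⟨g * x, H.mul_mem hg hx, π, ?_⟩
        rw [← cj_mul, mul_assoc]
      exact Subgroup.mem_iSup_of_mem _ (Subgroup.mem_iSup_of_mem h2 h1)
    exact hle hu
  have hUα : ∀ ρ, ∀ u ∈ ⨆ K'' ∈ S, fixG K'', α ρ u ∈ ⨆ K'' ∈ S, fixG K'' := by
    intro ρ u hu
    have hle : (⨆ K'' ∈ S, fixG K'') ≤
        (⨆ K'' ∈ S, fixG K'').comap ((α ρ : MulAut V) : V ≃* V).toMonoidHom := by
      refine iSup₂_le ?_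
      intro K'' hK'' v hv
      obtain ⟨x, hx, π, rfl⟩ := (hmemS K'').mp hK''
      rw [Subgroup.mem_comap]
      have h1 : α ρ v ∈ fixG (cj (α ρ) (cj (x * α π) K)) := apply_mem_fixG_cj (α ρ) hv
      have h2 : cj (α ρ) (cj (x * α π) K) ∈ S := by
        refine (hmemS _).mpr ⟨α ρ * x * (α ρ)⁻¹, h.nH ρ x hx, ρ * π, ?_⟩
        rw [← cj_mul, map_mul]
        congr 1
        group
      exact Subgroup.mem_iSup_of_mem _ (Subgroup.mem_iSup_of_mem h2 h1)
    exact hle hu
  have hKS : K ∈ S := by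
    refine (hmemS K).mpr ⟨1, H.one_mem, 1, ?_⟩
    rw [map_one, mul_one, cj_one]
  rcases h.irr _ hUH hUα with hbot | htop
  · apply hK.2
    rw [eq_bot_iff, ← hbot]
    exact le_iSup₂_of_le K hKS le_rfl
  · rw [htop, inf_top_eq] at hind
    exact hK'.2 hind

end Cfsg.Agent.Lib.H20.S3F
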