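import Mathlib
import Cfsg.Agent.Lib.H20.S3F14

/-!
# The module theorem: the orbit product (helper20, S4305)
-/

set_option autoImplicit false
set_option linter.unusedSectionVars false
set_option linter.unusedVariables false
set_option linter.style.haveILetI false

namespace Cfsg.Agent.Lib.H20.S3F

open Subgroup

variable {V : Type*} [CommGroup V] [Finite V]

theorem conj_mem_of_cj_eq {K : Subgroup (MulAut V)} {g : MulAut V} (h : cj g K = K)
    {k : MulAut V} (hk : k ∈ K) : g * k * g⁻¹ ∈ K := by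
  rw [← h]
  exact conj_mem_cj hk

theorem inv_conj_mem_of_cj_eq {K : Subgroup (MulAut V)} {g : MulAut V} (h : cj g K = K)
    {k : MulAut V} (hk : k ∈ K) : g⁻¹ * k * g ∈ K := by
  rw [← h] at hk
  exact mem_cj.mp hk

namespace MTH

variable {α : Equiv.Perm (Fin 3) →* MulAut V} {H : Subgroup (MulAut V)}

/-- the orbit product is trivial -/
theorem prod_alpha_eq_one (h : MTH α H) (v : V) : ∏ π : Equiv.Perm (Fin 3), α π v = 1 := by
  apply h.fixV
  intro ρ
  rw [map_prod]
  exact Fintype.prod_equiv (Equiv.mulLeft ρ) (fun π => α ρ (α π v)) (fun π => α π v)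
    (fun π => by
      show α ρ (α π v) = α (ρ * π) v
      rw [map_mul, MulAut.mul_apply])

theorem stab_mul {K : Subgroup (MulAut V)} {π ρ : Equiv.Perm (Fin 3)} (h1 : cj (α π) K = K)
    (h2 : cj (α ρ) K = K) : cj (α (π * ρ)) K = K := by
  rw [map_mul]
  exact cj_mul_of_eq h1 h2

theorem stab_one (K : Subgroup (MulAut V)) : cj (α 1) K = K := by
  rw [map_one, cj_one]

variable {q : ℕ} {M : Subgroup (MulAut V)}

/-- evaluation of the trace on a translate -/
theorem trK_alpha (h : MTH α H) (d : MData H q M) {K : Subgroup (MulAut V)} (hK : IsHyp M K)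
    {v : V} (hv : v ∈ fixG K) (π : Equiv.Perm (Fin 3)) [Decidable (cj (α π) K = K)] :
    trK K (α π v) = if cj (α π) K = K then (α π v) ^ Nat.card K else 1 := by
  have h1 : α π v ∈ fixG (cj (α π) K) := apply_mem_fixG_cj (α π) hv
  split_ifs with hc
  · rw [hc] at h1
    exact trK_of_mem K h1
  · exact d.hd.trK_eq_one hK (hK.cj (α π) (d.cjM _ (h.nrmH π))) (Ne.symm hc) h1

/-- **the orbit product**, expanded -/
theorem orbit_prod (h : MTH α H) (d : MData H q M) {K : Subgroup (MulAut V)} (hK : IsHyp M K)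
    {v : V} (hv : v ∈ fixG K) (E : Equiv.Perm (Fin 3) → V)
    (hE : ∀ π, E π = trK K (α π v)) :
    E 1 * (E σ₀ * (E (σ₀ * σ₀) * (E τ₀ * (E (σ₀ * τ₀) * E (σ₀ * σ₀ * τ₀))))) = 1 := by
  have h1 : trK K (∏ π : Equiv.Perm (Fin 3), α π v) = 1 := by
    rw [h.prod_alpha_eq_one v, map_one]
  rw [map_prod] at h1
  have h2 : ∏ π : Equiv.Perm (Fin 3), E π = 1 := by
    rw [← h1]
    exact Finset.prod_congr rfl (fun π _ => hE π)
  rw [perm_univ] at h2
  rw [Finset.prod_insert (by decide), Finset.prod_insert (by decide),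
    Finset.prod_insert (by decide), Finset.prod_insert (by decide),
    Finset.prod_insert (by decide), Finset.prod_singleton] at h2
  exact h2

/-- every hyperplane with nontrivial fixed points has a nontrivial stabilizer in `S₃` -/
theorem exists_stab (h : MTH α H) (d : MData H q M) {K : Subgroup (MulAut V)} (hK : Om M K) :
    ∃ π : Equiv.Perm (Fin 3), π ≠ 1 ∧ cj (α π) K = K := by
  classical
  by_contra hcon
  push Not at hcon
  apply hK.2
  rw [eq_bot_iff]
  intro v hv
  rw [Subgroup.mem_bot]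
  have h1 := h.orbit_prod d hK.1 hv (fun π => trK K (α π v)) (fun π => rfl)
  simp only [h.trK_alpha d hK.1 hv] at h1
  rw [if_pos (stab_one K), if_neg (hcon σ₀ (by decide)), if_neg (hcon (σ₀ * σ₀) (by decide)),
    if_neg (hcon τ₀ (by decide)), if_neg (hcon (σ₀ * τ₀) (by decide)),
    if_neg (hcon (σ₀ * σ₀ * τ₀) (by decide)), map_one] at h1
  simp only [mul_one] at h1
  have h2 : v ^ Nat.card K = 1 := h1
  exact eq_one_of_pow_eq_one (d.hd.card_coprime hK.1.1) h2

/-- stabilizer of order three: the norm of `s` is trivial on the fixed points -/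
theorem norm_s_of_stab (h : MTH α H) (d : MData H q M) {K : Subgroup (MulAut V)} (hK : IsHyp M K)
    (hs : cj (α σ₀) K = K)
    (hodd : ∀ π : Equiv.Perm (Fin 3), Equiv.Perm.sign π = -1 → cj (α π) K ≠ K) {v : V}
    (hv : v ∈ fixG K) : v * α σ₀ v * α σ₀ (α σ₀ v) = 1 := by
  classical
  have h1 := h.orbit_prod d hK hv (fun π => trK K (α π v)) (fun π => rfl)
  simp only [h.trK_alpha d hK hv] at h1
  rw [if_pos (stab_one K), if_pos hs, if_pos (stab_mul hs hs), if_neg (hodd τ₀ (by decide)),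
    if_neg (hodd (σ₀ * τ₀) (by decide)), if_neg (hodd (σ₀ * σ₀ * τ₀) (by decide)), map_one] at h1
  simp only [mul_one] at h1
  have h2 : (v * α σ₀ v * α σ₀ (α σ₀ v)) ^ Nat.card K = 1 := by
    rw [mul_pow, mul_pow, mul_assoc]
    have e : α (σ₀ * σ₀) v = α σ₀ (α σ₀ v) := by rw [map_mul, MulAut.mul_apply]
    rw [← e]
    exact h1
  exact eq_one_of_pow_eq_one (d.hd.card_coprime hK.1) h2

/-- stabilizer generated by the transposition: `t` inverts the fixed points -/
theorem norm_t_of_stab (h : MTH α H) (d : MData H q M) {K : Subgroup (MulAut V)} (hK : IsHyp M K)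
    (ht : cj (α τ₀) K = K) (hs : cj (α σ₀) K ≠ K) {v : V} (hv : v ∈ fixG K) :
    v * α τ₀ v = 1 := by
  classical
  have hss : cj (α (σ₀ * σ₀)) K ≠ K := by
    intro hc
    apply hs
    have := stab_mul hc hc
    have e : σ₀ * σ₀ * (σ₀ * σ₀) = σ₀ := by decide
    rwa [e] at this
  have hst : cj (α (σ₀ * τ₀)) K ≠ K := by
    intro hc
    apply hs
    have := stab_mul hc ht
    have e : σ₀ * τ₀ * τ₀ = σ₀ := by decide
    rwa [e] at this
  have hsst : cj (α (σ₀ * σ₀ * τ₀)) K ≠ K := by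
    intro hc
    apply hss
    have := stab_mul hc ht
    have e : σ₀ * σ₀ * τ₀ * τ₀ = σ₀ * σ₀ := by decide
    rwa [e] at this
  have h1 := h.orbit_prod d hK hv (fun π => trK K (α π v)) (fun π => rfl)
  simp only [h.trK_alpha d hK hv] at h1
  rw [if_pos (stab_one K), if_neg hs, if_neg hss, if_pos ht, if_neg hst, if_neg hsst, map_one] at h1
  simp only [mul_one, one_mul] at h1
  have h2 : (v * α τ₀ v) ^ Nat.card K = 1 := by
    rw [mul_pow]
    exact h1
  exact eq_one_of_pow_eq_one (d.hd.card_coprime hK.1) h2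

/-- **Step F.** -/
theorem fix1_eq_bot_of_forall (h : MTH α H) (d : MData H q M)
    (hall : ∀ K : Subgroup (MulAut V), Om M K →
      cj (α σ₀) K = K ∧ fixG K ⊓ fix1 (α σ₀) = ⊥) : fix1 (α σ₀) = ⊥ := by
  rw [eq_bot_iff]
  intro v hv
  rw [Subgroup.mem_bot]
  apply d.hd.eq_one_of_forall_trK
  intro K hK
  by_cases hb : fixG K = ⊥
  · have := trK_mem_fixG K v
    rw [hb, Subgroup.mem_bot] at this
    exact this
  · obtain ⟨hs, hfpf⟩ := hall K ⟨hK, hb⟩
    have h1 : α σ₀ (trK K v) = trK K v := by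
      rw [apply_trK_of_normalizes K (fun k hk => conj_mem_of_cj_eq hs hk)
        (fun k hk => inv_conj_mem_of_cj_eq hs hk)]
      congr 1
    have h2 : trK K v ∈ fixG K ⊓ fix1 (α σ₀) := Subgroup.mem_inf.mpr ⟨trK_mem_fixG K v, h1⟩
    rw [hfpf, Subgroup.mem_bot] at h2
    exact h2

/-- if the norm of `s` is trivial on `fixG K` then `s` has no fixed points there -/
theorem inf_fix1_eq_bot_of_norm (h : MTH α H) {K : Subgroup (MulAut V)}
    (hn : ∀ v ∈ fixG K, v * α σ₀ v * α σ₀ (α σ₀ v) = 1) : fixG K ⊓ fix1 (α σ₀) = ⊥ := by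
  rw [eq_bot_iff]
  intro v hv
  rw [Subgroup.mem_bot]
  obtain ⟨hv1, hv2⟩ := Subgroup.mem_inf.mp hv
  have hsv : α σ₀ v = v := hv2
  have h1 := hn v hv1
  rw [hsv, hsv] at h1
  have h3 : v ^ 3 = 1 := by
    rw [pow_succ, pow_two]
    exact h1
  have hcop3 : (Nat.card V).Coprime 3 :=
    Nat.Coprime.coprime_dvd_right (by norm_num : 3 ∣ 6) h.copV
  exact eq_one_of_pow_eq_one hcop3 h3

end MTH

end Cfsg.Agent.Lib.H20.S3F
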