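import Mathlib
import Cfsg.Agent.Lib.H20.S3F15

/-!
# The module theorem: the case of three blocks (helper20, S4305)
-/

set_option autoImplicit false
set_option linter.unusedSectionVars false
set_option linter.unusedVariables false
set_option linter.style.haveILetI false

namespace Cfsg.Agent.Lib.H20.S3F

open Subgroup

variable {V : Type*} [CommGroup V] [Finite V]

theorem even_cases : ∀ π : Equiv.Perm (Fin 3), π ≠ 1 → Equiv.Perm.sign π ≠ -1 →
    π = σ₀ ∨ π = σ₀ * σ₀ := by decide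

theorem odd_conj : ∀ π : Equiv.Perm (Fin 3), Equiv.Perm.sign π = -1 →
    ∃ ρ₀ : Equiv.Perm (Fin 3), τ₀ * ρ₀ = ρ₀ * π := by decide

theorem odd_mul : ∀ π : Equiv.Perm (Fin 3), Equiv.Perm.sign π = -1 → π ≠ τ₀ →
    τ₀ * π = σ₀ ∨ τ₀ * π = σ₀ * σ₀ := by decide

namespace MTH

variable {α : Equiv.Perm (Fin 3) →* MulAut V} {H : Subgroup (MulAut V)}

/-- the automorphism of `H` induced by `α π` -/
def autH (h : MTH α H) (π : Equiv.Perm (Fin 3)) : MulAut ↥H :=
  conjAut H (α π) (h.nH π) (h.nH' π)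

theorem autH_apply (h : MTH α H) (π : Equiv.Perm (Fin 3)) (x : ↥H) :
    ((h.autH π x : ↥H) : MulAut V) = α π * x * (α π)⁻¹ := rfl

theorem s3Pair (h : MTH α H) : S3Pair (h.autH σ₀) (h.autH τ₀) := by
  refine ⟨?_, ?_, ?_⟩
  · intro x
    apply Subtype.ext
    rw [autH_apply, autH_apply, autH_apply]
    exact conj_conj_conj_of_pow_three (s3 α) _
  · intro x
    apply Subtype.ext
    rw [autH_apply, autH_apply]
    have h2 : α τ₀ * α τ₀ = 1 := by rw [← pow_two]; exact t2 α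
    calc α τ₀ * (α τ₀ * (x : MulAut V) * (α τ₀)⁻¹) * (α τ₀)⁻¹
        = (α τ₀ * α τ₀) * x * (α τ₀ * α τ₀)⁻¹ := by group
      _ = x := by rw [h2, inv_one, one_mul, mul_one]
  · intro x
    apply Subtype.ext
    rw [autH_apply, autH_apply, autH_apply, autH_apply, autH_apply]
    calc α τ₀ * (α σ₀ * (x : MulAut V) * (α σ₀)⁻¹) * (α τ₀)⁻¹
        = (α τ₀ * α σ₀) * x * (α τ₀ * α σ₀)⁻¹ := by group
      _ = (α σ₀ * α σ₀ * α τ₀) * x * (α σ₀ * α σ₀ * α τ₀)⁻¹ := by rw [ts α]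
      _ = α σ₀ * (α σ₀ * (α τ₀ * x * (α τ₀)⁻¹) * (α σ₀)⁻¹) * (α σ₀)⁻¹ := by group

theorem autH_fpf (h : MTH α H) (x : ↥H) (hs : h.autH σ₀ x = x) (ht : h.autH τ₀ x = x) : x = 1 := by
  apply Subtype.ext
  apply h.fixH' x.2
  · have := congrArg Subtype.val hs
    rwa [autH_apply] at this
  · have := congrArg Subtype.val ht
    rwa [autH_apply] at this

variable {q : ℕ} {M : Subgroup (MulAut V)}

/-- the second hypothesis of the three-block case implies that `s` stabilizes no hyperplane -/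
theorem not_stab_s_of_II (h : MTH α H)
    (hII : ∀ K : Subgroup (MulAut V), Om M K → ∀ x ∈ H, cj (x * α σ₀) K ≠ K)
    {K : Subgroup (MulAut V)} (hK : Om M K) : cj (α σ₀) K ≠ K := by
  have := hII K hK 1 H.one_mem
  rwa [one_mul] at this

/-- in the three-block case no `y s²` stabilizes a hyperplane either -/
theorem not_stab_ss_of_II (h : MTH α H)
    (hII : ∀ K : Subgroup (MulAut V), Om M K → ∀ x ∈ H, cj (x * α σ₀) K ≠ K)
    {K : Subgroup (MulAut V)} (hK : Om M K) {y : MulAut V} (hy : y ∈ H) :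
    cj (y * (α σ₀ * α σ₀)) K ≠ K := by
  intro hc
  have h2 := cj_mul_of_eq hc hc
  have hs3 : α σ₀ * α σ₀ * α σ₀ = 1 := by rw [← pow_two, ← pow_succ]; exact s3 α
  have hnH := h.nH σ₀
  obtain ⟨a, ha⟩ : ∃ a : MulAut V, a = α σ₀ := ⟨_, rfl⟩
  rw [← ha] at hc h2 hs3 hnH
  have e : y * (a * a) * (y * (a * a)) = (y * (a * (a * y * a⁻¹) * a⁻¹)) * a := by
    have e1 : a * a * a * a = a := by rw [hs3, one_mul]
    calc y * (a * a) * (y * (a * a))
        = (y * (a * (a * y * a⁻¹) * a⁻¹)) * (a * a * a * a) := by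
          simp only [mul_assoc, inv_mul_cancel_left]
      _ = (y * (a * (a * y * a⁻¹) * a⁻¹)) * a := by rw [e1]
  rw [e] at h2
  have h3 := hII K hK _ (H.mul_mem hy (hnH _ (hnH y hy)))
  rw [← ha] at h3
  exact h3 h2

/-- in the three-block case every stabilizing permutation is odd -/
theorem odd_of_stab_of_II (h : MTH α H)
    (hII : ∀ K : Subgroup (MulAut V), Om M K → ∀ x ∈ H, cj (x * α σ₀) K ≠ K)
    {K : Subgroup (MulAut V)} (hK : Om M K) {π : Equiv.Perm (Fin 3)} (hπ1 : π ≠ 1)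
    (hπ : cj (α π) K = K) : Equiv.Perm.sign π = -1 := by
  by_contra hsign
  rcases even_cases π hπ1 hsign with rfl | rfl
  · exact h.not_stab_s_of_II hII hK hπ
  · have := h.not_stab_ss_of_II hII hK H.one_mem
    rw [one_mul, ← map_mul] at this
    exact this hπ

/-- **The three-block case**, normalized so that `t` stabilizes `K₀`. -/
theorem comm_of_II_aux (h : MTH α H) (d : MData H q M)
    (hII : ∀ K : Subgroup (MulAut V), Om M K → ∀ x ∈ H, cj (x * α σ₀) K ≠ K)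
    {K₀ : Subgroup (MulAut V)} (hK₀ : Om M K₀) (ht₀ : cj (α τ₀) K₀ = K₀) :
    ∀ a ∈ H, ∀ b ∈ H, a * b = b * a := by
  classical
  -- the `H`-orbit of `K₀`
  obtain ⟨O, hO⟩ : ∃ O : Set (Subgroup (MulAut V)), O = {K | ∃ x ∈ H, K = cj x K₀} := ⟨_, rfl⟩
  have hmemO : ∀ K, K ∈ O ↔ ∃ x ∈ H, K = cj x K₀ := by
    intro K
    rw [hO]
    rfl
  have hOm : ∀ K ∈ O, Om M K := by
    intro K hK
    obtain ⟨x, hx, rfl⟩ := (hmemO K).mp hK
    exact hK₀.cj (d.cjM _ (NrmH.of_mem hx))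
  have ht2 : α τ₀ * α τ₀ = 1 := by rw [← pow_two]; exact t2 α
  have htinv : (α τ₀)⁻¹ = α τ₀ := inv_eq_of_mul_eq_one_left ht2
  -- (a) `t` stabilizes every member of `O`
  have hOt : ∀ K ∈ O, cj (α τ₀) K = K := by
    intro K hK
    obtain ⟨x, hx, rfl⟩ := (hmemO K).mp hK
    have hKOm := hOm _ hK
    obtain ⟨π, hπ1, hπ⟩ := h.exists_stab d hKOm
    have hodd := h.odd_of_stab_of_II hII hKOm hπ1 hπ
    by_cases hπt : π = τ₀
    · rw [← hπt]
      exact hπ
    · exfalso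
      -- `x t x⁻¹ = y t` stabilizes `cj x K₀`
      obtain ⟨y, hy⟩ : ∃ y : MulAut V, y = x * (α τ₀ * x⁻¹ * (α τ₀)⁻¹) := ⟨_, rfl⟩
      have hyH : y ∈ H := by
        rw [hy]
        exact H.mul_mem hx (h.nH τ₀ _ (H.inv_mem hx))
      have h1 : cj (y * α τ₀) (cj x K₀) = cj x K₀ := by
        have e : y * α τ₀ = x * α τ₀ * x⁻¹ := by rw [hy]; group
        rw [e, ← cj_mul, mul_assoc, mul_assoc, inv_mul_cancel, mul_one, cj_mul, ht₀]
      have h2 := cj_mul_of_eq h1 hπ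
      rw [mul_assoc, ← map_mul] at h2
      rcases odd_mul π hodd hπt with e | e
      · rw [e] at h2
        exact hII _ hKOm y hyH h2
      · rw [e, map_mul] at h2
        exact h.not_stab_ss_of_II hII hKOm hyH h2
  have hOinv : ∀ K ∈ O, ∀ v ∈ fixG K, α τ₀ v = v⁻¹ := by
    intro K hK v hv
    have h1 := h.norm_t_of_stab d (hOm K hK).1 (hOt K hK) (h.not_stab_s_of_II hII (hOm K hK)) hv
    exact eq_inv_of_mul_eq_one_right h1
  -- the first block
  obtain ⟨V₁, hV₁⟩ : ∃ V₁ : Subgroup V, V₁ = ⨆ K ∈ O, fixG K := ⟨_, rfl⟩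
  have hV₁le : ∀ K ∈ O, fixG K ≤ V₁ := by
    intro K hK
    rw [hV₁]
    exact le_iSup₂_of_le K hK le_rfl
  -- (b) `t` inverts `V₁`
  have hV₁inv : ∀ v ∈ V₁, α τ₀ v = v⁻¹ := by
    have hle : V₁ ≤ MonoidHom.eqLocus ((α τ₀ : MulAut V) : V ≃* V).toMonoidHom
        (invMonoidHom : V →* V) := by
      rw [hV₁]
      refine iSup₂_le ?_
      intro K hK v hv
      exact hOinv K hK v hv
    intro v hv
    exact hle hv
  -- (c) `V₁` is `H`-invariant
  have hV₁H : ∀ g ∈ H, ∀ v ∈ V₁, g v ∈ V₁ := by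
    intro g hg v hv
    have hle : V₁ ≤ V₁.comap (g : V ≃* V).toMonoidHom := by
      conv_lhs => rw [hV₁]
      refine iSup₂_le ?_
      intro K hK u hu
      obtain ⟨x, hx, rfl⟩ := (hmemO K).mp hK
      rw [Subgroup.mem_comap]
      have h1 : g u ∈ fixG (cj g (cj x K₀)) := apply_mem_fixG_cj g hu
      rw [← cj_mul] at h1
      exact hV₁le _ ((hmemO _).mpr ⟨g * x, H.mul_mem hg hx, rfl⟩) h1
    exact hle hv
  -- (d) the kernel on `V₁`
  let K₁ : Subgroup ↥H :=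
    { carrier := {x | ∀ v ∈ V₁, (x : MulAut V) v = v}
      mul_mem' := by
        intro a b ha hb v hv
        show ((a : MulAut V) * (b : MulAut V)) v = v
        rw [MulAut.mul_apply, hb v hv, ha v hv]
      one_mem' := fun v _ => rfl
      inv_mem' := by
        intro a ha v hv
        show ((a : MulAut V))⁻¹ v = v
        have := MulAut.inv_apply_self V (a : MulAut V) v
        rwa [ha v hv] at this }
  have hmemK₁ : ∀ x : ↥H, x ∈ K₁ ↔ ∀ v ∈ V₁, (x : MulAut V) v = v := fun x => Iff.rfl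
  haveI hK₁n : K₁.Normal := by
    constructor
    intro x hx y v hv
    show ((y : MulAut V) * (x : MulAut V) * ((y : MulAut V))⁻¹) v = v
    rw [MulAut.mul_apply, MulAut.mul_apply]
    have h1 : ((y : MulAut V))⁻¹ v ∈ V₁ := hV₁H _ (H.inv_mem y.2) v hv
    rw [hx _ h1, MulAut.apply_inv_self]
  -- (e) `[H, t] ≤ K₁`
  have hτK : ∀ x : ↥H, x⁻¹ * h.autH τ₀ x ∈ K₁ := by
    intro x v hv
    show ((x : MulAut V)⁻¹ * (α τ₀ * (x : MulAut V) * (α τ₀)⁻¹)) v = v
    rw [MulAut.mul_apply, MulAut.mul_apply, MulAut.mul_apply, htinv, hV₁inv v hv, map_inv,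
      hV₁inv _ (V₁.inv_mem (hV₁H _ x.2 v hv)), inv_inv, MulAut.inv_apply_self]
  -- (f) the triple intersection
  have hfix_of : ∀ (g : MulAut V), NrmH H g → ∀ x : MulAut V,
      (∀ v ∈ V₁, (g⁻¹ * x * g) v = v) → ∀ y ∈ H, ∀ u ∈ fixG (cj (y * g) K₀), x u = u := by
    intro g hg x hx y hy u hu
    have e : y * g = g * (g⁻¹ * y * g) := by group
    rw [e, cj_mul] at hu
    have h1 : g⁻¹ u ∈ fixG (cj g⁻¹ (cj g (cj (g⁻¹ * y * g) K₀))) := apply_mem_fixG_cj g⁻¹ hu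
    rw [← cj_mul, inv_mul_cancel, cj_one] at h1
    have h2 : g⁻¹ u ∈ V₁ := hV₁le _ ((hmemO _).mpr ⟨_, hg.2 y hy, rfl⟩) h1
    have h3 := hx _ h2
    rw [MulAut.mul_apply, MulAut.mul_apply, MulAut.apply_inv_self] at h3
    have := congrArg g h3
    rwa [MulAut.apply_inv_self, MulAut.apply_inv_self] at this
  have hint : ∀ x : ↥H, x ∈ K₁ → h.autH σ₀ x ∈ K₁ → h.autH σ₀ (h.autH σ₀ x) ∈ K₁ → x = 1 := by
    intro x hx0 hx1 hx2
    apply Subtype.ext
    show (x : MulAut V) = 1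
    apply d.hd.eq_of_forall_fixG
    intro K hK u hu
    show (x : MulAut V) u = u
    by_cases hb : fixG K = ⊥
    · rw [hb, Subgroup.mem_bot] at hu
      rw [hu, map_one]
    obtain ⟨y, hy, π, rfl⟩ := h.trans d hK₀ ⟨hK, hb⟩
    -- reduce to `π ∈ {1, σ₀, σ₀²}`
    have hred : ∀ ρ : Equiv.Perm (Fin 3), cj (y * α (ρ * τ₀)) K₀ = cj (y * α ρ) K₀ := by
      intro ρ
      rw [map_mul, ← mul_assoc, cj_mul, ht₀]
    have hs3 : α σ₀ * α σ₀ * α σ₀ = 1 := by rw [← pow_two, ← pow_succ]; exact s3 α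
    -- the three cases
    have c0 : ∀ u ∈ fixG (cj (y * α 1) K₀), (x : MulAut V) u = u := by
      intro u hu
      rw [map_one] at hu
      refine hfix_of 1 (NrmH.of_mem H.one_mem) x ?_ y hy u hu
      intro v hv
      rw [inv_one, one_mul, mul_one]
      exact hx0 v hv
    have c1 : ∀ u ∈ fixG (cj (y * α σ₀) K₀), (x : MulAut V) u = u := by
      intro u hu
      refine hfix_of (α σ₀) (h.nrmH σ₀) x ?_ y hy u hu
      intro v hv
      have e : (α σ₀)⁻¹ * (x : MulAut V) * α σ₀ =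
          α σ₀ * (α σ₀ * (x : MulAut V) * (α σ₀)⁻¹) * (α σ₀)⁻¹ :=
        inv_conj_eq_of_pow_three (s3 α) _
      rw [e]
      exact hx2 v hv
    have c2 : ∀ u ∈ fixG (cj (y * α (σ₀ * σ₀)) K₀), (x : MulAut V) u = u := by
      intro u hu
      rw [map_mul] at hu
      refine hfix_of (α σ₀ * α σ₀) ((h.nrmH σ₀).mul (h.nrmH σ₀)) x ?_ y hy u hu
      intro v hv
      have e : (α σ₀ * α σ₀)⁻¹ * (x : MulAut V) * (α σ₀ * α σ₀) =
          α σ₀ * (x : MulAut V) * (α σ₀)⁻¹ := by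
        have e1 : (α σ₀ * α σ₀)⁻¹ = α σ₀ := by
          apply inv_eq_of_mul_eq_one_left
          rw [← mul_assoc]
          exact hs3
        have e2 : α σ₀ * α σ₀ = (α σ₀)⁻¹ := by
          symm
          apply inv_eq_of_mul_eq_one_left
          exact hs3
        rw [e1, e2]
      rw [e]
      exact hx1 v hv
    rcases perm_cases π with rfl | rfl | rfl | rfl | rfl | rfl
    · exact c0 u hu
    · exact c1 u hu
    · exact c2 u hu
    · have e := hred 1
      rw [one_mul] at e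
      rw [e] at hu
      exact c0 u hu
    · rw [hred σ₀] at hu
      exact c1 u hu
    · rw [hred (σ₀ * σ₀)] at hu
      exact c2 u hu
  have key := beta h.cop h.s3Pair h.autH_fpf K₁ hτK hint
  intro a ha b hb
  exact congrArg Subtype.val (key ⟨a, ha⟩ ⟨b, hb⟩)

/-- **The three-block case.** -/
theorem comm_of_II (h : MTH α H) (d : MData H q M)
    (hII : ∀ K : Subgroup (MulAut V), Om M K → ∀ x ∈ H, cj (x * α σ₀) K ≠ K) :
    ∀ a ∈ H, ∀ b ∈ H, a * b = b * a := by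
  obtain ⟨K₀, hK₀hyp, hK₀ne⟩ := d.hd.exists_fix_ne_bot h.ntV
  have hK₀ : Om M K₀ := ⟨hK₀hyp, hK₀ne⟩
  obtain ⟨π, hπ1, hπ⟩ := h.exists_stab d hK₀
  have hodd := h.odd_of_stab_of_II hII hK₀ hπ1 hπ
  obtain ⟨ρ₀, hρ₀⟩ := odd_conj π hodd
  have hK₀' : Om M (cj (α ρ₀) K₀) := hK₀.cj (d.cjM _ (h.nrmH ρ₀))
  refine h.comm_of_II_aux d hII hK₀' ?_
  rw [← cj_mul, ← map_mul, hρ₀, map_mul, cj_mul, hπ]

end MTH

end Cfsg.Agent.Lib.H20.S3F
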