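import Mathlib
import Cfsg.Agent.Lib.H20.S3F16

/-!
# The module theorem: the case of two blocks (helper20, S4305)
-/

set_option autoImplicit false
set_option linter.unusedSectionVars false
set_option linter.unusedVariables false
set_option linter.style.haveILetI false

namespace Cfsg.Agent.Lib.H20.S3F

open Subgroup

variable {V : Type*} [CommGroup V] [Finite V]

theorem odd_gen : ∀ π : Equiv.Perm (Fin 3), Equiv.Perm.sign π = -1 →
    τ₀ = π ∨ τ₀ = σ₀ * π ∨ τ₀ = σ₀ * σ₀ * π := by decide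

theorem sign_conj' : ∀ π ρ : Equiv.Perm (Fin 3), Equiv.Perm.sign π = -1 →
    Equiv.Perm.sign (ρ⁻¹ * π * ρ) = -1 := by decide

namespace MTH

variable {α : Equiv.Perm (Fin 3) →* MulAut V} {H : Subgroup (MulAut V)}

/-- `π` stabilizes the `H`-orbit of `K₀` -/
def R (α : Equiv.Perm (Fin 3) →* MulAut V) (H : Subgroup (MulAut V)) (K₀ : Subgroup (MulAut V))
    (π : Equiv.Perm (Fin 3)) : Prop :=
  ∃ x ∈ H, cj (x * α π) K₀ = K₀

theorem R_one (K₀ : Subgroup (MulAut V)) : R α H K₀ 1 :=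
  ⟨1, H.one_mem, by rw [map_one, mul_one, cj_one]⟩

theorem R_mul (h : MTH α H) {K₀ : Subgroup (MulAut V)} {π ρ : Equiv.Perm (Fin 3)}
    (hπ : R α H K₀ π) (hρ : R α H K₀ ρ) : R α H K₀ (π * ρ) := by
  obtain ⟨x, hx, hxK⟩ := hπ
  obtain ⟨y, hy, hyK⟩ := hρ
  refine ⟨x * (α π * y * (α π)⁻¹), H.mul_mem hx (h.nH π y hy), ?_⟩
  have e : x * (α π * y * (α π)⁻¹) * α (π * ρ) = (x * α π) * (y * α ρ) := by
    rw [map_mul]
    group
  rw [e]
  exact cj_mul_of_eq hxK hyK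

/-- a stabilizer of `cj (y * α ρ) K₀` gives an element of `R` -/
theorem R_conj (h : MTH α H) {K₀ : Subgroup (MulAut V)} {y : MulAut V} (hy : y ∈ H)
    {π ρ : Equiv.Perm (Fin 3)} (hπ : cj (α π) (cj (y * α ρ) K₀) = cj (y * α ρ) K₀) :
    R α H K₀ (ρ⁻¹ * π * ρ) := by
  have h1 : cj ((y * α ρ)⁻¹ * α π * (y * α ρ)) K₀ = K₀ := by
    rw [cj_mul, cj_mul, hπ, ← cj_mul, inv_mul_cancel, cj_one]
  refine ⟨(α ρ)⁻¹ * (y⁻¹ * (α π * y * (α π)⁻¹)) * α ρ,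
    h.nH' ρ _ (H.mul_mem (H.inv_mem hy) (h.nH π y hy)), ?_⟩
  have e : (α ρ)⁻¹ * (y⁻¹ * (α π * y * (α π)⁻¹)) * α ρ * α (ρ⁻¹ * π * ρ) =
      (y * α ρ)⁻¹ * α π * (y * α ρ) := by
    rw [map_mul, map_mul, map_inv]
    group
  rw [e]
  exact h1

variable {q : ℕ} {M : Subgroup (MulAut V)}

/-- **The two-block case.** -/
theorem comm_of_Ib (h : MTH α H) (d : MData H q M) {K₀ : Subgroup (MulAut V)} (hK₀ : Om M K₀)
    (hRs : R α H K₀ σ₀) (hRt : ¬ R α H K₀ τ₀) : ∀ a ∈ H, ∀ b ∈ H, a * b = b * a := by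
  apply h.comm_of_fix1
  apply h.fix1_eq_bot_of_forall d
  intro K hK
  obtain ⟨y, hy, ρ, rfl⟩ := h.trans d hK₀ hK
  -- no odd permutation stabilizes `K`
  have hodd : ∀ π : Equiv.Perm (Fin 3), Equiv.Perm.sign π = -1 →
      cj (α π) (cj (y * α ρ) K₀) ≠ cj (y * α ρ) K₀ := by
    intro π hπ hc
    have h1 := h.R_conj hy hc
    have h2 := sign_conj' π ρ hπ
    apply hRt
    rcases odd_gen _ h2 with e | e | e
    · rw [e]; exact h1
    · rw [e]; exact h.R_mul hRs h1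
    · rw [e]; exact h.R_mul (h.R_mul hRs hRs) h1
  obtain ⟨π, hπ1, hπ⟩ := h.exists_stab d hK
  have hsign : Equiv.Perm.sign π ≠ -1 := fun hs => hodd π hs hπ
  have hs : cj (α σ₀) (cj (y * α ρ) K₀) = cj (y * α ρ) K₀ := by
    rcases even_cases π hπ1 hsign with rfl | rfl
    · exact hπ
    · have := stab_mul hπ hπ
      have e : σ₀ * σ₀ * (σ₀ * σ₀) = σ₀ := by decide
      rwa [e] at this
  exact ⟨hs, h.inf_fix1_eq_bot_of_norm (fun v hv => h.norm_s_of_stab d hK.1 hs hodd hv)⟩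

/-- if all of `S₃` stabilizes the `H`-orbit of `K₀` then `H` is transitive -/
theorem trans_H (h : MTH α H) (d : MData H q M) {K₀ : Subgroup (MulAut V)} (hK₀ : Om M K₀)
    (hR : ∀ π, R α H K₀ π) {K : Subgroup (MulAut V)} (hK : Om M K) : ∃ x ∈ H, K = cj x K₀ := by
  obtain ⟨y, hy, ρ, rfl⟩ := h.trans d hK₀ hK
  obtain ⟨z, hz, hzK⟩ := hR ρ
  refine ⟨y * z⁻¹, H.mul_mem hy (H.inv_mem hz), ?_⟩
  conv_rhs => rw [← hzK]
  rw [← cj_mul]
  congr 1
  group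

end MTH

end Cfsg.Agent.Lib.H20.S3F
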