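import Mathlib
import Cfsg.Agent.Lib.H20.S3F17

/-!
# Fixed points of a coprime cyclic group on a transitive set of conjugates (helper20, S4305)
-/

set_option autoImplicit false
set_option linter.unusedSectionVars false
set_option linter.unusedVariables false
set_option linter.style.haveILetI false

namespace Cfsg.Agent.Lib.H20.S3F

open Subgroup

section CycSZ

variable {Γ : Type*} [Group Γ]

/-- the stabilizer of `K` under conjugation -/
def stabK (K : Subgroup Γ) : Subgroup Γ where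
  carrier := {g | cj g K = K}
  mul_mem' := fun ha hb => cj_mul_of_eq ha hb
  one_mem' := cj_one K
  inv_mem' := fun ha => cj_inv_of_eq ha

theorem mem_stabK {K : Subgroup Γ} {g : Γ} : g ∈ stabK K ↔ cj g K = K := Iff.rfl

/-- **A Schur–Zassenhaus type lemma for a cyclic group of prime order**: if `a` of prime order
`r` normalizes the `r'`-group `C` and some element of the coset `C a` lies in `N`, then a
`C`-conjugate of `a` lies in `N`. -/
theorem exists_conj_mem (C : Subgroup Γ) [Finite C] (a : Γ) {r : ℕ} (hr : r.Prime)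
    (har : a ^ r = 1) (haC : ∀ c ∈ C, a * c * a⁻¹ ∈ C) (hrC : ¬ r ∣ Nat.card C)
    (N : Subgroup Γ) (hex : ∃ c ∈ C, c * a ∈ N) : ∃ x ∈ C, x * a * x⁻¹ ∈ N := by
  classical
  haveI : Fact r.Prime := ⟨hr⟩
  haveI := Fintype.ofFinite C
  obtain ⟨c, hc, hu⟩ := hex
  obtain ⟨u, hudef⟩ : ∃ u : Γ, u = c * a := ⟨_, rfl⟩
  rw [← hudef] at hu
  have haC' : ∀ j : ℕ, ∀ c ∈ C, a ^ j * c * (a ^ j)⁻¹ ∈ C := by
    intro j
    induction j with
    | zero =>
      intro c hc
      simpa using hc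
    | succ j ih =>
      intro c hc
      have : a ^ (j + 1) * c * (a ^ (j + 1))⁻¹ = a * (a ^ j * c * (a ^ j)⁻¹) * a⁻¹ := by
        rw [pow_succ']
        group
      rw [this]
      exact haC _ (ih c hc)
  have hu_pow : ∀ j : ℕ, ∃ cj ∈ C, u ^ j = cj * a ^ j := by
    intro j
    induction j with
    | zero => exact ⟨1, C.one_mem, by simp⟩
    | succ j ih =>
      obtain ⟨cj, hcj, e⟩ := ih
      refine ⟨cj * (a ^ j * c * (a ^ j)⁻¹), C.mul_mem hcj (haC' j c hc), ?_⟩
      rw [pow_succ, e, hudef, pow_succ]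
      group
  obtain ⟨n, hn⟩ : ∃ n : ℕ, n = Nat.card C := ⟨_, rfl⟩
  have hcop : Nat.Coprime n r := by
    rw [hn]
    exact ((Nat.Prime.coprime_iff_not_dvd hr).mpr hrC).symm
  obtain ⟨cr, hcr, hur⟩ := hu_pow r
  rw [har, mul_one] at hur
  have hurn : (u ^ r) ^ n = 1 := by
    rw [hur, hn]
    have := pow_card_eq_one' (x := (⟨cr, hcr⟩ : C))
    exact congrArg Subtype.val this
  obtain ⟨cn, hcn, hun⟩ := hu_pow n
  let ψ : Function.End C := fun x => ⟨u ^ n * x * (a ^ n)⁻¹, by
    rw [hun]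
    have : cn * a ^ n * x * (a ^ n)⁻¹ = cn * (a ^ n * x * (a ^ n)⁻¹) := by group
    rw [this]
    exact C.mul_mem hcn (haC' n x x.2)⟩
  have hψ : ∀ j : ℕ, ∀ x : C, (((ψ ^ j) x : C) : Γ) = u ^ (n * j) * x * (a ^ (n * j))⁻¹ := by
    intro j
    induction j with
    | zero =>
      intro x
      rw [pow_zero, mul_zero, pow_zero, pow_zero, inv_one, one_mul, mul_one]
      rfl
    | succ j ih =>
      intro x
      rw [pow_succ']
      show u ^ n * ((ψ ^ j) x : C) * (a ^ n)⁻¹ = _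
      rw [ih, Nat.mul_succ, pow_add, pow_add, mul_inv_rev]
      have e1 : u ^ (n * j) * u ^ n = u ^ n * u ^ (n * j) := by rw [← pow_add, ← pow_add, add_comm]
      rw [e1]
      group
  have hψr : ψ ^ (r ^ 1) = 1 := by
    funext x
    apply Subtype.ext
    rw [pow_one, hψ]
    have e1 : u ^ (n * r) = 1 := by rw [mul_comm, pow_mul, hurn]
    have e2 : a ^ (n * r) = 1 := by rw [mul_comm, pow_mul, har, one_pow]
    rw [e1, e2, inv_one, one_mul, mul_one]
    rfl
  have hmod := Equiv.Perm.card_fixedPoints_modEq (f := ψ) (p := r) (n := 1) hψr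
  have hne : (Function.fixedPoints ψ).Nonempty := by
    by_contra hempty
    rw [Set.not_nonempty_iff_eq_empty] at hempty
    have h0 : Fintype.card (Function.fixedPoints ψ) = 0 := by
      rw [Fintype.card_eq_zero_iff, Set.isEmpty_coe_sort]
      exact hempty
    rw [h0] at hmod
    apply hrC
    rw [Nat.card_eq_fintype_card]
    exact (Nat.modEq_zero_iff_dvd).mp hmod
  obtain ⟨x, hx⟩ := hne
  have hx1 : u ^ n * x * (a ^ n)⁻¹ = x := congrArg Subtype.val hx
  have hx2 : (x : Γ) * a ^ n * (x : Γ)⁻¹ = u ^ n := by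
    calc (x : Γ) * a ^ n * (x : Γ)⁻¹ = (u ^ n * x * (a ^ n)⁻¹) * a ^ n * (x : Γ)⁻¹ := by rw [hx1]
      _ = u ^ n := by group
  obtain ⟨m', -, hm'⟩ := Nat.exists_mul_mod_eq_one_of_coprime hcop hr.one_lt
  have ham : (a ^ n) ^ m' = a := by
    rw [← pow_mul, pow_eq_pow_mod _ har, hm', pow_one]
  refine ⟨x, x.2, ?_⟩
  have : (x : Γ) * a * (x : Γ)⁻¹ = (u ^ n) ^ m' := by
    rw [← hx2, conj_pow, ham]
  rw [this]
  exact N.pow_mem (N.pow_mem hu n) m'

end CycSZ

end Cfsg.Agent.Lib.H20.S3F
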