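import Mathlib
import Cfsg.Agent.Lib.H20.S3F18

/-!
# The module theorem, transitive case: a hyperplane fixed by `S₃` (helper20, S4305)
-/

set_option autoImplicit false
set_option linter.unusedSectionVars false
set_option linter.unusedVariables false
set_option linter.style.haveILetI false

namespace Cfsg.Agent.Lib.H20.S3F

open Subgroup

variable {V : Type*} [CommGroup V] [Finite V]

namespace MTH

variable {α : Equiv.Perm (Fin 3) →* MulAut V} {H : Subgroup (MulAut V)}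

/-- the centralizer of `s` in `H` -/
def CH (α : Equiv.Perm (Fin 3) →* MulAut V) (H : Subgroup (MulAut V)) : Subgroup (MulAut V) :=
  H ⊓ Subgroup.centralizer ({α σ₀} : Set (MulAut V))

theorem mem_CH {c : MulAut V} : c ∈ CH α H ↔ c ∈ H ∧ α σ₀ * c = c * α σ₀ := by
  unfold CH
  rw [Subgroup.mem_inf, mem_centralizer_singleton]

theorem CH_le : CH α H ≤ H := fun c hc => (mem_CH.mp hc).1

theorem st_eq (α : Equiv.Perm (Fin 3) →* MulAut V) : α σ₀ * α τ₀ = α τ₀ * α σ₀ * α σ₀ := by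
  rw [← map_mul, ← map_mul, ← map_mul]
  congr 1
  decide

theorem card_CH_not_dvd (h : MTH α H) : ¬ 2 ∣ Nat.card (CH α H) := fun hd =>
  (not_dvd_of_coprime_six h.cop).1 (hd.trans (Subgroup.card_dvd_of_le CH_le))

/-- `t` normalizes `C_H(s)` -/
theorem t_conj_mem_CH (h : MTH α H) {c : MulAut V} (hc : c ∈ CH α H) :
    α τ₀ * c * (α τ₀)⁻¹ ∈ CH α H := by
  obtain ⟨hcH, hcs⟩ := mem_CH.mp hc
  refine mem_CH.mpr ⟨h.nH τ₀ c hcH, ?_⟩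
  have ht2 : α τ₀ * α τ₀ = 1 := by rw [← pow_two]; exact t2 α
  have htinv : (α τ₀)⁻¹ = α τ₀ := inv_eq_of_mul_eq_one_left ht2
  have hst := st_eq α
  have hts := ts α
  rw [htinv]
  calc α σ₀ * (α τ₀ * c * α τ₀) = (α σ₀ * α τ₀) * c * α τ₀ := by group
    _ = α τ₀ * α σ₀ * α σ₀ * c * α τ₀ := by rw [hst]
    _ = α τ₀ * (α σ₀ * (α σ₀ * c)) * α τ₀ := by group
    _ = α τ₀ * (α σ₀ * (c * α σ₀)) * α τ₀ := by rw [hcs]
    _ = α τ₀ * ((α σ₀ * c) * α σ₀) * α τ₀ := by group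
    _ = α τ₀ * ((c * α σ₀) * α σ₀) * α τ₀ := by rw [hcs]
    _ = α τ₀ * c * (α σ₀ * α σ₀ * α τ₀) := by group
    _ = α τ₀ * c * (α τ₀ * α σ₀) := by rw [← hts]
    _ = α τ₀ * c * α τ₀ * α σ₀ := by group

variable {q : ℕ} {M : Subgroup (MulAut V)}

/-- (Ia.1) an `s`-fixed hyperplane -/
theorem exists_s_fixed (h : MTH α H) (d : MData H q M) {K₀ : Subgroup (MulAut V)}
    (hK₀ : Om M K₀) (hRs : R α H K₀ σ₀) :
    ∃ K' : Subgroup (MulAut V), Om M K' ∧ cj (α σ₀) K' = K' := by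
  obtain ⟨x, hx, hxs⟩ := exists_conj_mem H (α σ₀) Nat.prime_three (s3 α) (h.nH σ₀)
    (not_dvd_of_coprime_six h.cop).2 (stabK K₀) hRs
  refine ⟨cj x⁻¹ K₀, hK₀.cj (d.cjM _ (NrmH.of_mem (H.inv_mem hx))), ?_⟩
  have e : α σ₀ * x⁻¹ = x⁻¹ * (x * α σ₀ * x⁻¹) := by group
  rw [← cj_mul, e, cj_mul, mem_stabK.mp hxs]

/-- (Ia.2) `C_H(s)` is transitive on the `s`-fixed hyperplanes -/
theorem trans_CH (h : MTH α H) {K' K'' : Subgroup (MulAut V)} (hs' : cj (α σ₀) K' = K')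
    (hs'' : cj (α σ₀) K'' = K'') {g : MulAut V} (hg : g ∈ H) (hgK : K'' = cj g K') :
    ∃ c ∈ CH α H, K'' = cj c K' := by
  obtain ⟨N', hN'⟩ : ∃ N' : Subgroup ↥H, N' = (stabK K').comap H.subtype := ⟨_, rfl⟩
  have hmemN' : ∀ x : ↥H, x ∈ N' ↔ cj (x : MulAut V) K' = K' := by
    intro x
    rw [hN']
    rfl
  have hsinv' : cj (α σ₀)⁻¹ K' = K' := cj_inv_of_eq hs'
  have hσN' : ∀ n ∈ N', h.autH σ₀ n ∈ N' := by
    intro n hn
    rw [hmemN'] at hn ⊢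
    rw [autH_apply, cj_mul, cj_mul, hsinv', hn, hs']
  have h3N' : ¬ 3 ∣ Nat.card N' := fun hd =>
    (not_dvd_of_coprime_six h.cop).2 (hd.trans (Subgroup.card_subgroup_dvd_card N'))
  have hgN' : (⟨g, hg⟩ : ↥H)⁻¹ * h.autH σ₀ ⟨g, hg⟩ ∈ N' := by
    rw [hmemN']
    show cj (g⁻¹ * (α σ₀ * g * (α σ₀)⁻¹)) K' = K'
    have e : g⁻¹ * (α σ₀ * g * (α σ₀)⁻¹) = g⁻¹ * α σ₀ * g * (α σ₀)⁻¹ := by group
    rw [e, cj_mul, hsinv', cj_mul, ← hgK, cj_mul, hs'', hgK, ← cj_mul, inv_mul_cancel, cj_one]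
  obtain ⟨n, hn, hfix⟩ := exists_fixed_in_coset Nat.prime_three (h.autH σ₀) h.s3Pair.pow_three N'
    hσN' h3N' hgN'
  refine ⟨g * n, mem_CH.mpr ⟨H.mul_mem hg n.2, ?_⟩, ?_⟩
  · have h1 := congrArg Subtype.val hfix
    rw [autH_apply] at h1
    have h2 : α σ₀ * (g * (n : MulAut V)) * (α σ₀)⁻¹ = g * n := h1
    calc α σ₀ * (g * (n : MulAut V)) = (α σ₀ * (g * n) * (α σ₀)⁻¹) * α σ₀ := by group
      _ = g * n * α σ₀ := by rw [h2]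
  · rw [cj_mul, (hmemN' n).mp hn, hgK]

/-- (Ia.3) a hyperplane fixed by `s` and `t` -/
theorem exists_fixed (h : MTH α H) (d : MData H q M) {K₀ : Subgroup (MulAut V)} (hK₀ : Om M K₀)
    (hR : ∀ π, R α H K₀ π) :
    ∃ K₁ : Subgroup (MulAut V), Om M K₁ ∧ cj (α σ₀) K₁ = K₁ ∧ cj (α τ₀) K₁ = K₁ := by
  obtain ⟨K', hK', hs'⟩ := h.exists_s_fixed d hK₀ (hR σ₀)
  -- `cj t K'` is again `s`-fixed
  have hK'' : Om M (cj (α τ₀) K') := hK'.cj (d.cjM _ (h.nrmH τ₀))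
  have hs'' : cj (α σ₀) (cj (α τ₀) K') = cj (α τ₀) K' := by
    rw [← cj_mul, st_eq α, cj_mul, cj_mul, hs', hs']
  obtain ⟨x', hx', e'⟩ := h.trans_H d hK₀ hR hK'
  obtain ⟨x'', hx'', e''⟩ := h.trans_H d hK₀ hR hK''
  have hg : cj (α τ₀) K' = cj (x'' * x'⁻¹) K' := by
    rw [e'', cj_mul]
    congr 1
    rw [e', ← cj_mul, inv_mul_cancel, cj_one]
  obtain ⟨c, hc, hcK⟩ := h.trans_CH hs' hs'' (H.mul_mem hx'' (H.inv_mem hx')) hg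
  have hex : ∃ c' ∈ CH α H, c' * α τ₀ ∈ stabK K' := by
    refine ⟨c⁻¹, (CH α H).inv_mem hc, ?_⟩
    rw [mem_stabK, cj_mul, hcK, ← cj_mul, inv_mul_cancel, cj_one]
  obtain ⟨x, hx, hxt⟩ := exists_conj_mem (CH α H) (α τ₀) Nat.prime_two (t2 α)
    (fun c hc => h.t_conj_mem_CH hc) h.card_CH_not_dvd (stabK K') hex
  obtain ⟨hxH, hxs⟩ := mem_CH.mp hx
  refine ⟨cj x⁻¹ K', hK'.cj (d.cjM _ (NrmH.of_mem (H.inv_mem hxH))), ?_, ?_⟩
  · have e : α σ₀ * x⁻¹ = x⁻¹ * α σ₀ := by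
      calc α σ₀ * x⁻¹ = x⁻¹ * (x * α σ₀) * x⁻¹ := by group
        _ = x⁻¹ * (α σ₀ * x) * x⁻¹ := by rw [hxs]
        _ = x⁻¹ * α σ₀ := by group
    rw [← cj_mul, e, cj_mul, hs']
  · have e : α τ₀ * x⁻¹ = x⁻¹ * (x * α τ₀ * x⁻¹) := by group
    rw [← cj_mul, e, cj_mul, mem_stabK.mp hxt]

end MTH

end Cfsg.Agent.Lib.H20.S3F
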