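import Mathlib
import Cfsg.Agent.Lib.H20.S3F19

/-!
# The module theorem, transitive case (helper20, S4305)
-/

set_option autoImplicit false
set_option linter.unusedSectionVars false
set_option linter.unusedVariables false
set_option linter.style.haveILetI false

namespace Cfsg.Agent.Lib.H20.S3F

open Subgroup

variable {V : Type*} [CommGroup V] [Finite V]

theorem odd_sq : ∀ π : Equiv.Perm (Fin 3), Equiv.Perm.sign π = -1 → π * π = 1 := by decide

theorem odd_rel : ∀ π : Equiv.Perm (Fin 3), Equiv.Perm.sign π = -1 →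
    σ₀ * π = π * σ₀ * σ₀ ∧ π * σ₀ = σ₀ * σ₀ * π := by decide

namespace MTH

variable {α : Equiv.Perm (Fin 3) →* MulAut V} {H : Subgroup (MulAut V)}

theorem autH_mul (h : MTH α H) (π ρ : Equiv.Perm (Fin 3)) (x : ↥H) :
    h.autH (π * ρ) x = h.autH π (h.autH ρ x) := by
  apply Subtype.ext
  rw [autH_apply, autH_apply, autH_apply, map_mul]
  group

/-- an odd permutation normalizes `C_H(s)` -/
theorem odd_conj_mem_CH (h : MTH α H) {π : Equiv.Perm (Fin 3)} (hπ : Equiv.Perm.sign π = -1)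
    {c : MulAut V} (hc : c ∈ CH α H) : α π * c * (α π)⁻¹ ∈ CH α H := by
  obtain ⟨hcH, hcs⟩ := mem_CH.mp hc
  refine mem_CH.mpr ⟨h.nH π c hcH, ?_⟩
  have ht2 : α π * α π = 1 := by rw [← map_mul, odd_sq π hπ, map_one]
  have htinv : (α π)⁻¹ = α π := inv_eq_of_mul_eq_one_left ht2
  have hst : α σ₀ * α π = α π * α σ₀ * α σ₀ := by
    rw [← map_mul, ← map_mul, ← map_mul, (odd_rel π hπ).1]
  have hts : α π * α σ₀ = α σ₀ * α σ₀ * α π := by
    rw [← map_mul, ← map_mul, ← map_mul, (odd_rel π hπ).2]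
  rw [htinv]
  calc α σ₀ * (α π * c * α π) = (α σ₀ * α π) * c * α π := by group
    _ = α π * α σ₀ * α σ₀ * c * α π := by rw [hst]
    _ = α π * (α σ₀ * (α σ₀ * c)) * α π := by group
    _ = α π * (α σ₀ * (c * α σ₀)) * α π := by rw [hcs]
    _ = α π * ((α σ₀ * c) * α σ₀) * α π := by group
    _ = α π * ((c * α σ₀) * α σ₀) * α π := by rw [hcs]
    _ = α π * c * (α σ₀ * α σ₀ * α π) := by group
    _ = α π * c * (α π * α σ₀) := by rw [← hts]
    _ = α π * c * α π * α σ₀ := by group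

/-- an odd permutation inverts `C_H(s)` -/
theorem inverts_CH (h : MTH α H) {π : Equiv.Perm (Fin 3)} (hπ : Equiv.Perm.sign π = -1)
    {c : MulAut V} (hc : c ∈ CH α H) : α π * c * (α π)⁻¹ = c⁻¹ := by
  have ht2 : α π * α π = 1 := by rw [← map_mul, odd_sq π hπ, map_one]
  have htinv : (α π)⁻¹ = α π := inv_eq_of_mul_eq_one_left ht2
  have hn : ∀ c ∈ CH α H, α π * c * (α π)⁻¹ ∈ CH α H := fun c hc => h.odd_conj_mem_CH hπ hc
  have hn' : ∀ c ∈ CH α H, (α π)⁻¹ * c * α π ∈ CH α H := by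
    intro c hc
    have := hn c hc
    rw [htinv] at this ⊢
    exact this
  obtain ⟨φ, hφ⟩ : ∃ φ : MulAut ↥(CH α H), φ = conjAut (CH α H) (α π) hn hn' := ⟨_, rfl⟩
  have hφ_apply : ∀ x : ↥(CH α H), ((φ x : ↥(CH α H)) : MulAut V) = α π * x * (α π)⁻¹ := by
    intro x
    rw [hφ]
    rfl
  have hfpf : MonoidHom.FixedPointFree φ := by
    intro x hx
    have hx1 : α π * (x : MulAut V) * (α π)⁻¹ = x := by rw [← hφ_apply, hx]
    obtain ⟨hxH, hxs⟩ := mem_CH.mp x.2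
    have hxs' : α σ₀ * (x : MulAut V) * (α σ₀)⁻¹ = x := by
      rw [hxs, mul_inv_cancel_right]
    apply Subtype.ext
    apply h.fixH' hxH hxs'
    -- `τ₀` is generated by `σ₀` and `π`
    have hmul : ∀ a b : Equiv.Perm (Fin 3), α a * (x : MulAut V) * (α a)⁻¹ = x →
        α b * (x : MulAut V) * (α b)⁻¹ = x → α (a * b) * (x : MulAut V) * (α (a * b))⁻¹ = x := by
      intro a b ha hb
      rw [map_mul]
      calc α a * α b * (x : MulAut V) * (α a * α b)⁻¹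
          = α a * (α b * (x : MulAut V) * (α b)⁻¹) * (α a)⁻¹ := by group
        _ = x := by rw [hb, ha]
    rcases odd_gen π hπ with e | e | e
    · rw [e]; exact hx1
    · rw [e]; exact hmul _ _ hxs' hx1
    · rw [e]; exact hmul _ _ (hmul _ _ hxs' hxs') hx1
  have hinv : Function.Involutive φ := by
    intro x
    apply Subtype.ext
    rw [hφ_apply, hφ_apply]
    calc α π * (α π * (x : MulAut V) * (α π)⁻¹) * (α π)⁻¹
        = (α π * α π) * x * (α π * α π)⁻¹ := by group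
      _ = x := by rw [ht2, inv_one, one_mul, mul_one]
  have key := hfpf.coe_eq_inv_of_involutive hinv
  have h1 := congrFun key ⟨c, hc⟩
  have h2 := congrArg Subtype.val h1
  rw [hφ_apply] at h2
  exact h2

variable {q : ℕ} {M : Subgroup (MulAut V)}

/-- (Ia.4) `C_H(s)` is transitive -/
theorem trans_CH_of_fixed (h : MTH α H) (d : MData H q M) {K₁ : Subgroup (MulAut V)}
    (hK₁ : Om M K₁) (hfix : ∀ π, cj (α π) K₁ = K₁)
    (hT : ∀ K, Om M K → ∃ x ∈ H, K = cj x K₁) :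
    ∀ K, Om M K → ∃ c ∈ CH α H, K = cj c K₁ := by
  obtain ⟨H₁, hH₁⟩ : ∃ H₁ : Subgroup ↥H, H₁ = (stabK K₁).comap H.subtype := ⟨_, rfl⟩
  have hmemH₁ : ∀ x : ↥H, x ∈ H₁ ↔ cj (x : MulAut V) K₁ = K₁ := by
    intro x
    rw [hH₁]
    rfl
  have hfix' : ∀ π, cj (α π)⁻¹ K₁ = K₁ := fun π => cj_inv_of_eq (hfix π)
  have hinv : ∀ π, ∀ x ∈ H₁, h.autH π x ∈ H₁ := by
    intro π x hx
    rw [hmemH₁] at hx ⊢
    rw [autH_apply, cj_mul, cj_mul, hfix', hx, hfix]
  have hkey : ∀ (x : ↥H) (π : Equiv.Perm (Fin 3)),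
      cj (α π) (cj (x : MulAut V) K₁) = cj (x : MulAut V) K₁ → x⁻¹ * h.autH π x ∈ H₁ := by
    intro x π hπ
    rw [hmemH₁]
    show cj ((x : MulAut V)⁻¹ * (α π * (x : MulAut V) * (α π)⁻¹)) K₁ = K₁
    have e : (x : MulAut V)⁻¹ * (α π * (x : MulAut V) * (α π)⁻¹) =
        (x : MulAut V)⁻¹ * (α π * ((x : MulAut V) * (α π)⁻¹)) := by group
    rw [e, cj_mul, cj_mul, cj_mul, hfix', hπ, ← cj_mul, inv_mul_cancel, cj_one]
  have hcov : ∀ x : ↥H, x⁻¹ * h.autH σ₀ x ∈ H₁ ∨ x⁻¹ * h.autH τ₀ x ∈ H₁ ∨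
      x⁻¹ * h.autH σ₀ (h.autH τ₀ (h.autH σ₀ (h.autH σ₀ x))) ∈ H₁ ∨
      x⁻¹ * h.autH σ₀ (h.autH σ₀ (h.autH τ₀ (h.autH σ₀ x))) ∈ H₁ := by
    intro x
    have hK : Om M (cj (x : MulAut V) K₁) := hK₁.cj (d.cjM _ (NrmH.of_mem x.2))
    obtain ⟨π, hπ1, hπ⟩ := h.exists_stab d hK
    rcases perm_cases π with rfl | rfl | rfl | rfl | rfl | rfl
    · exact absurd rfl hπ1
    · exact Or.inl (hkey x _ hπ)
    · left
      apply hkey x
      have := stab_mul hπ hπ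
      have e : σ₀ * σ₀ * (σ₀ * σ₀) = σ₀ := by decide
      rwa [e] at this
    · exact Or.inr (Or.inl (hkey x _ hπ))
    · right; right; right
      have e : h.autH σ₀ (h.autH σ₀ (h.autH τ₀ (h.autH σ₀ x))) = h.autH (σ₀ * τ₀) x := by
        rw [← autH_mul, ← autH_mul, ← autH_mul]
        have e' : σ₀ * σ₀ * τ₀ * σ₀ = σ₀ * τ₀ := by decide
        rw [e']
      rw [e]
      exact hkey x _ hπ
    · right; right; left
      have e : h.autH σ₀ (h.autH τ₀ (h.autH σ₀ (h.autH σ₀ x))) = h.autH (σ₀ * σ₀ * τ₀) x := by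
        rw [← autH_mul, ← autH_mul, ← autH_mul]
        have e' : σ₀ * τ₀ * σ₀ * σ₀ = σ₀ * σ₀ * τ₀ := by decide
        rw [e']
      rw [e]
      exact hkey x _ hπ
  intro K hK
  obtain ⟨x, hx, rfl⟩ := hT K hK
  obtain ⟨c, hcfix, hcmem⟩ := covering h.solv h.cop h.s3Pair h.autH_fpf H₁ (hinv σ₀) (hinv τ₀) hcov
    ⟨x, hx⟩
  refine ⟨c, mem_CH.mpr ⟨c.2, ?_⟩, ?_⟩
  · have h1 := congrArg Subtype.val hcfix
    rw [autH_apply] at h1
    calc α σ₀ * (c : MulAut V) = (α σ₀ * c * (α σ₀)⁻¹) * α σ₀ := by group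
      _ = c * α σ₀ := by rw [h1]
  · have h2 := (hmemH₁ _).mp hcmem
    have h3 : cj ((c : MulAut V)⁻¹ * x) K₁ = K₁ := h2
    have e : x = (c : MulAut V) * ((c : MulAut V)⁻¹ * x) := by group
    conv_lhs => rw [e]
    rw [cj_mul, h3]

end MTH

end Cfsg.Agent.Lib.H20.S3F
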