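import Mathlib
import Cfsg.Agent.Lib.H20.S3F20

/-!
# The module theorem: the end of the transitive case, and the assembly (helper20, S4305)
-/

set_option autoImplicit false
set_option linter.unusedSectionVars false
set_option linter.unusedVariables false
set_option linter.style.haveILetI false

namespace Cfsg.Agent.Lib.H20.S3F

open Subgroup

variable {V : Type*} [CommGroup V] [Finite V]

/-- an element of odd order is a power of its square -/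
theorem mem_of_sq_mem {Γ : Type*} [Group Γ] {S : Subgroup Γ} {x : Γ} (hx : ¬ 2 ∣ orderOf x)
    (h : x * x ∈ S) : x ∈ S := by
  have hodd : Odd (orderOf x) := by
    rw [← Nat.not_even_iff_odd, even_iff_two_dvd]
    exact hx
  obtain ⟨k, hk⟩ := hodd
  have e : x = (x * x) ^ (k + 1) := by
    rw [← pow_two, ← pow_mul]
    have : 2 * (k + 1) = orderOf x + 1 := by omega
    rw [this, pow_succ, pow_orderOf_eq_one, one_mul]
  rw [e]
  exact S.pow_mem h _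

namespace MTH

variable {α : Equiv.Perm (Fin 3) →* MulAut V} {H : Subgroup (MulAut V)}
variable {q : ℕ} {M : Subgroup (MulAut V)}

/-- the case of a unique hyperplane with fixed points: `M` is cyclic and fixed-point-free -/
theorem fix1_eq_bot_of_unique (h : MTH α H) (d : MData H q M) {K₁ : Subgroup (MulAut V)}
    (hK₁ : Om M K₁) (huniq : ∀ K, Om M K → K = K₁) : fix1 (α σ₀) = ⊥ := by
  -- `fixG K₁ = ⊤`
  have htop : fixG K₁ = ⊤ := by
    rw [eq_top_iff, ← d.hd.gen]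
    apply iSup_le
    rintro ⟨K, hK⟩
    by_cases hb : fixG K = ⊥
    · show fixG K ≤ fixG K₁
      rw [hb]; exact bot_le
    · show fixG K ≤ fixG K₁
      rw [huniq K ⟨hK, hb⟩]
  have hK₁bot : K₁ = ⊥ := by
    by_contra hne
    exact fixG_ne_top hne htop
  subst hK₁bot
  have hhyp : IsHyp M (⊥ : Subgroup (MulAut V)) := hK₁.1
  -- nontrivial elements of `M` are fixed-point-free and generate
  have hfpf : ∀ m ∈ M, m ≠ 1 → fix1 m = ⊥ := by
    intro m hm hm1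
    have := d.hd.fix_inf_eq_bot hhyp hm (fun hmem => hm1 (Subgroup.mem_bot.mp hmem))
    rwa [fixG_bot, top_inf_eq] at this
  have hgen : ∀ m ∈ M, m ≠ 1 → Subgroup.zpowers m = M := by
    intro m hm hm1
    have := hhyp.sup_zpowers hm (fun hmem => hm1 (Subgroup.mem_bot.mp hmem))
    rwa [bot_sup_eq] at this
  have hsM : ∀ m ∈ M, α σ₀ * m * (α σ₀)⁻¹ ∈ M := fun m hm =>
    conj_mem_of_cj_eq (d.cjM _ (h.nrmH σ₀)) hm
  have htM : ∀ m ∈ M, α τ₀ * m * (α τ₀)⁻¹ ∈ M := fun m hm =>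
    conj_mem_of_cj_eq (d.cjM _ (h.nrmH τ₀)) hm
  have htM' : ∀ m ∈ M, (α τ₀)⁻¹ * m * α τ₀ ∈ M := fun m hm =>
    inv_conj_mem_of_cj_eq (d.cjM _ (h.nrmH τ₀)) hm
  have ht2 : α τ₀ * α τ₀ = 1 := by rw [← pow_two]; exact t2 α
  have htinv : (α τ₀)⁻¹ = α τ₀ := inv_eq_of_mul_eq_one_left ht2
  -- `s` centralizes `t m t⁻¹`
  have hkey : ∀ m ∈ M, m ≠ 1 →
      α σ₀ * (α τ₀ * m * (α τ₀)⁻¹) * (α σ₀)⁻¹ = α τ₀ * m * (α τ₀)⁻¹ := by
    intro m hm hm1
    have h1 : α σ₀ * m * (α σ₀)⁻¹ ∈ Subgroup.zpowers m := by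
      rw [hgen m hm hm1]; exact hsM m hm
    have h2 : α τ₀ * m * (α τ₀)⁻¹ ∈ Subgroup.zpowers m := by
      rw [hgen m hm hm1]; exact htM m hm
    obtain ⟨i, hi⟩ := Subgroup.mem_zpowers_iff.mp h1
    obtain ⟨j, hj⟩ := Subgroup.mem_zpowers_iff.mp h2
    -- the two conjugations commute on `m`
    have h3 : α σ₀ * (α τ₀ * m * (α τ₀)⁻¹) * (α σ₀)⁻¹ =
        α τ₀ * (α σ₀ * m * (α σ₀)⁻¹) * (α τ₀)⁻¹ := by
      rw [← hj, ← hi, ← conj_zpow, ← conj_zpow, ← hi, ← hj, ← zpow_mul, ← zpow_mul, mul_comm]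
    -- `ts = sst`
    have h4 : α τ₀ * (α σ₀ * m * (α σ₀)⁻¹) * (α τ₀)⁻¹ =
        α σ₀ * (α σ₀ * (α τ₀ * m * (α τ₀)⁻¹) * (α σ₀)⁻¹) * (α σ₀)⁻¹ := by
      have hts := ts α
      calc α τ₀ * (α σ₀ * m * (α σ₀)⁻¹) * (α τ₀)⁻¹
          = (α τ₀ * α σ₀) * m * (α τ₀ * α σ₀)⁻¹ := by group
        _ = (α σ₀ * α σ₀ * α τ₀) * m * (α σ₀ * α σ₀ * α τ₀)⁻¹ := by rw [hts]
        _ = α σ₀ * (α σ₀ * (α τ₀ * m * (α τ₀)⁻¹) * (α σ₀)⁻¹) * (α σ₀)⁻¹ := by group
    rw [h4] at h3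
    -- cancel
    have h5 : α τ₀ * m * (α τ₀)⁻¹ =
        α σ₀ * (α τ₀ * m * (α τ₀)⁻¹) * (α σ₀)⁻¹ := by
      have : (α σ₀)⁻¹ * (α σ₀ * (α τ₀ * m * (α τ₀)⁻¹) * (α σ₀)⁻¹) * α σ₀ =
          (α σ₀)⁻¹ * (α σ₀ * (α σ₀ * (α τ₀ * m * (α τ₀)⁻¹) * (α σ₀)⁻¹) * (α σ₀)⁻¹) * α σ₀ :=
        congrArg (fun x => (α σ₀)⁻¹ * x * α σ₀) h3
      calc α τ₀ * m * (α τ₀)⁻¹
          = (α σ₀)⁻¹ * (α σ₀ * (α τ₀ * m * (α τ₀)⁻¹) * (α σ₀)⁻¹) * α σ₀ := by group
        _ = (α σ₀)⁻¹ * (α σ₀ * (α σ₀ * (α τ₀ * m * (α τ₀)⁻¹) * (α σ₀)⁻¹) * (α σ₀)⁻¹) * α σ₀ := this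
        _ = α σ₀ * (α τ₀ * m * (α τ₀)⁻¹) * (α σ₀)⁻¹ := by group
    exact h5.symm
  -- `s` centralizes `M`
  have hsc : ∀ m ∈ M, α σ₀ * m = m * α σ₀ := by
    intro m hm
    by_cases hm1 : m = 1
    · rw [hm1, one_mul, mul_one]
    · have hm' : (α τ₀)⁻¹ * m * α τ₀ ∈ M := htM' m hm
      have hm'1 : (α τ₀)⁻¹ * m * α τ₀ ≠ 1 := by
        intro hc
        apply hm1
        calc m = α τ₀ * ((α τ₀)⁻¹ * m * α τ₀) * (α τ₀)⁻¹ := by group
          _ = 1 := by rw [hc, mul_one, mul_inv_cancel]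
      have h1 := hkey _ hm' hm'1
      have e : α τ₀ * ((α τ₀)⁻¹ * m * α τ₀) * (α τ₀)⁻¹ = m := by group
      rw [e] at h1
      calc α σ₀ * m = (α σ₀ * m * (α σ₀)⁻¹) * α σ₀ := by group
        _ = m * α σ₀ := by rw [h1]
  -- `t` inverts `M`
  have htinvM : ∀ m ∈ M, α τ₀ * m * (α τ₀)⁻¹ = m⁻¹ := by
    intro m hm
    have hz : m * (α τ₀ * m * (α τ₀)⁻¹) = 1 := by
      apply h.fixH' (d.le (M.mul_mem hm (htM m hm)))
      · have := hsc _ (M.mul_mem hm (htM m hm))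
        rw [this, mul_inv_cancel_right]
      · rw [htinv]
        calc α τ₀ * (m * (α τ₀ * m * α τ₀)) * α τ₀
            = (α τ₀ * m * α τ₀) * m * (α τ₀ * α τ₀) := by group
          _ = (α τ₀ * m * α τ₀) * m := by rw [ht2, mul_one]
          _ = m * (α τ₀ * m * α τ₀) := by
            have := d.hd.comm _ (htM m hm) m hm
            rw [htinv] at this
            exact this
    exact (eq_inv_of_mul_eq_one_right hz)
  -- now the fixed points of `s`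
  rw [eq_bot_iff]
  intro w hw
  rw [Subgroup.mem_bot]
  have hsw : α σ₀ w = w := hw
  -- `t` inverts `fix1 s`
  have htW : ∀ u : V, α σ₀ u = u → α τ₀ u = u⁻¹ := by
    intro u hu
    have hstu : α σ₀ (α τ₀ u) = α τ₀ u := by
      have := congrArg (fun f : MulAut V => f u) (st_eq α)
      simp only [MulAut.mul_apply] at this
      rw [this, hu, hu]
    have h1 : u * α τ₀ u = 1 := by
      apply h.fixV'
      · rw [map_mul, hu, hstu]
      · rw [map_mul, ← MulAut.mul_apply, ht2, MulAut.one_apply, mul_comm]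
    exact (eq_inv_of_mul_eq_one_right h1)
  obtain ⟨m, hm, hm1⟩ : ∃ m ∈ M, m ≠ 1 := by
    by_contra hno
    push Not at hno
    apply d.ne
    rw [eq_bot_iff]
    intro m hm
    exact Subgroup.mem_bot.mpr (hno m hm)
  have hmw : α σ₀ (m w) = m w := by
    rw [← MulAut.mul_apply, hsc m hm, MulAut.mul_apply, hsw]
  have h1 : α τ₀ (m w) = (m w)⁻¹ := htW _ hmw
  have h2 : α τ₀ (m w) = m⁻¹ (w⁻¹) := by
    have e : α τ₀ * m = m⁻¹ * α τ₀ := by
      calc α τ₀ * m = (α τ₀ * m * (α τ₀)⁻¹) * α τ₀ := by group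
        _ = m⁻¹ * α τ₀ := by rw [htinvM m hm]
    rw [← MulAut.mul_apply, e, MulAut.mul_apply, htW w hsw]
  have h3 : (m * m) w = w := by
    have h4 : m⁻¹ (w⁻¹) = m (w⁻¹) := by rw [← h2, h1, map_inv]
    have h5 : m (m w) = w := by
      have := congrArg m h4
      rw [MulAut.apply_inv_self, map_inv, map_inv] at this
      exact (inv_injective this).symm
    rw [MulAut.mul_apply, h5]
  have hmm : m * m ≠ 1 := by
    intro hc
    apply hm1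
    have hq := d.hd.exp m hm
    have hodd : Odd q := d.hd.hq.odd_of_ne_two d.q2
    obtain ⟨k, hk⟩ := hodd
    rw [hk, pow_succ, pow_mul, pow_two, hc, one_pow, one_mul] at hq
    exact hq
  have := hfpf (m * m) (M.mul_mem hm hm) hmm
  have h6 : w ∈ fix1 (m * m) := h3
  rw [this, Subgroup.mem_bot] at h6
  exact h6

/-- **The transitive case.** -/
theorem comm_of_Ia (h : MTH α H) (d : MData H q M) {K₀ : Subgroup (MulAut V)} (hK₀ : Om M K₀)
    (hR : ∀ π, R α H K₀ π) : ∀ a ∈ H, ∀ b ∈ H, a * b = b * a := by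
  apply h.comm_of_fix1
  obtain ⟨K₁, hK₁, hs₁, ht₁⟩ := h.exists_fixed d hK₀ hR
  have hfixall : ∀ π, cj (α π) K₁ = K₁ :=
    forall_of_two (P := fun π => cj (α π) K₁ = K₁) (stab_one K₁)
      (fun π ρ hπ hρ => stab_mul hπ hρ) hs₁ ht₁
  have hT₁ : ∀ K, Om M K → ∃ x ∈ H, K = cj x K₁ := by
    intro K hK
    obtain ⟨x, hx, e⟩ := h.trans_H d hK₀ hR hK
    obtain ⟨x₁, hx₁, e₁⟩ := h.trans_H d hK₀ hR hK₁
    refine ⟨x * x₁⁻¹, H.mul_mem hx (H.inv_mem hx₁), ?_⟩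
    rw [e, cj_mul]
    congr 1
    rw [e₁, ← cj_mul, inv_mul_cancel, cj_one]
  have hC := h.trans_CH_of_fixed d hK₁ hfixall hT₁
  by_cases huniq : ∀ K, Om M K → K = K₁
  · exact h.fix1_eq_bot_of_unique d hK₁ huniq
  · push Not at huniq
    obtain ⟨K₂, hK₂, hne⟩ := huniq
    obtain ⟨c₂, hc₂, rfl⟩ := hC K₂ hK₂
    obtain ⟨hc₂H, hc₂s⟩ := mem_CH.mp hc₂
    -- elements of `C_H(s)` preserve `s`-invariance
    have hsfix : ∀ c ∈ CH α H, cj (α σ₀) (cj c K₁) = cj c K₁ := by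
      intro c hc
      rw [← cj_mul, (mem_CH.mp hc).2, cj_mul, hs₁]
    -- no odd permutation stabilizes `K₂`
    have hodd : ∀ π : Equiv.Perm (Fin 3), Equiv.Perm.sign π = -1 →
        cj (α π) (cj c₂ K₁) ≠ cj c₂ K₁ := by
      intro π hπ hc
      apply hne
      have e : α π * c₂ = c₂⁻¹ * α π := by
        calc α π * c₂ = (α π * c₂ * (α π)⁻¹) * α π := by group
          _ = c₂⁻¹ * α π := by rw [h.inverts_CH hπ hc₂]
      rw [← cj_mul, e, cj_mul, hfixall π] at hc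
      have h1 : cj (c₂ * c₂) K₁ = K₁ := by
        rw [cj_mul, ← hc, ← cj_mul, mul_inv_cancel, cj_one]
      have h2 : c₂ ∈ stabK K₁ := by
        apply mem_of_sq_mem _ (mem_stabK.mpr h1)
        intro h2
        exact (not_dvd_of_coprime_six h.cop).1
          (h2.trans (Subgroup.orderOf_dvd_natCard H hc₂H))
      exact mem_stabK.mp h2
    have hs₂ := hsfix c₂ hc₂
    have hbot₂ : fixG (cj c₂ K₁) ⊓ fix1 (α σ₀) = ⊥ :=
      h.inf_fix1_eq_bot_of_norm (fun v hv => h.norm_s_of_stab d hK₂.1 hs₂ hodd hv)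
    apply h.fix1_eq_bot_of_forall d
    intro K hK
    obtain ⟨c, hc, rfl⟩ := hC K hK
    refine ⟨hsfix c hc, ?_⟩
    -- transport by `g = c₂ * c⁻¹`
    obtain ⟨hcH, hcs⟩ := mem_CH.mp hc
    rw [eq_bot_iff]
    intro v hv
    rw [Subgroup.mem_bot]
    obtain ⟨hv1, hv2⟩ := Subgroup.mem_inf.mp hv
    have hg : c₂ * c⁻¹ ∈ CH α H := (CH α H).mul_mem hc₂ ((CH α H).inv_mem hc)
    have h1 : (c₂ * c⁻¹) v ∈ fixG (cj c₂ K₁) := by
      have := apply_mem_fixG_cj (c₂ * c⁻¹) hv1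
      rwa [← cj_mul, mul_assoc, inv_mul_cancel, mul_one] at this
    have h2 : (c₂ * c⁻¹) v ∈ fix1 (α σ₀) :=
      apply_mem_fix1 ((mem_CH.mp hg).2).symm hv2
    have h3 : (c₂ * c⁻¹) v ∈ fixG (cj c₂ K₁) ⊓ fix1 (α σ₀) := Subgroup.mem_inf.mpr ⟨h1, h2⟩
    rw [hbot₂, Subgroup.mem_bot] at h3
    have := congrArg ((c₂ * c⁻¹)⁻¹ : MulAut V) h3
    rwa [MulAut.inv_apply_self, map_one] at this

/-- **The module theorem.** -/
theorem comm (h : MTH α H) : ∀ a ∈ H, ∀ b ∈ H, a * b = b * a := by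
  by_cases hH : H = ⊥
  · intro a ha b hb
    rw [hH, Subgroup.mem_bot] at ha hb
    rw [ha, hb]
  obtain ⟨q, M, d⟩ := h.exists_MData hH
  by_cases hII : ∀ K, Om M K → ∀ x ∈ H, cj (x * α σ₀) K ≠ K
  · exact h.comm_of_II d hII
  push Not at hII
  obtain ⟨K₀, hK₀, x, hx, hxK⟩ := hII
  have hRs : R α H K₀ σ₀ := ⟨x, hx, hxK⟩
  by_cases hRt : R α H K₀ τ₀
  · apply h.comm_of_Ia d hK₀
    exact forall_of_two (P := fun π => R α H K₀ π) (R_one K₀) (fun π ρ hπ hρ => h.R_mul hπ hρ)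
      hRs hRt
  · exact h.comm_of_Ib d hK₀ hRs hRt

end MTH

end Cfsg.Agent.Lib.H20.S3F
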