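import Mathlib
import Cfsg.Agent.Lib.H20.S3F21

/-!
# Fixed-point-free action of the symmetric group of degree three on a solvable group of order
prime to six: the derived subgroup is nilpotent (helper20, S4305)
-/

set_option autoImplicit false
set_option linter.unusedSectionVars false
set_option linter.unusedVariables false
set_option linter.style.haveILetI false

namespace Cfsg.Agent.Lib.H20.S3F

open Subgroup

universe u

section Top

variable {G : Type u} [Group G] [Finite G]

/-- restriction of an automorphism to an invariant subgroup -/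
def resAut (N : Subgroup G) (φ : MulAut G) (hφ : ∀ n ∈ N, φ n ∈ N) : MulAut ↥N :=
  { toFun := fun x => ⟨φ x, hφ x x.2⟩
    invFun := fun x => ⟨φ⁻¹ x, inv_mem_of_forall_mem N φ hφ x x.2⟩
    left_inv := fun x => Subtype.ext (MulAut.inv_apply_self G φ x)
    right_inv := fun x => Subtype.ext (MulAut.apply_inv_self G φ x)
    map_mul' := fun a b => Subtype.ext (map_mul φ (a : G) (b : G)) }

theorem resAut_apply (N : Subgroup G) (φ : MulAut G) (hφ : ∀ n ∈ N, φ n ∈ N) (x : ↥N) :
    ((resAut N φ hφ x : ↥N) : G) = φ x := rfl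

theorem resAut_inv_apply (N : Subgroup G) (φ : MulAut G) (hφ : ∀ n ∈ N, φ n ∈ N) (x : ↥N) :
    (((resAut N φ hφ)⁻¹ x : ↥N) : G) = φ⁻¹ x := rfl

/-- the restricted action -/
def resHom (N : Subgroup G) (φ : Equiv.Perm (Fin 3) →* MulAut G)
    (hφ : ∀ π, ∀ n ∈ N, φ π n ∈ N) : Equiv.Perm (Fin 3) →* MulAut ↥N where
  toFun π := resAut N (φ π) (hφ π)
  map_one' := by
    ext x
    rw [resAut_apply, map_one]
    rfl
  map_mul' := by
    intro π ρ
    ext x
    rw [resAut_apply, map_mul]
    rfl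

theorem resHom_apply (N : Subgroup G) (φ : Equiv.Perm (Fin 3) →* MulAut G)
    (hφ : ∀ π, ∀ n ∈ N, φ π n ∈ N) (π : Equiv.Perm (Fin 3)) (x : ↥N) :
    ((resHom N φ hφ π x : ↥N) : G) = φ π x := rfl

/-- the quotient action -/
noncomputable def quotHom (N : Subgroup G) [N.Normal] (φ : Equiv.Perm (Fin 3) →* MulAut G)
    (hφ : ∀ π, ∀ n ∈ N, φ π n ∈ N) : Equiv.Perm (Fin 3) →* MulAut (G ⧸ N) where
  toFun π := quotAut N (φ π) (hφ π)
  map_one' := by
    ext x
    induction x using QuotientGroup.induction_on with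
    | H x =>
      rw [quotAut_mk, map_one]
      rfl
  map_mul' := by
    intro π ρ
    ext x
    induction x using QuotientGroup.induction_on with
    | H x =>
      rw [quotAut_mk, map_mul]
      rfl

theorem quotHom_mk (N : Subgroup G) [N.Normal] (φ : Equiv.Perm (Fin 3) →* MulAut G)
    (hφ : ∀ π, ∀ n ∈ N, φ π n ∈ N) (π : Equiv.Perm (Fin 3)) (x : G) :
    quotHom N φ hφ π (QuotientGroup.mk x) = QuotientGroup.mk (φ π x) := rfl

theorem s3Pair_of_hom (φ : Equiv.Perm (Fin 3) →* MulAut G) : S3Pair (φ σ₀) (φ τ₀) := by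
  refine ⟨?_, ?_, ?_⟩
  · intro x
    have h1 : φ σ₀ * φ σ₀ * φ σ₀ = 1 := by
      rw [← map_mul, ← map_mul]
      have : σ₀ * σ₀ * σ₀ = 1 := by decide
      rw [this, map_one]
    have := congrArg (fun f : MulAut G => f x) h1
    exact this
  · intro x
    have h1 : φ τ₀ * φ τ₀ = 1 := by
      rw [← map_mul]
      have : τ₀ * τ₀ = 1 := by decide
      rw [this, map_one]
    have := congrArg (fun f : MulAut G => f x) h1
    exact this
  · intro x
    have h1 : φ τ₀ * φ σ₀ = φ σ₀ * φ σ₀ * φ τ₀ := by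
      rw [← map_mul, ← map_mul, ← map_mul, τ₀_mul_σ₀]
    have := congrArg (fun f : MulAut G => f x) h1
    exact this

/-- an element fixed modulo an invariant subgroup lies in that subgroup -/
theorem mem_of_fixed_mod (φ : Equiv.Perm (Fin 3) →* MulAut G)
    (hfpf : ∀ g : G, (∀ π, φ π g = g) → g = 1) (N : Subgroup G) (hN : (Nat.card N).Coprime 6)
    (hφN : ∀ π, ∀ n ∈ N, φ π n ∈ N) {g : G} (hg : ∀ π, g⁻¹ * φ π g ∈ N) : g ∈ N := by
  obtain ⟨n, hn, h1, h2⟩ := exists_fixed_pair (s3Pair_of_hom φ) N hN (hφN σ₀) (hφN τ₀)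
    (hg σ₀) (hg τ₀)
  have h3 : g * n = 1 := by
    apply hfpf
    apply MTH.forall_of_two (P := fun π => φ π (g * n) = g * n)
    · rw [map_one]
      rfl
    · intro π ρ hπ hρ
      show φ (π * ρ) (g * n) = g * n
      rw [map_mul φ π ρ, MulAut.mul_apply, hρ, hπ]
    · exact h1
    · exact h2
  have : g = n⁻¹ := eq_inv_of_mul_eq_one_left h3
  rw [this]
  exact N.inv_mem hn

end Top

end Cfsg.Agent.Lib.H20.S3F
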