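import Mathlib
import Cfsg.Agent.Lib.H20.S3F22

/-!
# The commutator subgroup centralizes a minimal invariant normal subgroup (helper20, S4305)
-/

set_option autoImplicit false
set_option linter.unusedSectionVars false
set_option linter.unusedVariables false
set_option linter.style.haveILetI false

namespace Cfsg.Agent.Lib.H20.S3F

open Subgroup

universe u

section Top

variable {G : Type u} [Group G] [Finite G]

/-- a minimal invariant normal subgroup is elementary abelian -/
theorem elem_abelian_of_minimal [Group.IsSolvable G] (φ : Equiv.Perm (Fin 3) →* MulAut G)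
    (V : Subgroup G) [hVn : V.Normal] (hVφ : ∀ π, ∀ x ∈ V, φ π x ∈ V) (hVne : V ≠ ⊥)
    (hmin : ∀ W : Subgroup G, W ≠ ⊥ → W.Normal → (∀ π, ∀ x ∈ W, φ π x ∈ W) → W ≤ V → W = V) :
    ∃ q : ℕ, q.Prime ∧ (∀ a b : ↥V, a * b = b * a) ∧ ∀ a : ↥V, a ^ q = 1 := by
  haveI : Nontrivial ↥V := (Subgroup.nontrivial_iff_ne_bot V).mpr hVne
  obtain ⟨q, M', hqp, hqd, hM'ne, hM'ab, hM'exp, hM'char⟩ := exists_char_elem_abelian ↥V
  have hM'top : ∀ x : ↥V, x ∈ M' := by
    have h1 : M'.map V.subtype = V := by
      apply hmin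
      · intro hb
        exact hM'ne ((Subgroup.map_eq_bot_iff_of_injective _ V.subtype_injective).mp hb)
      · constructor
        rintro _ ⟨x, hx, rfl⟩ g
        exact ⟨MulAut.conjNormal g x, hM'char _ x hx, MulAut.conjNormal_apply g x⟩
      · rintro π _ ⟨x, hx, rfl⟩
        exact ⟨resAut V (φ π) (hVφ π) x, hM'char _ x hx, rfl⟩
      · exact Subgroup.map_subtype_le M'
    intro x
    have : (x : G) ∈ M'.map V.subtype := by
      rw [h1]
      exact x.2
    obtain ⟨y, hy, hyx⟩ := this
    have : y = x := Subtype.ext hyx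
    rw [← this]
    exact hy
  exact ⟨q, hqp, fun a b => hM'ab a (hM'top a) b (hM'top b), fun a => hM'exp a (hM'top a)⟩

/-- **the module theorem applied**: commutators centralize a minimal invariant normal subgroup -/
theorem comm_centralizes [Group.IsSolvable G] (φ : Equiv.Perm (Fin 3) →* MulAut G)
    (hcop : (Nat.card G).Coprime 6) (hfpf : ∀ g : G, (∀ π, φ π g = g) → g = 1)
    (V : Subgroup G) [hVn : V.Normal] (hVφ : ∀ π, ∀ x ∈ V, φ π x ∈ V) (hVne : V ≠ ⊥)
    (hmin : ∀ W : Subgroup G, W ≠ ⊥ → W.Normal → (∀ π, ∀ x ∈ W, φ π x ∈ W) → W ≤ V → W = V) :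
    ∀ a b : G, ∀ v ∈ V, (a * b * a⁻¹ * b⁻¹) * v = v * (a * b * a⁻¹ * b⁻¹) := by
  obtain ⟨q, hqp, hab, hexp⟩ := elem_abelian_of_minimal φ V hVφ hVne hmin
  letI : CommGroup ↥V := { (inferInstance : Group ↥V) with mul_comm := hab }
  obtain ⟨ρ, hρ⟩ : ∃ ρ : G →* MulAut ↥V, ρ = MulAut.conjNormal := ⟨_, rfl⟩
  have hρ_apply : ∀ (g : G) (v : ↥V), ((ρ g v : ↥V) : G) = g * v * g⁻¹ := by
    intro g v
    rw [hρ]
    exact MulAut.conjNormal_apply g v
  obtain ⟨α, hα⟩ : ∃ α : Equiv.Perm (Fin 3) →* MulAut ↥V, α = resHom V φ hVφ := ⟨_, rfl⟩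
  have hα_apply : ∀ (π : Equiv.Perm (Fin 3)) (v : ↥V), ((α π v : ↥V) : G) = φ π v := by
    intro π v
    rw [hα]
    rfl
  have hα_inv_apply : ∀ (π : Equiv.Perm (Fin 3)) (v : ↥V),
      (((α π)⁻¹ v : ↥V) : G) = (φ π)⁻¹ v := by
    intro π v
    rw [hα]
    rfl
  -- the conjugation formula
  have hconj : ∀ π g, α π * ρ g * (α π)⁻¹ = ρ (φ π g) := by
    intro π g
    apply MulEquiv.ext
    intro v
    apply Subtype.ext
    rw [MulAut.mul_apply, MulAut.mul_apply, hα_apply, hρ_apply, hρ_apply, hα_inv_apply,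
      map_mul, map_mul, map_inv, MulAut.apply_inv_self]
  -- the kernel
  have hker : ∀ g : G, ρ g = 1 ↔ ∀ v ∈ V, g * v = v * g := by
    intro g
    constructor
    · intro h1 v hv
      have := congrArg (fun f : MulAut ↥V => ((f ⟨v, hv⟩ : ↥V) : G)) h1
      simp only [hρ_apply, MulAut.one_apply] at this
      calc g * v = (g * v * g⁻¹) * g := by group
        _ = v * g := by rw [this]
    · intro h1
      apply MulEquiv.ext
      intro v
      apply Subtype.ext
      rw [hρ_apply, h1 v v.2, mul_inv_cancel_right]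
      rfl
  have hMTH : MTH α ρ.range := by
    refine ⟨?_, ?_, ?_, ?_, ?_, ?_, ?_, ?_, ?_⟩
    · -- nH
      rintro π _ ⟨g, rfl⟩
      rw [hconj]
      exact ⟨_, rfl⟩
    · -- solv
      exact Group.isSolvable_of_surjective ρ.rangeRestrict_surjective
    · -- cop
      exact Nat.Coprime.coprime_dvd_left (Subgroup.card_range_dvd ρ) hcop
    · -- copV
      exact Nat.Coprime.coprime_dvd_left (Subgroup.card_subgroup_dvd_card V) hcop
    · -- fixH
      rintro _ ⟨g, rfl⟩ hfix
      rw [hker]
      -- the centralizer of `V`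
      obtain ⟨N, hN⟩ : ∃ N : Subgroup G, N = ρ.ker := ⟨_, rfl⟩
      have hmemN : ∀ x, x ∈ N ↔ ρ x = 1 := by
        intro x
        rw [hN, MonoidHom.mem_ker]
      have hNφ : ∀ π, ∀ n ∈ N, φ π n ∈ N := by
        intro π n hn
        rw [hmemN] at hn ⊢
        rw [← hconj, hn, mul_one, mul_inv_cancel]
      have hgN : g ∈ N := by
        apply mem_of_fixed_mod φ hfpf N
          (Nat.Coprime.coprime_dvd_left (Subgroup.card_subgroup_dvd_card N) hcop) hNφ
        intro π
        rw [hmemN, map_mul, map_inv, ← hconj, hfix π, inv_mul_cancel]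
      exact (hker g).mp ((hmemN g).mp hgN)
    · -- fixV
      intro v hv
      apply Subtype.ext
      apply hfpf
      intro π
      rw [← hα_apply, hv π]
    · -- irr
      intro U hUH hUα
      by_cases hU : U = ⊥
      · exact Or.inl hU
      · right
        have h1 : U.map V.subtype = V := by
          apply hmin
          · intro hb
            exact hU ((Subgroup.map_eq_bot_iff_of_injective _ V.subtype_injective).mp hb)
          · constructor
            rintro _ ⟨x, hx, rfl⟩ g
            exact ⟨ρ g x, hUH _ ⟨g, rfl⟩ x hx, hρ_apply g x⟩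
          · rintro π _ ⟨x, hx, rfl⟩
            exact ⟨α π x, hUα π x hx, hα_apply π x⟩
          · exact Subgroup.map_subtype_le U
        rw [eq_top_iff]
        intro x _
        have : (x : G) ∈ U.map V.subtype := by
          rw [h1]
          exact x.2
        obtain ⟨y, hy, hyx⟩ := this
        have : y = x := Subtype.ext hyx
        rw [← this]
        exact hy
    · -- pV
      refine ⟨q, hqp, ?_⟩
      intro v
      exact ⟨1, by rw [pow_one]; exact hexp v⟩
    · -- ntV
      intro htb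
      apply hVne
      rw [eq_bot_iff]
      intro v hv
      have : (⟨v, hv⟩ : ↥V) ∈ (⊤ : Subgroup ↥V) := Subgroup.mem_top _
      rw [htb, Subgroup.mem_bot] at this
      rw [Subgroup.mem_bot]
      exact congrArg Subtype.val this
  have hcomm := hMTH.comm
  intro a b v hv
  have h1 : ρ (a * b * a⁻¹ * b⁻¹) = 1 := by
    rw [map_mul, map_mul, map_mul, map_inv, map_inv]
    have := hcomm (ρ a) ⟨a, rfl⟩ (ρ b) ⟨b, rfl⟩
    rw [this]
    group
  exact (hker _).mp h1 v hv

end Top

end Cfsg.Agent.Lib.H20.S3F
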