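import Mathlib
import Cfsg.Agent.Lib.H20.S3F23

/-!
# Fixed-point-free action of the symmetric group of degree three on a solvable group of order
prime to six: the derived subgroup is nilpotent (helper20, S4305)
-/

set_option autoImplicit false
set_option linter.unusedSectionVars false
set_option linter.unusedVariables false
set_option linter.style.haveILetI false

namespace Cfsg.Agent.Lib.H20.S3F

open Subgroup

open scoped commutatorElement

universe u

theorem s3_main_aux (n : ℕ) : ∀ (G : Type u) [Group G] [Finite G] [Group.IsSolvable G]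
    (φ : Equiv.Perm (Fin 3) →* MulAut G), Nat.card G ≤ n → (Nat.card G).Coprime 6 →
    (∀ g : G, (∀ π, φ π g = g) → g = 1) → Group.IsNilpotent ↥(commutator G) := by
  induction n with
  | zero =>
    intro G _ _ _ φ hn
    exfalso
    have := Nat.card_pos (α := G)
    omega
  | succ n ih =>
    intro G _ _ _ φ hn hcop hfpf
    by_cases htriv : Subsingleton G
    · haveI := htriv
      infer_instance
    rw [not_subsingleton_iff_nontrivial] at htriv
    haveI := htriv
    -- a minimal invariant normal subgroup
    obtain ⟨V, ⟨hVne, hVn, hVφ⟩, hminV⟩ := (wellFounded_lt (α := Subgroup G)).has_min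
      {N : Subgroup G | N ≠ ⊥ ∧ N.Normal ∧ ∀ π, ∀ x ∈ N, φ π x ∈ N}
      ⟨⊤, top_ne_bot, inferInstance, fun _ _ _ => Subgroup.mem_top _⟩
    haveI := hVn
    have hmin : ∀ W : Subgroup G, W ≠ ⊥ → W.Normal → (∀ π, ∀ x ∈ W, φ π x ∈ W) → W ≤ V →
        W = V := by
      intro W h1 h2 h3 hle
      by_contra hne
      exact hminV W ⟨h1, h2, h3⟩ (lt_of_le_of_ne hle hne)
    -- the quotient
    have hcard : Nat.card (G ⧸ V) ≤ n := by
      have h1 := Subgroup.card_eq_card_quotient_mul_card_subgroup V
      have h2 : 2 ≤ Nat.card V := (Subgroup.one_lt_card_iff_ne_bot (H := V)).mpr hVne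
      have h3 : Nat.card (G ⧸ V) * 2 ≤ Nat.card (G ⧸ V) * Nat.card V := Nat.mul_le_mul_left _ h2
      have h4 := Nat.card_pos (α := G ⧸ V)
      omega
    have hcopQ : (Nat.card (G ⧸ V)).Coprime 6 :=
      Nat.Coprime.coprime_dvd_left (Subgroup.card_quotient_dvd_card V) hcop
    have hcopV : (Nat.card V).Coprime 6 :=
      Nat.Coprime.coprime_dvd_left (Subgroup.card_subgroup_dvd_card V) hcop
    have hfpfQ : ∀ x : G ⧸ V, (∀ π, quotHom V φ hVφ π x = x) → x = 1 := by
      intro x
      induction x using QuotientGroup.induction_on with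
      | H g =>
        intro hfix
        rw [QuotientGroup.eq_one_iff]
        apply mem_of_fixed_mod φ hfpf V hcopV hVφ
        intro π
        have := hfix π
        rw [quotHom_mk] at this
        exact QuotientGroup.eq.mp this.symm
    have hnil : Group.IsNilpotent ↥(commutator (G ⧸ V)) :=
      ih (G ⧸ V) (quotHom V φ hVφ) hcard hcopQ hfpfQ
    -- the map of commutator subgroups
    have hmap : ∀ x : ↥(commutator G),
        ((QuotientGroup.mk' V).comp (commutator G).subtype) x ∈ commutator (G ⧸ V) := by
      intro x
      have h1 : (commutator G).map (QuotientGroup.mk' V) ≤ commutator (G ⧸ V) := by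
        rw [commutator_def, commutator_def, Subgroup.map_commutator]
        exact Subgroup.commutator_mono le_top le_top
      exact h1 ⟨x, x.2, rfl⟩
    obtain ⟨f, hf⟩ : ∃ f : ↥(commutator G) →* ↥(commutator (G ⧸ V)),
        f = ((QuotientGroup.mk' V).comp (commutator G).subtype).codRestrict _ hmap := ⟨_, rfl⟩
    have hle : commutator G ≤ Subgroup.centralizer (V : Set G) := by
      rw [commutator_def, Subgroup.commutator_le]
      intro a _ b _
      rw [Subgroup.mem_centralizer_iff]
      intro v hv
      exact (comm_centralizes φ hcop hfpf V hVφ hVne hmin a b v hv).symm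
    apply Subgroup.isNilpotent_of_ker_le_center f
    intro x hx
    rw [Subgroup.mem_center_iff]
    intro y
    have hxV : (x : G) ∈ V := by
      rw [MonoidHom.mem_ker, hf] at hx
      have h1 := congrArg Subtype.val hx
      have h2 : (QuotientGroup.mk (x : G) : G ⧸ V) = 1 := h1
      exact (QuotientGroup.eq_one_iff _).mp h2
    have h1 := hle y.2
    rw [Subgroup.mem_centralizer_iff] at h1
    apply Subtype.ext
    exact (h1 x hxV).symm

/-- **Theorem.**  If the symmetric group of degree three acts on a finite solvable group of
order prime to six, fixing only the identity, then the derived subgroup is nilpotent. -/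
theorem s3_main {G : Type u} [Group G] [Finite G] [Group.IsSolvable G]
    (φ : Equiv.Perm (Fin 3) →* MulAut G) (hcop : (Nat.card G).Coprime 6)
    (hfpf : ∀ g : G, (∀ π, φ π g = g) → g = 1) : Group.IsNilpotent ↥(commutator G) :=
  s3_main_aux (Nat.card G) G φ le_rfl hcop hfpf

end Cfsg.Agent.Lib.H20.S3F
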