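import Mathlib

/-!
# S4415, step (B5): the shortest-relation lemma

Let `X` be a group acting linearly on a nontrivial `k`-space `W` (`2 ≠ 0` in `k`), `z ∈ X` central
with `z` acting as `-1`, all commutators of `X` in `⟨z⟩`, and no element outside `{1, z}` central.
Then elements of `X` that are pairwise inequivalent modulo `⟨z⟩` act by linearly independent
endomorphisms of `W`.  Consequently `|X| ≤ 2 (dim W)²`.
-/

namespace Cfsg.Agent.Lib.H20.S4415B5

open Finset Module

variable {k : Type*} [Field k] {W : Type*} [AddCommGroup W] [Module k W]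
variable {X : Type*} [Group X]

/-- `z ≠ 1` because `z` acts as `-1` on a nontrivial space in characteristic `≠ 2`. -/
theorem z_ne_one [Nontrivial W] (h2 : (2 : k) ≠ 0) (r : X →* Module.End k W) (z : X)
    (hz : r z = -1) : z ≠ 1 := by
  intro h
  rw [h, map_one] at hz
  obtain ⟨w, hw⟩ := exists_ne (0 : W)
  have h1 : (1 : Module.End k W) w = (-1 : Module.End k W) w := by rw [← hz]
  simp only [Module.End.one_apply, LinearMap.neg_apply] at h1
  have h3 : (2 : k) • w = 0 := by
    rw [two_smul]
    nth_rewrite 1 [h1]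
    exact neg_add_cancel w
  rcases smul_eq_zero.mp h3 with h4 | h4
  · exact h2 h4
  · exact hw h4

/-- A single term `c • r x` vanishes only if `c = 0`. -/
theorem coeff_zero_of_smul [Nontrivial W] (r : X →* Module.End k W) (x : X) (c : k)
    (h : c • r x = 0) : c = 0 := by
  obtain ⟨w, hw⟩ := exists_ne (0 : W)
  have h1 : (c • r x) * r x⁻¹ = 0 := by rw [h, zero_mul]
  rw [smul_mul_assoc, ← map_mul, mul_inv_cancel, map_one] at h1
  have h2 : (c • (1 : Module.End k W)) w = 0 := by rw [h1]; rfl
  simp only [LinearMap.smul_apply, Module.End.one_apply] at h2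
  rcases smul_eq_zero.mp h2 with h4 | h4
  · exact h4
  · exact absurd h4 hw

open scoped Classical in
/-- Auxiliary form of the shortest-relation argument: induction on the size of the support. -/
theorem lin_indep_aux [Nontrivial W] (h2 : (2 : k) ≠ 0) (r : X →* Module.End k W) (z : X)
    (hz : r z = -1) (hzc : ∀ x : X, z * x = x * z)
    (hcomm : ∀ x y : X, y * x * y⁻¹ = x ∨ y * x * y⁻¹ = z * x)
    (hnc : ∀ x : X, x ≠ 1 → x ≠ z → ∃ y : X, y * x * y⁻¹ = z * x)
    (s : Finset X) (hs : ∀ x ∈ s, ∀ y ∈ s, x ≠ y → x ≠ z * y) :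
    ∀ (m : ℕ) (c : X → k), (s.filter (fun x => c x ≠ 0)).card = m →
      ∑ x ∈ s, c x • r x = 0 → m = 0 := by
  classical
  have hz1 : z ≠ 1 := z_ne_one h2 r z hz
  intro m
  induction m using Nat.strong_induction_on with
  | _ m ih =>
    intro c hm hrel
    by_contra hm0
    have hne : (s.filter (fun x => c x ≠ 0)).Nonempty := by
      rw [← Finset.card_pos, hm]; omega
    obtain ⟨x0, hx0⟩ := hne
    rw [Finset.mem_filter] at hx0
    obtain ⟨hx0s, hcx0⟩ := hx0
    by_cases hother : ∃ x1 ∈ s, x1 ≠ x0 ∧ c x1 ≠ 0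
    · obtain ⟨x1, hx1s, hx10, hcx1⟩ := hother
      -- the element `u = x0⁻¹ x1` is not in `{1, z}`
      have hu1 : x0⁻¹ * x1 ≠ 1 := by
        intro h
        apply hx10
        have := congrArg (fun t => x0 * t) h
        simpa using this
      have huz : x0⁻¹ * x1 ≠ z := by
        intro h
        have h' : x1 = z * x0 := by
          have := congrArg (fun t => x0 * t) h
          simp only [mul_inv_cancel_left] at this
          rw [this, hzc]
        exact hs x1 hx1s x0 hx0s hx10 h'
      obtain ⟨y, hy⟩ := hnc _ hu1 huz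
      -- the sign function of conjugation by `y`
      set sgn : X → k := fun x => if y * x * y⁻¹ = x then 1 else -1 with hsgn
      have hsgn_sq : ∀ x, sgn x * sgn x = 1 := by
        intro x
        simp only [hsgn]
        split_ifs <;> simp
      have hconj : ∀ x, r (y * x * y⁻¹) = sgn x • r x := by
        intro x
        simp only [hsgn]
        split_ifs with h
        · rw [h, one_smul]
        · rcases hcomm x y with h' | h'
          · exact absurd h' h
          · rw [h', map_mul, hz, neg_one_mul, neg_one_smul]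
      -- exactly one of `x0`, `x1` is fixed by `y`
      have hprod : sgn x0 * sgn x1 = -1 := by
        have hy' : (y * x0 * y⁻¹)⁻¹ * (y * x1 * y⁻¹) = z * (x0⁻¹ * x1) := by
          rw [← hy]; group
        simp only [hsgn]
        by_cases h0 : y * x0 * y⁻¹ = x0
        · by_cases h1 : y * x1 * y⁻¹ = x1
          · exfalso
            rw [h0, h1] at hy'
            have h4 : z * (x0⁻¹ * x1) = 1 * (x0⁻¹ * x1) := by rw [one_mul]; exact hy'.symm
            exact hz1 (mul_right_cancel h4)
          · rw [if_pos h0, if_neg h1]; simp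
        · by_cases h1 : y * x1 * y⁻¹ = x1
          · rw [if_neg h0, if_pos h1]; simp
          · exfalso
            have e0 : y * x0 * y⁻¹ = z * x0 := (hcomm x0 y).resolve_left h0
            have e1 : y * x1 * y⁻¹ = z * x1 := (hcomm x1 y).resolve_left h1
            rw [e0, e1] at hy'
            have h3 : (z * x0)⁻¹ * (z * x1) = x0⁻¹ * x1 := by group
            rw [h3] at hy'
            have h4 : z * (x0⁻¹ * x1) = 1 * (x0⁻¹ * x1) := by rw [one_mul]; exact hy'.symm
            exact hz1 (mul_right_cancel h4)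
      -- the conjugated relation
      have hrel' : ∑ x ∈ s, (c x * sgn x) • r x = 0 := by
        have h1 : r y * (∑ x ∈ s, c x • r x) * r y⁻¹ = 0 := by rw [hrel]; simp
        rw [Finset.mul_sum, Finset.sum_mul] at h1
        rw [← h1]
        apply Finset.sum_congr rfl
        intro x _
        rw [mul_smul_comm, smul_mul_assoc, ← map_mul, ← map_mul, hconj, smul_smul]
      -- the new coefficients
      set c' : X → k := fun x => c x * (1 + sgn x0 * sgn x) with hc'
      have hrel'' : ∑ x ∈ s, c' x • r x = 0 := by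
        have h1 : ∑ x ∈ s, c' x • r x =
            ∑ x ∈ s, c x • r x + sgn x0 • ∑ x ∈ s, (c x * sgn x) • r x := by
          rw [Finset.smul_sum, ← Finset.sum_add_distrib]
          apply Finset.sum_congr rfl
          intro x _
          rw [smul_smul, ← add_smul]
          congr 1
          simp only [hc']
          ring
        rw [h1, hrel, hrel', smul_zero, add_zero]
      have hc'x0 : c' x0 ≠ 0 := by
        simp only [hc', hsgn_sq x0]
        have : (1 : k) + 1 = 2 := by norm_num
        rw [this]
        exact mul_ne_zero hcx0 h2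
      have hc'x1 : c' x1 = 0 := by
        simp only [hc', hprod]
        ring
      have hsub : s.filter (fun x => c' x ≠ 0) ⊆ (s.filter (fun x => c x ≠ 0)).erase x1 := by
        intro x hx
        rw [Finset.mem_filter] at hx
        rw [Finset.mem_erase, Finset.mem_filter]
        refine ⟨?_, hx.1, ?_⟩
        · rintro rfl
          exact hx.2 hc'x1
        · intro h
          apply hx.2
          simp only [hc', h, zero_mul]
      have hlt : (s.filter (fun x => c' x ≠ 0)).card < m := by
        calc (s.filter (fun x => c' x ≠ 0)).card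
            ≤ ((s.filter (fun x => c x ≠ 0)).erase x1).card := Finset.card_le_card hsub
          _ < (s.filter (fun x => c x ≠ 0)).card :=
              Finset.card_erase_lt_of_mem (Finset.mem_filter.mpr ⟨hx1s, hcx1⟩)
          _ = m := hm
      have h0 := ih _ hlt c' rfl hrel''
      have : x0 ∈ s.filter (fun x => c' x ≠ 0) := Finset.mem_filter.mpr ⟨hx0s, hc'x0⟩
      rw [Finset.card_eq_zero] at h0
      rw [h0] at this
      exact absurd this (Finset.notMem_empty _)
    · -- only one term
      push Not at hother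
      have h1 : ∑ x ∈ s, c x • r x = c x0 • r x0 := by
        apply Finset.sum_eq_single_of_mem x0 hx0s
        intro x hx hxx0
        rw [hother x hx hxx0, zero_smul]
      rw [h1] at hrel
      exact hcx0 (coeff_zero_of_smul r x0 (c x0) hrel)

/-- **(B5)(a)**: elements pairwise inequivalent modulo `⟨z⟩` act by linearly independent
endomorphisms. -/
theorem lin_indep [Nontrivial W] (h2 : (2 : k) ≠ 0) (r : X →* Module.End k W) (z : X)
    (hz : r z = -1) (hzc : ∀ x : X, z * x = x * z)
    (hcomm : ∀ x y : X, y * x * y⁻¹ = x ∨ y * x * y⁻¹ = z * x)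
    (hnc : ∀ x : X, x ≠ 1 → x ≠ z → ∃ y : X, y * x * y⁻¹ = z * x)
    (s : Finset X) (hs : ∀ x ∈ s, ∀ y ∈ s, x ≠ y → x ≠ z * y)
    (c : X → k) (hrel : ∑ x ∈ s, c x • r x = 0) : ∀ x ∈ s, c x = 0 := by
  classical
  have h0 := lin_indep_aux h2 r z hz hzc hcomm hnc s hs _ c rfl hrel
  rw [Finset.card_eq_zero] at h0
  intro x hx
  by_contra hcx
  have : x ∈ s.filter (fun x => c x ≠ 0) := Finset.mem_filter.mpr ⟨hx, hcx⟩
  rw [h0] at this
  exact absurd this (Finset.notMem_empty _)

/-- The family `(r x)_{x ∈ s}` is linearly independent. -/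
theorem linearIndependent_coe [Nontrivial W] (h2 : (2 : k) ≠ 0) (r : X →* Module.End k W) (z : X)
    (hz : r z = -1) (hzc : ∀ x : X, z * x = x * z)
    (hcomm : ∀ x y : X, y * x * y⁻¹ = x ∨ y * x * y⁻¹ = z * x)
    (hnc : ∀ x : X, x ≠ 1 → x ≠ z → ∃ y : X, y * x * y⁻¹ = z * x)
    (s : Finset X) (hs : ∀ x ∈ s, ∀ y ∈ s, x ≠ y → x ≠ z * y) :
    LinearIndependent k (fun x : s => r (x : X)) := by
  classical
  rw [linearIndependent_iff']
  intro t g hg i hi
  set c : X → k := fun x => if h : x ∈ s then g ⟨x, h⟩ else 0 with hc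
  have hsub : ∀ x ∈ t.map (Function.Embedding.subtype _), x ∈ s := by
    intro x hx
    rw [Finset.mem_map] at hx
    obtain ⟨a, _, rfl⟩ := hx
    exact a.2
  have hrel : ∑ x ∈ t.map (Function.Embedding.subtype _), c x • r x = 0 := by
    rw [Finset.sum_map, ← hg]
    apply Finset.sum_congr rfl
    intro a _
    simp only [Function.Embedding.coe_subtype, hc, a.2, dite_true]
  have h := lin_indep h2 r z hz hzc hcomm hnc (t.map (Function.Embedding.subtype _))
    (fun x hx y hy hxy => hs x (hsub x hx) y (hsub y hy) hxy) c hrel (i : X)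
    (Finset.mem_map.mpr ⟨i, hi, rfl⟩)
  simpa only [hc, i.2, dite_true] using h

/-- **(B5)(b)**: at most `(dim W)²` pairwise inequivalent elements. -/
theorem card_le [Nontrivial W] [FiniteDimensional k W] (h2 : (2 : k) ≠ 0)
    (r : X →* Module.End k W) (z : X)
    (hz : r z = -1) (hzc : ∀ x : X, z * x = x * z)
    (hcomm : ∀ x y : X, y * x * y⁻¹ = x ∨ y * x * y⁻¹ = z * x)
    (hnc : ∀ x : X, x ≠ 1 → x ≠ z → ∃ y : X, y * x * y⁻¹ = z * x)
    (s : Finset X) (hs : ∀ x ∈ s, ∀ y ∈ s, x ≠ y → x ≠ z * y) :
    s.card ≤ (finrank k W) ^ 2 := by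
  have h := (linearIndependent_coe h2 r z hz hzc hcomm hnc s hs).fintype_card_le_finrank
  rw [Fintype.card_coe] at h
  have h3 : finrank k (Module.End k W) = finrank k W * finrank k W :=
    Module.finrank_linearMap k k W W
  rw [h3] at h
  rw [sq]
  exact h

/-- Spanning in the case of equality. -/
theorem span_eq_top [Nontrivial W] [FiniteDimensional k W] (h2 : (2 : k) ≠ 0)
    (r : X →* Module.End k W) (z : X)
    (hz : r z = -1) (hzc : ∀ x : X, z * x = x * z)
    (hcomm : ∀ x y : X, y * x * y⁻¹ = x ∨ y * x * y⁻¹ = z * x)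
    (hnc : ∀ x : X, x ≠ 1 → x ≠ z → ∃ y : X, y * x * y⁻¹ = z * x)
    (s : Finset X) (hs : ∀ x ∈ s, ∀ y ∈ s, x ≠ y → x ≠ z * y)
    (hcard : s.card = (finrank k W) ^ 2) :
    Submodule.span k (Set.range (fun x : s => r (x : X))) = ⊤ := by
  apply (linearIndependent_coe h2 r z hz hzc hcomm hnc s hs).span_eq_top_of_card_eq_finrank'
  rw [Fintype.card_coe, hcard, sq]
  exact (Module.finrank_linearMap k k W W).symm

/-- **(B5)(c)**: group form: `|X| ≤ 2 (dim W)²`. -/
theorem natCard_le [Finite X] [Nontrivial W] [FiniteDimensional k W] (h2 : (2 : k) ≠ 0)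
    (r : X →* Module.End k W) (z : X)
    (hz : r z = -1) (hzc : ∀ x : X, z * x = x * z) (hz2 : z * z = 1)
    (hcomm : ∀ x y : X, y * x * y⁻¹ = x ∨ y * x * y⁻¹ = z * x)
    (hnc : ∀ x : X, x ≠ 1 → x ≠ z → ∃ y : X, y * x * y⁻¹ = z * x) :
    Nat.card X ≤ 2 * (finrank k W) ^ 2 := by
  classical
  have hz1 : z ≠ 1 := z_ne_one h2 r z hz
  have : Fintype (X ⧸ Subgroup.zpowers z) := Fintype.ofFinite _
  set s : Finset X := Finset.univ.image (Quotient.out : X ⧸ Subgroup.zpowers z → X) with hsdef
  have hinj : Function.Injective (Quotient.out : X ⧸ Subgroup.zpowers z → X) := by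
    intro a b hab
    have := congrArg (fun t => (QuotientGroup.mk t : X ⧸ Subgroup.zpowers z)) hab
    simpa using this
  have hscard : s.card = Nat.card (X ⧸ Subgroup.zpowers z) := by
    rw [hsdef, Finset.card_image_of_injective _ hinj, Finset.card_univ]
    exact Fintype.card_eq_nat_card
  have hs : ∀ x ∈ s, ∀ y ∈ s, x ≠ y → x ≠ z * y := by
    intro x hx y hy hxy hxz
    rw [hsdef, Finset.mem_image] at hx hy
    obtain ⟨a, _, rfl⟩ := hx
    obtain ⟨b, _, rfl⟩ := hy
    apply hxy
    have hab : a = b := by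
      have h1 : (QuotientGroup.mk (Quotient.out a) : X ⧸ Subgroup.zpowers z) =
          QuotientGroup.mk (Quotient.out b) := by
        rw [QuotientGroup.eq, hxz]
        have : (z * Quotient.out b)⁻¹ * Quotient.out b = z⁻¹ := by
          rw [hzc]; group
        rw [this]
        exact Subgroup.inv_mem _ (Subgroup.mem_zpowers z)
      simpa using h1
    rw [hab]
  have hle := card_le h2 r z hz hzc hcomm hnc s hs
  have hord : orderOf z = 2 := by
    apply orderOf_eq_prime
    · rw [pow_two]; exact hz2
    · exact hz1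
  have hcz : Nat.card (Subgroup.zpowers z) = 2 := by rw [Nat.card_zpowers, hord]
  have hlag := Subgroup.card_eq_card_quotient_mul_card_subgroup (Subgroup.zpowers z)
  rw [hlag, hcz, ← hscard]
  omega

end Cfsg.Agent.Lib.H20.S4415B5
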