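import Mathlib

/-!
# S2924 piece INV in the exact signature of `tools/blueprints/S2924_sigs.lean` (helper20)

A fixed-point-free involution `z` normalizing the subgroup `T` of the finite group `X` inverts `T`,
and `T` is commutative (Mathlib's `MonoidHom.FixedPointFree`).
-/

set_option autoImplicit false

namespace Cfsg.Agent.Lib.H20.SG

/-- INV. -/
theorem comm_of_fpf_involution {X : Type*} [Group X] [Finite X] (T : Subgroup X) (z : X) (hz : z ^ 2 = 1)
    (hzT : z ∈ Subgroup.normalizer ((T : Subgroup X) : Set X))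
    (hfix : T ⊓ Subgroup.centralizer ({z} : Set X) = ⊥) :
    (∀ a ∈ T, z * a * z⁻¹ = a⁻¹) ∧ ∀ a ∈ T, ∀ b ∈ T, a * b = b * a := by
  have hzz : z * z = 1 := by rw [← sq]; exact hz
  have hzinv : z⁻¹ = z := inv_eq_of_mul_eq_one_left hzz
  have hmem : ∀ a : T, z * (a : X) * z⁻¹ ∈ T := fun a =>
    (Subgroup.mem_normalizer_iff.1 hzT (a : X)).1 a.2
  let φ : T →* T :=
    { toFun := fun a => ⟨z * (a : X) * z⁻¹, hmem a⟩
      map_one' := by
        apply Subtype.ext
        simp
      map_mul' := by
        intro a b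
        apply Subtype.ext
        simp only [Subgroup.coe_mul]
        group }
  have hφv : ∀ b : T, ((φ b : T) : X) = z * b * z⁻¹ := fun b => rfl
  have hfpf : MonoidHom.FixedPointFree φ := by
    intro b hb
    have h1 : z * (b : X) * z⁻¹ = b := by rw [← hφv, hb]
    have h2 : (b : X) ∈ T ⊓ Subgroup.centralizer ({z} : Set X) := by
      have hc : (b : X) ∈ Subgroup.centralizer ({z} : Set X) := by
        rw [Subgroup.mem_centralizer_singleton_iff]
        calc (b : X) * z = z * b * z⁻¹ * z := by rw [h1]
          _ = z * b := by group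
      exact Subgroup.mem_inf.2 ⟨b.2, hc⟩
    rw [hfix, Subgroup.mem_bot] at h2
    exact Subtype.ext h2
  have hinv : Function.Involutive φ := by
    intro b
    apply Subtype.ext
    rw [hφv, hφv, hzinv]
    calc z * (z * (b : X) * z) * z = (z * z) * b * (z * z) := by group
      _ = b := by rw [hzz, one_mul, mul_one]
  have key := hfpf.coe_eq_inv_of_involutive hinv
  have hI : ∀ a ∈ T, z * a * z⁻¹ = a⁻¹ := by
    intro a ha
    have := congrFun key ⟨a, ha⟩
    have h3 := congrArg Subtype.val this
    rw [hφv] at h3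
    simpa using h3
  refine ⟨hI, ?_⟩
  intro a ha b hb
  have := hfpf.commute_all_of_involutive hinv ⟨a, ha⟩ ⟨b, hb⟩
  exact congrArg Subtype.val this.eq

end Cfsg.Agent.Lib.H20.SG
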