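import Cfsg.Agent.Lib.H23.SHCSL
import Cfsg.Agent.Lib.H6.SHENDA
import Cfsg.Agent.Lib.H12.SHGLUEA

/-!
# S3017 (Shult), CASE A, group side (helper20): twin on the route
`H23.SHCSL` (CS0 + ORTH in orbit-count form, on LOC) + `H6.SH.enda` + `H12.SH` (mult, ker, nt).

In the minimal configuration (`H` abelian extremely closed `2`-subgroup, induction hypothesis for the centralizers
`C_G(h)`, `h ∈ H#`, and `⟨H^G⟩ = G`): if `N_G(H)` is not transitive on `H#` then `N_G(H)` centralizes `H`.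
-/

set_option autoImplicit false
set_option linter.unusedSectionVars false
set_option linter.unusedVariables false

namespace Cfsg.Agent.Lib.H20.SH

open Cfsg Cfsg.Agent.Lib.H24
open scoped ComplexConjugate

variable {G : Type*} [Group G] [Fintype G] {M : Ideal AlgInt}

theorem caseA2 (hM : IsPModular 2 M) {H : Subgroup G} (hH2 : IsPGroup 2 H)
    (hHab : IsMulCommutative H) (hcl : Cfsg.IsExtremelyClosed H)
    (hIH : ∀ h ∈ H, h ≠ 1 → Subgroup.normalizer
      ((H.subgroupOf (Subgroup.centralizer ({h} : Set G)) :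
        Subgroup ↥(Subgroup.centralizer ({h} : Set G))) :
        Set ↥(Subgroup.centralizer ({h} : Set G))) ⊔
      Cfsg.oddCore ↥(Subgroup.centralizer ({h} : Set G)) = ⊤)
    (hncl : Subgroup.normalClosure (H : Set G) = ⊤)
    (hnt : ¬ Cfsg.Agent.Lib.H12.SH.TransN H) :
    ∀ n ∈ Subgroup.normalizer (H : Set G), ∀ a ∈ H, n * a * n⁻¹ = a := by
  classical
  letI : CommGroup ↥H :=
    { (inferInstance : Group ↥H) with mul_comm := fun x y => hHab.is_comm.comm x y }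
  haveI : M.IsMaximal := hM.2.1
  haveI : M.IsPrime := Ideal.IsMaximal.isPrime inferInstance
  letI : Fintype ↥H := Fintype.ofFinite _
  letI : Fintype ↥(Subgroup.normalizer (H : Set G)) := Fintype.ofFinite _
  let φ : ↥(Subgroup.normalizer (H : Set G)) →* MulAut ↥H :=
    MulDistribMulAction.toMulAut ↥(Subgroup.normalizer (H : Set G)) ↥H
  have hφ : ∀ (n : ↥(Subgroup.normalizer (H : Set G))) (b : ↥H),
      ((φ n b : ↥H) : G) = (n : G) * b * (n : G)⁻¹ := fun n b => rfl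
  let ι := ↥(Cfsg.Agent.Lib.H23.SH.b0Finset M G)
  let χ : ι → ↥H → ℂ := fun i a => ((i.1 : IrrCharacter G) : G → ℂ) (a : G)
  have hdeg : ∀ i : ι, ∃ n : ℕ, 0 < n ∧ χ i 1 = n := fun i => irr_one_eq i.1
  choose f hf using hdeg
  have hmem : ∀ i : ι, (i.1 : IrrCharacter G) ∈ principalBlock M G := fun i =>
    Cfsg.Agent.Lib.H23.SH.mem_b0Finset.1 i.2
  let i₀ : ι := ⟨trivialIrr G,
    Cfsg.Agent.Lib.H23.SH.mem_b0Finset.2 Cfsg.Agent.Lib.H23.trivialIrr_mem_principalBlock⟩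
  have hi₀ : ∀ a, χ i₀ a = 1 := fun a => rfl
  have hker : ∀ i, (∀ a, χ i a = χ i 1) → i = i₀ := by
    intro i hconst
    have h1 := Cfsg.Agent.Lib.H12.SH.ker i.1.2 H hncl (fun a ha => hconst ⟨a, ha⟩)
    apply Subtype.ext
    apply Subtype.ext
    exact h1
  have hm : ∀ i (l : ↥H →* ℂˣ), ∃ m : ℕ,
      ∑ b, χ i b * conj ((l b : ℂˣ) : ℂ) = (Fintype.card ↥H : ℂ) * (m : ℂ) := by
    intro i l
    obtain ⟨n, ρ, _, hρ⟩ := i.1.2
    exact Cfsg.Agent.Lib.H12.SH.mult ⟨n, ρ, hρ⟩ H l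
  have hcardN : Nat.card ↥(Subgroup.normalizer (H : Set G)) =
      Fintype.card ↥(Subgroup.normalizer (H : Set G)) := Nat.card_eq_fintype_card
  have hN0 : (Fintype.card ↥(Subgroup.normalizer (H : Set G)) : ℂ) ≠ 0 := by
    exact_mod_cast (Fintype.card_ne_zero : Fintype.card ↥(Subgroup.normalizer (H : Set G)) ≠ 0)
  -- CS0
  have hCS0 : ∀ i (a b : ↥H), (∀ n, a * φ n b ≠ 1) →
      χ i a * χ i b / χ i 1 =
        (∑ n, χ i (a * φ n b)) / (Fintype.card ↥(Subgroup.normalizer (H : Set G)) : ℂ) := by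
    intro i a b hab
    have h1 := Cfsg.Agent.Lib.H23.SH.cs0_of_loc hM hH2 hHab hcl hIH i.1 (hmem i) a.2 b.2
      (fun n hn h0 => hab ⟨n, hn⟩ (Subtype.ext h0))
    rw [hcardN] at h1
    exact h1
  -- non-transitivity
  have hnt' : ∃ a b : ↥H, a ≠ 1 ∧ b ≠ 1 ∧ ∀ n, a * φ n b ≠ 1 := by
    obtain ⟨a, ha, b, hb, ha1, hb1, hab⟩ := Cfsg.Agent.Lib.H12.SH.nt hnt
    refine ⟨⟨a, ha⟩, ⟨b, hb⟩, fun h0 => ha1 (congrArg Subtype.val h0),
      fun h0 => hb1 (congrArg Subtype.val h0), ?_⟩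
    intro n h0
    exact hab n n.2 (congrArg Subtype.val h0)
  -- ORTH in pair-count form
  let γ : ↥H → ℝ := fun c => ∑ i : ι, Complex.normSq (χ i c)
  let stab : ↥H → ℕ := fun c =>
    (Finset.univ.filter (fun n' : ↥(Subgroup.normalizer (H : Set G)) => φ n' c = c)).card
  have hstab : ∀ c, 0 < stab c := fun c =>
    Finset.card_pos.2 ⟨1, Finset.mem_filter.2 ⟨Finset.mem_univ _, by rw [map_one]; rfl⟩⟩
  let κ : ↥H → ℝ := fun c =>
    γ c / (Fintype.card ↥(Subgroup.normalizer (H : Set G)) : ℝ) / (stab c : ℝ)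
  have hORTH : ∀ a b c : ↥H, c ≠ 1 → ∑ i, χ i a * χ i b * conj (χ i c) / χ i 1 =
      (κ c : ℂ) * (((Finset.univ : Finset (↥(Subgroup.normalizer (H : Set G)) ×
        ↥(Subgroup.normalizer (H : Set G)))).filter
          (fun x => a * φ x.1 b = φ x.2 c)).card : ℂ) := by
    intro a b c hc
    have h1 := Cfsg.Agent.Lib.H23.SH.orth_of_loc hM hH2 hHab hcl hIH a.2 b.2 c.2
      (fun h0 => hc (Subtype.ext h0))
    rw [Cfsg.Agent.Lib.H23.SH.finsum_b0_eq_sum, Cfsg.Agent.Lib.H23.SH.finsum_b0_eq_sum] at h1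
    have e1 : ∑ i : ι, χ i a * χ i b * conj (χ i c) / χ i 1 =
        ∑ χ' ∈ Cfsg.Agent.Lib.H23.SH.b0Finset M G,
          (χ' : G → ℂ) (a : G) * (χ' : G → ℂ) (b : G) * conj ((χ' : G → ℂ) (c : G)) /
            (χ' : G → ℂ) 1 :=
      Finset.sum_coe_sort (Cfsg.Agent.Lib.H23.SH.b0Finset M G)
        (fun χ' : IrrCharacter G => (χ' : G → ℂ) (a : G) * (χ' : G → ℂ) (b : G) *
          conj ((χ' : G → ℂ) (c : G)) / (χ' : G → ℂ) 1)
    have e2 : ∑ i : ι, χ i c * conj (χ i c) =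
        ∑ χ' ∈ Cfsg.Agent.Lib.H23.SH.b0Finset M G,
          (χ' : G → ℂ) (c : G) * conj ((χ' : G → ℂ) (c : G)) :=
      Finset.sum_coe_sort (Cfsg.Agent.Lib.H23.SH.b0Finset M G)
        (fun χ' : IrrCharacter G => (χ' : G → ℂ) (c : G) * conj ((χ' : G → ℂ) (c : G)))
    have hcount : Nat.card {n : ↥(Subgroup.normalizer (H : Set G)) //
        ∃ n' ∈ Subgroup.normalizer (H : Set G),
          (a : G) * ((n : G) * (b : G) * (n : G)⁻¹) = n' * (c : G) * n'⁻¹} =
        (Finset.univ.filter (fun n : ↥(Subgroup.normalizer (H : Set G)) =>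
          ∃ n' : ↥(Subgroup.normalizer (H : Set G)), a * φ n b = φ n' c)).card := by
      rw [Nat.card_eq_fintype_card, Fintype.card_subtype]
      congr 1
      ext n
      simp only [Finset.mem_filter, Finset.mem_univ, true_and]
      constructor
      · rintro ⟨n', hn', h⟩
        exact ⟨⟨n', hn'⟩, Subtype.ext h⟩
      · rintro ⟨n', h⟩
        exact ⟨n'.1, n'.2, congrArg Subtype.val h⟩
    have hγ : ∑ i : ι, χ i c * conj (χ i c) = ((γ c : ℝ) : ℂ) := by
      show _ = ((∑ i : ι, Complex.normSq (χ i c) : ℝ) : ℂ)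
      push_cast
      refine Finset.sum_congr rfl (fun i _ => ?_)
      rw [Complex.mul_conj]
    rw [e1, h1, ← e2, hγ, hcount, hcardN, Cfsg.Agent.Lib.H6.SH.card_pairs_eq φ a b c]
    have hs0 : ((stab c : ℕ) : ℂ) ≠ 0 := by exact_mod_cast (hstab c).ne'
    show _ = (((γ c / (Fintype.card ↥(Subgroup.normalizer (H : Set G)) : ℝ) / (stab c : ℝ) : ℝ)) : ℂ) *
      _
    push_cast
    field_simp
    rfl
  have hfin := Cfsg.Agent.Lib.H6.SH.enda φ χ f hf i₀ hi₀ hker hm κ hORTH hCS0 hnt'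
  intro n hn a ha
  have h2 := hfin ⟨n, hn⟩ ⟨a, ha⟩
  exact congrArg Subtype.val h2

end Cfsg.Agent.Lib.H20.SH
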