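import Mathlib
import Cfsg.Agent.Lib.H23.AbSylB
import Cfsg.Agent.Lib.H20.CYRANK

/-!
# S3017 (Shult), CASE A: the endgame, with the FOUR identity as a hypothesis (helper20)

`A` a finite abelian group (`= H`), `N` a finite group acting on `A` (`= N_G(H)`), `χ i` the restrictions to `A`
of the characters of the principal block, `m i l` the multiplicity of the linear character `l` in `χ i`.
From the rank one identity `∑ᵢ (|A| m i l / f i) χ i a conj (χ i c) = β S_l(a) conj (S_l(c))` on `A ∖ {1}`,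
where `S_l(a)` is the average of `l` over the `N`-orbit of `a`, we deduce that `N` acts trivially on `A`.
-/

set_option autoImplicit false

namespace Cfsg.Agent.Lib.H20.SH

open scoped ComplexConjugate
open Cfsg.Agent.Lib.H23.AbSyl (sum_apply_hom sum_hom_mul_conj exists_hom_ne_one)

variable {A N ι : Type*} [CommGroup A] [Fintype A] [Group N] [Fintype N] [Fintype ι]

/-- the average of `l` over the `N`-orbit of `a` -/
noncomputable def avg (φ : N →* MulAut A) (l : A →* ℂˣ) (a : A) : ℂ :=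
  (∑ n : N, ((l (φ n a) : ℂˣ) : ℂ)) / (Fintype.card N : ℂ)

theorem cardN_ne_zero : (Fintype.card N : ℂ) ≠ 0 := by
  exact_mod_cast (Fintype.card_ne_zero : Fintype.card N ≠ 0)

theorem cardA_ne_zero : (Fintype.card A : ℂ) ≠ 0 := by
  exact_mod_cast (Fintype.card_ne_zero : Fintype.card A ≠ 0)

theorem avg_one_char (φ : N →* MulAut A) (a : A) : avg φ 1 a = 1 := by
  unfold avg
  simp only [MonoidHom.one_apply, Units.val_one, Finset.sum_const, Finset.card_univ, nsmul_eq_mul,
    mul_one]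
  exact div_self cardN_ne_zero

theorem avg_at_one (φ : N →* MulAut A) (l : A →* ℂˣ) : avg φ l 1 = 1 := by
  unfold avg
  simp only [map_one, Units.val_one, Finset.sum_const, Finset.card_univ, nsmul_eq_mul, mul_one]
  exact div_self cardN_ne_zero

theorem sum_avg (φ : N →* MulAut A) {l : A →* ℂˣ} (hl : l ≠ 1) : ∑ a : A, avg φ l a = 0 := by
  unfold avg
  rw [← Finset.sum_div, Finset.sum_comm]
  have h : ∀ n : N, ∑ a : A, ((l (φ n a) : ℂˣ) : ℂ) = 0 := by
    intro n
    have h1 : ∑ a : A, ((l (φ n a) : ℂˣ) : ℂ) = ∑ a : A, ((l a : ℂˣ) : ℂ) :=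
      Equiv.sum_comp (φ n).toEquiv (fun a => ((l a : ℂˣ) : ℂ))
    rw [h1, sum_apply_hom, if_neg hl]
  rw [Finset.sum_congr rfl (fun n _ => h n), Finset.sum_const_zero, zero_div]

open Classical in
theorem sum_avg_conj (φ : N →* MulAut A) (l : A →* ℂˣ) :
    ∑ a : A, avg φ l a * conj ((l a : ℂˣ) : ℂ) =
      (Fintype.card A : ℂ) *
        ((Finset.univ.filter (fun n : N => l.comp (φ n).toMonoidHom = l)).card : ℂ) /
        (Fintype.card N : ℂ) := by
  unfold avg
  have h1 : ∀ a : A, (∑ n : N, ((l (φ n a) : ℂˣ) : ℂ)) / (Fintype.card N : ℂ) *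
      conj ((l a : ℂˣ) : ℂ) =
      (∑ n : N, ((l (φ n a) : ℂˣ) : ℂ) * conj ((l a : ℂˣ) : ℂ)) / (Fintype.card N : ℂ) := by
    intro a
    rw [div_mul_eq_mul_div, Finset.sum_mul]
  rw [Finset.sum_congr rfl (fun a _ => h1 a), ← Finset.sum_div, Finset.sum_comm]
  have h2 : ∀ n : N, ∑ a : A, ((l (φ n a) : ℂˣ) : ℂ) * conj ((l a : ℂˣ) : ℂ) =
      if l.comp (φ n).toMonoidHom = l then (Fintype.card A : ℂ) else 0 := by
    intro n
    have := sum_hom_mul_conj (l.comp (φ n).toMonoidHom) l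
    rw [Nat.card_eq_fintype_card] at this
    exact this
  rw [Finset.sum_congr rfl (fun n _ => h2 n), Finset.sum_ite, Finset.sum_const,
    Finset.sum_const_zero, add_zero, nsmul_eq_mul]
  ring

/-- rank one, from FOUR -/
theorem rank_one_of_four (φ : N →* MulAut A) (χ : ι → A → ℂ) (f : ι → ℕ)
    (m : ι → (A →* ℂˣ) → ℕ) (β : ℂ)
    (hFOUR : ∀ (l : A →* ℂˣ) (a c : A), a ≠ 1 → c ≠ 1 →
      ∑ i, ((Fintype.card A : ℂ) * (m i l : ℂ) / (f i : ℂ)) * χ i a * conj (χ i c) =
        β * avg φ l a * conj (avg φ l c))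
    (l : A →* ℂˣ) (i : ι) (hf : 0 < f i) (hmi : 0 < m i l) {a c : A} (ha : a ≠ 1) (hc : c ≠ 1) :
    χ i a * avg φ l c = χ i c * avg φ l a := by
  have hpos : 0 < (Fintype.card A : ℝ) * (m i l : ℝ) / (f i : ℝ) := by
    have h1 : 0 < (Fintype.card A : ℝ) := by exact_mod_cast Fintype.card_pos
    have h2 : 0 < (m i l : ℝ) := by exact_mod_cast hmi
    have h3 : 0 < (f i : ℝ) := by exact_mod_cast hf
    positivity
  have h := Cfsg.Agent.Lib.H20.CY.rank_one_rigidity (I := ι) (J := {a : A // a ≠ 1})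
    (fun i => (Fintype.card A : ℝ) * (m i l : ℝ) / (f i : ℝ)) (fun i => by positivity)
    (fun i a => χ i a.1) (fun a => avg φ l a.1) β
    (fun a c => by
      have := hFOUR l a.1 c.1 a.2 c.2
      push_cast
      exact this)
    i hpos ⟨a, ha⟩ ⟨c, hc⟩
  exact h

section Main

variable (φ : N →* MulAut A) (χ : ι → A → ℂ) (f : ι → ℕ)
  (hf : ∀ i, 0 < f i ∧ χ i 1 = (f i : ℂ))
  (i₀ : ι) (hi₀ : ∀ a, χ i₀ a = 1) (hker : ∀ i, (∀ a, χ i a = χ i 1) → i = i₀)
  (m : ι → (A →* ℂˣ) → ℕ)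
  (hm : ∀ i (l : A →* ℂˣ),
    ∑ b, χ i b * conj ((l b : ℂˣ) : ℂ) = (Fintype.card A : ℂ) * (m i l : ℂ))
  (β : ℂ)
  (hFOUR : ∀ (l : A →* ℂˣ) (a c : A), a ≠ 1 → c ≠ 1 →
    ∑ i, ((Fintype.card A : ℂ) * (m i l : ℂ) / (f i : ℂ)) * χ i a * conj (χ i c) =
      β * avg φ l a * conj (avg φ l c))
  (hCS0 : ∀ i (a b : A), (∀ n, a * φ n b ≠ 1) →
    χ i a * χ i b / χ i 1 = (∑ n, χ i (a * φ n b)) / (Fintype.card N : ℂ))
  (hnt : ∃ a b : A, a ≠ 1 ∧ b ≠ 1 ∧ ∀ n, a * φ n b ≠ 1)

include hf hker hFOUR hCS0 hnt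

/-- `l = 1`: a constituent of `1_A ↑` other than the trivial character vanishes on `A ∖ {1}` -/
theorem vanish_of_mult_one (i : ι) (hmi : 0 < m i 1) (hi : i ≠ i₀) : ∀ a, a ≠ 1 → χ i a = 0 := by
  obtain ⟨a0, b0, ha0, hb0, hab⟩ := hnt
  have hconst : ∀ a c : A, a ≠ 1 → c ≠ 1 → χ i a = χ i c := by
    intro a c ha hc
    have := rank_one_of_four φ χ f m β hFOUR 1 i (hf i).1 hmi ha hc
    rwa [avg_one_char, avg_one_char, mul_one, mul_one] at this
  set d := χ i a0 with hd
  have hall : ∀ a, a ≠ 1 → χ i a = d := fun a ha => hconst a a0 ha ha0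
  have hcs := hCS0 i a0 b0 hab
  have hsum : ∑ n, χ i (a0 * φ n b0) = (Fintype.card N : ℂ) * d := by
    rw [Finset.sum_congr rfl (fun n _ => hall _ (hab n)), Finset.sum_const, Finset.card_univ,
      nsmul_eq_mul]
  rw [hall b0 hb0, (hf i).2, hsum, mul_div_cancel_left₀ _ cardN_ne_zero] at hcs
  have hf0 : (f i : ℂ) ≠ 0 := by exact_mod_cast (hf i).1.ne'
  have h2 : d * d = d * (f i : ℂ) := by
    rw [div_eq_iff hf0] at hcs
    exact hcs
  have hdd : d * (d - f i) = 0 := by linear_combination h2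
  rcases mul_eq_zero.1 hdd with h0 | h0
  · intro a ha
    rw [hall a ha, h0]
  · exfalso
    apply hi
    apply hker
    intro a
    by_cases ha : a = 1
    · rw [ha]
    · rw [hall a ha, (hf i).2]
      exact sub_eq_zero.1 h0

include hi₀ hm

/-- the constant `β` is `|A|` -/
theorem beta_eq : β = (Fintype.card A : ℂ) := by
  have hnt' := hnt
  obtain ⟨a0, b0, ha0, hb0, hab⟩ := hnt'
  have h := hFOUR 1 a0 a0 ha0 ha0
  rw [avg_one_char, mul_one, map_one, mul_one] at h
  rw [← h]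
  have hm1 : m i₀ 1 = 1 := by
    have h1 := hm i₀ 1
    simp only [hi₀, MonoidHom.one_apply, Units.val_one, map_one, mul_one, Finset.sum_const,
      Finset.card_univ, nsmul_eq_mul] at h1
    have h2 : (Fintype.card A : ℂ) * 1 = (Fintype.card A : ℂ) * (m i₀ 1 : ℂ) := by
      rw [mul_one]; exact h1
    have h3 := mul_left_cancel₀ cardA_ne_zero h2
    exact_mod_cast h3.symm
  have hf1 : f i₀ = 1 := by
    have h1 := (hf i₀).2
    rw [hi₀] at h1
    exact_mod_cast h1.symm
  rw [Finset.sum_eq_single i₀]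
  · rw [hi₀, hm1, hf1]
    simp
  · intro i _ hi
    by_cases hmi : m i 1 = 0
    · rw [hmi]; simp
    · have := vanish_of_mult_one φ χ f hf i₀ hker m β hFOUR hCS0 hnt i (Nat.pos_of_ne_zero hmi) hi
        a0 ha0
      rw [this]; simp
  · intro h0
    exact absurd (Finset.mem_univ _) h0

open Classical in
/-- `l ≠ 1`: the `N`-orbit of `l` is trivial -/
theorem comp_eq_of_ne_one {l : A →* ℂˣ} (hl : l ≠ 1) (n : N) : l.comp (φ n).toMonoidHom = l := by
  have hβ := beta_eq φ χ f hf i₀ hi₀ hker m hm β hFOUR hCS0 hnt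
  -- a point where the average does not vanish
  obtain ⟨c0, hc0, hS0⟩ : ∃ c0 : A, c0 ≠ 1 ∧ avg φ l c0 ≠ 0 := by
    by_contra hcon
    push_neg at hcon
    have h1 : ∑ a : A, avg φ l a = avg φ l 1 := by
      apply Finset.sum_eq_single 1
      · intro b _ hb; exact hcon b hb
      · intro h0; exact absurd (Finset.mem_univ _) h0
    rw [sum_avg φ hl, avg_at_one] at h1
    exact zero_ne_one h1
  -- the trivial character does not contain `l`
  have hm0 : m i₀ l = 0 := by
    have h1 := hm i₀ l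
    simp only [hi₀, one_mul] at h1
    have h2 : ∑ b : A, conj ((l b : ℂˣ) : ℂ) = 0 := by
      rw [← map_sum, sum_apply_hom, if_neg hl, map_zero]
    rw [h2] at h1
    have h3 := (mul_eq_zero.1 h1.symm).resolve_left cardA_ne_zero
    exact_mod_cast h3
  -- contributing characters are `f · avg`
  have hcontrib : ∀ i, 0 < m i l → χ i c0 ≠ 0 → ∀ b, χ i b = (f i : ℂ) * avg φ l b := by
    intro i hmi hχ
    have hii₀ : i ≠ i₀ := by
      rintro rfl
      omega
    have hm1 : m i 1 = 0 := by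
      by_contra h0
      exact hχ (vanish_of_mult_one φ χ f hf i₀ hker m β hFOUR hCS0 hnt i (Nat.pos_of_ne_zero h0)
        hii₀ c0 hc0)
    set τ := χ i c0 / avg φ l c0 with hτ
    have hχτ : ∀ a, a ≠ 1 → χ i a = τ * avg φ l a := by
      intro a ha
      have h1 := rank_one_of_four φ χ f m β hFOUR l i (hf i).1 hmi ha hc0
      rw [hτ, div_mul_eq_mul_div, eq_div_iff hS0]
      exact h1
    have hsum0 : ∑ b : A, χ i b = 0 := by
      have h1 := hm i 1
      simp only [MonoidHom.one_apply, Units.val_one, map_one, mul_one] at h1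
      rw [h1, hm1]
      simp
    have hτf : τ = (f i : ℂ) := by
      have h1 : ∑ b : A, χ i b =
          ∑ b : A, (τ * avg φ l b + if b = 1 then ((f i : ℂ) - τ) else 0) := by
        refine Finset.sum_congr rfl (fun b _ => ?_)
        by_cases hb : b = 1
        · rw [hb, if_pos rfl, avg_at_one, (hf i).2]; ring
        · rw [if_neg hb, add_zero, hχτ b hb]
      rw [hsum0, Finset.sum_add_distrib, ← Finset.mul_sum, sum_avg φ hl, mul_zero, zero_add,
        Finset.sum_ite_eq' Finset.univ (1 : A) (fun _ => (f i : ℂ) - τ), if_pos (Finset.mem_univ _)]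
        at h1
      exact (sub_eq_zero.1 h1.symm).symm
    intro b
    by_cases hb : b = 1
    · rw [hb, avg_at_one, mul_one, (hf i).2]
    · rw [hχτ b hb, hτf]
  -- the multiplicity of `l`
  have hmult : ∀ i, 0 < m i l → χ i c0 ≠ 0 →
      m i l * Fintype.card N =
        f i * (Finset.univ.filter (fun n : N => l.comp (φ n).toMonoidHom = l)).card := by
    intro i hmi hχ
    have hb := hcontrib i hmi hχ
    have h1 := hm i l
    have h2 : ∑ b : A, χ i b * conj ((l b : ℂˣ) : ℂ) =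
        (f i : ℂ) * ∑ b : A, avg φ l b * conj ((l b : ℂˣ) : ℂ) := by
      rw [Finset.mul_sum]
      refine Finset.sum_congr rfl (fun b _ => ?_)
      rw [hb b, mul_assoc]
    rw [h2, sum_avg_conj] at h1
    have hq := cardA_ne_zero (A := A)
    have hn := cardN_ne_zero (N := N)
    have h3 : (Fintype.card A : ℂ) * ((m i l : ℂ) * (Fintype.card N : ℂ)) =
        (Fintype.card A : ℂ) * ((f i : ℂ) *
          ((Finset.univ.filter (fun n : N => l.comp (φ n).toMonoidHom = l)).card : ℂ)) := by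
      rw [← mul_assoc, ← h1]
      field_simp
    have h4 := mul_left_cancel₀ hq h3
    exact_mod_cast h4
  -- the diagonal at `c0`
  have hdiag := hFOUR l c0 c0 hc0 hc0
  rw [hβ] at hdiag
  have hterm : ∀ i, ((Fintype.card A : ℂ) * (m i l : ℂ) / (f i : ℂ)) * χ i c0 * conj (χ i c0) =
      ((if 0 < m i l ∧ χ i c0 ≠ 0 then m i l * f i else 0 : ℕ) : ℂ) *
        ((Fintype.card A : ℂ) * avg φ l c0 * conj (avg φ l c0)) := by
    intro i
    by_cases hc : 0 < m i l ∧ χ i c0 ≠ 0
    · rw [if_pos hc, hcontrib i hc.1 hc.2 c0]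
      have hf0 : (f i : ℂ) ≠ 0 := by exact_mod_cast (hf i).1.ne'
      push_cast
      rw [map_mul, Complex.conj_natCast]
      field_simp
    · rw [if_neg hc]
      rw [not_and_or] at hc
      rcases hc with hc | hc
      · have h0 : m i l = 0 := by omega
        rw [h0]; simp
      · rw [not_not] at hc
        rw [hc]; simp
  rw [Finset.sum_congr rfl (fun i _ => hterm i), ← Finset.sum_mul] at hdiag
  have hne : (Fintype.card A : ℂ) * avg φ l c0 * conj (avg φ l c0) ≠ 0 := by
    refine mul_ne_zero (mul_ne_zero cardA_ne_zero hS0) ?_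
    intro h0
    exact hS0 ((map_eq_zero (starRingEnd ℂ)).1 h0)
  have hsum1 : (∑ i, ((if 0 < m i l ∧ χ i c0 ≠ 0 then m i l * f i else 0 : ℕ) : ℂ)) = 1 := by
    have h5 : (∑ i, ((if 0 < m i l ∧ χ i c0 ≠ 0 then m i l * f i else 0 : ℕ) : ℂ)) *
        ((Fintype.card A : ℂ) * avg φ l c0 * conj (avg φ l c0)) =
        1 * ((Fintype.card A : ℂ) * avg φ l c0 * conj (avg φ l c0)) := by
      rw [one_mul]; exact hdiag
    exact mul_right_cancel₀ hne h5
  have hsum1' : ∑ i, (if 0 < m i l ∧ χ i c0 ≠ 0 then m i l * f i else 0) = 1 := by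
    exact_mod_cast hsum1
  obtain ⟨i, -, hi⟩ : ∃ i ∈ (Finset.univ : Finset ι),
      (if 0 < m i l ∧ χ i c0 ≠ 0 then m i l * f i else 0) ≠ 0 := by
    by_contra hcon
    push_neg at hcon
    rw [Finset.sum_eq_zero hcon] at hsum1'
    omega
  have hle : (if 0 < m i l ∧ χ i c0 ≠ 0 then m i l * f i else 0) ≤ 1 := by
    rw [← hsum1']
    exact Finset.single_le_sum (f := fun i => if 0 < m i l ∧ χ i c0 ≠ 0 then m i l * f i else 0)
      (fun _ _ => Nat.zero_le _) (Finset.mem_univ i)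
  by_cases hc : 0 < m i l ∧ χ i c0 ≠ 0
  · rw [if_pos hc] at hi hle
    have hmf : m i l * f i = 1 := by omega
    have hm1 : m i l = 1 := Nat.eq_one_of_mul_eq_one_right hmf
    have hf1 : f i = 1 := Nat.eq_one_of_mul_eq_one_left hmf
    have h6 := hmult i hc.1 hc.2
    rw [hm1, hf1, one_mul, one_mul] at h6
    have huniv : Finset.univ.filter (fun n : N => l.comp (φ n).toMonoidHom = l) = Finset.univ :=
      Finset.eq_univ_of_card _ h6.symm
    have hn : n ∈ Finset.univ.filter (fun n : N => l.comp (φ n).toMonoidHom = l) := by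
      rw [huniv]; exact Finset.mem_univ n
    exact (Finset.mem_filter.1 hn).2
  · rw [if_neg hc] at hi
    exact absurd rfl hi

/-- **CASE A, endgame**: `N` acts trivially on `A`. -/
theorem enda_endgame (n : N) (a : A) : φ n a = a := by
  by_contra hne
  have hb : φ n a * a⁻¹ ≠ 1 := fun h => hne (mul_inv_eq_one.1 h)
  obtain ⟨l, hl⟩ := exists_hom_ne_one (fun x y : A => mul_comm x y) hb
  have hl1 : l ≠ 1 := by
    rintro rfl
    exact hl rfl
  have h1 := comp_eq_of_ne_one φ χ f hf i₀ hi₀ hker m hm β hFOUR hCS0 hnt hl1 n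
  apply hl
  have h2 : l (φ n a) = l a := DFunLike.congr_fun h1 a
  rw [map_mul, map_inv, h2, mul_inv_cancel]

end Main

end Cfsg.Agent.Lib.H20.SH
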