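import Mathlib
import Cfsg.Agent.Lib.H6.SHENDA
import Cfsg.Agent.Lib.H20.SHENDA2

/-!
# S3016 (Shult, odd `p`), CASE A: the pure exports of ENDA (helper20)

Same data as `H6.SH.enda` / `H20.SH.enda_endgame`.  Besides `N` acting trivially on `A` we export the
dichotomy: every `χ i` vanishes on `A ∖ {1}` or has degree `f i = 1`.
-/

set_option autoImplicit false

namespace Cfsg.Agent.Lib.H20.SHP

open scoped ComplexConjugate
open Cfsg.Agent.Lib.H20.SH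

variable {A N ι : Type*} [CommGroup A] [Fintype A] [Group N] [Fintype N] [Fintype ι]

theorem avg_of_trivial (φ : N →* MulAut A) (htriv : ∀ n a, φ n a = a) (l : A →* ℂˣ) (a : A) :
    avg φ l a = ((l a : ℂˣ) : ℂ) := by
  unfold avg
  simp only [htriv, Finset.sum_const, Finset.card_univ, nsmul_eq_mul]
  rw [mul_div_cancel_left₀ _ (cardN_ne_zero (N := N))]

/-- some linear character occurs in `χ i` -/
theorem exists_mult_pos (χ : ι → A → ℂ) (f : ι → ℕ)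
    (hf : ∀ i, 0 < f i ∧ χ i 1 = (f i : ℂ))
    (m : ι → (A →* ℂˣ) → ℕ)
    (hm : ∀ i (l : A →* ℂˣ),
      ∑ b, χ i b * conj ((l b : ℂˣ) : ℂ) = (Fintype.card A : ℂ) * (m i l : ℂ))
    (i : ι) : ∃ l : A →* ℂˣ, 0 < m i l := by
  classical
  by_contra hcon
  push_neg at hcon
  have hm0 : ∀ l : A →* ℂˣ, m i l = 0 := fun l => Nat.le_zero.1 (hcon l)
  haveI : Finite (A →* ℂˣ) := by
    apply Nat.finite_of_card_ne_zero
    rw [Cfsg.Agent.Lib.H23.AbSyl.card_hom (fun a b : A => mul_comm a b)]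
    exact Nat.card_pos.ne'
  letI : Fintype (A →* ℂˣ) := Fintype.ofFinite _
  have h1 : ∑ l : A →* ℂˣ, ∑ b, χ i b * conj ((l b : ℂˣ) : ℂ) = 0 := by
    apply Finset.sum_eq_zero
    intro l _
    rw [hm i l, hm0 l]
    simp
  rw [Finset.sum_comm] at h1
  have h2 : ∀ b : A, ∑ l : A →* ℂˣ, χ i b * conj ((l b : ℂˣ) : ℂ) =
      if b = 1 then χ i 1 * (Nat.card A : ℂ) else 0 := by
    intro b
    rw [← Finset.mul_sum, ← map_sum,
      Cfsg.Agent.Lib.H23.AbSyl.sum_hom_apply (fun a b : A => mul_comm a b) b]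
    by_cases hb : b = 1
    · rw [if_pos hb, if_pos hb, hb, Complex.conj_natCast]
    · rw [if_neg hb, if_neg hb, map_zero, mul_zero]
  rw [Finset.sum_congr rfl (fun b _ => h2 b), Finset.sum_ite_eq' Finset.univ (1 : A),
    if_pos (Finset.mem_univ _), (hf i).2] at h1
  have hf0 : (f i : ℂ) ≠ 0 := by exact_mod_cast (hf i).1.ne'
  have hA0 : (Nat.card A : ℂ) ≠ 0 := by exact_mod_cast (Nat.card_pos (α := A)).ne'
  exact (mul_ne_zero hf0 hA0) h1

section Main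

variable (φ : N →* MulAut A) (χ : ι → A → ℂ) (f : ι → ℕ)
  (hf : ∀ i, 0 < f i ∧ χ i 1 = (f i : ℂ))
  (i₀ : ι) (hi₀ : ∀ a, χ i₀ a = 1) (hker : ∀ i, (∀ a, χ i a = χ i 1) → i = i₀)
  (m : ι → (A →* ℂˣ) → ℕ)
  (hm : ∀ i (l : A →* ℂˣ),
    ∑ b, χ i b * conj ((l b : ℂˣ) : ℂ) = (Fintype.card A : ℂ) * (m i l : ℂ))
  (β : ℂ)
  (hFOUR : ∀ (l : A →* ℂˣ) (a c : A), a ≠ 1 → c ≠ 1 →
    ∑ i, ((Fintype.card A : ℂ) * (m i l : ℂ) / (f i : ℂ)) * χ i a * conj (χ i c) =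
      β * avg φ l a * conj (avg φ l c))
  (hCS0 : ∀ i (a b : A), (∀ n, a * φ n b ≠ 1) →
    χ i a * χ i b / χ i 1 = (∑ n, χ i (a * φ n b)) / (Fintype.card N : ℂ))
  (hnt : ∃ a b : A, a ≠ 1 ∧ b ≠ 1 ∧ ∀ n, a * φ n b ≠ 1)

include hf hi₀ hker hm hFOUR hCS0 hnt

/-- **the dichotomy**: `χ i` vanishes on `A ∖ {1}` or is linear. -/
theorem dichotomy (i : ι) : (∀ a, a ≠ 1 → χ i a = 0) ∨ f i = 1 := by
  classical
  have htriv := enda_endgame φ χ f hf i₀ hi₀ hker m hm β hFOUR hCS0 hnt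
  have hβ := beta_eq φ χ f hf i₀ hi₀ hker m hm β hFOUR hCS0 hnt
  by_cases hv : ∀ a, a ≠ 1 → χ i a = 0
  · exact Or.inl hv
  right
  push_neg at hv
  obtain ⟨c0, hc0, hχ0⟩ := hv
  by_cases hii : i = i₀
  · have h1 := (hf i).2
    rw [hii, hi₀] at h1
    rw [hii]
    exact_mod_cast h1.symm
  have hm1 : m i 1 = 0 := by
    by_contra h0
    exact hχ0 (vanish_of_mult_one φ χ f hf i₀ hker m β hFOUR hCS0 hnt i (Nat.pos_of_ne_zero h0)
      hii c0 hc0)
  obtain ⟨l, hl⟩ := exists_mult_pos χ f hf m hm i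
  have hl1 : l ≠ 1 := by
    rintro rfl
    omega
  have hS : ∀ a, avg φ l a = ((l a : ℂˣ) : ℂ) := avg_of_trivial φ htriv l
  have hlne : ∀ a : A, ((l a : ℂˣ) : ℂ) ≠ 0 := fun a => Units.ne_zero _
  set τ := χ i c0 / ((l c0 : ℂˣ) : ℂ) with hτ
  have hχτ : ∀ a, a ≠ 1 → χ i a = τ * ((l a : ℂˣ) : ℂ) := by
    intro a ha
    have h1 := rank_one_of_four φ χ f m β hFOUR l i (hf i).1 hl ha hc0
    rw [hS, hS] at h1
    rw [hτ, div_mul_eq_mul_div, eq_div_iff (hlne c0)]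
    exact h1
  have hsum0 : ∑ b : A, χ i b = 0 := by
    have h1 := hm i 1
    simp only [MonoidHom.one_apply, Units.val_one, map_one, mul_one] at h1
    rw [h1, hm1]
    simp
  have hsuml : ∑ b : A, ((l b : ℂˣ) : ℂ) = 0 := by
    rw [Cfsg.Agent.Lib.H23.AbSyl.sum_apply_hom, if_neg hl1]
  have hτf : τ = (f i : ℂ) := by
    have h1 : ∑ b : A, χ i b =
        ∑ b : A, (τ * ((l b : ℂˣ) : ℂ) + if b = 1 then ((f i : ℂ) - τ) else 0) := by
      refine Finset.sum_congr rfl (fun b _ => ?_)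
      by_cases hb : b = 1
      · rw [hb, if_pos rfl, map_one, Units.val_one, (hf i).2]; ring
      · rw [if_neg hb, add_zero, hχτ b hb]
    rw [hsum0, Finset.sum_add_distrib, ← Finset.mul_sum, hsuml, mul_zero, zero_add,
      Finset.sum_ite_eq' Finset.univ (1 : A) (fun _ => (f i : ℂ) - τ),
      if_pos (Finset.mem_univ _)] at h1
    exact (sub_eq_zero.1 h1.symm).symm
  -- the value at `c0`
  have hnorm : Complex.normSq (χ i c0) = (f i : ℝ) ^ 2 := by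
    rw [hχτ c0 hc0, hτf, Complex.normSq_mul, Complex.normSq_natCast, Complex.normSq_eq_norm_sq,
      Cfsg.Agent.Lib.H6.SH.norm_char]
    ring
  -- the diagonal at `c0`
  have hdiag := hFOUR l c0 c0 hc0 hc0
  rw [hβ, hS] at hdiag
  have hll : ((l c0 : ℂˣ) : ℂ) * conj ((l c0 : ℂˣ) : ℂ) = 1 := by
    rw [Complex.mul_conj, Complex.normSq_eq_norm_sq, Cfsg.Agent.Lib.H6.SH.norm_char]
    simp
  rw [mul_assoc, hll, mul_one] at hdiag
  have hreal : ∀ j, ((Fintype.card A : ℂ) * (m j l : ℂ) / (f j : ℂ)) * χ j c0 * conj (χ j c0) =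
      ((((Fintype.card A : ℝ) * (m j l : ℝ) / (f j : ℝ)) * Complex.normSq (χ j c0) : ℝ) : ℂ) := by
    intro j
    rw [mul_assoc, Complex.mul_conj]
    push_cast
    ring
  rw [Finset.sum_congr rfl (fun j _ => hreal j), ← Complex.ofReal_sum] at hdiag
  have hdiagR : ∑ j, ((Fintype.card A : ℝ) * (m j l : ℝ) / (f j : ℝ)) * Complex.normSq (χ j c0) =
      (Fintype.card A : ℝ) := by
    exact_mod_cast hdiag
  have hle : ((Fintype.card A : ℝ) * (m i l : ℝ) / (f i : ℝ)) * Complex.normSq (χ i c0) ≤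
      (Fintype.card A : ℝ) := by
    refine le_trans ?_ (le_of_eq hdiagR)
    exact Finset.single_le_sum
      (f := fun j => ((Fintype.card A : ℝ) * (m j l : ℝ) / (f j : ℝ)) * Complex.normSq (χ j c0))
      (fun j _ => mul_nonneg (div_nonneg (mul_nonneg (Nat.cast_nonneg _) (Nat.cast_nonneg _))
        (Nat.cast_nonneg _)) (Complex.normSq_nonneg _)) (Finset.mem_univ i)
  rw [hnorm] at hle
  have hfpos : (0 : ℝ) < (f i : ℝ) := by exact_mod_cast (hf i).1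
  have hApos : (0 : ℝ) < (Fintype.card A : ℝ) := by exact_mod_cast Fintype.card_pos
  have h3 : (Fintype.card A : ℝ) * ((m i l : ℝ) * (f i : ℝ)) ≤ (Fintype.card A : ℝ) * 1 := by
    have h4 : (Fintype.card A : ℝ) * (m i l : ℝ) / (f i : ℝ) * (f i : ℝ) ^ 2 =
        (Fintype.card A : ℝ) * ((m i l : ℝ) * (f i : ℝ)) := by
      field_simp
    rw [h4] at hle
    rw [mul_one]
    exact hle
  have h5 : (m i l : ℝ) * (f i : ℝ) ≤ 1 := le_of_mul_le_mul_left h3 hApos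
  have h6 : m i l * f i ≤ 1 := by exact_mod_cast h5
  have h7 : 0 < m i l * f i := Nat.mul_pos hl (hf i).1
  have h8 : m i l * f i = 1 := by omega
  exact Nat.eq_one_of_mul_eq_one_left h8

end Main

section Wrapper

variable [DecidableEq A]

open Cfsg.Agent.Lib.H6.SH in
/-- **ENDA with exports**, in the hypothesis format of `H6.SH.enda`. -/
theorem enda_plus (φ : N →* MulAut A) (χ : ι → A → ℂ) (f : ι → ℕ)
    (hf : ∀ i, 0 < f i ∧ χ i 1 = (f i : ℂ))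
    (i₀ : ι) (hi₀ : ∀ a, χ i₀ a = 1)
    (hker : ∀ i, (∀ a, χ i a = χ i 1) → i = i₀)
    (hm : ∀ i (l : A →* ℂˣ), ∃ m : ℕ,
      ∑ b, χ i b * conj ((l b : ℂˣ) : ℂ) = (Fintype.card A : ℂ) * (m : ℂ))
    (κ : A → ℝ)
    (hORTH : ∀ a b c : A, c ≠ 1 → ∑ i, χ i a * χ i b * conj (χ i c) / χ i 1 =
      (κ c : ℂ) * (((Finset.univ : Finset (N × N)).filter (fun x => a * φ x.1 b = φ x.2 c)).card : ℂ))
    (hCS0 : ∀ i (a b : A), (∀ n, a * φ n b ≠ 1) →
      χ i a * χ i b / χ i 1 = (∑ n, χ i (a * φ n b)) / (Fintype.card N : ℂ))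
    (hnt : ∃ a b : A, a ≠ 1 ∧ b ≠ 1 ∧ ∀ n, a * φ n b ≠ 1) :
    (∀ (n : N) (a : A), φ n a = a) ∧ ∀ i, (∀ a, a ≠ 1 → χ i a = 0) ∨ f i = 1 := by
  classical
  have hnt' := hnt
  obtain ⟨a₁, b₁, ha₁, hb₁, hab⟩ := hnt'
  choose m hm using hm
  have hν0 : (Fintype.card N : ℂ) ≠ 0 := Nat.cast_ne_zero.2 Fintype.card_ne_zero
  have hWC : ∀ (l : A →* ℂˣ) (i : ι), (Fintype.card A : ℂ) * (m i l : ℂ) / (f i : ℂ) =
      (∑ b, χ i b * conj ((l b : ℂˣ) : ℂ)) / χ i 1 := by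
    intro l i
    rw [hm i l, (hf i).2]
  have hfour : ∀ (l : A →* ℂˣ) (a c : A), c ≠ 1 →
      ∑ i, ((Fintype.card A : ℂ) * (m i l : ℂ) / (f i : ℂ)) * χ i a * conj (χ i c) =
        (κ c : ℂ) * orbS φ l a * conj (orbS φ l c) := by
    intro l a c hc
    have h := four φ χ κ hORTH l a c hc
    simp only [← hWC] at h
    exact h
  have hκ : ∀ a c : A, a ≠ 1 → c ≠ 1 → κ c = κ a := by
    intro a c ha hc
    have h1 := hfour 1 a c hc
    have h2 := congrArg conj (hfour 1 c a ha)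
    rw [map_sum] at h2
    simp only [map_mul, map_div₀, Complex.conj_conj, Complex.conj_ofReal, orbS_one_left,
      Complex.conj_natCast] at h1 h2
    have h3 : (κ c : ℂ) * (Fintype.card N : ℂ) * (Fintype.card N : ℂ) =
        (κ a : ℂ) * (Fintype.card N : ℂ) * (Fintype.card N : ℂ) := by
      rw [← h1, ← h2]
      refine Finset.sum_congr rfl fun i _ => ?_
      ring
    have h4 := mul_right_cancel₀ hν0 (mul_right_cancel₀ hν0 h3)
    exact_mod_cast h4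
  have horb : ∀ (l : A →* ℂˣ) (a : A), orbS φ l a = (Fintype.card N : ℂ) * avg φ l a := by
    intro l a
    unfold orbS avg
    rw [mul_div_cancel₀ _ hν0]
  have hFOUR : ∀ (l : A →* ℂˣ) (a c : A), a ≠ 1 → c ≠ 1 →
      ∑ i, ((Fintype.card A : ℂ) * (m i l : ℂ) / (f i : ℂ)) * χ i a * conj (χ i c) =
        ((κ a₁ : ℂ) * (Fintype.card N : ℂ) * (Fintype.card N : ℂ)) * avg φ l a *
          conj (avg φ l c) := by
    intro l a c _ hc
    rw [hfour l a c hc, hκ a₁ c ha₁ hc, horb, horb, map_mul, Complex.conj_natCast]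
    ring
  exact ⟨enda_endgame φ χ f hf i₀ hi₀ hker m hm _ hFOUR hCS0 hnt,
    dichotomy φ χ f hf i₀ hi₀ hker m hm _ hFOUR hCS0 hnt⟩

end Wrapper

end Cfsg.Agent.Lib.H20.SHP
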