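import Mathlib
import Cfsg.Agent.Lib.H12.SHCASEA
import Cfsg.Agent.Lib.H20.SHPENDA
import Cfsg.Agent.S3021
import Cfsg.Agent.Lib.L0.CharLinear
import Cfsg.Agent.Lib.H23.AbSylB

/-!
# S3016 (Shult, odd `p`), CASE A on the group side with the Sylow ending (helper20)

`caseA_plus` : copy of helper12's `H12.SH.caseA` with the pure `H20.SHP.enda_plus`: `N_G(H)` centralizes `H` and every
character of the principal block vanishes on `H#` or is linear.
`card_eq_of_le` : for `H ≤ Q ≤ P` (`P` Sylow): `|Q| = γ_c`, hence `|P| = |H|`.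
`caseA_top` : `H = ⊤` (Burnside transfer, `O_{p'}(G) = 1`).
-/

set_option autoImplicit false

namespace Cfsg.Agent.Lib.H20.SHP

open scoped ComplexConjugate
open Cfsg Cfsg.Agent.Lib.H12.SH

variable {G : Type*} [Group G]

section main

variable [Finite G] {p : ℕ} [Fact p.Prime]

/-- **CASE A with exports** (copy of helper12's `H12.SH.caseA`, with `enda_plus`). -/
theorem caseA_plus (M : Ideal AlgInt) (hM : IsPModular p M) (H : Subgroup G)
    (hHp : IsPGroup p H) (hHab : ∀ a ∈ H, ∀ b ∈ H, a * b = b * a)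
    (hloc : Cfsg.Agent.Lib.H11.SH.LocData p H (principalBlock M G))
    (hfus : ∀ h ∈ H, ∀ c ∈ H, IsConj h c →
      ∃ n ∈ Subgroup.normalizer (H : Set G), n * c * n⁻¹ = h)
    (hncl : Subgroup.normalClosure (H : Set G) = ⊤) (hnt : ¬ TransN H) :
    (∀ n ∈ Subgroup.normalizer (H : Set G), ∀ a ∈ H, n * a * n⁻¹ = a) ∧
      ∀ χ ∈ principalBlock M G, (∀ a ∈ H, a ≠ 1 → (χ : G → ℂ) a = 0) ∨ (χ : G → ℂ) 1 = 1 := by
  classical
  haveI : Fintype G := Fintype.ofFinite G
  haveI hPr : M.IsPrime := Cfsg.Agent.Lib.H23.isPrime_of_isPModular hM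
  letI instA : CommGroup ↥H :=
    { (inferInstance : Group ↥H) with mul_comm := fun a b => Subtype.ext (hHab a a.2 b b.2) }
  haveI : Fintype ↥H := Fintype.ofFinite _
  haveI : Fintype ↥(Subgroup.normalizer (H : Set G)) := Fintype.ofFinite _
  haveI : Fintype ↥(principalBlock M G) := Fintype.ofFinite _
  have hdeg : ∀ i : ↥(principalBlock M G), ∃ n : ℕ, 0 < n ∧ (i.1 : G → ℂ) 1 = n :=
    fun i => Cfsg.Agent.Lib.L0.irr_apply_one_pos i.1.2
  choose f hf0 hf1 using hdeg
  have key : (∀ (n : ↥(Subgroup.normalizer (H : Set G))) (a : ↥H),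
      H.normalizerMonoidHom n a = a) ∧
      ∀ i : ↥(principalBlock M G), (∀ a : ↥H, a ≠ 1 → (i.1 : G → ℂ) (a : G) = 0) ∨ f i = 1 := by
    refine Cfsg.Agent.Lib.H20.SHP.enda_plus (A := ↥H) (N := ↥(Subgroup.normalizer (H : Set G)))
      (ι := ↥(principalBlock M G)) H.normalizerMonoidHom
      (fun i a => (i.1 : G → ℂ) (a : G)) f ?_
      ⟨Cfsg.Agent.Lib.H24.trivialIrr G, Cfsg.Agent.Lib.H23.trivialIrr_mem_principalBlock⟩ ?_ ?_ ?_
      (fun c => (∑ i : ↥(principalBlock M G), Complex.normSq ((i.1 : G → ℂ) (c : G))) /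
        ((Fintype.card ↥(Subgroup.normalizer (H : Set G)) : ℝ) *
          ((Finset.univ.filter (fun n' : ↥(Subgroup.normalizer (H : Set G)) =>
            H.normalizerMonoidHom n' c = c)).card : ℝ)))
      ?_ ?_ ?_
    · -- hf
      intro i
      exact ⟨hf0 i, hf1 i⟩
    · -- hi₀
      intro a
      rfl
    · -- hker
      intro i hconst
      have h1 : (i.1 : G → ℂ) = fun _ => 1 :=
        ker i.1.2 H hncl (fun a ha => hconst ⟨a, ha⟩)
      exact Subtype.ext (Subtype.ext h1)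
    · -- hm
      intro i l
      exact mult (Cfsg.Agent.Lib.L0.isCharacter_of_irr i.1.2) H l
    · -- hORTH
      intro a b c hc1
      have hc1' : (c : G) ≠ 1 := fun h => hc1 (Subtype.ext h)
      have hO := orth_orbit M hM hHp hloc hfus (a : G) (b : G) (c : G) a.2 b.2 c.2 hc1'
      have e1 : ∑ i : ↥(principalBlock M G), (i.1 : G → ℂ) (a : G) * (i.1 : G → ℂ) (b : G) *
            conj ((i.1 : G → ℂ) (c : G)) / (i.1 : G → ℂ) ((1 : ↥H) : G) =
          ∑ᶠ χ ∈ principalBlock M G,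
            (χ : G → ℂ) (a : G) * (χ : G → ℂ) (b : G) * (χ : G → ℂ) (c : G)⁻¹ / (χ : G → ℂ) 1 := by
        rw [← finsum_set_coe_eq_finsum_mem, finsum_eq_sum_of_fintype]
        refine Finset.sum_congr rfl (fun i _ => ?_)
        rw [Cfsg.Agent.Lib.H24.irr_inv]
        rfl
      have e2 : ∑ᶠ χ ∈ principalBlock M G, (χ : G → ℂ) (c : G) * (χ : G → ℂ) (c : G)⁻¹ =
          ((∑ i : ↥(principalBlock M G), Complex.normSq ((i.1 : G → ℂ) (c : G)) : ℝ) : ℂ) := by
        rw [← finsum_set_coe_eq_finsum_mem, finsum_eq_sum_of_fintype, Complex.ofReal_sum]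
        refine Finset.sum_congr rfl (fun i _ => ?_)
        rw [Cfsg.Agent.Lib.H24.irr_inv, Complex.mul_conj]
      have e3 := Cfsg.Agent.Lib.H6.SH.card_pairs_eq H.normalizerMonoidHom a b c
      have e4 : (Finset.univ.filter (fun n : ↥(Subgroup.normalizer (H : Set G)) =>
            ∃ n' : ↥(Subgroup.normalizer (H : Set G)),
              a * H.normalizerMonoidHom n b = H.normalizerMonoidHom n' c)).card =
          (Finset.univ.filter (fun n : ↥(Subgroup.normalizer (H : Set G)) =>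
            ∃ n' : ↥(Subgroup.normalizer (H : Set G)),
              (a : G) * ((n : G) * (b : G) * (n : G)⁻¹) = (n' : G) * (c : G) * (n' : G)⁻¹)).card := by
        congr 1
        apply Finset.filter_congr
        intro n _
        constructor
        · rintro ⟨n', h⟩
          exact ⟨n', congrArg Subtype.val h⟩
        · rintro ⟨n', h⟩
          exact ⟨n', Subtype.ext h⟩
      have hstab : 0 < (Finset.univ.filter (fun n' : ↥(Subgroup.normalizer (H : Set G)) =>
            H.normalizerMonoidHom n' c = c)).card := by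
        apply Finset.card_pos.2
        exact ⟨1, by simp⟩
      have hN0 : (Nat.card ↥(Subgroup.normalizer (H : Set G)) : ℂ) ≠ 0 := by
        have : 0 < Nat.card ↥(Subgroup.normalizer (H : Set G)) := Nat.card_pos
        exact_mod_cast this.ne'
      show ∑ i : ↥(principalBlock M G), (i.1 : G → ℂ) (a : G) * (i.1 : G → ℂ) (b : G) *
            conj ((i.1 : G → ℂ) (c : G)) / (i.1 : G → ℂ) ((1 : ↥H) : G) = _
      rw [e1]
      have hS : ∑ᶠ χ ∈ principalBlock M G,
            (χ : G → ℂ) (a : G) * (χ : G → ℂ) (b : G) * (χ : G → ℂ) (c : G)⁻¹ / (χ : G → ℂ) 1 =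
          (∑ᶠ χ ∈ principalBlock M G, (χ : G → ℂ) (c : G) * (χ : G → ℂ) (c : G)⁻¹) *
            ((Finset.univ.filter (fun n : ↥(Subgroup.normalizer (H : Set G)) =>
              ∃ n' : ↥(Subgroup.normalizer (H : Set G)),
                (a : G) * ((n : G) * (b : G) * (n : G)⁻¹) = (n' : G) * (c : G) * (n' : G)⁻¹)).card : ℂ) /
            (Nat.card ↥(Subgroup.normalizer (H : Set G)) : ℂ) := by
        rw [eq_div_iff hN0, mul_comm]
        exact hO
      rw [hS, e2, e3, e4, Nat.card_eq_fintype_card]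
      have hstabC : ((Finset.univ.filter (fun n' : ↥(Subgroup.normalizer (H : Set G)) =>
            H.normalizerMonoidHom n' c = c)).card : ℂ) ≠ 0 := by
        exact_mod_cast hstab.ne'
      have hN0' : (Fintype.card ↥(Subgroup.normalizer (H : Set G)) : ℂ) ≠ 0 := by
        rw [← Nat.card_eq_fintype_card]
        exact hN0
      push_cast
      field_simp
    · -- hCS0
      intro i a b hab
      have h := Cfsg.Agent.Lib.H11.SH.cs_good hloc i.1 i.2 (a : G) (b : G) a.2 b.2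
        (fun n h' => hab n (Subtype.ext h'))
      rw [Nat.card_eq_fintype_card] at h
      exact h
    · -- hnt
      obtain ⟨a, ha, b, hb, ha1, hb1, h⟩ := nt hnt
      exact ⟨⟨a, ha⟩, ⟨b, hb⟩, fun h' => ha1 (congrArg Subtype.val h'),
        fun h' => hb1 (congrArg Subtype.val h'),
        fun n h' => h n n.2 (congrArg Subtype.val h')⟩
  refine ⟨fun n hn a ha => congrArg Subtype.val (key.1 ⟨n, hn⟩ ⟨a, ha⟩), ?_⟩
  intro χ hχ
  rcases key.2 ⟨χ, hχ⟩ with h | h
  · left
    intro a ha ha1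
    exact h ⟨a, ha⟩ (fun h' => ha1 (congrArg Subtype.val h'))
  · right
    have := hf1 ⟨χ, hχ⟩
    rw [this, h]
    simp


open Classical in
/-- **SYL**: for `H ≤ Q ≤ P` with `H` strongly closed in the `p`-group `P`: `γ_c = |Q|`. -/
theorem gamma_eq_card (M : Ideal AlgInt) (hM : IsPModular p M) (H : Subgroup G)
    (hHp : IsPGroup p H)
    (hcen : ∀ n ∈ Subgroup.normalizer (H : Set G), ∀ a ∈ H, n * a * n⁻¹ = a)
    (hdich : ∀ χ ∈ principalBlock M G,
      (∀ a ∈ H, a ≠ 1 → (χ : G → ℂ) a = 0) ∨ (χ : G → ℂ) 1 = 1)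
    (hfus : ∀ h ∈ H, ∀ c ∈ H, IsConj h c →
      ∃ n ∈ Subgroup.normalizer (H : Set G), n * c * n⁻¹ = h)
    (hncl : Subgroup.normalClosure (H : Set G) = ⊤)
    (P : Subgroup G) (hPp : IsPGroup p P) (hsc : IsStronglyClosed H P)
    (Q : Subgroup G) (hHQ : H ≤ Q) (hQP : Q ≤ P) (c : G) (hc : c ∈ H) (hc1 : c ≠ 1) :
    ∑ᶠ χ ∈ principalBlock M G, (χ : G → ℂ) c * (χ : G → ℂ) c⁻¹ = (Nat.card ↥Q : ℂ) := by
  haveI : Fintype G := Fintype.ofFinite G
  haveI hPr : M.IsPrime := Cfsg.Agent.Lib.H23.isPrime_of_isPModular hM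
  haveI : Fintype ↥Q := Fintype.ofFinite _
  haveI : Fintype ↥(principalBlock M G) := Fintype.ofFinite _
  set γ : ℂ := ∑ᶠ χ ∈ principalBlock M G, (χ : G → ℂ) c * (χ : G → ℂ) c⁻¹ with hγ
  -- conjugates of `c` in `P`
  have hconj : ∀ y ∈ P, IsConj y c → y = c := by
    intro y hy hyc
    obtain ⟨g, hg⟩ := isConj_iff.1 hyc
    have hy' : y = g⁻¹ * c * g⁻¹⁻¹ := by rw [← hg]; group
    have hyH : y ∈ H := by
      rw [hy']
      apply hsc.2 c hc g⁻¹
      rw [← hy']
      exact hy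
    obtain ⟨n, hn, hnc⟩ := hfus y hyH c hc hyc
    rw [← hnc, hcen n hn c hc]
  -- the sum over `Q`, first evaluation
  have hS1 : ∑ y : ↥Q, ∑ᶠ χ ∈ principalBlock M G, (χ : G → ℂ) (y : G) * (χ : G → ℂ) c⁻¹ = γ := by
    have h1 : ∀ y : ↥Q, ∑ᶠ χ ∈ principalBlock M G, (χ : G → ℂ) (y : G) * (χ : G → ℂ) c⁻¹ =
        if y = ⟨c, hHQ hc⟩ then γ else 0 := by
      intro y
      rw [gamma_eval M hM (y : G) c (exists_orderOf_eq_pow hPp (hQP y.2))
        (exists_orderOf_eq_pow hHp hc)]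
      by_cases hy : y = ⟨c, hHQ hc⟩
      · rw [if_pos hy, if_pos]
        rw [hy]
      · rw [if_neg hy, if_neg]
        intro hyc
        exact hy (Subtype.ext (hconj (y : G) (hQP y.2) hyc))
    rw [Finset.sum_congr rfl (fun y _ => h1 y), Finset.sum_ite_eq' Finset.univ,
      if_pos (Finset.mem_univ _)]
  -- second evaluation
  have hfin : ∀ F : IrrCharacter G → ℂ,
      ∑ᶠ χ ∈ principalBlock M G, F χ = ∑ i : ↥(principalBlock M G), F i.1 := by
    intro F
    rw [← finsum_set_coe_eq_finsum_mem, finsum_eq_sum_of_fintype]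
  let i₀ : ↥(principalBlock M G) :=
    ⟨Cfsg.Agent.Lib.H24.trivialIrr G, Cfsg.Agent.Lib.H23.trivialIrr_mem_principalBlock⟩
  have hi₀ : ∀ g : G, ((i₀.1 : IrrCharacter G) : G → ℂ) g = 1 := fun g => rfl
  have hcinv : c⁻¹ ∈ H := H.inv_mem hc
  have hcinv1 : c⁻¹ ≠ 1 := fun h => hc1 (inv_eq_one.1 h)
  have hterm : ∀ i : ↥(principalBlock M G),
      (i.1 : G → ℂ) c⁻¹ * ∑ y : ↥Q, (i.1 : G → ℂ) (y : G) =
        if i = i₀ then (Nat.card ↥Q : ℂ) else 0 := by
    intro i
    by_cases hi : i = i₀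
    · rw [if_pos hi, hi, hi₀]
      simp only [hi₀, one_mul, Finset.sum_const, Finset.card_univ, nsmul_eq_mul, mul_one]
      rw [Nat.card_eq_fintype_card]
    · rw [if_neg hi]
      rcases hdich i.1 i.2 with hv | h1
      · rw [hv c⁻¹ hcinv hcinv1, zero_mul]
      · -- linear, non-trivial on `Q`
        set ψ : ↥Q →* ℂˣ :=
          (Cfsg.Agent.Lib.L0.linearCharHom (Cfsg.Agent.Lib.L0.isCharacter_of_irr i.1.2) h1).comp
            Q.subtype with hψ
        have hψv : ∀ y : ↥Q, ((ψ y : ℂˣ) : ℂ) = (i.1 : G → ℂ) (y : G) := fun y => rfl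
        have hψ1 : ψ ≠ 1 := by
          intro h
          apply hi
          have hconst : ∀ a ∈ H, (i.1 : G → ℂ) a = (i.1 : G → ℂ) 1 := by
            intro a ha
            have h2 := hψv ⟨a, hHQ ha⟩
            rw [h, MonoidHom.one_apply, Units.val_one] at h2
            rw [h1]
            exact h2.symm
          have h3 := ker i.1.2 H hncl hconst
          exact Subtype.ext (Subtype.ext h3)
        have h4 := Cfsg.Agent.Lib.H23.AbSyl.sum_apply_hom ψ
        rw [if_neg hψ1] at h4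
        simp only [hψv] at h4
        rw [h4, mul_zero]
  have hS2 : ∑ y : ↥Q, ∑ᶠ χ ∈ principalBlock M G, (χ : G → ℂ) (y : G) * (χ : G → ℂ) c⁻¹ =
      (Nat.card ↥Q : ℂ) := by
    have h1 : ∀ y : ↥Q, ∑ᶠ χ ∈ principalBlock M G, (χ : G → ℂ) (y : G) * (χ : G → ℂ) c⁻¹ =
        ∑ i : ↥(principalBlock M G), (i.1 : G → ℂ) (y : G) * (i.1 : G → ℂ) c⁻¹ :=
      fun y => hfin (fun χ => (χ : G → ℂ) (y : G) * (χ : G → ℂ) c⁻¹)
    rw [Finset.sum_congr rfl (fun y _ => h1 y), Finset.sum_comm]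
    have h2 : ∀ i : ↥(principalBlock M G),
        ∑ y : ↥Q, (i.1 : G → ℂ) (y : G) * (i.1 : G → ℂ) c⁻¹ =
          if i = i₀ then (Nat.card ↥Q : ℂ) else 0 := by
      intro i
      rw [← Finset.sum_mul, mul_comm]
      exact hterm i
    rw [Finset.sum_congr rfl (fun i _ => h2 i), Finset.sum_ite_eq' Finset.univ,
      if_pos (Finset.mem_univ _)]
  rw [← hS1, hS2]

/-- **CASE A for odd `p`** (in fact any `p`): `H = ⊤`. -/
theorem caseA_top (M : Ideal AlgInt) (hM : IsPModular p M) (H : Subgroup G)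
    (hHp : IsPGroup p H) (hHab : IsMulCommutative H) (hcl : IsExtremelyClosed H)
    (hloc : Cfsg.Agent.Lib.H11.SH.LocData p H (principalBlock M G))
    (hfus : ∀ h ∈ H, ∀ c ∈ H, IsConj h c →
      ∃ n ∈ Subgroup.normalizer (H : Set G), n * c * n⁻¹ = h)
    (hncl : Subgroup.normalClosure (H : Set G) = ⊤) (hO : pPrimeCore p G = ⊥)
    (hne : H ≠ ⊥) (hnt : ¬ TransN H) : H = ⊤ := by
  have hp : p.Prime := Fact.out
  have hcomm : ∀ a ∈ H, ∀ b ∈ H, a * b = b * a := fun a ha b hb => setLike_mul_comm ha hb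
  obtain ⟨hcen, hdich⟩ := caseA_plus M hM H hHp hcomm hloc hfus hncl hnt
  obtain ⟨P, hHP⟩ := hHp.exists_le_sylow
  obtain ⟨hPN, hsc⟩ := (Cfsg.Agent.S3021.result H hHp hcl).2 P hHP
  obtain ⟨c, hc, hc1⟩ : ∃ c ∈ H, c ≠ 1 := by
    obtain ⟨⟨c, hc⟩, h⟩ := (Subgroup.ne_bot_iff_exists_ne_one).1 hne
    exact ⟨c, hc, fun h' => h (Subtype.ext h')⟩
  have h1 := gamma_eq_card M hM H hHp hcen hdich hfus hncl (P : Subgroup G) P.2 hsc H le_rfl hHP
    c hc hc1
  have h2 := gamma_eq_card M hM H hHp hcen hdich hfus hncl (P : Subgroup G) P.2 hsc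
    (P : Subgroup G) hHP le_rfl c hc hc1
  have hcard : Nat.card ↥(P : Subgroup G) = Nat.card ↥H := by
    have : (Nat.card ↥(P : Subgroup G) : ℂ) = (Nat.card ↥H : ℂ) := by rw [← h1, ← h2]
    exact_mod_cast this
  have hHeq : H = (P : Subgroup G) := Subgroup.eq_of_le_of_card_ge hHP (le_of_eq hcard)
  have hNC : Subgroup.normalizer ((P : Subgroup G) : Set G) ≤
      Subgroup.centralizer ((P : Subgroup G) : Set G) := by
    intro n hn
    rw [Subgroup.mem_centralizer_iff]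
    intro x hx
    have hn' : n ∈ Subgroup.normalizer (H : Set G) := by rw [hHeq]; exact hn
    have hx' : x ∈ H := by rw [hHeq]; exact hx
    have h3 := hcen n hn' x hx'
    calc x * n = n * x * n⁻¹ * n := by rw [h3]
      _ = n * x := by group
  have hK1 := MonoidHom.not_dvd_card_ker_transferSylow P hNC
  have hK2 := MonoidHom.ker_transferSylow_isComplement' P hNC
  have hKle : (MonoidHom.transferSylow P hNC).ker ≤ pPrimeCore p G := by
    apply le_sSup
    exact ⟨inferInstance, ((Nat.Prime.coprime_iff_not_dvd hp).2 hK1).symm⟩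
  rw [hO, le_bot_iff] at hKle
  rw [hKle, Subgroup.isComplement'_bot_left] at hK2
  rw [hHeq, hK2]

end main

end Cfsg.Agent.Lib.H20.SHP
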