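import Mathlib
import Cfsg.Prelude.Def_Characters
import Cfsg.Prelude.Def_Blocks
import Cfsg.Prelude.Def_Transfer
import Cfsg.Agent.Lib.L0.CharOps

/-!
# S4931 farm-out, piece EASY (helper20)
-/

set_option autoImplicit false

namespace Cfsg.Agent.Lib.H20.SNC

open Cfsg
open scoped Pointwise

/-- EASY: a subgroup `N` with a normal complement `K`: every irreducible character of `N` extends
to `G`. -/
theorem extends_of_normal_complement {G : Type*} [Group G] [Finite G] (N K : Subgroup G)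
    [K.Normal] (hsup : K ⊔ N = ⊤) (hinf : K ⊓ N = ⊥) (θ : IrrCharacter ↥N) :
    ∃ χ : IrrCharacter G, ∀ x : ↥N, (χ : G → ℂ) x = (θ : ↥N → ℂ) x := by
  classical
  obtain ⟨φ, hφ⟩ : ∃ φ : ↥N →* G ⧸ K, φ = (QuotientGroup.mk' K).comp N.subtype := ⟨_, rfl⟩
  have hφapp : ∀ n : ↥N, φ n = ((n : G) : G ⧸ K) := fun n => by rw [hφ]; rfl
  have hinj : Function.Injective φ := by
    rw [injective_iff_map_eq_one]
    intro n hn
    rw [hφapp, QuotientGroup.eq_one_iff] at hn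
    have h1 : (n : G) ∈ K ⊓ N := ⟨hn, n.2⟩
    rw [hinf, Subgroup.mem_bot] at h1
    exact Subtype.ext h1
  have hsurj : Function.Surjective φ := by
    intro q
    obtain ⟨g, rfl⟩ := QuotientGroup.mk_surjective q
    have hg : g ∈ K ⊔ N := by rw [hsup]; trivial
    have hg' : g ∈ (K : Set G) * (N : Set G) := by
      rw [← Subgroup.normal_mul]; exact hg
    obtain ⟨k, hk, n, hn, rfl⟩ := Set.mem_mul.mp hg'
    refine ⟨⟨n, hn⟩, ?_⟩
    rw [hφapp]
    symm
    rw [QuotientGroup.eq]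
    have : (k * n)⁻¹ * n = n⁻¹ * k⁻¹ * n := by group
    show (k * n)⁻¹ * n ∈ K
    rw [this]
    have h2 := (inferInstance : K.Normal).conj_mem k⁻¹ (K.inv_mem hk) n⁻¹
    simpa using h2
  obtain ⟨e, he⟩ : ∃ e : ↥N ≃* G ⧸ K, ∀ n, e n = φ n :=
    ⟨MulEquiv.ofBijective φ ⟨hinj, hsurj⟩, fun n => rfl⟩
  obtain ⟨π, hπ⟩ : ∃ π : G →* ↥N, π = e.symm.toMonoidHom.comp (QuotientGroup.mk' K) := ⟨_, rfl⟩
  have hπsurj : Function.Surjective π := by
    rw [hπ]
    exact e.symm.surjective.comp (QuotientGroup.mk'_surjective K)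
  have hπN : ∀ n : ↥N, π (n : G) = n := by
    intro n
    rw [hπ]
    show e.symm ((n : G) : G ⧸ K) = n
    rw [← hφapp, ← he, MulEquiv.symm_apply_apply]
  refine ⟨⟨(θ : ↥N → ℂ) ∘ π,
    Cfsg.Agent.Lib.L0.isIrrCharacter_comp_of_surjective π hπsurj θ.2⟩, ?_⟩
  intro x
  show (θ : ↥N → ℂ) (π (x : G)) = _
  rw [hπN]

end Cfsg.Agent.Lib.H20.SNC
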