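import Mathlib
import Cfsg.Prelude.Def_Characters
import Cfsg.Prelude.Def_Blocks
import Cfsg.Prelude.Def_Transfer
import Cfsg.Agent.Lib.L0.TransferPC
import Cfsg.Agent.Lib.H5.SNCBURN
import Cfsg.Agent.Lib.H5.SNCTATE

/-!
# S4931 farm-out, piece GRP (helper20)
-/

set_option autoImplicit false

namespace Cfsg.Agent.Lib.H20.SNC

open Cfsg

/-- GRP: `G₂, K₁ ⊴ G` with `G₂ ⊓ N_G(P) = P` and `K₁ ⊓ P = P'`.  Then `N_G(P)` has a normal
complement. -/
theorem exists_normal_complement_of_cores {G : Type*} [Group G] [Finite G] (p : ℕ)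
    [Fact p.Prime] (P : Sylow p G) (G₂ K₁ : Subgroup G) [G₂.Normal] [K₁.Normal]
    (hG₂ : G₂ ⊓ Subgroup.normalizer ((P : Subgroup G) : Set G) = (P : Subgroup G))
    (hK₁ : K₁ ⊓ (P : Subgroup G) = ⁅(P : Subgroup G), (P : Subgroup G)⁆) :
    ∃ K : Subgroup G, K.Normal ∧
      K ⊔ Subgroup.normalizer ((P : Subgroup G) : Set G) = ⊤ ∧
      K ⊓ Subgroup.normalizer ((P : Subgroup G) : Set G) = ⊥ := by
  classical
  have hp := (Fact.out : p.Prime)
  have hG₂n : G₂.Normal := inferInstance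
  have hPG₂ : (P : Subgroup G) ≤ G₂ := by rw [← hG₂]; exact inf_le_left
  obtain ⟨P₂, hP₂⟩ : ∃ P₂ : Sylow p ↥G₂, P₂ = P.subtype hPG₂ := ⟨_, rfl⟩
  have hP₂mem : ∀ x : ↥G₂, x ∈ (P₂ : Subgroup ↥G₂) ↔ (x : G) ∈ (P : Subgroup G) := by
    intro x; rw [hP₂, Sylow.coe_subtype, Subgroup.mem_subgroupOf]
  have hmap : (P₂ : Subgroup ↥G₂).map G₂.subtype = (P : Subgroup G) := by
    rw [hP₂, Sylow.coe_subtype]; exact Subgroup.map_subgroupOf_eq_of_le hPG₂
  have hDmap : (⁅(P₂ : Subgroup ↥G₂), (P₂ : Subgroup ↥G₂)⁆).map G₂.subtype =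
      ⁅(P : Subgroup G), (P : Subgroup G)⁆ := by
    rw [Subgroup.map_commutator, hmap]
  have hDmem : ∀ x : ↥G₂, x ∈ ⁅(P₂ : Subgroup ↥G₂), (P₂ : Subgroup ↥G₂)⁆ ↔
      (x : G) ∈ ⁅(P : Subgroup G), (P : Subgroup G)⁆ := by
    intro x
    rw [← hDmap]
    constructor
    · intro hx; exact ⟨x, hx, rfl⟩
    · rintro ⟨y, hy, hyx⟩
      have : y = x := Subtype.ext hyx
      rwa [← this]
  -- `P₂` is self-normalizing in `G₂`
  have hself : Subgroup.normalizer ((P₂ : Subgroup ↥G₂) : Set ↥G₂) = (P₂ : Subgroup ↥G₂) := by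
    apply le_antisymm
    · intro x hx
      rw [hP₂mem]
      have hxN : (x : G) ∈ Subgroup.normalizer ((P : Subgroup G) : Set G) := by
        rw [Subgroup.mem_normalizer_iff]
        intro h
        constructor
        · intro hh
          have h1 := (Subgroup.mem_normalizer_iff.mp hx ⟨h, hPG₂ hh⟩).mp ((hP₂mem _).mpr hh)
          exact (hP₂mem _).mp h1
        · intro hh
          have hhG₂ : h ∈ G₂ := by
            have h1 : (x : G)⁻¹ * ((x : G) * h * (x : G)⁻¹) * (x : G) ∈ G₂ :=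
              G₂.mul_mem (G₂.mul_mem (G₂.inv_mem x.2) (hPG₂ hh)) x.2
            have h2 : (x : G)⁻¹ * ((x : G) * h * (x : G)⁻¹) * (x : G) = h := by group
            rwa [h2] at h1
          have h1 := (Subgroup.mem_normalizer_iff.mp hx ⟨h, hhG₂⟩).mpr ((hP₂mem _).mpr hh)
          exact (hP₂mem _).mp h1
      have h2 : (x : G) ∈ G₂ ⊓ Subgroup.normalizer ((P : Subgroup G) : Set G) := ⟨x.2, hxN⟩
      rw [hG₂] at h2
      exact h2
    · exact Subgroup.le_normalizer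
  -- `L`
  obtain ⟨L, hL⟩ : ∃ L : Subgroup ↥G₂, L = K₁.subgroupOf G₂ := ⟨_, rfl⟩
  have hLn : L.Normal := hL ▸ Subgroup.normal_subgroupOf
  have hLmem : ∀ x : ↥G₂, x ∈ L ↔ (x : G) ∈ K₁ := by
    intro x; rw [hL, Subgroup.mem_subgroupOf]
  have hDL : ⁅(P₂ : Subgroup ↥G₂), (P₂ : Subgroup ↥G₂)⁆ ≤ L := by
    intro x hx
    rw [hLmem]
    have h1 : (x : G) ∈ ⁅(P : Subgroup G), (P : Subgroup G)⁆ := (hDmem x).mp hx
    rw [← hK₁] at h1
    exact h1.1
  obtain ⟨K₂, hK₂n, hLK₂, hK₂P, hK₂sup⟩ :=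
    Cfsg.Agent.Lib.H5.SNC.exists_normal_sup_sylow_inf_le p P₂ hself L hDL
  have hK₂inf : K₂ ⊓ (P₂ : Subgroup ↥G₂) ≤ ⁅(P₂ : Subgroup ↥G₂), (P₂ : Subgroup ↥G₂)⁆ := by
    intro x hx
    rw [hDmem, ← hK₁]
    exact ⟨(hLmem x).mp (hK₂P hx), (hP₂mem x).mp hx.2⟩
  obtain ⟨K, hKn, hKcop, hKsup⟩ :=
    Cfsg.Agent.Lib.H5.SNC.exists_normal_pPrime_sup_sylow p P₂ K₂ hK₂sup hK₂inf
  -- index of `K` is a power of `p`
  have hKidx : ∃ k : ℕ, K.index = p ^ k := by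
    have h1 : K.index = K.relIndex (P₂ : Subgroup ↥G₂) := by
      rw [← Subgroup.relIndex_top_right, ← hKsup, Subgroup.relIndex_sup_left]
    have h2 : K.relIndex (P₂ : Subgroup ↥G₂) ∣ Nat.card (P₂ : Subgroup ↥G₂) :=
      Subgroup.index_dvd_card _
    obtain ⟨n, hn⟩ := P₂.isPGroup'.exists_card_eq
    rw [hn] at h2
    obtain ⟨k, _, hk⟩ := (Nat.dvd_prime_pow hp).mp h2
    exact ⟨k, h1.trans hk⟩
  obtain ⟨k, hk⟩ := hKidx
  have hmem : ∀ x : ↥G₂, (orderOf x).Coprime p → x ∈ K := fun x hx =>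
    Cfsg.Agent.Lib.L0.mem_of_coprime_orderOf_of_index_pow K k hk x hx
  have hKord : ∀ x ∈ K, (orderOf x).Coprime p := fun x hx =>
    Nat.Coprime.coprime_dvd_left (Subgroup.orderOf_dvd_natCard K hx) hKcop
  refine ⟨K.map G₂.subtype, ?_, ?_, ?_⟩
  · refine ⟨?_⟩
    rintro _ ⟨m0, hm0, rfl⟩ g
    have hy : g * (m0 : G) * g⁻¹ ∈ G₂ := hG₂n.conj_mem _ m0.2 g
    refine ⟨⟨_, hy⟩, hmem _ ?_, rfl⟩
    have ho : orderOf (⟨g * (m0 : G) * g⁻¹, hy⟩ : ↥G₂) = orderOf m0 := by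
      rw [← Subgroup.orderOf_coe, ← Subgroup.orderOf_coe m0]
      show orderOf (g * (m0 : G) * g⁻¹) = orderOf (m0 : G)
      exact (MulAut.conj g).orderOf_eq (m0 : G)
    rw [ho]
    exact hKord m0 hm0
  · -- sup
    have h1 : K.map G₂.subtype ⊔ (P : Subgroup G) = G₂ := by
      rw [← hmap, ← Subgroup.map_sup, hKsup, ← MonoidHom.range_eq_map, Subgroup.range_subtype]
    have h2 := Sylow.normalizer_sup_eq_top P₂
    rw [hmap] at h2
    rw [eq_top_iff, ← h2]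
    apply sup_le
    · exact le_sup_right
    · calc G₂ = K.map G₂.subtype ⊔ (P : Subgroup G) := h1.symm
        _ ≤ K.map G₂.subtype ⊔ Subgroup.normalizer ((P : Subgroup G) : Set G) :=
          sup_le_sup_left Subgroup.le_normalizer _
  · rw [eq_bot_iff]
    rintro x ⟨⟨m0, hm0, rfl⟩, hxN⟩
    have hxP : (m0 : G) ∈ (P : Subgroup G) := by
      rw [← hG₂]; exact ⟨m0.2, hxN⟩
    rw [Subgroup.mem_bot]
    have h1 : (orderOf (m0 : G)).Coprime p := by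
      have := hKord m0 hm0
      rwa [← Subgroup.orderOf_coe] at this
    obtain ⟨n, hn⟩ := (IsPGroup.iff_orderOf.mp P.isPGroup') ⟨(m0 : G), hxP⟩
    have h3 : orderOf (m0 : G) = p ^ n := by
      rw [← hn]; exact (Subgroup.orderOf_mk _ _).symm
    rw [h3] at h1
    have h4 : p ^ n = 1 := by
      rcases Nat.eq_zero_or_pos n with h0 | hpos
      · rw [h0, pow_zero]
      · exfalso
        have := (Nat.coprime_pow_left_iff hpos p p).mp h1
        rw [Nat.coprime_self] at this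
        exact hp.one_lt.ne' this
    rw [h4] at h3
    exact orderOf_eq_one_iff.mp h3

end Cfsg.Agent.Lib.H20.SNC
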