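import Mathlib
import Cfsg.Prelude.Def_Characters
import Cfsg.Prelude.Def_Blocks
import Cfsg.Prelude.Def_Transfer
import Cfsg.Agent.Lib.H24.CharKer

/-!
# S4931 farm-out, piece X (helper20)
-/

set_option autoImplicit false

namespace Cfsg.Agent.Lib.H20.SNC

open Cfsg Cfsg.Agent.Lib.L0 Cfsg.Agent.Lib.H24

/-- X (kernel intersection): `M ≤ H ≤ G`; `T` a set of irreducible characters of `H`, all
extendible to `G`, all trivial on `M`, separating every `x ∈ H \ M` from `1`.  Then some normal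
subgroup `K` of `G` has `K ⊓ H = M`. -/
theorem exists_normal_inf_eq {G : Type*} [Group G] [Finite G] (H M : Subgroup G) (hMH : M ≤ H)
    (T : Set (IrrCharacter ↥H))
    (hext : ∀ θ ∈ T, ∃ χ : IrrCharacter G, ∀ x : ↥H, (χ : G → ℂ) x = (θ : ↥H → ℂ) x)
    (hker : ∀ θ ∈ T, ∀ x : ↥H, (x : G) ∈ M → (θ : ↥H → ℂ) x = (θ : ↥H → ℂ) 1)
    (hsep : ∀ x : ↥H, (x : G) ∉ M → ∃ θ ∈ T, (θ : ↥H → ℂ) x ≠ (θ : ↥H → ℂ) 1) :
    ∃ K : Subgroup G, K.Normal ∧ K ⊓ H = M := by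
  classical
  obtain ⟨S, hS⟩ : ∃ S : Set (IrrCharacter G),
      S = {χ : IrrCharacter G | ∃ θ ∈ T, ∀ x : ↥H, (χ : G → ℂ) x = (θ : ↥H → ℂ) x} := ⟨_, rfl⟩
  obtain ⟨K, hK⟩ : ∃ K : Subgroup G,
      K = ⨅ χ : S, charKer ((χ : IrrCharacter G) : G → ℂ) (isCharacter_of_irr (χ : IrrCharacter G).2) :=
    ⟨_, rfl⟩
  have hKmem : ∀ g : G, g ∈ K ↔ ∀ χ ∈ S, (χ : G → ℂ) g = (χ : G → ℂ) 1 := by
    intro g
    rw [hK, Subgroup.mem_iInf]
    constructor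
    · intro h χ hχ
      exact h ⟨χ, hχ⟩
    · intro h χ
      exact h χ.1 χ.2
  refine ⟨K, ?_, ?_⟩
  · rw [hK]
    exact Subgroup.normal_iInf_normal (fun χ => charKer_normal _ _)
  · apply le_antisymm
    · rintro x ⟨hxK, hxH⟩
      by_contra hxM
      obtain ⟨θ, hθT, hθx⟩ := hsep ⟨x, hxH⟩ hxM
      obtain ⟨χ, hχ⟩ := hext θ hθT
      have hχS : χ ∈ S := by rw [hS]; exact ⟨θ, hθT, hχ⟩
      have h1 := (hKmem x).mp hxK χ hχS
      apply hθx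
      have h2 := hχ ⟨x, hxH⟩
      have h3 := hχ 1
      simp only [Subgroup.coe_one] at h3
      rw [← h2, ← h3]
      exact h1
    · intro m hm
      refine ⟨?_, hMH hm⟩
      show m ∈ K
      rw [hKmem]
      intro χ hχ
      rw [hS] at hχ
      obtain ⟨θ, hθT, hχθ⟩ := hχ
      have h2 := hχθ ⟨m, hMH hm⟩
      have h3 := hχθ 1
      simp only [Subgroup.coe_one] at h3
      show (χ : G → ℂ) m = (χ : G → ℂ) 1
      rw [h3]
      have h4 : (χ : G → ℂ) m = (θ : ↥H → ℂ) ⟨m, hMH hm⟩ := h2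
      rw [h4]
      exact hker θ hθT ⟨m, hMH hm⟩ hm

end Cfsg.Agent.Lib.H20.SNC
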