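import Mathlib
import Cfsg.Agent.Lib.H20.SOC1

set_option autoImplicit false

/-!
# Conjugacy of subgroups of the same order: subgroups and quotients
-/

namespace Cfsg.Agent.Lib.H20.SOC

open Pointwise

variable {G : Type*} [Group G]

/-- A subgroup of order prime to `r` of a group whose Sylow `p`-subgroups are cyclic for `p ≠ r`
is a Z-group. -/
theorem isZGroup_of_not_dvd [Finite G] {r : ℕ} (hcyc : CycExc r G) (X : Subgroup G)
    (hX : ¬ r ∣ Nat.card X) : IsZGroup X := by
  refine ⟨fun p hp S => ?_⟩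
  haveI : Fact p.Prime := ⟨hp⟩
  by_cases hpr : p = r
  · have hc : Nat.card S = 1 := by
      obtain ⟨k, hk⟩ := S.2.exists_card_eq
      rcases Nat.eq_zero_or_pos k with h0 | h0
      · rw [hk, h0, pow_zero]
      · exfalso
        apply hX
        rw [← hpr]
        have h1 : p ∣ Nat.card S := by rw [hk]; exact dvd_pow_self p h0.ne'
        exact h1.trans (Subgroup.card_subgroup_dvd_card _)
    haveI : Subsingleton S := (Nat.card_eq_one_iff_unique.mp hc).1
    infer_instance
  · have hp' : IsPGroup p ((S : Subgroup X).map X.subtype) := S.2.map _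
    obtain ⟨P, hP⟩ := hp'.exists_le_sylow
    haveI : IsCyclic P := hcyc p hp hpr P
    haveI : IsCyclic ((S : Subgroup X).map X.subtype) := Subgroup.isCyclic_of_le hP
    exact isCyclic_of_surjective _
      (Subgroup.equivMapOfInjective (S : Subgroup X) X.subtype X.subtype_injective).symm.surjective

/-- Conjugacy inside a subgroup gives conjugacy in the group. -/
theorem conj_of_subgroupOf (X : Subgroup G) {A B : Subgroup G} (hA : A ≤ X) (hB : B ≤ X)
    (h : ∃ x : X, B.subgroupOf X = cj x (A.subgroupOf X)) : ∃ x ∈ X, B = cj x A := by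
  obtain ⟨x, hx⟩ := h
  refine ⟨(x : G), x.2, ?_⟩
  ext y
  constructor
  · intro hy
    have h1 : (⟨y, hB hy⟩ : X) ∈ B.subgroupOf X := by
      rw [Subgroup.mem_subgroupOf]; exact hy
    rw [hx, mem_cj, Subgroup.mem_subgroupOf] at h1
    rw [mem_cj]
    exact h1
  · intro hy
    rw [mem_cj] at hy
    have hyX : y ∈ X := by
      have h1 : (x : G)⁻¹ * y * (x : G) ∈ X := hA hy
      have h2 : y = (x : G) * ((x : G)⁻¹ * y * (x : G)) * (x : G)⁻¹ := by group
      rw [h2]
      exact X.mul_mem (X.mul_mem x.2 h1) (X.inv_mem x.2)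
    have h1 : (⟨y, hyX⟩ : X) ∈ cj x (A.subgroupOf X) := by
      rw [mem_cj, Subgroup.mem_subgroupOf]
      exact hy
    rw [← hx, Subgroup.mem_subgroupOf] at h1
    exact h1

/-- All elements of prime order `q` lie in a normal subgroup of order divisible by `q`. -/
theorem mem_normal_of_orderOf [Finite G] (hC : PConj G) (N : Subgroup G) [hN : N.Normal] {q : ℕ}
    [hq : Fact q.Prime] (hqN : q ∣ Nat.card N) {x : G} (hx : orderOf x = q) : x ∈ N := by
  obtain ⟨y, hy⟩ := exists_prime_orderOf_dvd_card' (G := N) q hqN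
  have hy' : orderOf (y : G) = q := by rw [Subgroup.orderOf_coe]; exact hy
  have h1 : IsPGroup q (Subgroup.zpowers x) := by
    apply IsPGroup.of_card (n := 1)
    rw [Nat.card_zpowers, hx, pow_one]
  have h2 : IsPGroup q (Subgroup.zpowers (y : G)) := by
    apply IsPGroup.of_card (n := 1)
    rw [Nat.card_zpowers, hy', pow_one]
  obtain ⟨g, hg⟩ := hC q hq.out (Subgroup.zpowers (y : G)) (Subgroup.zpowers x) h2 h1
    (by rw [Nat.card_zpowers, Nat.card_zpowers, hx, hy'])
  have h3 : x ∈ cj g (Subgroup.zpowers (y : G)) := by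
    rw [← hg]; exact Subgroup.mem_zpowers x
  have h4 : cj g (Subgroup.zpowers (y : G)) ≤ N := by
    have : cj g (Subgroup.zpowers (y : G)) ≤ cj g N :=
      cj_mono g (Subgroup.zpowers_le_of_mem y.2)
    rw [cj_eq_self_of_normal g N] at this
    exact this
  exact h4 h3

/-- Cyclic Sylow subgroups pass to quotients. -/
theorem cycExc_quotient [Finite G] {r : ℕ} (hcyc : CycExc r G) (N : Subgroup G) [N.Normal] :
    CycExc r (G ⧸ N) := by
  intro p hp hpr Q
  haveI : Fact p.Prime := ⟨hp⟩
  obtain ⟨P⟩ : Nonempty (Sylow p G) := inferInstance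
  haveI : IsCyclic P := hcyc p hp hpr P
  let P' : Sylow p (G ⧸ N) := P.mapSurjective (QuotientGroup.mk'_surjective N)
  have hP' : IsCyclic (P' : Subgroup (G ⧸ N)) := by
    have h1 : (P' : Subgroup (G ⧸ N)) = (P : Subgroup G).map (QuotientGroup.mk' N) := rfl
    rw [h1]
    exact isCyclic_of_surjective ((QuotientGroup.mk' N).subgroupMap (P : Subgroup G))
      ((QuotientGroup.mk' N).subgroupMap_surjective (P : Subgroup G))
  obtain ⟨g, hg⟩ := MulAction.exists_smul_eq (G ⧸ N) P' Q
  have hQ : (Q : Subgroup (G ⧸ N)) = MulAut.conj g • (P' : Subgroup (G ⧸ N)) := by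
    rw [← hg]; rfl
  have e := Subgroup.equivSMul (MulAut.conj g) (P' : Subgroup (G ⧸ N))
  have : IsCyclic (MulAut.conj g • (P' : Subgroup (G ⧸ N)) : Subgroup (G ⧸ N)) :=
    isCyclic_of_surjective e e.surjective
  change IsCyclic (Q : Subgroup (G ⧸ N))
  rw [hQ]
  exact this

end Cfsg.Agent.Lib.H20.SOC
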