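import Mathlib
import Cfsg.Agent.Lib.H20.SOC2

set_option autoImplicit false

/-!
# Conjugacy of `p`-subgroups passes to quotients by normal `q`-subgroups
-/

namespace Cfsg.Agent.Lib.H20.SOC

open Pointwise

variable {G : Type*} [Group G]

theorem card_comap_mk [Finite G] (N : Subgroup G) [N.Normal] (X : Subgroup (G ⧸ N)) :
    Nat.card (X.comap (QuotientGroup.mk' N)) = Nat.card X * Nat.card N := by
  have h1 := (X.comap (QuotientGroup.mk' N)).card_mul_index
  have h2 : (X.comap (QuotientGroup.mk' N)).index = X.index :=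
    Subgroup.index_comap_of_surjective X (QuotientGroup.mk'_surjective N)
  have h3 := X.card_mul_index
  have h4 : Nat.card G = Nat.card (G ⧸ N) * Nat.card N :=
    Subgroup.card_eq_card_quotient_mul_card_subgroup N
  have hpos : 0 < X.index := Nat.pos_of_ne_zero Subgroup.index_ne_zero_of_finite
  rw [h2] at h1
  have : Nat.card (X.comap (QuotientGroup.mk' N)) * X.index =
      Nat.card X * Nat.card N * X.index := by
    rw [h1, h4, ← h3]; ring
  exact Nat.eq_of_mul_eq_mul_right hpos this

theorem map_cj {G' : Type*} [Group G'] (f : G →* G') (g : G) (X : Subgroup G) :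
    (cj g X).map f = cj (f g) (X.map f) := by
  ext y
  rw [Subgroup.mem_map, mem_cj, Subgroup.mem_map]
  constructor
  · rintro ⟨x, hx, rfl⟩
    rw [mem_cj] at hx
    exact ⟨g⁻¹ * x * g, hx, by simp⟩
  · rintro ⟨x, hx, hxy⟩
    refine ⟨g * x * g⁻¹, ?_, ?_⟩
    · rw [mem_cj]
      have : g⁻¹ * (g * x * g⁻¹) * g = x := by group
      rw [this]; exact hx
    · rw [map_mul, map_mul, map_inv, hxy]
      group

theorem comap_cj_mk (N : Subgroup G) [N.Normal] (g : G) (X : Subgroup (G ⧸ N)) :
    (cj (g : G ⧸ N) X).comap (QuotientGroup.mk' N) = cj g (X.comap (QuotientGroup.mk' N)) := by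
  ext y
  rw [Subgroup.mem_comap, mem_cj, mem_cj, Subgroup.mem_comap]
  simp

/-- Product of two subgroups of coprime orders whose orders multiply to the order of an
overgroup. -/
theorem sup_eq_of_card_mul {A B X : Subgroup G} [Finite G] (hA : A ≤ X) (hB : B ≤ X)
    (hcop : (Nat.card A).Coprime (Nat.card B)) (hcard : Nat.card A * Nat.card B = Nat.card X) :
    A ⊔ B = X := by
  apply Subgroup.eq_of_le_of_card_ge (sup_le hA hB)
  rw [← hcard]
  apply Nat.le_of_dvd Nat.card_pos
  exact Nat.Coprime.mul_dvd_of_dvd_of_dvd hcop (Subgroup.card_dvd_of_le le_sup_left)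
    (Subgroup.card_dvd_of_le le_sup_right)

/-- Conjugacy of `p`-subgroups of the same order passes to quotients by normal `q`-subgroups. -/
theorem pconj_quotient [Finite G] (hC : PConj G) (N : Subgroup G) [hN : N.Normal] {q : ℕ}
    [hq : Fact q.Prime] (hNq : IsPGroup q N) : PConj (G ⧸ N) := by
  intro p hp Xb Yb hXb hYb hcard
  haveI : Fact p.Prime := ⟨hp⟩
  set π := QuotientGroup.mk' N with hπ
  have hsurj : Function.Surjective π := QuotientGroup.mk'_surjective N
  set X := Xb.comap π with hX
  set Y := Yb.comap π with hY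
  have hXc : Nat.card X = Nat.card Xb * Nat.card N := card_comap_mk N Xb
  have hYc : Nat.card Y = Nat.card Yb * Nat.card N := card_comap_mk N Yb
  have hXm : X.map π = Xb := Subgroup.map_comap_eq_self_of_surjective hsurj Xb
  have hYm : Y.map π = Yb := Subgroup.map_comap_eq_self_of_surjective hsurj Yb
  have hker : π.ker = N := QuotientGroup.ker_mk' N
  by_cases hpq : p = q
  · subst hpq
    have hXp : IsPGroup p X := hXb.comap_of_ker_isPGroup π (by rw [hker]; exact hNq)
    have hYp : IsPGroup p Y := hYb.comap_of_ker_isPGroup π (by rw [hker]; exact hNq)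
    obtain ⟨g, hg⟩ := hC p hp X Y hXp hYp (by rw [hXc, hYc, hcard])
    refine ⟨π g, ?_⟩
    rw [← hYm, hg, map_cj, hXm]
  · -- Sylow `p`-subgroups of `X` and `Y`
    obtain ⟨a, ha⟩ := hXb.exists_card_eq
    obtain ⟨b, hb⟩ := hNq.exists_card_eq
    have hNX : N ≤ X := by
      intro n hn
      rw [hX, Subgroup.mem_comap]
      have : π n = 1 := by rw [hπ, QuotientGroup.mk'_apply, QuotientGroup.eq_one_iff]; exact hn
      rw [this]; exact Subgroup.one_mem _
    have hNY : N ≤ Y := by
      intro n hn
      rw [hY, Subgroup.mem_comap]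
      have : π n = 1 := by rw [hπ, QuotientGroup.mk'_apply, QuotientGroup.eq_one_iff]; exact hn
      rw [this]; exact Subgroup.one_mem _
    have key : ∀ (Z : Subgroup G), N ≤ Z → Nat.card Z = p ^ a * q ^ b →
        ∃ Z₁ : Subgroup G, Z₁ ≤ Z ∧ IsPGroup p Z₁ ∧ Nat.card Z₁ = p ^ a ∧ Z₁.map π = Z.map π := by
      intro Z hNZ hZc
      obtain ⟨S⟩ : Nonempty (Sylow p Z) := inferInstance
      refine ⟨(S : Subgroup Z).map Z.subtype, Subgroup.map_subtype_le _, S.2.map _, ?_, ?_⟩
      · rw [Subgroup.card_map_of_injective Z.subtype_injective, S.card_eq_multiplicity, hZc]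
        congr 1
        rw [Nat.factorization_mul (pow_pos hp.pos a).ne' (pow_pos hq.out.pos b).ne',
          Nat.factorization_pow, Nat.factorization_pow, Finsupp.add_apply, Finsupp.smul_apply,
          Finsupp.smul_apply, hp.factorization_self,
          Nat.factorization_eq_zero_of_not_dvd (fun h => hpq ((Nat.prime_dvd_prime_iff_eq hp hq.out).mp h))]
        simp
      · have hcardS : Nat.card ((S : Subgroup Z).map Z.subtype) = p ^ a := by
          rw [Subgroup.card_map_of_injective Z.subtype_injective, S.card_eq_multiplicity, hZc]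
          congr 1
          rw [Nat.factorization_mul (pow_pos hp.pos a).ne' (pow_pos hq.out.pos b).ne',
            Nat.factorization_pow, Nat.factorization_pow, Finsupp.add_apply, Finsupp.smul_apply,
            Finsupp.smul_apply, hp.factorization_self,
            Nat.factorization_eq_zero_of_not_dvd (fun h => hpq ((Nat.prime_dvd_prime_iff_eq hp hq.out).mp h))]
          simp
        have hsup : (S : Subgroup Z).map Z.subtype ⊔ N = Z := by
          apply sup_eq_of_card_mul (Subgroup.map_subtype_le _) hNZ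
          · rw [hcardS, hb]
            exact Nat.Coprime.pow a b ((Nat.coprime_primes hp hq.out).mpr hpq)
          · rw [hcardS, hb, hZc]
        have hNbot : N.map π = ⊥ := (Subgroup.map_eq_bot_iff _).mpr (le_of_eq hker.symm)
        conv_rhs => rw [← hsup]
        rw [Subgroup.map_sup, hNbot, sup_bot_eq]
    obtain ⟨X₁, hX₁X, hX₁p, hX₁c, hX₁m⟩ := key X hNX (by rw [hXc, ha, hb])
    obtain ⟨Y₁, hY₁Y, hY₁p, hY₁c, hY₁m⟩ := key Y hNY (by rw [hYc, ← hcard, ha, hb])
    obtain ⟨g, hg⟩ := hC p hp X₁ Y₁ hX₁p hY₁p (by rw [hX₁c, hY₁c])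
    refine ⟨π g, ?_⟩
    rw [← hYm, ← hY₁m, hg, map_cj, hX₁m, hXm]

end Cfsg.Agent.Lib.H20.SOC
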