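import Mathlib
import Cfsg.Agent.Lib.H20.SOC3
import Cfsg.Agent.Lib.H1.SchurZassenhaus
import Cfsg.Agent.Lib.H22.PPrimeCore

set_option autoImplicit false

/-!
# Conjugacy of subgroups of the same order: the case of a unique subgroup of order `q`
-/

namespace Cfsg.Agent.Lib.H20.SOC

open Pointwise

universe u

/-- Case A: a normal subgroup `N` of prime order `q` containing all elements of order `q`. -/
theorem caseA {G : Type u} [Group G] [Finite G] (N : Subgroup G) [hN : N.Normal] {q : ℕ}
    [hq : Fact q.Prime] (hNq : Nat.card N = q) (hall : ∀ x : G, orderOf x = q → x ∈ N)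
    (IH : SameOrderConj (G ⧸ N)) : SameOrderConj G := by
  intro H K hcard
  set π := QuotientGroup.mk' N with hπ
  have hker : π.ker = N := QuotientGroup.ker_mk' N
  -- `q ∣ |X|` implies `N ≤ X`
  have hle : ∀ X : Subgroup G, q ∣ Nat.card X → N ≤ X := by
    intro X hX
    obtain ⟨x, hx⟩ := exists_prime_orderOf_dvd_card' (G := X) q hX
    have hx' : orderOf (x : G) = q := by rw [Subgroup.orderOf_coe]; exact hx
    have h1 : Subgroup.zpowers (x : G) ≤ N := Subgroup.zpowers_le_of_mem (hall _ hx')
    have h2 : Subgroup.zpowers (x : G) = N := by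
      apply Subgroup.eq_of_le_of_card_ge h1
      rw [Nat.card_zpowers, hx', hNq]
    rw [← h2]
    exact Subgroup.zpowers_le_of_mem x.2
  have hNsolv : Group.IsSolvable N := by
    haveI : Fact (Nat.card N).Prime := ⟨by rw [hNq]; exact hq.out⟩
    haveI : IsCyclic N := isCyclic_of_prime_card (p := Nat.card N) rfl
    haveI : IsMulCommutative N := IsCyclic.isMulCommutative
    exact ⟨⟨1, by
      rw [derivedSeries_succ, derivedSeries_zero]
      rw [eq_bot_iff]
      rw [Subgroup.commutator_le]
      intro a _ b _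
      rw [Subgroup.mem_bot, commutatorElement_def]
      have := IsMulCommutative.is_comm.comm a b
      rw [this]; group⟩⟩
  by_cases hqH : q ∣ Nat.card H
  · have hNH : N ≤ H := hle H hqH
    have hNK : N ≤ K := hle K (hcard ▸ hqH)
    have hHc : (H.map π).comap π = H := by
      rw [Subgroup.comap_map_eq, hker, sup_eq_left.mpr hNH]
    have hKc : (K.map π).comap π = K := by
      rw [Subgroup.comap_map_eq, hker, sup_eq_left.mpr hNK]
    have h1 : Nat.card (H.map π) = Nat.card (K.map π) := by
      have e1 := card_comap_mk N (H.map π)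
      have e2 := card_comap_mk N (K.map π)
      rw [← hπ, hHc] at e1
      rw [← hπ, hKc] at e2
      have hpos : 0 < Nat.card N := Nat.card_pos
      apply Nat.eq_of_mul_eq_mul_right hpos
      rw [← e1, ← e2, hcard]
    obtain ⟨gb, hgb⟩ := IH (H.map π) (K.map π) h1
    obtain ⟨g, rfl⟩ := QuotientGroup.mk_surjective gb
    refine ⟨g, ?_⟩
    have h2 := congrArg (Subgroup.comap π) hgb
    rw [hKc] at h2
    rw [h2]
    have h3 := comap_cj_mk N g (H.map π)
    rw [← hπ, hHc] at h3
    exact h3
  · have hqK : ¬ q ∣ Nat.card K := hcard ▸ hqH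
    have hcopH : ∀ X : Subgroup G, ¬ q ∣ Nat.card X → (Nat.card N).Coprime (Nat.card X) := by
      intro X hX
      rw [hNq]
      exact (Nat.Prime.coprime_iff_not_dvd hq.out).mpr hX
    have hcardmap : ∀ X : Subgroup G, ¬ q ∣ Nat.card X → Nat.card (X.map π) = Nat.card X := by
      intro X hX
      have e1 := card_comap_mk N (X.map π)
      rw [← hπ, Subgroup.comap_map_eq, hker] at e1
      have e2 : Nat.card (X ⊔ N : Subgroup G) = Nat.card X * Nat.card N := by
        apply Nat.dvd_antisymm (Cfsg.Agent.Lib.H22.card_sup_dvd_mul X N)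
        exact Nat.Coprime.mul_dvd_of_dvd_of_dvd (hcopH X hX).symm
          (Subgroup.card_dvd_of_le le_sup_left) (Subgroup.card_dvd_of_le le_sup_right)
      rw [e2] at e1
      have hpos : 0 < Nat.card N := Nat.card_pos
      exact (Nat.eq_of_mul_eq_mul_right hpos e1).symm
    have h1 : Nat.card (H.map π) = Nat.card (K.map π) := by
      rw [hcardmap H hqH, hcardmap K hqK, hcard]
    obtain ⟨gb, hgb⟩ := IH (H.map π) (K.map π) h1
    obtain ⟨g, rfl⟩ := QuotientGroup.mk_surjective gb
    set H' := cj g H with hH'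
    have hH'card : Nat.card H' = Nat.card H := card_cj g H
    have hqH' : ¬ q ∣ Nat.card H' := by rw [hH'card]; exact hqH
    have h2 : H'.map π = K.map π := by
      rw [hH', map_cj, hgb]
      rfl
    have h3 : N ⊔ H' = N ⊔ K := by
      have := congrArg (Subgroup.comap π) h2
      rw [Subgroup.comap_map_eq, Subgroup.comap_map_eq, hker] at this
      rw [sup_comm N H', sup_comm N K]
      exact this
    have hnorm : ∀ X : Subgroup G, X ≤ Subgroup.normalizer (N : Set G) := by
      intro X
      rw [Subgroup.normalizer_eq_top_iff.mpr hN]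
      exact le_top
    obtain ⟨n, hn, hnK⟩ := Cfsg.Agent.Lib.H1.sz_conj_internal (hnorm H') (hnorm K)
      (hcopH H' hqH') (Subgroup.disjoint_of_coprime_natCard (hcopH H' hqH'))
      (Subgroup.disjoint_of_coprime_natCard (hcopH K hqK)) h3 (Or.inl hNsolv)
    refine ⟨n * g, ?_⟩
    rw [cj_mul, ← hH', cj_eq_smul, hnK]

end Cfsg.Agent.Lib.H20.SOC
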