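import Mathlib
import Cfsg.Agent.Lib.H20.SOC4
import Cfsg.Agent.Lib.H1.Hall

set_option autoImplicit false

/-!
# Conjugacy of subgroups of the same order: normal abelian Sylow subgroup, decomposition
-/

namespace Cfsg.Agent.Lib.H20.SOC

open Pointwise

universe u

variable {G : Type u} [Group G] [Finite G]

/-- If the normal `q`-subgroup `N` contains all `q`-elements, then `H ⊓ N` has the order of a
Sylow `q`-subgroup of `H`. -/
theorem card_inf_of_contains {q : ℕ} [hq : Fact q.Prime] (N : Subgroup G) (hNq : IsPGroup q N)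
    (hall : ∀ x : G, (∃ k : ℕ, orderOf x = q ^ k) → x ∈ N) (H : Subgroup G) :
    Nat.card (H ⊓ N : Subgroup G) = q ^ (Nat.card H).factorization q := by
  obtain ⟨S⟩ : Nonempty (Sylow q H) := inferInstance
  have hS : Nat.card S = q ^ (Nat.card H).factorization q := S.card_eq_multiplicity
  have hle : (S : Subgroup H).map H.subtype ≤ H ⊓ N := by
    rintro x ⟨s, hs, rfl⟩
    refine ⟨s.2, ?_⟩
    apply hall
    obtain ⟨k, hk⟩ := (IsPGroup.iff_orderOf.mp S.2) ⟨s, hs⟩
    refine ⟨k, ?_⟩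
    rw [← hk]
    have e1 : orderOf (⟨s, hs⟩ : (S : Subgroup H)) = orderOf s := Subgroup.orderOf_mk s hs
    rw [e1]
    exact Subgroup.orderOf_coe s
  have h1 : q ^ (Nat.card H).factorization q ∣ Nat.card (H ⊓ N : Subgroup G) := by
    rw [← hS, ← Subgroup.card_map_of_injective H.subtype_injective]
    exact Subgroup.card_dvd_of_le hle
  have hqg : IsPGroup q (H ⊓ N : Subgroup G) := hNq.to_le inf_le_right
  obtain ⟨c, hc⟩ := hqg.exists_card_eq
  have h2 : q ^ c ∣ Nat.card H := by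
    rw [← hc]; exact Subgroup.card_dvd_of_le inf_le_left
  have h3 : c ≤ (Nat.card H).factorization q :=
    (hq.out.pow_dvd_iff_le_factorization Nat.card_pos.ne').mp h2
  rw [hc] at h1 ⊢
  have h4 : (Nat.card H).factorization q ≤ c :=
    (Nat.pow_dvd_pow_iff_le_right hq.out.one_lt).mp h1
  rw [le_antisymm h3 h4]

/-- Decomposition of a conjugate of `H` as `(H' ⊓ N) ⊔ B` with `B` inside a fixed Hall
`q'`-subgroup `T`. -/
theorem exists_decomp [Group.IsSolvable G] {q : ℕ} [hq : Fact q.Prime] (N : Subgroup G)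
    [hN : N.Normal] (hNq : IsPGroup q N)
    (hall : ∀ x : G, (∃ k : ℕ, orderOf x = q ^ k) → x ∈ N)
    (T : Subgroup G) (hT : Nat.card T = Nat.card G / q ^ (Nat.card G).factorization q)
    (H : Subgroup G) :
    ∃ (g : G) (B : Subgroup G), B ≤ T ∧ B ≤ cj g H ∧
      Nat.card B = Nat.card H / q ^ (Nat.card H).factorization q ∧
      cj g H = (cj g H ⊓ N) ⊔ B := by
  have hG0 : Nat.card G ≠ 0 := Nat.card_pos.ne'
  have hH0 : Nat.card H ≠ 0 := Nat.card_pos.ne'
  set a := (Nat.card G).factorization q with ha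
  set b := (Nat.card H).factorization q with hb
  set t := Nat.card G / q ^ a with ht
  set m := Nat.card H / q ^ b with hm
  have hGf : Nat.card G = t * q ^ a := by
    rw [ht, mul_comm]; exact (Nat.ordProj_mul_ordCompl_eq_self (Nat.card G) q).symm
  have hHf : Nat.card H = m * q ^ b := by
    rw [hm, mul_comm]; exact (Nat.ordProj_mul_ordCompl_eq_self (Nat.card H) q).symm
  have htq : t.Coprime (q ^ a) :=
    (Nat.Coprime.pow_left a (Nat.coprime_ordCompl hq.out hG0)).symm
  have hmq : m.Coprime q := (Nat.coprime_ordCompl hq.out hH0).symm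
  -- Hall `q'`-subgroup of `H`
  obtain ⟨B₀, hB₀⟩ := Cfsg.Agent.Lib.H1.hall_exists (G := H) hHf (Nat.Coprime.pow_right b hmq)
  set B₁ : Subgroup G := B₀.map H.subtype with hB₁
  have hB₁c : Nat.card B₁ = m := by
    rw [hB₁, Subgroup.card_map_of_injective H.subtype_injective, hB₀]
  have hB₁H : B₁ ≤ H := Subgroup.map_subtype_le _
  have hinf : Nat.card (H ⊓ N : Subgroup G) = q ^ b := card_inf_of_contains N hNq hall H
  have hdec : (H ⊓ N) ⊔ B₁ = H := by
    apply sup_eq_of_card_mul inf_le_left hB₁H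
    · rw [hinf, hB₁c]
      exact (Nat.Coprime.pow_right b hmq).symm
    · rw [hinf, hB₁c, hHf, mul_comm]
  -- put `B₁` inside a conjugate of `T`
  obtain ⟨T', hT'c, hB₁T'⟩ := Cfsg.Agent.Lib.H1.hall_contain (G := G) hGf htq B₁
    (by rw [hB₁c]; exact Nat.Coprime.pow_right a hmq)
  obtain ⟨g, hg⟩ := Cfsg.Agent.Lib.H1.hall_conj (G := G) hGf htq T' T hT'c hT
  refine ⟨g, cj g B₁, ?_, cj_mono g hB₁H, ?_, ?_⟩
  · rw [← hg, ← cj_eq_smul]
    exact cj_mono g hB₁T'
  · rw [card_cj, hB₁c]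
  · rw [← cj_inf_normal, ← cj_sup, hdec]

end Cfsg.Agent.Lib.H20.SOC
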