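import Mathlib
import Cfsg.Agent.Lib.H20.SOC5
import Cfsg.Agent.Lib.H1.Complement

set_option autoImplicit false

/-!
# Conjugacy of subgroups of the same order: normal abelian Sylow subgroup
-/

namespace Cfsg.Agent.Lib.H20.SOC

open Pointwise

universe u

variable {G : Type u} [Group G]

theorem mem_normalizer_iff_cj {k : G} {X : Subgroup G} :
    k ∈ Subgroup.normalizer (X : Set G) ↔ cj k X = X := by
  constructor
  · exact cj_eq_self_of_mem_normalizer
  · intro h
    rw [Subgroup.mem_normalizer_iff]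
    intro x
    constructor
    · intro hx
      rw [← h, mem_cj]
      have : k⁻¹ * (k * x * k⁻¹) * k = x := by group
      rw [this]; exact hx
    · intro hx
      rw [← h, mem_cj] at hx
      have : k⁻¹ * (k * x * k⁻¹) * k = x := by group
      rw [this] at hx; exact hx

/-- a subgroup normalizes its intersection with a normal subgroup -/
theorem le_normalizer_inf_normal (K N : Subgroup G) [N.Normal] :
    K ≤ Subgroup.normalizer ((K ⊓ N : Subgroup G) : Set G) := by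
  intro k hk
  rw [mem_normalizer_iff_cj, cj_inf_normal,
    cj_eq_self_of_mem_normalizer (Subgroup.le_normalizer hk)]

/-- Case B: a normal abelian `q`-subgroup containing all `q`-elements. -/
theorem caseB [Finite G] [Group.IsSolvable G] (hC : PConj G) {q : ℕ} [hq : Fact q.Prime]
    (N : Subgroup G) [hN : N.Normal] (hNq : IsPGroup q N)
    (hNab : ∀ x ∈ N, ∀ y ∈ N, x * y = y * x)
    (hall : ∀ x : G, (∃ k : ℕ, orderOf x = q ^ k) → x ∈ N)
    (IHsub : ∀ X : Subgroup G, ¬ q ∣ Nat.card X → SameOrderConj X) : SameOrderConj G := by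
  have hG0 : Nat.card G ≠ 0 := Nat.card_pos.ne'
  set a := (Nat.card G).factorization q with ha
  set t := Nat.card G / q ^ a with ht
  have hGf : Nat.card G = t * q ^ a := by
    rw [ht, mul_comm]; exact (Nat.ordProj_mul_ordCompl_eq_self (Nat.card G) q).symm
  have htq : t.Coprime (q ^ a) :=
    (Nat.Coprime.pow_left a (Nat.coprime_ordCompl hq.out hG0)).symm
  obtain ⟨T, hT⟩ := Cfsg.Agent.Lib.H1.hall_exists (G := G) hGf htq
  have hTq : ¬ q ∣ Nat.card T := by
    rw [hT, ht]; exact Nat.not_dvd_ordCompl hq.out hG0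
  have hNc : Nat.card N = q ^ a := by
    have h1 := card_inf_of_contains N hNq hall ⊤
    rw [top_inf_eq, Subgroup.card_top] at h1
    exact h1
  have hcompl : Subgroup.IsComplement' N T := by
    apply Subgroup.isComplement'_of_coprime
    · rw [hNc, hT, hGf, mul_comm]
    · rw [hNc, hT]; exact htq.symm
  -- conjugation by elements of `N` fixes subgroups of `N`
  have hNfix : ∀ (n : G), n ∈ N → ∀ X : Subgroup G, X ≤ N → cj n X = X := by
    intro n hn X hX
    apply cj_eq_self_of_commute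
    intro x hx
    exact hNab n hn x (hX hx)
  have hqdvd : ∀ {X Y : Subgroup G}, X ≤ Y → ¬ q ∣ Nat.card Y → ¬ q ∣ Nat.card X := by
    intro X Y hXY hY h
    exact hY (h.trans (Subgroup.card_dvd_of_le hXY))
  intro H K hcard
  obtain ⟨gH, BH, hBHT, hBHle, hBHc, hHdec⟩ := exists_decomp N hNq hall T hT H
  obtain ⟨gK, BK, hBKT, hBKle, hBKc, hKdec⟩ := exists_decomp N hNq hall T hT K
  set H₁ := cj gH H with hH₁
  set K₁ := cj gK K with hK₁
  suffices hsuff : ∃ x : G, K₁ = cj x H₁ by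
    obtain ⟨x, hx⟩ := hsuff
    refine ⟨gK⁻¹ * x * gH, ?_⟩
    rw [cj_mul, cj_mul, ← hH₁, ← hx, hK₁, cj_inv_cj]
  have hBc : Nat.card BH = Nat.card BK := by rw [hBHc, hBKc, hcard]
  -- conjugate `BH` to `BK` inside `T`
  obtain ⟨t₁, ht₁T, ht₁⟩ : ∃ t₁ ∈ T, BK = cj t₁ BH := by
    apply conj_of_subgroupOf T hBHT hBKT
    apply IHsub T hTq
    rw [Nat.card_congr (Subgroup.subgroupOfEquivOfLe hBHT).toEquiv,
      Nat.card_congr (Subgroup.subgroupOfEquivOfLe hBKT).toEquiv, hBc]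
  set H₂ := cj t₁ H₁ with hH₂
  set N₁ := H₂ ⊓ N with hN₁
  set N₂ := K₁ ⊓ N with hN₂
  have hH₂dec : H₂ = N₁ ⊔ BK := by
    have := congrArg (cj t₁) hHdec
    rw [cj_sup, cj_inf_normal, ← ht₁] at this
    exact this
  have hBKH₂ : BK ≤ H₂ := by rw [hH₂dec]; exact le_sup_right
  have hcardH₂ : Nat.card H₂ = Nat.card K₁ := by
    rw [hH₂, hK₁, hH₁, card_cj, card_cj, card_cj, hcard]
  have hN₁₂ : Nat.card N₁ = Nat.card N₂ := by
    rw [hN₁, hN₂, card_inf_of_contains N hNq hall H₂, card_inf_of_contains N hNq hall K₁, hcardH₂]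
  obtain ⟨g, hg⟩ := hC q hq.out N₁ N₂ (hNq.to_le inf_le_right) (hNq.to_le inf_le_right) hN₁₂
  obtain ⟨n, hn, t₂, ht₂, rfl⟩ := Cfsg.Agent.Lib.H1.isComplement'_exists_mul hcompl g
  have hN₂' : N₂ = cj t₂ N₁ := by
    rw [hg, cj_mul]
    apply hNfix n hn
    have : cj t₂ N₁ ≤ cj t₂ N := cj_mono t₂ inf_le_right
    rw [cj_eq_self_of_normal t₂ N] at this
    exact this
  -- the subgroup `T₀`
  set T₀ := T ⊓ Subgroup.normalizer (N₂ : Set G) with hT₀
  have hBKT₀ : BK ≤ T₀ := by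
    apply le_inf hBKT
    exact hBKle.trans (le_normalizer_inf_normal K₁ N)
  have hBK'T₀ : cj t₂ BK ≤ T₀ := by
    apply le_inf
    · have : cj t₂ BK ≤ cj t₂ T := cj_mono t₂ hBKT
      rw [cj_eq_self_of_mem_normalizer (Subgroup.le_normalizer ht₂)] at this
      exact this
    · intro y hy
      rw [mem_cj] at hy
      have hk : t₂⁻¹ * y * t₂ ∈ Subgroup.normalizer (N₁ : Set G) :=
        (le_normalizer_inf_normal H₂ N) (hBKH₂ hy)
      rw [mem_normalizer_iff_cj] at hk ⊢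
      rw [hN₂', ← cj_mul]
      have e : y * t₂ = t₂ * (t₂⁻¹ * y * t₂) := by group
      rw [e, cj_mul, hk]
  have hT₀q : ¬ q ∣ Nat.card T₀ := hqdvd inf_le_left hTq
  obtain ⟨s, hsT₀, hs⟩ : ∃ s ∈ T₀, BK = cj s (cj t₂ BK) := by
    apply conj_of_subgroupOf T₀ hBK'T₀ hBKT₀
    apply IHsub T₀ hT₀q
    rw [Nat.card_congr (Subgroup.subgroupOfEquivOfLe hBK'T₀).toEquiv,
      Nat.card_congr (Subgroup.subgroupOfEquivOfLe hBKT₀).toEquiv, card_cj]
  have hsN₂ : cj s N₂ = N₂ := mem_normalizer_iff_cj.mp hsT₀.2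
  refine ⟨s * t₂ * t₁, ?_⟩
  have e1 : cj (s * t₂ * t₁) H₁ = cj s (cj t₂ H₂) := by
    rw [cj_mul, cj_mul]
  have e2 : cj t₂ H₂ = N₂ ⊔ cj t₂ BK := by
    have := congrArg (cj t₂) hH₂dec
    rw [cj_sup, ← hN₂'] at this
    exact this
  rw [e1, e2, cj_sup, hsN₂, ← hs]
  exact hKdec

end Cfsg.Agent.Lib.H20.SOC
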