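import Mathlib
import Cfsg.Agent.Lib.H20.SOC6
import Cfsg.Agent.Lib.H20.Solvable

set_option autoImplicit false

/-!
# Conjugacy of subgroups of the same order: main induction
-/

namespace Cfsg.Agent.Lib.H20.SOC

open Pointwise

universe u

/-- The elements of order dividing `q` in the centre of `M`, as a subgroup of `G`. -/
def omegaZ {G : Type*} [Group G] (M : Subgroup G) (q : ℕ) : Subgroup G where
  carrier := {x | x ∈ M ∧ (∀ y ∈ M, x * y = y * x) ∧ x ^ q = 1}
  mul_mem' := by
    rintro x y ⟨hx, hxc, hxq⟩ ⟨hy, hyc, hyq⟩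
    refine ⟨M.mul_mem hx hy, ?_, ?_⟩
    · intro z hz
      calc x * y * z = x * (y * z) := by group
        _ = x * (z * y) := by rw [hyc z hz]
        _ = (x * z) * y := by group
        _ = (z * x) * y := by rw [hxc z hz]
        _ = z * (x * y) := by group
    · have hc : Commute x y := hxc y hy
      rw [hc.mul_pow, hxq, hyq, one_mul]
  one_mem' := ⟨M.one_mem, fun y _ => by rw [one_mul, mul_one], one_pow q⟩
  inv_mem' := by
    rintro x ⟨hx, hxc, hxq⟩
    refine ⟨M.inv_mem hx, ?_, ?_⟩
    · intro z hz
      have := hxc z hz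
      calc x⁻¹ * z = x⁻¹ * (z * x) * x⁻¹ := by group
        _ = x⁻¹ * (x * z) * x⁻¹ := by rw [this]
        _ = z * x⁻¹ := by group
    · rw [inv_pow, hxq, inv_one]

theorem omegaZ_normal {G : Type*} [Group G] (M : Subgroup G) [hM : M.Normal] (q : ℕ) :
    (omegaZ M q).Normal := by
  constructor
  rintro x ⟨hx, hxc, hxq⟩ g
  refine ⟨hM.conj_mem x hx g, ?_, ?_⟩
  · intro z hz
    have hz' : g⁻¹ * z * g ∈ M := by
      have := hM.conj_mem z hz g⁻¹
      rw [inv_inv] at this; exact this
    have := hxc _ hz'
    calc g * x * g⁻¹ * z = g * (x * (g⁻¹ * z * g)) * g⁻¹ := by group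
      _ = g * ((g⁻¹ * z * g) * x) * g⁻¹ := by rw [this]
      _ = z * (g * x * g⁻¹) := by group
  · rw [conj_pow, hxq]; group

theorem soc_aux (r : ℕ) : ∀ n : ℕ, ∀ (G : Type u) [Group G] [Finite G] [Group.IsSolvable G],
    Nat.card G = n → PConj G → CycExc r G → SameOrderConj G := by
  intro n
  induction n using Nat.strong_induction_on with
  | _ n ih =>
  intro G _ _ _ hn hC hcyc
  by_cases hnt : Nontrivial G
  swap
  · rw [not_nontrivial_iff_subsingleton] at hnt
    intro H K _
    refine ⟨1, ?_⟩
    rw [cj_one]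
    ext x
    rw [Subsingleton.elim x 1]
    exact ⟨fun _ => H.one_mem, fun _ => K.one_mem⟩
  obtain ⟨q, M, hq, hMn, hM1, hMq⟩ := exists_normal_pGroup_of_solvable (G := G)
  haveI : Fact q.Prime := ⟨hq⟩
  haveI := hMn
  set N : Subgroup G := omegaZ M q with hNdef
  haveI hNn : N.Normal := omegaZ_normal M q
  have hNq : IsPGroup q N := by
    intro x
    refine ⟨1, ?_⟩
    apply Subtype.ext
    rw [Subgroup.coe_pow, Subgroup.coe_one, pow_one]
    exact x.2.2.2
  have hNab : ∀ x ∈ N, ∀ y ∈ N, x * y = y * x := fun x hx y hy => hx.2.1 y hy.1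
  -- `N` is nontrivial
  have hqN : q ∣ Nat.card N := by
    haveI : Nontrivial M := (Subgroup.nontrivial_iff_ne_bot M).mpr hM1
    haveI : Finite M := inferInstance
    have hZ : Nontrivial (Subgroup.center M) := hMq.center_nontrivial
    have hZq : IsPGroup q (Subgroup.center M) := hMq.to_subgroup _
    obtain ⟨k, hk⟩ := hZq.exists_card_eq
    have hk0 : k ≠ 0 := by
      intro h0
      rw [h0, pow_zero] at hk
      have := (Nat.card_eq_one_iff_unique.mp hk).1
      exact not_subsingleton _ this
    have hdvd : q ∣ Nat.card (Subgroup.center M) := by rw [hk]; exact dvd_pow_self q hk0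
    obtain ⟨z, hz⟩ := exists_prime_orderOf_dvd_card' (G := Subgroup.center M) q hdvd
    have hzN : ((z : M) : G) ∈ N := by
      refine ⟨(z : M).2, ?_, ?_⟩
      · intro y hy
        have := Subgroup.mem_center_iff.mp z.2 ⟨y, hy⟩
        have h2 := congrArg Subtype.val this
        rw [Subgroup.coe_mul, Subgroup.coe_mul] at h2
        exact h2.symm
      · have h1 : z ^ q = 1 := by rw [← hz]; exact pow_orderOf_eq_one z
        have h2 := congrArg Subtype.val (congrArg Subtype.val h1)
        rw [Subgroup.coe_pow, Subgroup.coe_pow] at h2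
        exact h2
    have hzo : orderOf (⟨((z : M) : G), hzN⟩ : N) = q := by
      have e1 : orderOf (⟨((z : M) : G), hzN⟩ : N) = orderOf ((z : M) : G) := Subgroup.orderOf_mk _ hzN
      rw [e1, Subgroup.orderOf_coe, Subgroup.orderOf_coe, hz]
    rw [← hzo]
    exact orderOf_dvd_natCard _
  have hN1 : N ≠ ⊥ := by
    intro h
    rw [h, Subgroup.card_bot] at hqN
    exact hq.one_lt.ne' (Nat.dvd_one.mp hqN)
  have hall1 : ∀ x : G, orderOf x = q → x ∈ N := fun x hx => mem_normal_of_orderOf hC N hqN hx
  have hlt : Nat.card (G ⧸ N) < n := by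
    rw [← hn]; exact Cfsg.Agent.Lib.H1.card_quotient_lt hN1
  by_cases hNc : Nat.card N = q
  · -- Case A
    apply caseA N hNc hall1
    exact ih _ hlt (G ⧸ N) rfl (pconj_quotient hC N hNq) (cycExc_quotient hcyc N)
  · -- Case B
    obtain ⟨c, hc⟩ := hNq.exists_card_eq
    have hc2 : 2 ≤ c := by
      rcases Nat.lt_or_ge c 2 with h | h
      · exfalso
        interval_cases c
        · rw [pow_zero] at hc
          exact hN1 (Subgroup.card_eq_one.mp hc)
        · rw [pow_one] at hc
          exact hNc hc
      · exact h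
    -- no element of order `q ^ 2`
    have hno : ∀ g : G, orderOf g ≠ q ^ 2 := by
      intro g hg
      have hdvd : q ^ 2 ∣ Nat.card N := by rw [hc]; exact pow_dvd_pow q hc2
      obtain ⟨E₀, hE₀⟩ := Sylow.exists_subgroup_card_pow_prime (G := N) q hdvd
      set E : Subgroup G := E₀.map N.subtype with hE
      have hEc : Nat.card E = q ^ 2 := by
        rw [hE, Subgroup.card_map_of_injective N.subtype_injective, hE₀]
      have hEN : E ≤ N := Subgroup.map_subtype_le _
      have h1 : IsPGroup q (Subgroup.zpowers g) := by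
        apply IsPGroup.of_card (n := 2)
        rw [Nat.card_zpowers, hg]
      obtain ⟨h, hh⟩ := hC q hq E (Subgroup.zpowers g) (hNq.to_le hEN) h1
        (by rw [hEc, Nat.card_zpowers, hg])
      have h2 : g ∈ cj h E := by rw [← hh]; exact Subgroup.mem_zpowers g
      rw [mem_cj] at h2
      have h3 : (h⁻¹ * g * h) ^ q = 1 := (hEN h2).2.2
      have h4 : g ^ q = 1 := by
        have e : (h⁻¹ * g * h) ^ q = h⁻¹ * g ^ q * h := by
          have := conj_pow (a := h⁻¹) (b := g) (i := q)
          rw [inv_inv] at this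
          exact this
        rw [e] at h3
        calc g ^ q = h * (h⁻¹ * g ^ q * h) * h⁻¹ := by group
          _ = 1 := by rw [h3]; group
      have h5 : q ^ 2 ∣ q := by rw [← hg]; exact orderOf_dvd_of_pow_eq_one h4
      have h6 : q ^ 2 ≤ q := Nat.le_of_dvd hq.pos h5
      have h7 : q * q ≤ q * 1 := by rw [← pow_two, mul_one]; exact h6
      have := Nat.le_of_mul_le_mul_left h7 hq.pos
      exact absurd hq.one_lt (by omega)
    have hall : ∀ x : G, (∃ k : ℕ, orderOf x = q ^ k) → x ∈ N := by
      rintro x ⟨k, hk⟩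
      rcases Nat.lt_or_ge k 2 with h | h
      · interval_cases k
        · rw [pow_zero, orderOf_eq_one_iff] at hk
          rw [hk]; exact N.one_mem
        · rw [pow_one] at hk
          exact hall1 x hk
      · exfalso
        obtain ⟨j, rfl⟩ : ∃ j, k = j + 2 := ⟨k - 2, by omega⟩
        apply hno (x ^ q ^ j)
        rw [orderOf_pow_of_dvd (pow_pos hq.pos j).ne' ⟨q ^ 2, by rw [hk]; ring⟩, hk]
        rw [show q ^ (j + 2) = q ^ j * q ^ 2 by ring]
        exact Nat.mul_div_cancel_left _ (pow_pos hq.pos j)
    -- `q = r`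
    have hqr : q = r := by
      by_contra hne
      obtain ⟨P, hP⟩ := hNq.exists_le_sylow
      haveI : IsCyclic P := hcyc q hq hne P
      haveI : IsCyclic N := Subgroup.isCyclic_of_le hP
      have h1 : Monoid.exponent N = Nat.card N := IsCyclic.exponent_eq_card
      have h2 : Monoid.exponent N ∣ q := by
        apply Monoid.exponent_dvd_of_forall_pow_eq_one
        intro x
        apply Subtype.ext
        rw [Subgroup.coe_pow, Subgroup.coe_one]
        exact x.2.2.2
      rw [h1, hc] at h2
      have h6 : q ^ c ≤ q := Nat.le_of_dvd hq.pos h2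
      have h7 : q ^ 2 ≤ q ^ c := Nat.pow_le_pow_right hq.pos hc2
      have h8 : q * q ≤ q * 1 := by rw [← pow_two, mul_one]; exact h7.trans h6
      have := Nat.le_of_mul_le_mul_left h8 hq.pos
      exact absurd hq.one_lt (by omega)
    have hqG : q ∣ Nat.card G := hqN.trans (Subgroup.card_subgroup_dvd_card N)
    apply caseB hC N hNq hNab hall
    intro X hX
    have hXlt : Nat.card X < n := by
      rw [← hn]
      apply lt_of_le_of_ne (Subgroup.card_le_card_group X)
      intro h
      exact hX (h ▸ hqG)
    haveI : IsZGroup X := isZGroup_of_not_dvd hcyc X (hqr ▸ hX)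
    exact ih _ hXlt X rfl pconj_of_isZGroup (fun p hp _ P => IsZGroup.isZGroup p hp P)

/-- **Main theorem.** In a finite solvable group in which `p`-subgroups of the same order are
conjugate (for all `p`) and the Sylow `p`-subgroups are cyclic for all `p ≠ r`, any two subgroups
of the same order are conjugate. -/
theorem sameOrderConj {G : Type u} [Group G] [Finite G] [Group.IsSolvable G] (r : ℕ)
    (hC : PConj G) (hcyc : CycExc r G) : SameOrderConj G :=
  soc_aux r _ G rfl hC hcyc

end Cfsg.Agent.Lib.H20.SOC
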