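/-
UP3-E6c-A1 (helper20, for helper15's UNITARY PHASE 3): a unitary cube root of `ω` in an adjoint-closed field
subalgebra `K ≅ F_64` of `M_6(F_4)`.

General part (any `n`, `q`, `|F| = q²`): the adjoint `adjM q k = (k_ji ^ q)` for `hermForm n F q`, an involutive
anti-automorphism preserving any adjoint-closed subalgebra.
-/
import Cfsg.Agent.Lib.H15.UP2Gen
import Cfsg.Agent.Lib.H15.UP3Defs
import Cfsg.Agent.Lib.H2.HermCount
import Cfsg.Agent.Lib.H28.AschP2E8e

set_option autoImplicit false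
set_option linter.unusedSectionVars false
set_option linter.unusedVariables false

namespace Cfsg.Agent.Lib.H20.UP3

open Cfsg Cfsg.Geo Cfsg.Agent.Lib.Lead.Asch Cfsg.Agent.Lib.H15.UP2 Cfsg.Agent.Lib.H15.UP3
open Cfsg.Agent.Lib.H15.SUGen
open scoped MatrixGroups Matrix Kronecker

variable {F : Type*} [Field F] [Fintype F] {n q : ℕ}

/-! ### the adjoint for the hermitian form -/

/-- the conjugate transpose `(k_ji ^ q)` -/
def adjM (q : ℕ) (k : Matrix (Fin n) (Fin n) F) : Matrix (Fin n) (Fin n) F := fun i j => (k j i) ^ q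

theorem adjM_apply (k : Matrix (Fin n) (Fin n) F) (i j : Fin n) : adjM q k i j = (k j i) ^ q := rfl

theorem fr_sum (hF : Fintype.card F = q ^ 2) {ι : Type*} (s : Finset ι) (f : ι → F) :
    (∑ i ∈ s, f i) ^ q = ∑ i ∈ s, (f i) ^ q := by
  classical
  induction s using Finset.induction_on with
  | empty => simp [fr_zero hF]
  | insert a s ha ih => rw [Finset.sum_insert ha, Finset.sum_insert ha, fr_add hF, ih]

theorem adjM_add (hF : Fintype.card F = q ^ 2) (x y : Matrix (Fin n) (Fin n) F) :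
    adjM q (x + y) = adjM q x + adjM q y := by
  ext i j
  simp only [adjM_apply, Matrix.add_apply]
  exact fr_add hF _ _

theorem adjM_zero (hF : Fintype.card F = q ^ 2) : adjM q (0 : Matrix (Fin n) (Fin n) F) = 0 := by
  ext i j
  simp only [adjM_apply, Matrix.zero_apply]
  exact fr_zero hF

theorem adjM_mul (hF : Fintype.card F = q ^ 2) (x y : Matrix (Fin n) (Fin n) F) :
    adjM q (x * y) = adjM q y * adjM q x := by
  ext i j
  simp only [adjM_apply, Matrix.mul_apply]
  rw [fr_sum hF]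
  apply Finset.sum_congr rfl
  intro l _
  rw [mul_pow, mul_comm]

theorem adjM_smul (c : F) (x : Matrix (Fin n) (Fin n) F) : adjM q (c • x) = c ^ q • adjM q x := by
  ext i j
  simp only [adjM_apply, Matrix.smul_apply, smul_eq_mul, mul_pow]

theorem adjM_adjM (hF : Fintype.card F = q ^ 2) (x : Matrix (Fin n) (Fin n) F) :
    adjM q (adjM q x) = x := by
  ext i j
  simp only [adjM_apply]
  exact fr_fr hF _

theorem adjM_one (hF : Fintype.card F = q ^ 2) : adjM q (1 : Matrix (Fin n) (Fin n) F) = 1 := by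
  ext i j
  simp only [adjM_apply, Matrix.one_apply]
  by_cases h : i = j
  · subst h; simp
  · rw [if_neg h, if_neg (fun h' => h h'.symm)]
    exact fr_zero hF

theorem adjM_pow (hF : Fintype.card F = q ^ 2) (x : Matrix (Fin n) (Fin n) F) (k : ℕ) :
    adjM q (x ^ k) = (adjM q x) ^ k := by
  induction k with
  | zero => simp [adjM_one hF]
  | succ k ih => rw [pow_succ, adjM_mul hF, ih, ← pow_succ']

theorem herm_adjM (hF : Fintype.card F = q ^ 2) (k : Matrix (Fin n) (Fin n) F) (u v : Fin n → F) :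
    hermForm n F q (k *ᵥ u) v = hermForm n F q u (adjM q k *ᵥ v) := by
  simp only [hermForm, Matrix.mulVec, dotProduct, adjM_apply]
  have h1 : ∀ j, (∑ i, k i j ^ q * v i) ^ q = ∑ i, k i j * v i ^ q := by
    intro j
    rw [fr_sum hF]
    apply Finset.sum_congr rfl
    intro i _
    rw [mul_pow, fr_fr hF]
  simp_rw [h1, Finset.sum_mul, Finset.mul_sum]
  rw [Finset.sum_comm]
  apply Finset.sum_congr rfl
  intro j _
  apply Finset.sum_congr rfl
  intro i _
  ring

/-- uniqueness of the adjoint -/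
theorem eq_adjM_of_adjoint (hF : Fintype.card F = q ^ 2) {k k' : Matrix (Fin n) (Fin n) F}
    (h : ∀ u v : Fin n → F, hermForm n F q (k *ᵥ u) v = hermForm n F q u (k' *ᵥ v)) :
    k' = adjM q k := by
  rw [Matrix.ext_iff_mulVec]
  intro v
  by_contra hne
  have hne' : k' *ᵥ v - adjM q k *ᵥ v ≠ 0 := sub_ne_zero.2 hne
  obtain ⟨y, hy⟩ := herm_nondeg hF hne'
  apply hy
  have := hf_sub_right hF y (k' *ᵥ v) (adjM q k *ᵥ v)
  unfold hf at this
  rw [this, ← h y v, herm_adjM hF, sub_self]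

theorem adjM_mem (hF : Fintype.card F = q ^ 2) {K : Subalgebra F (Matrix (Fin n) (Fin n) F)}
    (hadj : IsAdjointClosedFor (hermForm n F q) K) {k : Matrix (Fin n) (Fin n) F} (hk : k ∈ K) :
    adjM q k ∈ K := by
  obtain ⟨k', hk', h⟩ := hadj k hk
  rw [← eq_adjM_of_adjoint hF h]
  exact hk'

/-- `adjM t * t = 1` makes `t` unitary -/
theorem unitary_of_adjM_mul (hF : Fintype.card F = q ^ 2) {t : Matrix (Fin n) (Fin n) F}
    (h : adjM q t * t = 1) (u v : Fin n → F) :
    hermForm n F q (t *ᵥ u) (t *ᵥ v) = hermForm n F q u v := by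
  rw [herm_adjM hF, Matrix.mulVec_mulVec, h, Matrix.one_mulVec]

/-! ### field subalgebras: a primitive element -/

section prim

variable {r : ℕ} {K : Subalgebra F (Matrix (Fin n) (Fin n) F)}

/-- `K` has no zero divisors. -/
theorem K_eq_zero_or_eq_zero (hK : IsFieldSubalgebra r K) {x y : Matrix (Fin n) (Fin n) F} (hx : x ∈ K)
    (h : x * y = 0) : x = 0 ∨ y = 0 := by
  by_cases hx0 : x = 0
  · exact Or.inl hx0
  · right
    obtain ⟨x', hx', hxx'⟩ := hK.inv x hx hx0
    have h1 : x' * x = 1 := by rw [← hK.comm x hx x' hx', hxx']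
    calc y = (x' * x) * y := by rw [h1, one_mul]
      _ = x' * (x * y) := by rw [mul_assoc]
      _ = 0 := by rw [h, mul_zero]

/-- `K` as a field. -/
@[reducible]
noncomputable def fieldK' (hn : 0 < n) (hK : IsFieldSubalgebra r K) : Field K :=
  IsField.toField
    { exists_pair_ne := ⟨0, 1, fun h => by
        have h1 := congrArg (fun x : K => (x : (Matrix (Fin n) (Fin n) F))) h
        simp only [ZeroMemClass.coe_zero, OneMemClass.coe_one] at h1
        have h2 := congrFun (congrFun h1 ⟨0, hn⟩) ⟨0, hn⟩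
        simp at h2⟩
      mul_comm := fun a b => Subtype.ext (hK.comm a a.2 b b.2)
      mul_inv_cancel := fun {a} ha => by
        have ha' : (a : (Matrix (Fin n) (Fin n) F)) ≠ 0 := fun h => ha (Subtype.ext h)
        obtain ⟨y, hy, hay⟩ := hK.inv a a.2 ha'
        exact ⟨⟨y, hy⟩, Subtype.ext hay⟩ }

theorem natCard_K' (hr : 0 < r) (hK : IsFieldSubalgebra r K) : Nat.card K = Fintype.card F ^ r := by
  have : Module.Finite F K := Module.finite_of_finrank_pos (by rw [hK.finrank_eq]; exact hr)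
  rw [Module.natCard_eq_pow_finrank (K := F) (V := K), hK.finrank_eq, Nat.card_eq_fintype_card]

/-- a primitive element of the field subalgebra `K`: of order `|F|^r - 1`, and every non-zero element of `K` is a
power of it. -/
theorem exists_prim (hn : 0 < n) (hr : 0 < r) (hK : IsFieldSubalgebra r K) :
    ∃ g : Matrix (Fin n) (Fin n) F, g ∈ K ∧ g ^ (Fintype.card F ^ r - 1) = 1 ∧
      (∀ x ∈ K, x ≠ 0 → ∃ i : ℕ, x = g ^ i) ∧ ∀ i : ℕ, g ^ i = 1 → (Fintype.card F ^ r - 1) ∣ i := by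
  classical
  letI := fieldK' hn hK
  have hfin : Finite K := Nat.finite_of_card_ne_zero (by
    rw [natCard_K' hr hK]
    exact pow_ne_zero _ Fintype.card_ne_zero)
  letI : Fintype K := Fintype.ofFinite K
  obtain ⟨u, hu⟩ := IsCyclic.exists_generator (α := Kˣ)
  have hord : orderOf u = Fintype.card F ^ r - 1 := by
    rw [orderOf_eq_card_of_forall_mem_zpowers hu, Nat.card_units, natCard_K' hr hK]
  refine ⟨((u : K) : Matrix (Fin n) (Fin n) F), (u : K).2, ?_, ?_, ?_⟩
  · have h1 : u ^ (Fintype.card F ^ r - 1) = 1 := by rw [← hord]; exact pow_orderOf_eq_one u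
    have h2 := congrArg (fun z : Kˣ => ((z : K) : Matrix (Fin n) (Fin n) F)) h1
    simpa using h2
  · intro x hx hx0
    have hx0' : (⟨x, hx⟩ : K) ≠ 0 := fun h => hx0 (congrArg Subtype.val h)
    have h1 := hu (Units.mk0 (⟨x, hx⟩ : K) hx0')
    rw [← mem_powers_iff_mem_zpowers] at h1
    obtain ⟨i, hi⟩ := h1
    refine ⟨i, ?_⟩
    have h2 := congrArg (fun z : Kˣ => ((z : K) : Matrix (Fin n) (Fin n) F)) hi
    simpa using h2.symm
  · intro i hi
    rw [← hord]
    apply orderOf_dvd_of_pow_eq_one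
    apply Units.ext
    apply Subtype.ext
    simpa using hi

end prim

/-! ### the unitary cube root -/

/-- **UP3-E6c-A1**. -/
theorem exists_unitary_cube_root (hF : Fintype.card F = q ^ 2) (hq : q = 2)
    (K : Subalgebra F (Matrix (Fin 6) (Fin 6) F)) (hK : IsFieldSubalgebra 3 K)
    (hadj : IsAdjointClosedFor (hermForm 6 F q) K) :
    ∃ (ω : F) (t : Matrix (Fin 6) (Fin 6) F), ω ^ 2 + ω + 1 = 0 ∧ t ∈ K ∧ t ^ 3 = ω • (1 : Matrix (Fin 6) (Fin 6) F) ∧
      ∀ u v : Fin 6 → F, hermForm 6 F q (t *ᵥ u) (t *ᵥ v) = hermForm 6 F q u v := by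
  subst hq
  have hq4 : Fintype.card F = 4 := by rw [hF]; norm_num
  have h2 : (2 : F) = 0 := Cfsg.Agent.Lib.H28.AschP2E8.two_eq_zero hq4
  obtain ⟨ω₀, hω0, hω1, hω⟩ := Cfsg.Agent.Lib.H28.AschP2E8.exists_omega (F := F) hq4
  obtain ⟨g, hgK, hg63, hgen, hgord⟩ := exists_prim (by norm_num : 0 < 6) (by norm_num : 0 < 3) hK
  rw [hq4] at hg63 hgord
  norm_num at hg63 hgord
  -- `a = g^7` has order 9
  set a := g ^ 7 with ha
  have haK : a ∈ K := K.pow_mem hgK 7
  have ha9 : a ^ 9 = 1 := by rw [ha, ← pow_mul]; exact hg63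
  -- the adjoint of `g` is a power of `g`
  have hadjg0 : adjM 2 g ≠ 0 := by
    intro h0
    have h1 := adjM_adjM hF g
    rw [h0, adjM_zero hF] at h1
    have h3 : (1 : Matrix (Fin 6) (Fin 6) F) = 0 := by rw [← hg63, ← h1]; simp
    exact one_ne_zero h3
  obtain ⟨m, hm⟩ := hgen _ (adjM_mem hF hadj hgK) hadjg0
  have hadja : adjM 2 a = a ^ m := by
    rw [ha, adjM_pow hF, hm, ← pow_mul, ← pow_mul, mul_comm]
  -- reduce the exponent mod 9
  have hadja' : adjM 2 a = a ^ (m % 9) := by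
    rw [hadja]
    conv_lhs => rw [← Nat.div_add_mod m 9, pow_add, pow_mul, ha9, one_pow, one_mul]
  set r := m % 9 with hr
  have hr9 : r < 9 := Nat.mod_lt _ (by norm_num)
  -- involutivity
  have hinv : a ^ (r * r) = a := by
    have h1 := adjM_adjM hF a
    rw [hadja', adjM_pow hF, hadja', ← pow_mul] at h1
    exact h1
  have hdvd : ∀ i : ℕ, a ^ i = 1 → 9 ∣ i := by
    intro i hi
    rw [ha, ← pow_mul] at hi
    have := hgord _ hi
    omega
  -- the cube `s = a^3`
  set s := a ^ 3 with hs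
  have hsK : s ∈ K := K.pow_mem haK 3
  have hs3 : s ^ 3 = 1 := by rw [hs, ← pow_mul]; exact ha9
  have hs1 : s ≠ 1 := by
    intro h
    have := hdvd 3 h
    omega
  have hfac : (s - 1) * ((s - ω₀ • 1) * (s - ω₀ ^ 2 • 1)) = 0 := by
    have e1 : (s - 1) * ((s - ω₀ • 1) * (s - ω₀ ^ 2 • 1)) =
        s ^ 3 - (1 + ω₀ + ω₀ ^ 2) • s ^ 2 + (ω₀ + ω₀ ^ 2 + ω₀ ^ 3) • s - ω₀ ^ 3 • 1 := by
      simp only [sub_mul, mul_sub, Matrix.smul_mul, Matrix.mul_smul, mul_one, one_mul, smul_smul,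
        smul_sub]
      have : s * s * s = s ^ 3 := by rw [pow_succ, pow_two]
      have h22 : s * s = s ^ 2 := (pow_two s).symm
      rw [mul_assoc s s s] at this
      rw [this, h22]
      module
    rw [e1]
    have hω3 : ω₀ ^ 3 = 1 := Cfsg.Agent.Lib.H28.AschP2E8.pow_three hq4 hω0
    have c1 : (1 : F) + ω₀ + ω₀ ^ 2 = 0 := by linear_combination hω
    have c2 : ω₀ + ω₀ ^ 2 + ω₀ ^ 3 = 0 := by rw [hω3]; linear_combination hω
    rw [c1, c2, hω3, hs3, zero_smul, zero_smul, one_smul]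
    simp
  -- `s = ω • 1` for a primitive cube root of unity `ω`
  obtain ⟨ω, hωeq, hsω⟩ : ∃ ω : F, ω ^ 2 + ω + 1 = 0 ∧ s = ω • (1 : Matrix (Fin 6) (Fin 6) F) := by
    rcases K_eq_zero_or_eq_zero hK (K.sub_mem hsK K.one_mem) hfac with h | h
    · exact absurd (sub_eq_zero.1 h) hs1
    · rcases K_eq_zero_or_eq_zero hK (K.sub_mem hsK (K.smul_mem K.one_mem _)) h with h' | h'
      · exact ⟨ω₀, hω, sub_eq_zero.1 h'⟩
      · refine ⟨ω₀ ^ 2, ?_, sub_eq_zero.1 h'⟩
        have h4 : ω₀ ^ 4 = ω₀ := Cfsg.Agent.Lib.H28.AschP2E8.pow_four hq4 ω₀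
        calc (ω₀ ^ 2) ^ 2 + ω₀ ^ 2 + 1 = ω₀ ^ 4 + ω₀ ^ 2 + 1 := by ring
          _ = 0 := by rw [h4]; linear_combination hω
  refine ⟨ω, a, hωeq, haK, hsω, ?_⟩
  apply unitary_of_adjM_mul hF
  -- case analysis on `r`
  have h18 : a * a ^ 8 = 1 := by rw [← pow_succ']; exact ha9
  have hcancel : ∀ i : ℕ, 1 ≤ i → a ^ i = a → a ^ (i - 1) = 1 := by
    intro i hi h
    calc a ^ (i - 1) = a ^ (i - 1) * (a * a ^ 8) := by rw [h18, mul_one]
      _ = a ^ (i - 1 + 1) * a ^ 8 := by rw [pow_succ (a) (i - 1), mul_assoc]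
      _ = a ^ i * a ^ 8 := by rw [Nat.sub_add_cancel hi]
      _ = 1 := by rw [h, h18]
  have hr18 : r = 1 ∨ r = 8 := by
    by_cases hr0 : r = 0
    · exfalso
      rw [hr0] at hinv
      simp only [mul_zero, pow_zero] at hinv
      have := hdvd 1 (by rw [pow_one]; exact hinv.symm)
      omega
    · have hrr : 1 ≤ r * r := Nat.mul_pos (Nat.pos_of_ne_zero hr0) (Nat.pos_of_ne_zero hr0)
      have h9 := hdvd _ (hcancel _ hrr hinv)
      interval_cases r <;> omega
  rcases hr18 with h1 | h8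
  · exfalso
    rw [h1, pow_one] at hadja'
    have h3 : adjM 2 s = s := by rw [hs, adjM_pow hF, hadja']
    rw [hsω, adjM_smul, adjM_one hF] at h3
    have h4 := congrFun (congrFun h3 0) 0
    simp only [Matrix.smul_apply, Matrix.one_apply_eq, smul_eq_mul, mul_one] at h4
    have h5 : (1 : F) = 0 := by linear_combination hωeq - h4 - ω * h2
    exact one_ne_zero h5
  · rw [hadja', h8, ← pow_succ]
    exact ha9

end Cfsg.Agent.Lib.H20.UP3
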