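/-
SU3-e23_of_core (helper20, for helper27's S5778 = the row SU_3(q)): the abstract part of E2 / E3.
`K` an adjoint-closed field subalgebra of degree 3 of `M_3(F)`, `|F| = q²`, `q ∈ {3, 5}`: an element of order 7 of `K`
lies in `SU_3(q)`, its cyclic group is normalised by `N(K)` and is a Sylow 7-subgroup of `GU_3(q)`.
-/
import Cfsg.Agent.Lib.H27.SU3Defs
import Cfsg.Agent.Lib.H20.UP3E6cA1
import Cfsg.Agent.S0277

set_option autoImplicit false
set_option linter.unusedSectionVars false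
set_option linter.unusedVariables false

namespace Cfsg.Agent.Lib.H20.SU3

open Cfsg Cfsg.Geo Cfsg.Agent.Lib.Lead.Asch Cfsg.Agent.Lib.H27.SU3 Cfsg.Agent.Lib.H20.UP3
open Cfsg.Agent.Lib.H15.SUGen
open scoped MatrixGroups Matrix Kronecker

variable {F : Type*} [Field F] [Fintype F] {n q : ℕ}

/-! ### generalities -/

theorem eq_one_of_pow_coprime {M : Type*} [Monoid M] {x : M} {a b : ℕ} (ha : x ^ a = 1) (hb : x ^ b = 1)
    (hab : Nat.Coprime a b) : x = 1 := by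
  have h1 := orderOf_dvd_of_pow_eq_one ha
  have h2 := orderOf_dvd_of_pow_eq_one hb
  have h3 : orderOf x ∣ 1 := by
    have := Nat.dvd_gcd h1 h2
    rwa [hab.gcd_eq_one] at this
  exact orderOf_eq_one_iff.mp (Nat.dvd_one.mp h3)

theorem adjM_neg (hF : Fintype.card F = q ^ 2) (x : Matrix (Fin n) (Fin n) F) :
    adjM q (-x) = -adjM q x := by
  have h := adjM_add hF x (-x)
  rw [add_neg_cancel, adjM_zero hF] at h
  exact (neg_eq_of_add_eq_zero_right h.symm).symm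

/-! ### the self-adjoint part of an adjoint-closed field subalgebra -/

section selfadj

variable {r : ℕ} (K : Subalgebra F (Matrix (Fin n) (Fin n) F))

/-- the self-adjoint elements of `K` -/
def selfAdj (hF : Fintype.card F = q ^ 2) (hcomm : ∀ x ∈ K, ∀ y ∈ K, x * y = y * x) :
    Subring (Matrix (Fin n) (Fin n) F) where
  carrier := {x | x ∈ K ∧ adjM q x = x}
  mul_mem' := fun {a b} ha hb =>
    ⟨K.mul_mem ha.1 hb.1, by rw [adjM_mul hF, ha.2, hb.2, hcomm _ hb.1 _ ha.1]⟩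
  one_mem' := ⟨K.one_mem, adjM_one hF⟩
  add_mem' := fun {a b} ha hb => ⟨K.add_mem ha.1 hb.1, by rw [adjM_add hF, ha.2, hb.2]⟩
  zero_mem' := ⟨K.zero_mem, adjM_zero hF⟩
  neg_mem' := fun {a} ha => ⟨K.neg_mem ha.1, by rw [adjM_neg hF, ha.2]⟩

theorem mem_selfAdj (hF : Fintype.card F = q ^ 2) (hcomm : ∀ x ∈ K, ∀ y ∈ K, x * y = y * x)
    (x : Matrix (Fin n) (Fin n) F) : x ∈ selfAdj K hF hcomm ↔ x ∈ K ∧ adjM q x = x := Iff.rfl

/-- `K = K₀ ⊕ ζ K₀` -/
theorem card_selfAdj_sq (hF : Fintype.card F = q ^ 2) (h2 : (2 : F) ≠ 0)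
    (hcomm : ∀ x ∈ K, ∀ y ∈ K, x * y = y * x) (hadj : IsAdjointClosedFor (hermForm n F q) K) :
    Nat.card (selfAdj K hF hcomm) ^ 2 = Nat.card K := by
  obtain ⟨ζ, hζ0, hζ⟩ := Cfsg.Agent.Lib.H15.UP2.exists_tr0 hF
  have hζq : ζ ^ q = -ζ := by linear_combination hζ
  have hζiq : (ζ⁻¹) ^ q = -ζ⁻¹ := by
    rw [inv_pow, hζq]
    field_simp
  have h2i : (2 : F) * 2⁻¹ = 1 := mul_inv_cancel₀ h2
  have h2q : ((2 : F)⁻¹) ^ q = 2⁻¹ := by
    have h1 : ((2 : F)) ^ q = 2 := by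
      have := fr_add hF (1 : F) 1
      rw [one_pow] at this
      have e : (1 : F) + 1 = 2 := by norm_num
      rwa [e] at this
    rw [inv_pow, h1]
  rw [pow_two, ← Nat.card_prod]
  apply Nat.card_congr
  refine
    { toFun := fun p => ⟨p.1.1 + ζ • p.2.1, K.add_mem p.1.2.1 (K.smul_mem p.2.2.1 ζ)⟩
      invFun := fun z => (⟨(2 : F)⁻¹ • (z.1 + adjM q z.1),
          K.smul_mem (K.add_mem z.2 (adjM_mem hF hadj z.2)) _, ?_⟩,
        ⟨(ζ⁻¹ * (2 : F)⁻¹) • (z.1 - adjM q z.1),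
          K.smul_mem (K.sub_mem z.2 (adjM_mem hF hadj z.2)) _, ?_⟩)
      left_inv := ?_
      right_inv := ?_ }
  · rw [adjM_smul, adjM_add hF, adjM_adjM hF, h2q, add_comm]
  · rw [adjM_smul, sub_eq_add_neg, adjM_add hF, adjM_neg hF, adjM_adjM hF, mul_pow, hζiq, h2q]
    module
  · rintro ⟨⟨x, hxK, hx⟩, ⟨y, hyK, hy⟩⟩
    have e1 : adjM q (x + ζ • y) = x - ζ • y := by
      rw [adjM_add hF, adjM_smul, hx, hy, hζq]; module
    apply Prod.ext
    · apply Subtype.ext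
      show (2 : F)⁻¹ • (x + ζ • y + adjM q (x + ζ • y)) = x
      rw [e1]
      have : x + ζ • y + (x - ζ • y) = (2 : F) • x := by module
      rw [this, smul_smul, mul_comm, h2i, one_smul]
    · apply Subtype.ext
      show (ζ⁻¹ * (2 : F)⁻¹) • (x + ζ • y - adjM q (x + ζ • y)) = y
      rw [e1]
      have : x + ζ • y - (x - ζ • y) = (2 * ζ) • y := by module
      rw [this, smul_smul]
      have : ζ⁻¹ * (2 : F)⁻¹ * (2 * ζ) = 1 := by field_simp
      rw [this, one_smul]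
  · rintro ⟨z, hz⟩
    apply Subtype.ext
    show (2 : F)⁻¹ • (z + adjM q z) + ζ • ((ζ⁻¹ * (2 : F)⁻¹) • (z - adjM q z)) = z
    rw [smul_smul]
    have e : ζ * (ζ⁻¹ * (2 : F)⁻¹) = 2⁻¹ := by field_simp
    rw [e, ← smul_add]
    have : z + adjM q z + (z - adjM q z) = (2 : F) • z := by module
    rw [this, smul_smul, mul_comm, h2i, one_smul]

/-- the self-adjoint part is a finite field: `x ^ |K₀| = x` -/
theorem selfAdj_pow_card (hn : 0 < n) (hF : Fintype.card F = q ^ 2) (hK : IsFieldSubalgebra r K)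
    {x : Matrix (Fin n) (Fin n) F} (hx : x ∈ selfAdj K hF hK.comm) :
    x ^ Nat.card (selfAdj K hF hK.comm) = x := by
  classical
  set S := selfAdj K hF hK.comm with hS
  letI : CommRing S :=
    { (inferInstance : Ring S) with
      mul_comm := fun a b => Subtype.ext (hK.comm a.1 a.2.1 b.1 b.2.1) }
  haveI : Nontrivial S := ⟨⟨0, 1, fun h => by
    have h1 := congrArg (fun x : S => (x : (Matrix (Fin n) (Fin n) F))) h
    simp only [ZeroMemClass.coe_zero, OneMemClass.coe_one] at h1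
    have h2 := congrFun (congrFun h1 ⟨0, hn⟩) ⟨0, hn⟩
    simp at h2⟩⟩
  haveI : NoZeroDivisors S := ⟨fun {a b} h => by
    have h1 : (a : Matrix (Fin n) (Fin n) F) * b = 0 := congrArg Subtype.val h
    rcases K_eq_zero_or_eq_zero hK a.2.1 h1 with h2 | h2
    · exact Or.inl (Subtype.ext h2)
    · exact Or.inr (Subtype.ext h2)⟩
  haveI : IsDomain S := NoZeroDivisors.to_isDomain S
  haveI : Finite S := by
    haveI : Finite (Matrix (Fin n) (Fin n) F) := inferInstance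
    exact Subtype.finite
  letI : Fintype S := Fintype.ofFinite S
  letI := Fintype.fieldOfDomain S
  have h := FiniteField.pow_card (⟨x, hx⟩ : S)
  rw [← Nat.card_eq_fintype_card] at h
  exact congrArg (fun y : S => (y : (Matrix (Fin n) (Fin n) F))) h

end selfadj

/-! ### an element of order 7 of `K` in `SU_3` -/

/-- `GL`-element of a matrix `a` with `a ^ 7 = 1` -/
def glOfPow7 (a : Matrix (Fin 3) (Fin 3) F) (ha : a ^ 7 = 1) : GL (Fin 3) F :=
  ⟨a, a ^ 6, by rw [← pow_succ']; exact ha, by rw [← pow_succ]; exact ha⟩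

theorem glOfPow7_val (a : Matrix (Fin 3) (Fin 3) F) (ha : a ^ 7 = 1) :
    ((glOfPow7 a ha : GL (Fin 3) F) : Matrix (Fin 3) (Fin 3) F) = a := rfl

theorem exists_seven (hF : Fintype.card F = q ^ 2) (h2 : (2 : F) ≠ 0) (h7 : 7 ∣ q ^ 6 - 1) (hq1 : 1 < q)
    (hc3 : Nat.Coprime 7 (q ^ 3 - 1)) (hc2 : Nat.Coprime 7 (q ^ 2 - 1))
    (K : Subalgebra F (Matrix (Fin 3) (Fin 3) F)) (hK : IsFieldSubalgebra 3 K)
    (hadj : IsAdjointClosedFor (hermForm 3 F q) K) :
    ∃ a : GL (Fin 3) F, orderOf a = 7 ∧ a ∈ SU3 F q ∧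
      ∀ x ∈ subalgebraNormalizer K, x * a * x⁻¹ ∈ Subgroup.zpowers a := by
  classical
  obtain ⟨g, hgK, hgn, hgen, hgord⟩ := exists_prim (by norm_num : 0 < 3) (by norm_num : 0 < 3) hK
  have hcardn : Fintype.card F ^ 3 - 1 = q ^ 6 - 1 := by rw [hF, ← pow_mul]
  rw [hcardn] at hgn hgord
  obtain ⟨n₇, hn₇⟩ := h7
  have hqpos : 1 < q ^ 6 := Nat.one_lt_pow (by norm_num) hq1
  have hn₇pos : 0 < n₇ := by
    rcases Nat.eq_zero_or_pos n₇ with h | h
    · rw [h, mul_zero] at hn₇; omega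
    · exact h
  set a := g ^ n₇ with ha
  have haK : a ∈ K := K.pow_mem hgK _
  have ha7 : a ^ 7 = 1 := by rw [ha, ← pow_mul, mul_comm, ← hn₇]; exact hgn
  have ha1 : a ≠ 1 := by
    intro h
    have := hgord _ h
    rw [hn₇] at this
    have := Nat.le_of_dvd hn₇pos this
    omega
  -- `a` is unitary
  have hcardK0 : Nat.card (selfAdj K hF hK.comm) = q ^ 3 := by
    have h := card_selfAdj_sq K hF h2 hK.comm hadj
    rw [natCard_K' (by norm_num : 0 < 3) hK, hF, ← pow_mul] at h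
    have : (q ^ 3) ^ 2 = q ^ (2 * 3) := by rw [← pow_mul, mul_comm]
    rw [← this] at h
    exact Nat.pow_left_injective (by norm_num : 2 ≠ 0) h
  have hu : adjM q a * a = 1 := by
    have hadjaK : adjM q a ∈ K := adjM_mem hF hadj haK
    obtain ⟨u, hu⟩ : ∃ u, u = adjM q a * a := ⟨_, rfl⟩
    rw [← hu]
    have huK : u ∈ K := by rw [hu]; exact K.mul_mem hadjaK haK
    have hu0 : u ∈ selfAdj K hF hK.comm := by
      refine ⟨huK, ?_⟩
      rw [hu, adjM_mul hF, adjM_adjM hF]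
    have hu7 : u ^ 7 = 1 := by
      have hc : Commute (adjM q a) a := hK.comm _ hadjaK _ haK
      rw [hu, hc.mul_pow, ha7, mul_one, ← adjM_pow hF, ha7, adjM_one hF]
    have hupow := selfAdj_pow_card K (by norm_num : 0 < 3) hF hK hu0
    rw [hcardK0] at hupow
    have hu3 : u ^ (q ^ 3 - 1) = 1 := by
      have hq3 : 1 ≤ q ^ 3 := Nat.one_le_pow _ _ (by omega)
      have e : u ^ (q ^ 3) = u ^ (q ^ 3 - 1) * u := by rw [← pow_succ, Nat.sub_add_cancel hq3]
      rw [e] at hupow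
      have h6 : u * u ^ 6 = 1 := by rw [← pow_succ']; exact hu7
      calc u ^ (q ^ 3 - 1) = u ^ (q ^ 3 - 1) * (u * u ^ 6) := by rw [h6, mul_one]
        _ = (u ^ (q ^ 3 - 1) * u) * u ^ 6 := by rw [mul_assoc]
        _ = u * u ^ 6 := by rw [hupow]
        _ = 1 := h6
    exact eq_one_of_pow_coprime hu7 hu3 hc3
  haveI : Fact (Nat.Prime 7) := ⟨by norm_num⟩
  refine ⟨glOfPow7 a ha7, ?_, ?_, ?_⟩
  · apply orderOf_eq_prime
    · apply Units.ext
      rw [Units.val_pow_eq_pow_val, glOfPow7_val, ha7]; rfl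
    · intro h
      exact ha1 (congrArg Units.val h)
  · refine Subgroup.mem_inf.mpr ⟨?_, ?_⟩
    · rw [Cfsg.Agent.Lib.H15.UP2.mem_GU_iff]
      intro u v
      rw [glOfPow7_val]
      exact unitary_of_adjM_mul hF hu u v
    · show glOfPow7 a ha7 ∈ (Matrix.GeneralLinearGroup.det : GL (Fin 3) F →* Fˣ).ker
      rw [MonoidHom.mem_ker]
      have hd7 : (Matrix.GeneralLinearGroup.det (glOfPow7 a ha7)) ^ 7 = 1 := by
        rw [← map_pow]
        have : (glOfPow7 a ha7) ^ 7 = 1 := by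
          apply Units.ext
          rw [Units.val_pow_eq_pow_val, glOfPow7_val, ha7]; rfl
        rw [this, map_one]
      have hdq : (Matrix.GeneralLinearGroup.det (glOfPow7 a ha7)) ^ (q ^ 2 - 1) = 1 := by
        have := pow_card_eq_one' (G := Fˣ) (x := Matrix.GeneralLinearGroup.det (glOfPow7 a ha7))
        rwa [Nat.card_units, Nat.card_eq_fintype_card, hF] at this
      exact eq_one_of_pow_coprime hd7 hdq hc2
  · intro x hx
    have hb : (x : Matrix (Fin 3) (Fin 3) F) * a * ((x⁻¹ : GL (Fin 3) F) : Matrix (Fin 3) (Fin 3) F) ∈ K :=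
      (hx a).mp haK
    set b := (x : Matrix (Fin 3) (Fin 3) F) * a * ((x⁻¹ : GL (Fin 3) F) : Matrix (Fin 3) (Fin 3) F) with hbdef
    have hxx : ((x⁻¹ : GL (Fin 3) F) : Matrix (Fin 3) (Fin 3) F) * (x : Matrix (Fin 3) (Fin 3) F) = 1 := by
      rw [← Units.val_mul, inv_mul_cancel, Units.val_one]
    have hxx' : (x : Matrix (Fin 3) (Fin 3) F) * ((x⁻¹ : GL (Fin 3) F) : Matrix (Fin 3) (Fin 3) F) = 1 := by
      rw [← Units.val_mul, mul_inv_cancel, Units.val_one]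
    have hbpow : ∀ k : ℕ, b ^ k = (x : Matrix (Fin 3) (Fin 3) F) * a ^ k *
        ((x⁻¹ : GL (Fin 3) F) : Matrix (Fin 3) (Fin 3) F) := by
      intro k
      induction k with
      | zero => rw [pow_zero, pow_zero, mul_one, hxx']
      | succ k ih =>
        rw [pow_succ, ih, hbdef, pow_succ]
        simp only [mul_assoc]
        rw [← mul_assoc ((x⁻¹ : GL (Fin 3) F) : Matrix (Fin 3) (Fin 3) F), hxx, one_mul]
    have hb7 : b ^ 7 = 1 := by rw [hbpow, ha7, mul_one, hxx']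
    have hb0 : b ≠ 0 := by
      intro h
      rw [h, zero_pow (by norm_num)] at hb7
      exact zero_ne_one hb7
    obtain ⟨i, hi⟩ := hgen b hb hb0
    have hdvd : q ^ 6 - 1 ∣ i * 7 := by
      apply hgord
      rw [pow_mul, ← hi]; exact hb7
    rw [hn₇, mul_comm 7 n₇] at hdvd
    have hdvd' : n₇ ∣ i := (Nat.mul_dvd_mul_iff_right (by norm_num : 0 < 7)).mp hdvd
    obtain ⟨j, rfl⟩ := hdvd'
    rw [Subgroup.mem_zpowers_iff]
    refine ⟨(j : ℤ), ?_⟩
    apply Units.ext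
    rw [zpow_natCast, Units.val_pow_eq_pow_val, glOfPow7_val, Units.val_mul, Units.val_mul, glOfPow7_val,
      ← hbdef, hi, ha, ← pow_mul]

/-! ### Sylow conjugacy -/

theorem exists_conj_mem_zpowers {Γ : Type*} [Group Γ] [Finite Γ] (p : ℕ) [Fact p.Prime]
    (hp2 : ¬ p ^ 2 ∣ Nat.card Γ) (s k : Γ) (hs : orderOf s = p) (hk : orderOf k = p) :
    ∃ γ : Γ, γ * s * γ⁻¹ ∈ Subgroup.zpowers k := by
  classical
  have hp : p.Prime := Fact.out
  -- a subgroup of order `p` is a Sylow subgroup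
  have key : ∀ x : Γ, orderOf x = p → ∃ P : Sylow p Γ, (P : Subgroup Γ) = Subgroup.zpowers x := by
    intro x hx
    have hP : IsPGroup p (Subgroup.zpowers x) := by
      apply IsPGroup.of_card (n := 1)
      rw [Nat.card_zpowers, hx, pow_one]
    obtain ⟨P, hP⟩ := hP.exists_le_sylow
    refine ⟨P, ?_⟩
    symm
    apply Subgroup.eq_of_le_of_card_ge hP
    obtain ⟨m, hm⟩ := IsPGroup.iff_card.mp P.isPGroup'
    rw [Nat.card_zpowers, hx, hm]
    have hdvd : p ^ m ∣ Nat.card Γ := by rw [← hm]; exact Subgroup.card_subgroup_dvd_card _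
    have hm1 : m ≤ 1 := by
      by_contra hcon
      push Not at hcon
      exact hp2 (dvd_trans (pow_dvd_pow p hcon) hdvd)
    calc p ^ m ≤ p ^ 1 := Nat.pow_le_pow_right hp.pos hm1
      _ = p := pow_one p
  obtain ⟨Ps, hPs⟩ := key s hs
  obtain ⟨Pk, hPk⟩ := key k hk
  obtain ⟨γ, hγ⟩ := MulAction.exists_smul_eq Γ Ps Pk
  refine ⟨γ, ?_⟩
  have h1 : s ∈ (Ps : Subgroup Γ) := by rw [hPs]; exact Subgroup.mem_zpowers s
  have h2 := Subgroup.smul_mem_pointwise_smul s (MulAut.conj γ) _ h1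
  rw [← Sylow.coe_subgroup_smul, hγ, hPk] at h2
  simpa [MulAut.smul_def] using h2

/-! ### the main statement -/

theorem two_ne_zero_of_odd_card (hodd : Odd (Fintype.card F)) : (2 : F) ≠ 0 := by
  intro h
  have : CharP F 2 := CharTwo.of_one_ne_zero_of_two_eq_zero one_ne_zero h
  have h1 := FiniteField.even_card_of_char_two (ringChar.eq F 2)
  rcases hodd with ⟨k, hk⟩
  omega

/-- `SU_3` is normalised by `GU_3` -/
theorem conj_mem_SU3 {g x : GL (Fin 3) F} (hg : g ∈ GU 3 F q) (hx : x ∈ SU3 F q) :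
    g * x * g⁻¹ ∈ SU3 F q := by
  obtain ⟨h1, h2⟩ := Subgroup.mem_inf.mp hx
  refine Subgroup.mem_inf.mpr
    ⟨(GU 3 F q).mul_mem ((GU 3 F q).mul_mem hg h1) ((GU 3 F q).inv_mem hg), ?_⟩
  have h2' : x ∈ (Matrix.GeneralLinearGroup.det : GL (Fin 3) F →* Fˣ).ker := h2
  show g * x * g⁻¹ ∈ (Matrix.GeneralLinearGroup.det : GL (Fin 3) F →* Fˣ).ker
  rw [MonoidHom.mem_ker] at h2' ⊢
  rw [map_mul, map_mul, h2', mul_one, map_inv, mul_inv_cancel]

/-- **E23A**: the abstract part of E2 and E3. -/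
theorem e23_of_core (hF : Fintype.card F = q ^ 2) (hq : q = 3 ∨ q = 5) (hcore : Core7 F q) :
    E23Stmt F q := by
  classical
  intro K hK hadj hmax
  obtain ⟨s₀, hs₀, hs₀7, M, hNM, hMS, hMne, hMnot⟩ := hcore
  haveI : Fact (Nat.Prime 7) := ⟨by norm_num⟩
  -- numerics
  have hcardGU := Cfsg.Agent.S0277.result hF 3
  have hnum : (2 : F) ≠ 0 ∧ 7 ∣ q ^ 6 - 1 ∧ 1 < q ∧ Nat.Coprime 7 (q ^ 3 - 1) ∧
      Nat.Coprime 7 (q ^ 2 - 1) ∧ ¬ 7 ^ 2 ∣ Nat.card (GU 3 F q) := by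
    rcases hq with rfl | rfl
    · refine ⟨two_ne_zero_of_odd_card (by rw [hF]; decide), by norm_num, by norm_num, by norm_num,
        by norm_num, ?_⟩
      rw [hcardGU]
      simp [Finset.prod_range_succ]
    · refine ⟨two_ne_zero_of_odd_card (by rw [hF]; decide), by norm_num, by norm_num, by norm_num,
        by norm_num, ?_⟩
      rw [hcardGU]
      simp [Finset.prod_range_succ]
  obtain ⟨h2, h7, hq1, hc3, hc2, h49⟩ := hnum
  obtain ⟨a, ha7, haSU, hnorm⟩ := exists_seven hF h2 h7 hq1 hc3 hc2 K hK hadj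
  -- `N(K)` normalises `⟨a⟩`
  have hNK : ∀ x ∈ subalgebraNormalizer K, x ∈ Subgroup.normalizer (Subgroup.zpowers a : Set (GL (Fin 3) F)) := by
    intro x hx
    have hconjz : ∀ (y : GL (Fin 3) F), y ∈ subalgebraNormalizer K → ∀ h ∈ Subgroup.zpowers a,
        y * h * y⁻¹ ∈ Subgroup.zpowers a := by
      intro y hy h hh
      obtain ⟨z, rfl⟩ := Subgroup.mem_zpowers_iff.mp hh
      have : y * a ^ z * y⁻¹ = (y * a * y⁻¹) ^ z := by
        rw [conj_zpow]
      rw [this]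
      exact Subgroup.zpow_mem _ (hnorm y hy) z
    rw [Subgroup.mem_normalizer_iff]
    intro h
    constructor
    · exact hconjz x hx h
    · intro hh
      have := hconjz x⁻¹ ((subalgebraNormalizer K).inv_mem hx) _ hh
      have e : x⁻¹ * (x * h * x⁻¹) * x⁻¹⁻¹ = h := by group
      rwa [e] at this
  -- Sylow conjugacy in `GU_3(q)`
  have hs₀GU : s₀ ∈ GU 3 F q := (Subgroup.mem_inf.mp hs₀).1
  have haGU : a ∈ GU 3 F q := (Subgroup.mem_inf.mp haSU).1
  obtain ⟨γ, hγ⟩ := exists_conj_mem_zpowers (Γ := GU 3 F q) 7 h49 ⟨s₀, hs₀GU⟩ ⟨a, haGU⟩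
    (by rw [← Subgroup.orderOf_coe]; exact hs₀7) (by rw [← Subgroup.orderOf_coe]; exact ha7)
  obtain ⟨z, hz⟩ := Subgroup.mem_zpowers_iff.mp hγ
  set g : GL (Fin 3) F := (γ : GL (Fin 3) F) with hg
  have hgGU : g ∈ GU 3 F q := γ.2
  have hconj : g * s₀ * g⁻¹ = a ^ z := by
    have := congrArg Subtype.val hz
    simpa using this.symm
  have hzp : Subgroup.zpowers (g * s₀ * g⁻¹) = Subgroup.zpowers a := by
    apply Subgroup.eq_of_le_of_card_ge
    · rw [Subgroup.zpowers_le, hconj]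
      exact Subgroup.zpow_mem _ (Subgroup.mem_zpowers a) z
    · rw [Nat.card_zpowers, Nat.card_zpowers, ha7]
      have : orderOf (g * s₀ * g⁻¹) = orderOf s₀ := by
        have := orderOf_injective (MulAut.conj g).toMonoidHom (MulAut.conj g).injective s₀
        simpa using this
      rw [this, hs₀7]
  have hN : Subgroup.normalizer (Subgroup.zpowers a : Set (GL (Fin 3) F)) =
      (Subgroup.normalizer (Subgroup.zpowers s₀ : Set (GL (Fin 3) F))).map (MulAut.conj g).toMonoidHom := by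
    rw [Subgroup.map_equiv_normalizer_eq, MonoidHom.map_zpowers]
    have : (MulAut.conj g).toMonoidHom s₀ = g * s₀ * g⁻¹ := rfl
    rw [this, hzp]
  -- witnesses
  obtain ⟨m₀, hm₀M, hm₀⟩ := SetLike.not_le_iff_exists.mp hMnot
  obtain ⟨x₀, hx₀S, hx₀⟩ : ∃ x₀ ∈ SU3 F q, x₀ ∉ M := by
    by_contra hcon
    push Not at hcon
    exact hMne (le_antisymm hMS hcon)
  set M' : Subgroup (GL (Fin 3) F) := M.map (MulAut.conj g).toMonoidHom with hM'
  have hg' : g⁻¹ ∈ GU 3 F q := (GU 3 F q).inv_mem hgGU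
  have h1 : subalgebraNormalizer K ⊓ SU3 F q ≤ M' := by
    intro x hx
    obtain ⟨hxK, hxS⟩ := Subgroup.mem_inf.mp hx
    have hxN := hNK x hxK
    rw [hN] at hxN
    obtain ⟨y, hy, rfl⟩ := Subgroup.mem_map.mp hxN
    have hyS : y ∈ SU3 F q := by
      have := conj_mem_SU3 hg' hxS
      have e : g⁻¹ * (MulAut.conj g).toMonoidHom y * g⁻¹⁻¹ = y := by
        show g⁻¹ * (g * y * g⁻¹) * g⁻¹⁻¹ = y
        group
      rwa [e] at this
    exact Subgroup.mem_map.mpr ⟨y, hNM (Subgroup.mem_inf.mpr ⟨hy, hyS⟩), rfl⟩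
  have h2' : M' ≤ SU3 F q := by
    intro x hx
    obtain ⟨y, hy, rfl⟩ := Subgroup.mem_map.mp hx
    exact conj_mem_SU3 hgGU (hMS hy)
  rcases hmax.2 M' h1 h2' with h | h
  · -- `M' = N(K) ⊓ SU_3`
    have h3 : (MulAut.conj g).toMonoidHom m₀ ∈ M' := Subgroup.mem_map.mpr ⟨m₀, hm₀M, rfl⟩
    rw [h] at h3
    have h4 := hNK _ (Subgroup.mem_inf.mp h3).1
    rw [hN] at h4
    obtain ⟨y, hy, hyeq⟩ := Subgroup.mem_map.mp h4
    have : y = m₀ := (MulAut.conj g).injective hyeq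
    rw [this] at hy
    exact hm₀ hy
  · -- `M' = SU_3`
    have h3 : (MulAut.conj g).toMonoidHom x₀ ∈ SU3 F q := conj_mem_SU3 hgGU hx₀S
    rw [← h] at h3
    obtain ⟨y, hy, hyeq⟩ := Subgroup.mem_map.mp h3
    have : y = x₀ := (MulAut.conj g).injective hyeq
    rw [this] at hy
    exact hx₀ hy

end Cfsg.Agent.Lib.H20.SU3
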