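import Mathlib
import Cfsg.Agent.Lib.H20.SigCDefs
import Cfsg.Agent.Lib.H7.Signalizer
import Cfsg.Agent.Lib.H7.CoprimeFactor

set_option autoImplicit false

namespace Cfsg.Agent.Lib.H20.SigC

open Cfsg

universe u

variable {G : Type u} [Group G]

theorem ea_comm {p : ℕ} {A : Subgroup G} (hA : Cfsg.IsElementaryAbelian p A) {a b : G}
    (ha : a ∈ A) (hb : b ∈ A) : a * b = b * a := by
  have := hA.1.is_comm.comm (⟨a, ha⟩ : ↥A) ⟨b, hb⟩
  exact congrArg Subtype.val this

theorem ea_of_le {p : ℕ} {A D : Subgroup G} (hA : Cfsg.IsElementaryAbelian p A) (hD : D ≤ A) :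
    Cfsg.IsElementaryAbelian p D :=
  ⟨⟨⟨fun x y => Subtype.ext (ea_comm hA (hD x.2) (hD y.2))⟩⟩, fun a ha => hA.2 a (hD ha)⟩

theorem ea_orderOf {p : ℕ} [hp : Fact p.Prime] {A : Subgroup G} (hA : Cfsg.IsElementaryAbelian p A)
    {a : G} (ha : a ∈ A) (ha1 : a ≠ 1) : orderOf a = p :=
  orderOf_eq_prime (hA.2 a ha) ha1

theorem ea_isPGroup {p : ℕ} {A : Subgroup G} (hA : Cfsg.IsElementaryAbelian p A) : IsPGroup p ↥A := by
  intro g
  refine ⟨1, ?_⟩
  apply Subtype.ext
  simpa using hA.2 g g.2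

/-- subgroup of prescribed order `p^k` inside a `p`-subgroup of order at least `p^k`. -/
theorem exists_le_card_pow [Finite G] {p : ℕ} [hp : Fact p.Prime] {A D : Subgroup G}
    (hA : Cfsg.IsElementaryAbelian p A) (hD : D ≤ A) {k : ℕ} (hk : p ^ k ≤ Nat.card ↥D) :
    ∃ D₀ : Subgroup G, D₀ ≤ D ∧ Nat.card ↥D₀ = p ^ k := by
  have hDp : IsPGroup p ↥D := ea_isPGroup (ea_of_le hA hD)
  obtain ⟨m, hm⟩ := IsPGroup.iff_card.1 hDp
  have hkm : k ≤ m := by
    rw [hm] at hk
    exact (Nat.pow_le_pow_iff_right hp.out.one_lt).1 hk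
  have hdvd : p ^ k ∣ Nat.card ↥D := by rw [hm]; exact pow_dvd_pow p hkm
  obtain ⟨K, hK⟩ := Sylow.exists_subgroup_card_pow_prime p hdvd
  refine ⟨K.map D.subtype, Subgroup.map_subtype_le K, ?_⟩
  rw [← hK]
  exact (Nat.card_congr (K.equivMapOfInjective D.subtype (Subgroup.subtype_injective D)).toEquiv).symm

theorem dlt_anti (Kf : G → Subgroup G) {D E : Subgroup G} (h : D ≤ E) : dlt Kf E ≤ dlt Kf D := by
  unfold dlt
  exact le_iInf (fun e => iInf_le (fun e : {e : G // e ∈ E ∧ e ≠ 1} => Kf (e : G)) ⟨e, h e.2.1, e.2.2⟩)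

theorem dlt_le (Kf : G → Subgroup G) {E : Subgroup G} {e : G} (he : e ∈ E) (he1 : e ≠ 1) :
    dlt Kf E ≤ Kf e := by
  unfold dlt
  exact iInf_le (fun e : {e : G // e ∈ E ∧ e ≠ 1} => Kf (e : G)) ⟨e, he, he1⟩

theorem dlt_le_centralizer {p : ℕ} {A : Subgroup G} {Kf : G → Subgroup G} (hK : Adm p A Kf)
    {E : Subgroup G} (hE : E ≤ A) {x : G} (hx : x ∈ dlt Kf E) : E ≤ Subgroup.centralizer {x} := by
  intro e he
  rw [Subgroup.mem_centralizer_singleton_iff]
  by_cases he1 : e = 1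
  · rw [he1]; simp
  · have h1 : x ∈ Subgroup.centralizer {e} := hK.le_cent e (hE he) he1 (dlt_le Kf he he1 hx)
    rw [Subgroup.mem_centralizer_singleton_iff] at h1
    exact h1.symm


section Glue

variable [Finite G] (p k : ℕ) [hp : Fact p.Prime] (A : Subgroup G)

theorem adm_cppc (hA : Cfsg.IsElementaryAbelian p A)
    (hsolv : ∀ a ∈ A, a ≠ 1 → Group.IsSolvable ↥(Cfsg.centralizerPPrimeCore p a)) :
    Adm p A (Cfsg.centralizerPPrimeCore p) where
  le_cent := fun e _ _ => Cfsg.Agent.Lib.H7.cppc_le p e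
  pprime := by
    intro e _ _ hdvd
    have := Cfsg.Agent.Lib.H7.cppc_card_coprime (G := G) p e
    have h1 := Nat.Coprime.eq_one_of_dvd this.symm hdvd
    exact hp.out.one_lt.ne' h1
  solv := hsolv
  inv := by
    intro e he _ b hb x hx
    apply Cfsg.Agent.Lib.H7.cppc_conj_mem p e _ hx
    rw [Subgroup.mem_centralizer_singleton_iff]
    exact ea_comm hA hb he

theorem kbal_cppc (hA : Cfsg.IsElementaryAbelian p A) (hbal : Cfsg.IsKBalanced p k G) :
    KBal p k A (Cfsg.centralizerPPrimeCore p) := by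
  intro D hDA hDk e he he1
  obtain ⟨D₀, hD₀D, hD₀⟩ := exists_le_card_pow hA hDA hDk
  have h1 := hbal D₀ (ea_of_le hA (hD₀D.trans hDA)) hD₀ e (ea_orderOf hA he he1)
    (fun a ha => ea_comm hA (hDA (hD₀D ha)) he)
  exact (inf_le_inf_right _ (dlt_anti _ hD₀D)).trans h1

/-- the statement's functor -/
def thP (a : G) : Subgroup G :=
  ⨆ D : {D : Subgroup G // D ≤ A ∧ Nat.card ↥D = p ^ k},
    Cfsg.signalizerDelta p (D : Subgroup G) ⊓ Subgroup.centralizer {a}

theorem thP_eq_thk (hA : Cfsg.IsElementaryAbelian p A)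
    (hK : Adm p A (Cfsg.centralizerPPrimeCore p))
    (hB : KBal p k A (Cfsg.centralizerPPrimeCore p)) (hk : 1 ≤ k) {a : G} (ha : a ∈ A) (ha1 : a ≠ 1) :
    thP p k A a = thk p k A (Cfsg.centralizerPPrimeCore p) a := by
  apply le_antisymm
  · unfold thP
    apply iSup_le
    rintro ⟨D, hDA, hDk⟩
    have hEA : D ⊔ Subgroup.zpowers a ≤ A := sup_le hDA (by rw [Subgroup.zpowers_le]; exact ha)
    have haE : a ∈ D ⊔ Subgroup.zpowers a := Subgroup.mem_sup_right (Subgroup.mem_zpowers a)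
    have hcard : p ^ k ≤ Nat.card ↥(D ⊔ Subgroup.zpowers a) := by
      rw [← hDk]
      exact Subgroup.card_le_of_le le_sup_left
    have hle : Cfsg.signalizerDelta p D ⊓ Subgroup.centralizer {a} ≤
        dlt (Cfsg.centralizerPPrimeCore p) (D ⊔ Subgroup.zpowers a) := by
      intro x hx
      have hxD : x ∈ dlt (Cfsg.centralizerPPrimeCore p) D := hx.1
      unfold dlt
      rw [Subgroup.mem_iInf]
      rintro ⟨e, he, he1⟩
      have heA : e ∈ A := hEA he
      apply hB D hDA hDk.ge e heA he1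
      refine ⟨hxD, ?_⟩
      have h1 : D ≤ Subgroup.centralizer {x} := dlt_le_centralizer hK hDA hxD
      have h2 : Subgroup.zpowers a ≤ Subgroup.centralizer {x} := by
        rw [Subgroup.zpowers_le, Subgroup.mem_centralizer_singleton_iff]
        have this : x ∈ Subgroup.centralizer {a} := hx.2
        rw [Subgroup.mem_centralizer_singleton_iff] at this
        exact this.symm
      have h3 : e ∈ Subgroup.centralizer {x} := (sup_le h1 h2) he
      rw [Subgroup.mem_centralizer_singleton_iff] at h3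
      change x ∈ Subgroup.centralizer {e}
      rw [Subgroup.mem_centralizer_singleton_iff]
      exact h3.symm
    refine hle.trans ?_
    unfold thk
    exact le_iSup (fun E : {E : Subgroup G // E ≤ A ∧ a ∈ E ∧ p ^ k ≤ Nat.card ↥E} =>
      dlt (Cfsg.centralizerPPrimeCore p) (E : Subgroup G)) ⟨_, hEA, haE, hcard⟩
  · unfold thk
    apply iSup_le
    rintro ⟨E, hEA, haE, hEk⟩
    obtain ⟨D₀, hD₀E, hD₀⟩ := exists_le_card_pow hA hEA hEk
    have h1 : dlt (Cfsg.centralizerPPrimeCore p) E ≤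
        Cfsg.signalizerDelta p D₀ ⊓ Subgroup.centralizer {a} :=
      le_inf (dlt_anti _ hD₀E) ((dlt_le _ haE ha1).trans (hK.le_cent a ha ha1))
    refine h1.trans ?_
    unfold thP
    exact le_iSup (fun D : {D : Subgroup G // D ≤ A ∧ Nat.card ↥D = p ^ k} =>
      Cfsg.signalizerDelta p (D : Subgroup G) ⊓ Subgroup.centralizer {a}) ⟨D₀, hD₀E.trans hEA, hD₀⟩

theorem glue_of
    (hat : ∀ a ∈ A, a ≠ 1 → ∀ b ∈ A, b ≠ 1 →
      thk p k A (Cfsg.centralizerPPrimeCore p) a ⊓ Subgroup.centralizer {b} ≤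
        thk p k A (Cfsg.centralizerPPrimeCore p) b)
    (hk : 1 ≤ k) (hbal : Cfsg.IsKBalanced p k G) (hA : Cfsg.IsElementaryAbelian p A)
    (hsolv : ∀ a ∈ A, a ≠ 1 → Group.IsSolvable ↥(Cfsg.centralizerPPrimeCore p a)) :
    Cfsg.IsSignalizerFunctor p A (thP p k A) := by
  have hK := adm_cppc p A hA hsolv
  have hB := kbal_cppc p k A hA hbal
  have hterm : ∀ a ∈ A, a ≠ 1 → ∀ D : Subgroup G, D ≤ A → Nat.card ↥D = p ^ k →
      Cfsg.signalizerDelta p D ⊓ Subgroup.centralizer {a} ≤ Cfsg.centralizerPPrimeCore p a :=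
    fun a ha ha1 D hDA hDk => hB D hDA hDk.ge a ha ha1
  have hle : ∀ a ∈ A, a ≠ 1 → thP p k A a ≤ Cfsg.centralizerPPrimeCore p a := by
    intro a ha ha1
    unfold thP
    exact iSup_le (fun D => hterm a ha ha1 D D.2.1 D.2.2)
  refine ⟨?_, ?_, ?_, ?_⟩
  · intro a _ _
    unfold thP
    exact iSup_le (fun D => inf_le_right)
  · intro a ha ha1 hdvd
    exact hK.pprime a ha ha1 (hdvd.trans (Subgroup.card_dvd_of_le (hle a ha ha1)))
  · intro a ha ha1 b hb
    -- `b` normalizes every term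
    have hterm_inv : ∀ D : {D : Subgroup G // D ≤ A ∧ Nat.card ↥D = p ^ k}, ∀ c ∈ A,
        ∀ x ∈ Cfsg.signalizerDelta p (D : Subgroup G) ⊓ Subgroup.centralizer {a},
          c * x * c⁻¹ ∈ Cfsg.signalizerDelta p (D : Subgroup G) ⊓ Subgroup.centralizer {a} := by
      rintro ⟨D, hDA, hDk⟩ c hc x ⟨hx1, hx2⟩
      refine ⟨?_, ?_⟩
      · have hx1' : x ∈ dlt (Cfsg.centralizerPPrimeCore p) D := hx1
        change c * x * c⁻¹ ∈ dlt (Cfsg.centralizerPPrimeCore p) D
        unfold dlt at hx1' ⊢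
        rw [Subgroup.mem_iInf] at hx1' ⊢
        rintro ⟨e, he, he1⟩
        exact hK.inv e (hDA he) he1 c hc x (hx1' ⟨e, he, he1⟩)
      · have hx2 : x ∈ Subgroup.centralizer {a} := hx2
        change c * x * c⁻¹ ∈ Subgroup.centralizer {a}
        rw [Subgroup.mem_centralizer_singleton_iff] at hx2 ⊢
        have hca : c * a = a * c := ea_comm hA hc ha
        calc c * x * c⁻¹ * a = c * x * (c⁻¹ * a) := by group
          _ = c * x * (a * c⁻¹) := by
              congr 1
              have : a * c⁻¹ = c⁻¹ * a := by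
                rw [eq_inv_mul_iff_mul_eq, ← mul_assoc, hca, mul_assoc, mul_inv_cancel, mul_one]
              exact this.symm
          _ = c * (x * a) * c⁻¹ := by group
          _ = c * (a * x) * c⁻¹ := by rw [hx2]
          _ = (c * a) * x * c⁻¹ := by group
          _ = a * (c * x * c⁻¹) := by rw [hca]; group
    have hn : b ∈ Subgroup.normalizer ((thP p k A a : Subgroup G) : Set G) := by
      rw [Subgroup.mem_normalizer_iff_map_conj_eq]
      unfold thP
      rw [Subgroup.map_iSup]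
      congr 1
      funext D
      have : Subgroup.zpowers b ≤ Subgroup.normalizer
          ((Cfsg.signalizerDelta p (D : Subgroup G) ⊓ Subgroup.centralizer {a} : Subgroup G) : Set G) :=
        Cfsg.Agent.Lib.H7.zpowers_le_normalizer_of_conj_mem (fun u hu => hterm_inv D b hb u hu)
      exact Subgroup.mem_normalizer_iff_map_conj_eq.1 (this (Subgroup.mem_zpowers b))
    intro x hx
    exact (Subgroup.mem_normalizer_iff.1 hn x).1 hx
  · intro a ha ha1 b hb hb1
    rw [thP_eq_thk p k A hA hK hB hk ha ha1, thP_eq_thk p k A hA hK hB hk hb hb1]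
    exact hat a ha ha1 b hb hb1

end Glue

end Cfsg.Agent.Lib.H20.SigC
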