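import Mathlib
import Cfsg.Agent.Lib.H20.SigCDefs
import Cfsg.Agent.Lib.H7.Signalizer3
import Cfsg.Agent.Lib.H7.CoprimeFactor
import Cfsg.Agent.S1285
import Cfsg.Agent.Lib.H13.SigCF3
import Cfsg.Agent.Lib.H16.SigCCHAR
import Cfsg.Agent.Lib.H8.SigCNL
import Cfsg.Agent.Lib.H1.SigCRES

/-!
# (L): a solvable signalizer functor of rank ≥ 3 whose closure is a solvable p'-group is complete
(helper20; assembly of the S1299 farm-out pieces RES, F3, NL, CHAR)
-/

set_option autoImplicit false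

namespace Cfsg.Agent.Lib.H20.SigC

open Cfsg

universe u

section

variable {G : Type u} [Group G] [Finite G]

/-! ## ASSEMBLY of (L) (helper20) -/

theorem sub_isSolvableSignalizerFunctor (p : ℕ) (A : Subgroup G) (θ : G → Subgroup G)
    (hθ : Cfsg.IsSolvableSignalizerFunctor p A θ) (H : Subgroup G)
    (hH : ∀ b ∈ A, ∀ h ∈ H, b * h * b⁻¹ ∈ H) :
    Cfsg.IsSolvableSignalizerFunctor p A (fun a => θ a ⊓ H) := by
  obtain ⟨⟨h1, h2, h3, h4⟩, h5⟩ := hθ
  refine ⟨⟨?_, ?_, ?_, ?_⟩, ?_⟩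
  · intro a ha ha1
    exact inf_le_left.trans (h1 a ha ha1)
  · intro a ha ha1 hdvd
    exact h2 a ha ha1 (hdvd.trans (Subgroup.card_dvd_of_le inf_le_left))
  · intro a ha ha1 b hb x hx
    exact ⟨h3 a ha ha1 b hb x hx.1, hH b hb x hx.2⟩
  · intro a ha ha1 b hb hb1 x hx
    exact ⟨h4 a ha ha1 b hb hb1 ⟨hx.1.1, hx.2⟩, hx.1.2⟩
  · intro a ha ha1
    haveI := h5 a ha ha1
    exact Group.isSolvable_of_isSolvable_injective (f := Subgroup.inclusion (inf_le_left : θ a ⊓ H ≤ θ a))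
      (Subgroup.inclusion_injective _)

theorem theta_le_closure (A : Subgroup G) (θ : G → Subgroup G) {a : G} (ha : a ∈ A) (ha1 : a ≠ 1) :
    θ a ≤ Cfsg.signalizerClosure A θ :=
  le_iSup (fun a : {a : G // a ∈ A ∧ a ≠ 1} => θ (a : G)) ⟨a, ha, ha1⟩

theorem closure_conj_mem (p : ℕ) (A : Subgroup G) (θ : G → Subgroup G)
    (hθ : Cfsg.IsSignalizerFunctor p A θ) :
    A ≤ Subgroup.normalizer ((Cfsg.signalizerClosure A θ : Subgroup G) : Set G) := by
  intro b hb
  rw [Subgroup.mem_normalizer_iff_map_conj_eq]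
  unfold Cfsg.signalizerClosure
  rw [Subgroup.map_iSup]
  congr 1
  funext a
  have hn : b ∈ Subgroup.normalizer ((θ (a : G) : Subgroup G) : Set G) := by
    have : Subgroup.zpowers b ≤ Subgroup.normalizer ((θ (a : G) : Subgroup G) : Set G) :=
      Cfsg.Agent.Lib.H7.zpowers_le_normalizer_of_conj_mem (fun u hu => hθ.2.2.1 a a.2.1 a.2.2 b hb u hu)
    exact this (Subgroup.mem_zpowers b)
  exact Subgroup.mem_normalizer_iff_map_conj_eq.1 hn

theorem step_top {n : ℕ} (ih : ClosedCompleteUpTo.{u} n)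
    (p : ℕ) [Fact p.Prime] (A : Subgroup G) (hA : Cfsg.IsElementaryAbelian p A)
    (hA3 : p ^ 3 ≤ Nat.card ↥A) (θ : G → Subgroup G)
    (hθ : Cfsg.IsSolvableSignalizerFunctor p A θ)
    (htop : Cfsg.signalizerClosure A θ ⊔ A = ⊤)
    (hcard : Nat.card ↥(Cfsg.signalizerClosure A θ) ≤ n + 1)
    (hsol : Group.IsSolvable ↥(Cfsg.signalizerClosure A θ))
    (hp' : ¬ p ∣ Nat.card ↥(Cfsg.signalizerClosure A θ)) :
    ∀ a ∈ A, a ≠ 1 → Cfsg.signalizerClosure A θ ⊓ Subgroup.centralizer {a} ≤ θ a := by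
  have hp : p.Prime := Fact.out
  set K := Cfsg.signalizerClosure A θ with hKdef
  by_cases hK1 : K = ⊥
  · intro a _ _
    rw [hK1]
    exact inf_le_left.trans bot_le
  obtain ⟨r, H, hr, hHK, hHne, hHchar, hpow⟩ := exists_char_prime_quot K hsol hK1
  have hAK : A ≤ Subgroup.normalizer (K : Set G) := closure_conj_mem p A θ hθ.1
  have hHinv : ∀ b ∈ A, ∀ h ∈ H, b * h * b⁻¹ ∈ H := fun b hb h hh => hHchar b (hAK hb) h hh
  have hθH := sub_isSolvableSignalizerFunctor p A θ hθ H hHinv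
  set Y := Cfsg.signalizerClosure A (fun a => θ a ⊓ H) with hYdef
  have hYH : Y ≤ H := by
    rw [hYdef]; unfold Cfsg.signalizerClosure
    exact iSup_le (fun a => inf_le_right)
  have hYK : Y ≤ K := hYH.trans hHK
  have hHlt : Nat.card ↥H < Nat.card ↥K := by
    have hlt : H < K := lt_of_le_of_ne hHK hHne
    exact Set.Finite.card_lt_card (Set.toFinite _) hlt  |>.trans_eq' rfl |> fun h => by
      simpa [Nat.card_coe_set_eq] using h
  have hYcard : Nat.card ↥Y ≤ n := by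
    have := Subgroup.card_le_of_le hYH
    omega
  have hYsol : Group.IsSolvable ↥Y :=
    Group.isSolvable_of_isSolvable_injective (f := Subgroup.inclusion hYK)
      (Subgroup.inclusion_injective hYK)
  have hYp : ¬ p ∣ Nat.card ↥Y := fun h => hp' (h.trans (Subgroup.card_dvd_of_le hYK))
  have hYc := ih G p A hA hA3 (fun a => θ a ⊓ H) hθH hYcard hYsol hYp
  have hYA : A ≤ Subgroup.normalizer (Y : Set G) := closure_conj_mem p A _ hθH.1
  have hYfam : Y ∈ Cfsg.signalizerFamily p A θ :=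
    ⟨hYsol, hYp, Cfsg.Agent.Lib.H7.conj_mem_of_le_normalizer hYA,
      fun a ha ha1 => (hYc a ha ha1).trans inf_le_left⟩
  -- `Y ⊓ θ e = θ e ⊓ H`
  have hYe : ∀ e ∈ A, e ≠ 1 → Y ⊓ θ e = θ e ⊓ H := by
    intro e he he1
    apply le_antisymm
    · exact le_inf inf_le_right (inf_le_left.trans hYH)
    · exact le_inf (theta_le_closure A (fun a => θ a ⊓ H) he he1) inf_le_left
  have hKn : K ≤ Subgroup.normalizer (Y : Set G) := by
    apply closure_le_normalizer p A hA hA3 θ hθ Y hYfam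
    intro E hEA _ e he he1 x hx
    have heA : e ∈ A := hEA he
    rw [hYe e heA he1]
    have hxθ : x ∈ θ e := by
      unfold Cfsg.signalizerInf at hx
      exact (iInf_le (fun a : {a : G // a ∈ E ∧ a ≠ 1} => θ (a : G)) ⟨e, he, he1⟩) hx
    have hxK : x ∈ K := theta_le_closure A θ heA he1 hxθ
    have hxN : x ∈ Subgroup.normalizer (K : Set G) := Subgroup.le_normalizer hxK
    have hxN' : x⁻¹ ∈ Subgroup.normalizer (K : Set G) := Subgroup.inv_mem _ hxN
    rw [Subgroup.mem_normalizer_iff]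
    intro y
    constructor
    · rintro ⟨hy1, hy2⟩
      exact ⟨(θ e).mul_mem ((θ e).mul_mem hxθ hy1) ((θ e).inv_mem hxθ), hHchar x hxN y hy2⟩
    · rintro ⟨hy1, hy2⟩
      have e1 : y = x⁻¹ * (x * y * x⁻¹) * x⁻¹⁻¹ := by group
      rw [e1]
      exact ⟨(θ e).mul_mem ((θ e).mul_mem ((θ e).inv_mem hxθ) hy1) (by simpa using hxθ),
        hHchar x⁻¹ hxN' _ hy2⟩
  have hYnormal : Y.Normal := by
    have : Subgroup.normalizer (Y : Set G) = ⊤ := by
      apply top_unique
      rw [← htop]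
      exact sup_le hKn hYA
    exact Subgroup.normalizer_eq_top_iff.1 this
  by_cases hY1 : Y = ⊥
  · -- all `θ a` are `r`-groups
    haveI : Fact r.Prime := ⟨hr⟩
    have hq : ∀ a ∈ A, a ≠ 1 → IsPGroup r ↥(θ a) := by
      intro a ha ha1
      intro g
      refine ⟨1, ?_⟩
      have h1 : (g : G) ^ r ∈ H := hpow _ (theta_le_closure A θ ha ha1 g.2)
      have h2 : (g : G) ^ r ∈ θ a := (θ a).pow_mem g.2 r
      have h3 : (g : G) ^ r ∈ Y := theta_le_closure A (fun a => θ a ⊓ H) ha ha1 ⟨h2, h1⟩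
      rw [hY1, Subgroup.mem_bot] at h3
      apply Subtype.ext
      simpa using h3
    obtain ⟨-, X, -, -, hX⟩ := Cfsg.Agent.S1285.result p A hA hA3 θ hθ r hq
    have hKX : K ≤ X := by
      rw [hKdef]; unfold Cfsg.signalizerClosure
      exact iSup_le (fun a => by rw [← hX a a.2.1 a.2.2]; exact inf_le_left)
    intro a ha ha1
    rw [← hX a ha ha1]
    exact inf_le_inf_right _ hKX
  · haveI := hYnormal
    exact closed_complete_of_normal_member ih p A hA hA3 θ hθ hcard hsol hp' Y hYfam hYK hY1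

end

theorem closedCompleteUpTo_all : ∀ n : ℕ, ClosedCompleteUpTo.{u} n := by
  intro n
  induction n with
  | zero =>
    intro G _ _ p _ A _ _ θ _ hcard _ _
    have : 0 < Nat.card ↥(Cfsg.signalizerClosure A θ) := Nat.card_pos
    omega
  | succ n ih =>
    apply closedCompleteUpTo_of_top
    intro G _ _ p _ A hA hA3 θ hθ htop hcard hsol hp'
    exact step_top ih p A hA hA3 θ hθ htop hcard hsol hp'

/-- **(L)** A solvable signalizer functor (rank ≥ 3) whose closure is a solvable `p'`-group is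
complete, with completion its closure. -/
theorem closed_complete {G : Type u} [Group G] [Finite G] (p : ℕ) [Fact p.Prime] (A : Subgroup G)
    (hA : Cfsg.IsElementaryAbelian p A) (hA3 : p ^ 3 ≤ Nat.card ↥A) (θ : G → Subgroup G)
    (hθ : Cfsg.IsSolvableSignalizerFunctor p A θ)
    (hsol : Group.IsSolvable ↥(Cfsg.signalizerClosure A θ))
    (hp' : ¬ p ∣ Nat.card ↥(Cfsg.signalizerClosure A θ)) :
    ∀ a ∈ A, a ≠ 1 → Cfsg.signalizerClosure A θ ⊓ Subgroup.centralizer {a} ≤ θ a :=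
  closedCompleteUpTo_all _ G p A hA hA3 θ hθ le_rfl hsol hp'


end Cfsg.Agent.Lib.H20.SigC
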