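import Cfsg.Agent.Lib.H20.Schur

set_option autoImplicit false

namespace Cfsg.Agent.Lib.H20

/-- If generators of `Γ` commute modulo the normal subgroup `N`, then `Γ' ≤ N`. -/
theorem commutator_le_of_gens {Γ : Type*} [Group Γ] (N : Subgroup Γ) [N.Normal] (S : Set Γ)
    (hS : Subgroup.closure S = ⊤) (h : ∀ s ∈ S, ∀ t ∈ S, s * t * s⁻¹ * t⁻¹ ∈ N) :
    commutator Γ ≤ N := by
  let π := QuotientGroup.mk' N
  -- image of S generates the quotient
  have hgen : Subgroup.closure (π '' S) = ⊤ := by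
    rw [← MonoidHom.map_closure, hS, ← MonoidHom.range_eq_map,
      MonoidHom.range_eq_top.mpr (QuotientGroup.mk'_surjective N)]
  -- images commute
  have hcomm : ∀ s ∈ S, ∀ t ∈ S, π s * π t = π t * π s := by
    intro s hs t ht
    have h1 : π (s * t * s⁻¹ * t⁻¹) = 1 := (QuotientGroup.eq_one_iff _).mpr (h s hs t ht)
    simp only [map_mul, map_inv] at h1
    calc π s * π t = (π s * π t * (π s)⁻¹ * (π t)⁻¹) * π t * π s := by group
      _ = π t * π s := by rw [h1, one_mul]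
  have hcen : π '' S ⊆ (Subgroup.center (Γ ⧸ N) : Set (Γ ⧸ N)) := by
    rintro _ ⟨s, hs, rfl⟩
    rw [SetLike.mem_coe, Subgroup.mem_center_iff]
    -- centralizer of π s contains π '' S hence everything
    have hle : Subgroup.closure (π '' S) ≤ Subgroup.centralizer {π s} := by
      rw [Subgroup.closure_le]
      rintro _ ⟨t, ht, rfl⟩
      rw [SetLike.mem_coe, Subgroup.mem_centralizer_iff]
      intro y hy
      rw [Set.mem_singleton_iff] at hy
      subst hy
      exact hcomm s hs t ht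
    intro g
    have hg : g ∈ Subgroup.centralizer {π s} := hle (hgen ▸ Subgroup.mem_top g)
    rw [Subgroup.mem_centralizer_iff] at hg
    exact (hg (π s) rfl).symm
  have hcenter : Subgroup.center (Γ ⧸ N) = ⊤ := by
    rw [eq_top_iff, ← hgen, Subgroup.closure_le]
    exact hcen
  rw [commutator_def, Subgroup.commutator_le]
  intro g₁ _ g₂ _
  rw [← QuotientGroup.eq_one_iff, commutatorElement_def]
  simp only [QuotientGroup.mk_mul, QuotientGroup.mk_inv]
  have hc : (g₁ : Γ ⧸ N) ∈ Subgroup.center (Γ ⧸ N) := hcenter ▸ Subgroup.mem_top _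
  rw [Subgroup.mem_center_iff] at hc
  rw [← hc (g₂ : Γ ⧸ N)]
  group

/-- Stem extensions of "dihedral type": if the base group is generated by the images of `a, x` with
`x a x⁻¹ = a⁻¹` there, then `x a x⁻¹ = a⁻¹ z` with `z` in the kernel, and the kernel lies in `⟨a⁻² z⟩`. -/
theorem stem_ker_le_zpowers {Γ Q : Type*} [Group Γ] [Finite Γ] [Group Q] (σ : Γ →* Q)
    (hσ : Cfsg.IsStemExtension σ) (a x : Γ)
    (hgen : Subgroup.closure ({σ a, σ x} : Set Q) = ⊤)
    (hrel : σ x * σ a * (σ x)⁻¹ = (σ a)⁻¹) :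
    ∃ z ∈ σ.ker, x * a * x⁻¹ = a⁻¹ * z ∧ σ.ker ≤ Subgroup.zpowers (a⁻¹ * a⁻¹ * z) := by
  obtain ⟨hsurj, hcen, hcomm⟩ := hσ
  set z := a * (x * a * x⁻¹) with hz
  have hzker : z ∈ σ.ker := by
    rw [MonoidHom.mem_ker, hz]
    simp only [map_mul, map_inv]
    rw [mul_assoc (σ x), ← mul_assoc (σ a)] 
    have : σ a * (σ x * σ a * (σ x)⁻¹) = 1 := by rw [hrel]; group
    simpa [mul_assoc] using this
  have hzc : ∀ g : Γ, g * z = z * g := fun g => (Subgroup.mem_center_iff.mp (hcen hzker)) g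
  have hxa : x * a * x⁻¹ = a⁻¹ * z := by rw [hz]; group
  refine ⟨z, hzker, hxa, ?_⟩
  set w := a⁻¹ * a⁻¹ * z with hw
  -- generating set
  set S : Set Γ := {a, x} ∪ (σ.ker : Set Γ) with hSdef
  have hS : Subgroup.closure S = ⊤ := by
    rw [eq_top_iff]
    intro g _
    have h1 : σ g ∈ Subgroup.closure ({σ a, σ x} : Set Q) := hgen ▸ Subgroup.mem_top _
    have h2 : ({σ a, σ x} : Set Q) = σ '' ({a, x} : Set Γ) := by
      simp [Set.image_pair]
    rw [h2, ← MonoidHom.map_closure] at h1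
    obtain ⟨h, hh, hhg⟩ := h1
    have h3 : h⁻¹ * g ∈ σ.ker := by
      rw [MonoidHom.mem_ker, map_mul, map_inv, hhg]; group
    have h4 : g = h * (h⁻¹ * g) := by group
    rw [h4]
    apply Subgroup.mul_mem
    · exact (Subgroup.closure_mono (Set.subset_union_left)) hh
    · exact Subgroup.subset_closure (Set.mem_union_right _ h3)
  -- conjugation action on w
  have haw : a * w * a⁻¹ = w := by
    rw [hw]
    calc a * (a⁻¹ * a⁻¹ * z) * a⁻¹ = a⁻¹ * (z * a⁻¹) := by group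
      _ = a⁻¹ * (a⁻¹ * z) := by rw [← hzc a⁻¹]
      _ = a⁻¹ * a⁻¹ * z := by group
  have hxainv : x * a⁻¹ * x⁻¹ = z⁻¹ * a := by
    have : x * a⁻¹ * x⁻¹ = (x * a * x⁻¹)⁻¹ := by group
    rw [this, hxa]; group
  have hxw : x * w * x⁻¹ = w⁻¹ := by
    have hzx : x * z * x⁻¹ = z := by rw [hzc x]; group
    have hzinv : ∀ g : Γ, g * z⁻¹ = z⁻¹ * g := by
      intro g
      have := hzc g
      calc g * z⁻¹ = z⁻¹ * (z * g) * z⁻¹ := by group
        _ = z⁻¹ * (g * z) * z⁻¹ := by rw [this]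
        _ = z⁻¹ * g := by group
    calc x * w * x⁻¹ = (x * a⁻¹ * x⁻¹) * (x * a⁻¹ * x⁻¹) * (x * z * x⁻¹) := by rw [hw]; group
      _ = (z⁻¹ * a) * (z⁻¹ * a) * z := by rw [hxainv, hzx]
      _ = z⁻¹ * (a * z⁻¹) * a * z := by group
      _ = z⁻¹ * (z⁻¹ * a) * a * z := by rw [hzinv a]
      _ = z⁻¹ * z⁻¹ * (a * a * z) := by group
      _ = z⁻¹ * z⁻¹ * (z * (a * a)) := by rw [hzc (a * a)]
      _ = z⁻¹ * a * a := by group
      _ = w⁻¹ := by simp only [hw, mul_inv_rev, inv_inv, mul_assoc]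
  -- N = zpowers w is normal
  have hNn : (Subgroup.zpowers w).Normal := by
    rw [← Subgroup.normalizer_eq_top_iff, eq_top_iff, ← hS, Subgroup.closure_le]
    have key : ∀ g : Γ, g * w * g⁻¹ ∈ Subgroup.zpowers w →
        g ∈ Subgroup.normalizer ((Subgroup.zpowers w : Subgroup Γ) : Set Γ) := by
      intro g hg
      apply Subgroup.mem_normalizer_fintype
      intro n hn
      obtain ⟨k, rfl⟩ := Subgroup.mem_zpowers_iff.mp hn
      have : g * w ^ k * g⁻¹ = (g * w * g⁻¹) ^ k := by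
        rw [conj_zpow]
      rw [this]
      exact Subgroup.zpow_mem _ hg k
    intro g hg
    rcases hg with hg | hg
    · rcases hg with hg | hg
      · rw [hg]; apply key; rw [haw]; exact Subgroup.mem_zpowers w
      · rw [Set.mem_singleton_iff] at hg
        rw [hg]
        apply key; rw [hxw]; exact Subgroup.inv_mem _ (Subgroup.mem_zpowers w)
    · apply key
      have hgc := Subgroup.mem_center_iff.mp (hcen hg)
      have : g * w * g⁻¹ = w := by rw [← hgc w]; group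
      rw [this]; exact Subgroup.mem_zpowers w
  -- generators commute mod N
  have hgens : ∀ s ∈ S, ∀ t ∈ S, s * t * s⁻¹ * t⁻¹ ∈ Subgroup.zpowers w := by
    have hcentral : ∀ s ∈ (σ.ker : Set Γ), ∀ t : Γ, s * t * s⁻¹ * t⁻¹ = 1 ∧ t * s * t⁻¹ * s⁻¹ = 1 := by
      intro s hs t
      have hsc := Subgroup.mem_center_iff.mp (hcen hs)
      constructor
      · rw [← hsc t]; group
      · rw [hsc t]; group
    have hxa' : x * a * x⁻¹ * a⁻¹ = w := by
      rw [hxa, hw]
      calc a⁻¹ * z * a⁻¹ = a⁻¹ * (z * a⁻¹) := by group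
        _ = a⁻¹ * (a⁻¹ * z) := by rw [← hzc a⁻¹]
        _ = a⁻¹ * a⁻¹ * z := by group
    have hax' : a * x * a⁻¹ * x⁻¹ = w⁻¹ := by
      have : a * x * a⁻¹ * x⁻¹ = (x * a * x⁻¹ * a⁻¹)⁻¹ := by group
      rw [this, hxa']
    intro s hs t ht
    rcases hs with hs | hs
    · rcases ht with ht | ht
      · have hs' : s = a ∨ s = x := by simpa using hs
        have ht' : t = a ∨ t = x := by simpa using ht
        rcases hs' with hs' | hs' <;> rcases ht' with ht' | ht' <;> rw [hs', ht']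
        · have : a * a * a⁻¹ * a⁻¹ = 1 := by group
          rw [this]; exact Subgroup.one_mem _
        · rw [hax']; exact Subgroup.inv_mem _ (Subgroup.mem_zpowers w)
        · rw [hxa']; exact Subgroup.mem_zpowers w
        · have : x * x * x⁻¹ * x⁻¹ = 1 := by group
          rw [this]; exact Subgroup.one_mem _
      · rw [(hcentral t ht s).2]; exact Subgroup.one_mem _
    · rw [(hcentral s hs t).1]; exact Subgroup.one_mem _
  haveI := hNn
  exact hcomm.trans (commutator_le_of_gens (Subgroup.zpowers w) S hS hgens)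

end Cfsg.Agent.Lib.H20

namespace Cfsg.Agent.Lib.H20

/-- With `x a x⁻¹ = a⁻¹ z`, `z` central and `x` commuting with `a ^ n`, the element `a⁻² z` has
`n`-th power one. -/
theorem stem_w_pow_eq_one {Γ : Type*} [Group Γ] (a x z : Γ) (n : ℕ)
    (hz : ∀ g : Γ, g * z = z * g) (hxa : x * a * x⁻¹ = a⁻¹ * z)
    (hx : x * a ^ n * x⁻¹ = a ^ n) : (a⁻¹ * a⁻¹ * z) ^ n = 1 := by
  have hcz : ∀ g : Γ, Commute g z := fun g => hz g
  have h1 : x * a ^ n * x⁻¹ = (a⁻¹) ^ n * z ^ n := by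
    rw [← conj_pow, hxa, (hcz a⁻¹).mul_pow]
  rw [hx] at h1
  -- z ^ n = a ^ n * a ^ n
  have h2 : z ^ n = a ^ n * a ^ n := by
    calc z ^ n = a ^ n * ((a⁻¹) ^ n * z ^ n) := by rw [inv_pow]; group
      _ = a ^ n * a ^ n := by rw [← h1]
  have h3 : (a⁻¹ * a⁻¹ * z) ^ n = (a⁻¹ * a⁻¹) ^ n * z ^ n := (hcz (a⁻¹ * a⁻¹)).mul_pow n
  have h4 : (a⁻¹ * a⁻¹) ^ n = (a⁻¹) ^ n * (a⁻¹) ^ n := (Commute.refl a⁻¹).mul_pow n
  rw [h3, h4, h2, inv_pow]
  group

end Cfsg.Agent.Lib.H20
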