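import Mathlib
import Cfsg.Agent.Lib.H8.SUN2

set_option autoImplicit false

/-!
# Lemma K for `SU_n` in the antidiagonal model (helper20, for helper8's S2282)

`Rn σ u b s = 1 + th b u - th u b + s • th u u` (defined in `Lib/H8/SUN2`) is the general element of the unipotent radical of
the stabiliser of the isotropic point `⟨u⟩` (for `b ⊥ u`, `s + σ s + h(b,b) = 0`).
`lemmaK`: a subgroup `K` of `SUJn σ n` containing all `Rn σ u b s` (`b ⊥ u, u'`) and an element
moving `u` to a vector not orthogonal to `u` contains every unitary transvection.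
-/

namespace Cfsg.Agent.Lib.H20.SunK

open Matrix Cfsg.Agent.Lib.H8.SUN

variable {F : Type*} [Field F]

theorem Rn_zero_zero (σ : F →+* F) {n : ℕ} (u : Fin n → F) : Rn σ u 0 0 = 1 := by
  rw [Rn_zero, tJn_zero]

theorem hJn_symm_zero (σ : F →+* F) (hσ : ∀ x, σ (σ x) = x) {n : ℕ} {x y : Fin n → F}
    (h : hJn σ x y = 0) : hJn σ y x = 0 := by
  rw [← hJn_symm σ hσ, h, map_zero]

theorem Rn_mul_dagn (σ : F →+* F) (hσ : ∀ x, σ (σ x) = x) {n : ℕ} {u b : Fin n → F} {s : F}
    (hu : hJn σ u u = 0) (hub : hJn σ u b = 0) (hs : s + σ s + hJn σ b b = 0) :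
    Rn σ u b s * dagn σ (Rn σ u b s) = 1 :=
  mul_eq_one_comm.mp (Rn_unitary σ hσ hu hub hs)

/-- `Rn u b s` moves `u'` to `u' + b + s u` -/
theorem Rn_mulVec_partner (σ : F →+* F) (hσ : ∀ x, σ (σ x) = x) {n : ℕ} {u u' b : Fin n → F}
    (huu' : hJn σ u u' = 1) (hbu' : hJn σ b u' = 0) (s : F) :
    Rn σ u b s *ᵥ u' = u' + b + s • u := by
  have h1 : hJn σ u' u = 1 := by rw [← hJn_symm σ hσ, huu', map_one]
  have h2 : hJn σ u' b = 0 := hJn_symm_zero σ hσ hbu'
  rw [Rn_mulVec, h1, h2, one_smul, zero_smul, sub_zero, mul_one]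

/-- nondegeneracy of the antidiagonal form -/
theorem exists_hJn_ne_zero (σ : F →+* F) {n : ℕ} {y : Fin n → F} (hy : y ≠ 0) :
    ∃ x : Fin n → F, hJn σ y x ≠ 0 := by
  obtain ⟨i, hi⟩ : ∃ i, y i ≠ 0 := by
    by_contra h
    push Not at h
    exact hy (funext h)
  refine ⟨Pi.single (Fin.rev i) 1, ?_⟩
  unfold hJn
  rw [Finset.sum_eq_single i]
  · simpa using hi
  · intro j _ hj
    have : Fin.rev j ≠ Fin.rev i := fun h => hj (Fin.rev_injective h)
    simp [this]
  · simp

section LemmaK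

variable {σ : F →+* F} {n : ℕ}

/-- `v` is a centre for `K`: isotropic, and all transvections with centre `v` lie in `K` -/
def Cen (K : Subgroup (SUJn σ n)) (v : Fin n → F) : Prop :=
  hJn σ v v = 0 ∧ ∀ (k : SUJn σ n) (c : F), c + σ c = 0 → matn k = tJn σ v c → k ∈ K

theorem Cen.smul (hσ : ∀ x, σ (σ x) = x) {K : Subgroup (SUJn σ n)} {v : Fin n → F}
    (hv : Cen K v) (r : F) : Cen K (r • v) := by
  refine ⟨by rw [hJn_smul_left, hJn_smul_right, hv.1, mul_zero, mul_zero], ?_⟩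
  intro k c hc hk
  rw [tJn_smul] at hk
  refine hv.2 k (c * (r * σ r)) ?_ hk
  rw [map_mul, map_mul, hσ]
  linear_combination (r * σ r) * hc

theorem matn_mulVec_mul (k l : SUJn σ n) (x : Fin n → F) :
    matn (k * l) *ᵥ x = matn k *ᵥ (matn l *ᵥ x) := by
  rw [matn_mul, Matrix.mulVec_mulVec]

theorem matn_inv_mulVec (k : SUJn σ n) (x : Fin n → F) :
    matn k⁻¹ *ᵥ (matn k *ᵥ x) = x := by
  rw [← matn_mulVec_mul, inv_mul_cancel, matn_one, Matrix.one_mulVec]

theorem Cen.mulVec (hσ : ∀ x, σ (σ x) = x) {K : Subgroup (SUJn σ n)} {v : Fin n → F}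
    (hv : Cen K v) {g : SUJn σ n} (hg : g ∈ K) : Cen K (matn g *ᵥ v) := by
  refine ⟨by rw [hJn_isom σ hσ (dagn_matn_mul g), hv.1], ?_⟩
  intro k c hc hk
  have h1 : matn (g⁻¹ * k * g) = tJn σ v c := by
    rw [matn_mul, matn_mul, hk, matn_inv, ← conj_tJn σ hσ (matn_mul_dagn g) v c]
    calc dagn σ (matn g) * (matn g * tJn σ v c * dagn σ (matn g)) * matn g
        = (dagn σ (matn g) * matn g) * tJn σ v c * (dagn σ (matn g) * matn g) := by
          simp only [Matrix.mul_assoc]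
      _ = tJn σ v c := by rw [dagn_matn_mul, Matrix.one_mul, Matrix.mul_one]
  have h2 : g⁻¹ * k * g ∈ K := hv.2 _ c hc h1
  have h3 : k = g * (g⁻¹ * k * g) * g⁻¹ := by group
  rw [h3]
  exact K.mul_mem (K.mul_mem hg h2) (K.inv_mem hg)

/-- **Lemma K** -/
theorem lemmaK (hσ : ∀ x, σ (σ x) = x) {ω : F} (hω : ω + σ ω = 1) {c₀ : F} (hc₀ : c₀ ≠ 0)
    (hc₀' : c₀ + σ c₀ = 0) (K : Subgroup (SUJn σ n)) (u u' : Fin n → F)
    (hu : hJn σ u u = 0) (hu' : hJn σ u' u' = 0) (huu' : hJn σ u u' = 1)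
    (hQ : ∀ (b : Fin n → F) (s : F), hJn σ b u = 0 → hJn σ b u' = 0 →
      s + σ s + hJn σ b b = 0 → ∃ k ∈ K, matn k = Rn σ u b s)
    (z : SUJn σ n) (hz : z ∈ K) (hzu : hJn σ (matn z *ᵥ u) u ≠ 0) :
    ∀ (k : SUJn σ n) (v : Fin n → F) (c : F), hJn σ v v = 0 → c + σ c = 0 →
      matn k = tJn σ v c → k ∈ K := by
  have hu'u : hJn σ u' u = 1 := by rw [← hJn_symm σ hσ, huu', map_one]
  -- `u` is a centre
  have hcu : Cen K u := by
    refine ⟨hu, ?_⟩
    intro k c hc hk
    obtain ⟨k0, hk0, hk0m⟩ := hQ 0 c (hJn_zero_left σ u) (hJn_zero_left σ u')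
      (by rw [hJn_zero_left, add_zero]; exact hc)
    rw [Rn_zero] at hk0m
    have : k = k0 := matn_injective (hk.trans hk0m.symm)
    rw [this]; exact hk0
  -- every isotropic `y` with `h(y,u) = 1` is `g u'` with `g ∈ K`
  have key1 : ∀ y : Fin n → F, hJn σ y y = 0 → hJn σ y u = 1 →
      ∃ g ∈ K, matn g *ᵥ u' = y := by
    intro y hy hyu
    have hyu2 : hJn σ u y = 1 := by rw [← hJn_symm σ hσ, hyu, map_one]
    set s := hJn σ y u' with hs
    have hsσ : hJn σ u' y = σ s := by rw [hs, hJn_symm σ hσ]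
    set b := y - u' - s • u with hb
    have hbu : hJn σ b u = 0 := by
      rw [hb, hJn_sub_left, hJn_sub_left, hJn_smul_left, hyu, hu'u, hu]; ring
    have hbu' : hJn σ b u' = 0 := by
      rw [hb, hJn_sub_left, hJn_sub_left, hJn_smul_left, hu', huu', ← hs]; ring
    have hbb : s + σ s + hJn σ b b = 0 := by
      have : hJn σ b b = - s - σ s := by
        rw [hb]
        simp only [hJn_sub_left, hJn_sub_right, hJn_smul_left, hJn_smul_right, hy, hyu, hyu2,
          hu, hu', huu', hu'u, hsσ, ← hs]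
        ring
      rw [this]; ring
    obtain ⟨g, hg, hgm⟩ := hQ b s hbu hbu' hbb
    refine ⟨g, hg, ?_⟩
    rw [hgm, Rn_mulVec_partner σ hσ huu' hbu', hb]
    abel
  -- `u'` is a centre
  have hcu' : Cen K u' := by
    set a := hJn σ (matn z *ᵥ u) u with ha
    have hzz : hJn σ (matn z *ᵥ u) (matn z *ᵥ u) = 0 := by
      rw [hJn_isom σ hσ (dagn_matn_mul z), hu]
    obtain ⟨g, hg, hgm⟩ := key1 (a⁻¹ • (matn z *ᵥ u))
      (by rw [hJn_smul_left, hJn_smul_right, hzz, mul_zero, mul_zero])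
      (by rw [hJn_smul_left, ← ha, inv_mul_cancel₀ hzu])
    have h1 : u' = a⁻¹ • (matn (g⁻¹ * z) *ᵥ u) := by
      rw [matn_mulVec_mul, ← Matrix.mulVec_smul, ← hgm, matn_inv_mulVec]
    rw [h1]
    exact (hcu.mulVec hσ (K.mul_mem (K.inv_mem hg) hz)).smul hσ _
  -- every isotropic `y` with `h(y,u) ≠ 0` is a centre
  have key2 : ∀ y : Fin n → F, hJn σ y y = 0 → hJn σ y u ≠ 0 → Cen K y := by
    intro y hy hyu
    set a := hJn σ y u with ha
    obtain ⟨g, hg, hgm⟩ := key1 (a⁻¹ • y)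
      (by rw [hJn_smul_left, hJn_smul_right, hy, mul_zero, mul_zero])
      (by rw [hJn_smul_left, ← ha, inv_mul_cancel₀ hyu])
    have h1 : y = a • (matn g *ᵥ u') := by
      rw [hgm, smul_smul, mul_inv_cancel₀ hyu, one_smul]
    rw [h1]
    exact (hcu'.mulVec hσ hg).smul hσ _
  -- a centre `w` with `h(w,u) = 1` not orthogonal to `y` makes `y` a centre
  have key3 : ∀ y w : Fin n → F, hJn σ y y = 0 → hJn σ y u = 0 → Cen K w → hJn σ w u = 1 →
      hJn σ y w ≠ 0 → Cen K y := by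
    intro y w hy hyu hw hwu hyw
    have hT : dagn σ (tJn σ w c₀) * tJn σ w c₀ = 1 := tJn_unitary σ hσ hw.1 hc₀'
    set kT : SUJn σ n := mkJn σ (tJn σ w c₀) (det_tJn σ hw.1 c₀) hT with hkT
    have hkTK : kT ∈ K := hw.2 kT c₀ hc₀' (matn_mkJn σ _ _ _)
    set y' := matn kT *ᵥ y with hy'
    have hy'e : y' = y + (c₀ * hJn σ y w) • w := by
      rw [hy', hkT, matn_mkJn, tJn_mulVec]
    have hy'y' : hJn σ y' y' = 0 := by
      rw [hy', hJn_isom σ hσ (dagn_matn_mul kT), hy]
    have hy'u : hJn σ y' u ≠ 0 := by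
      rw [hy'e, hJn_add_left, hJn_smul_left, hyu, hwu, zero_add, mul_one]
      exact mul_ne_zero hc₀ hyw
    have hc' : Cen K y' := key2 y' hy'y' hy'u
    have h1 : y = matn kT⁻¹ *ᵥ y' := by rw [hy', matn_inv_mulVec]
    rw [h1]
    exact hc'.mulVec hσ (K.inv_mem hkTK)
  -- every nonzero isotropic `y` is a centre
  have key4 : ∀ y : Fin n → F, hJn σ y y = 0 → y ≠ 0 → Cen K y := by
    intro y hy hy0
    by_cases hyu : hJn σ y u = 0
    · by_cases hyu' : hJn σ y u' = 0
      · obtain ⟨x, hx⟩ := exists_hJn_ne_zero σ hy0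
        have hxu'σ : hJn σ u' x = σ (hJn σ x u') := (hJn_symm σ hσ x u').symm
        have hxuσ : hJn σ u x = σ (hJn σ x u) := (hJn_symm σ hσ x u).symm
        set b := x - hJn σ x u' • u - hJn σ x u • u' with hb
        have hbu : hJn σ b u = 0 := by
          rw [hb, hJn_sub_left, hJn_sub_left, hJn_smul_left, hJn_smul_left, hu, hu'u]; ring
        have hbu' : hJn σ b u' = 0 := by
          rw [hb, hJn_sub_left, hJn_sub_left, hJn_smul_left, hJn_smul_left, hu', huu']; ring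
        have hyb : hJn σ y b ≠ 0 := by
          rw [hb, hJn_sub_right, hJn_sub_right, hJn_smul_right, hJn_smul_right, hyu, hyu',
            mul_zero, mul_zero, sub_zero, sub_zero]
          exact hx
        have hbbσ : σ (hJn σ b b) = hJn σ b b := hJn_symm σ hσ b b
        set s := -(hJn σ b b) * ω with hs
        have hsb : s + σ s + hJn σ b b = 0 := by
          rw [hs, map_mul, map_neg, hbbσ]
          linear_combination (-(hJn σ b b)) * hω
        obtain ⟨g, hg, hgm⟩ := hQ b s hbu hbu' hsb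
        have hw : Cen K (u' + b + s • u) := by
          have := hcu'.mulVec hσ hg
          rwa [hgm, Rn_mulVec_partner σ hσ huu' hbu'] at this
        refine key3 y (u' + b + s • u) hy hyu hw ?_ ?_
        · rw [hJn_add_left, hJn_add_left, hJn_smul_left, hu'u, hbu, hu]; ring
        · rw [hJn_add_right, hJn_add_right, hJn_smul_right, hyu', hyu, mul_zero, zero_add,
            add_zero]
          exact hyb
      · exact key3 y u' hy hyu hcu' hu'u hyu'
    · exact key2 y hy hyu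
  intro k v c hv hc hk
  by_cases hv0 : v = 0
  · have : matn k = matn (1 : SUJn σ n) := by
      rw [hk, hv0, matn_one]
      unfold tJn
      rw [th_zero_left, smul_zero, add_zero]
    rw [matn_injective this]
    exact K.one_mem
  · exact (key4 v hv hv0).2 k c hc hk

end LemmaK

end Cfsg.Agent.Lib.H20.SunK
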