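import Mathlib

set_option autoImplicit false

namespace Cfsg.Agent.Lib.H20

/-- If a normal subgroup `A` of a finite group `H` has no proper supplement and
`p ∤ |H : A|`, then `p ∤ |A|` (Frattini argument + Schur–Zassenhaus). -/
theorem not_dvd_card_of_no_proper_supplement {H : Type*} [Group H] [Finite H]
    (A : Subgroup H) [A.Normal]
    (hmin : ∀ K : Subgroup H, K ⊔ A = ⊤ → K = ⊤) (p : ℕ) [Fact p.Prime]
    (hp : ¬ p ∣ A.index) : ¬ p ∣ Nat.card A := by
  intro hdvd
  have hpp : p.Prime := Fact.out
  obtain ⟨P⟩ : Nonempty (Sylow p A) := inferInstance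
  have hfrat : Subgroup.normalizer (((P : Subgroup A).map A.subtype : Subgroup H) : Set H) ⊔ A = ⊤ :=
    Sylow.normalizer_sup_eq_top P
  have hnorm := hmin _ hfrat
  haveI hN : ((P : Subgroup A).map A.subtype).Normal := Subgroup.normalizer_eq_top_iff.mp hnorm
  have hP'le : (P : Subgroup A).map A.subtype ≤ A := Subgroup.map_subtype_le _
  have hrel : ((P : Subgroup A).map A.subtype).relIndex A = (P : Subgroup A).index := by
    unfold Subgroup.relIndex Subgroup.subgroupOf
    rw [Subgroup.comap_map_eq_self_of_injective A.subtype_injective]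
  have hidx : ¬ p ∣ ((P : Subgroup A).map A.subtype).index := by
    rw [← Subgroup.relIndex_mul_index hP'le, hrel]
    intro h
    rcases (Nat.Prime.dvd_mul hpp).mp h with h | h
    · exact P.not_dvd_index h
    · exact hp h
  have hpg : IsPGroup p ((P : Subgroup A).map A.subtype) := P.isPGroup'.map A.subtype
  obtain ⟨k, hk⟩ := hpg.exists_card_eq
  have hcop : (Nat.card ((P : Subgroup A).map A.subtype)).Coprime
      ((P : Subgroup A).map A.subtype).index := by
    rw [hk]
    exact Nat.Coprime.pow_left k ((Nat.Prime.coprime_iff_not_dvd hpp).mpr hidx)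
  obtain ⟨K, hK⟩ := Subgroup.exists_right_complement'_of_coprime hcop
  have hsup : (P : Subgroup A).map A.subtype ⊔ K = ⊤ := hK.sup_eq_top
  have hKA : K ⊔ A = ⊤ := by
    rw [eq_top_iff, ← hsup]
    exact sup_le (le_sup_of_le_right hP'le) le_sup_left
  have hKtop := hmin K hKA
  have hbot : (P : Subgroup A).map A.subtype = ⊥ := by
    have := hK.disjoint
    rw [hKtop] at this
    exact disjoint_top.mp this
  have hPbot : (P : Subgroup A) = ⊥ := by
    rw [← Subgroup.map_eq_bot_iff_of_injective _ A.subtype_injective]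
    exact hbot
  exact P.ne_bot_of_dvd_card hdvd hPbot

/-- Existence of a minimal supplement to a subgroup. -/
theorem exists_minimal_supplement {G : Type*} [Group G] [Finite G] (N : Subgroup G) :
    ∃ H : Subgroup G, H ⊔ N = ⊤ ∧ ∀ K : Subgroup G, K ≤ H → K ⊔ N = ⊤ → K = H := by
  have hne : ({H : Subgroup G | H ⊔ N = ⊤}).Nonempty := ⟨⊤, top_sup_eq _⟩
  obtain ⟨H, hH, hmin⟩ := (wellFounded_lt (α := Subgroup G)).has_min _ hne
  refine ⟨H, hH, fun K hKH hK => ?_⟩
  by_contra hne'
  exact hmin K hK (lt_of_le_of_ne hKH hne')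

/-- For a normal subgroup `N` there is a supplement `H` such that `|H ∩ N|` is divisible only
by primes dividing `|G : N|`. -/
theorem exists_supplement_inf_card {G : Type*} [Group G] [Finite G] (N : Subgroup G) [N.Normal] :
    ∃ H : Subgroup G, H ⊔ N = ⊤ ∧
      ∀ p : ℕ, p.Prime → ¬ p ∣ N.index → ¬ p ∣ Nat.card (N.subgroupOf H) := by
  obtain ⟨H, hH, hmin⟩ := exists_minimal_supplement N
  refine ⟨H, hH, fun p hp hpN => ?_⟩
  haveI : Fact p.Prime := ⟨hp⟩
  apply not_dvd_card_of_no_proper_supplement (N.subgroupOf H)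
  · intro K hK
    have h1 : K.map H.subtype ≤ H := Subgroup.map_subtype_le _
    have h2 : K.map H.subtype ⊔ N = ⊤ := by
      rw [eq_top_iff, ← hH]
      apply sup_le _ le_sup_right
      intro x hx
      have hx' : (⟨x, hx⟩ : H) ∈ K ⊔ N.subgroupOf H := by rw [hK]; trivial
      have hmap : H.subtype ⟨x, hx⟩ ∈ (K ⊔ N.subgroupOf H).map H.subtype :=
        Subgroup.mem_map_of_mem _ hx'
      rw [Subgroup.map_sup] at hmap
      have hle : K.map H.subtype ⊔ (N.subgroupOf H).map H.subtype ≤ K.map H.subtype ⊔ N := by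
        apply sup_le_sup_left
        rintro _ ⟨y, hy, rfl⟩
        exact hy
      exact hle hmap
    have h3 := hmin _ h1 h2
    rw [eq_top_iff]
    intro y _
    have : (y : G) ∈ K.map H.subtype := by rw [h3]; exact y.2
    obtain ⟨z, hz, hzy⟩ := this
    have : z = y := Subtype.ext hzy
    rwa [← this]
  · have : (N.subgroupOf H).index = N.index := by
      have h1 : N.relIndex H = N.relIndex (H ⊔ N) := (Subgroup.relIndex_sup_right H N).symm
      rw [hH, Subgroup.relIndex_top_right] at h1
      exact h1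
    rw [this]
    exact hpN

end Cfsg.Agent.Lib.H20
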