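import Mathlib
import Cfsg.Agent.S3995

set_option autoImplicit false

/-!
# S4004 pieces FIX and ORB (helper20): conjugation actions on the set of elements of a given order
-/

namespace Cfsg.Agent.Lib.H20.TV3

open Cfsg.Agent.S3995 (f)

universe u

variable {G : Type u} [Group G] [Finite G]

theorem orderOf_conj_eq (x y : G) : orderOf (x * y * x⁻¹) = orderOf y := by
  rw [show x * y * x⁻¹ = MulAut.conj x y from rfl, MulEquiv.orderOf_eq]

/-- the conjugation action of a subgroup on the set of elements of order `m` -/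
def conjAct (H : Subgroup G) (m : ℕ) : MulAction H {y : G // orderOf y = m} where
  smul x y := ⟨x.1 * y.1 * x.1⁻¹, by rw [orderOf_conj_eq]; exact y.2⟩
  one_smul y := Subtype.ext (by
    show (1 : G) * y.1 * (1 : G)⁻¹ = y.1
    rw [one_mul, inv_one, mul_one])
  mul_smul a b y := Subtype.ext (by
    show (a.1 * b.1) * y.1 * (a.1 * b.1)⁻¹ = a.1 * (b.1 * y.1 * b.1⁻¹) * a.1⁻¹
    group)

/-- **FIX** -/
theorem exists_centralized {p q : ℕ} [Fact p.Prime] (P : Sylow p G) (hnd : ¬ p ∣ f G q) :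
    ∃ y : G, orderOf y = q ∧ ∀ x ∈ (P : Subgroup G), x * y = y * x := by
  letI := conjAct (P : Subgroup G) q
  obtain ⟨y, hy⟩ := P.2.nonempty_fixed_point_of_prime_not_dvd_card {y : G // orderOf y = q} hnd
  refine ⟨y.1, y.2, ?_⟩
  intro x hx
  have h1 : (⟨x, hx⟩ : (P : Subgroup G)) • y = y := hy ⟨x, hx⟩
  have h2 : x * y.1 * x⁻¹ = y.1 := congrArg Subtype.val h1
  calc x * y.1 = x * y.1 * x⁻¹ * x := by group
    _ = y.1 * x := by rw [h2]

/-- **ORB** -/
theorem dvd_f_of_no_commuting {q : ℕ} (hq : q.Prime) (y : G) (hy : orderOf y = q) (m : ℕ)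
    (hm : ∀ x : G, orderOf x = m → x * y ≠ y * x) : q ∣ f G m := by
  have : Fact q.Prime := ⟨hq⟩
  letI := conjAct (Subgroup.zpowers y) m
  have hP : IsPGroup q (Subgroup.zpowers y) := by
    apply IsPGroup.of_card (n := 1)
    rw [Nat.card_zpowers, hy, pow_one]
  have h1 := hP.card_modEq_card_fixedPoints {x : G // orderOf x = m}
  have h2 : IsEmpty (MulAction.fixedPoints (Subgroup.zpowers y) {x : G // orderOf x = m}) := by
    constructor
    rintro ⟨x, hx⟩
    have h3 : (⟨y, Subgroup.mem_zpowers y⟩ : Subgroup.zpowers y) • x = x := hx ⟨y, Subgroup.mem_zpowers y⟩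
    have h4 : y * x.1 * y⁻¹ = x.1 := congrArg Subtype.val h3
    apply hm x.1 x.2
    calc x.1 * y = y * x.1 * y⁻¹ * y := by rw [h4]
      _ = y * x.1 := by group
  have h5 : Nat.card (MulAction.fixedPoints (Subgroup.zpowers y) {x : G // orderOf x = m}) = 0 :=
    Nat.card_of_isEmpty
  rw [h5] at h1
  exact (Nat.modEq_zero_iff_dvd).mp h1

end Cfsg.Agent.Lib.H20.TV3
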