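import Mathlib

set_option autoImplicit false

namespace Cfsg.Agent.Lib.H20.ThreeVal

open Finset

theorem sum_divisors_mul_of_coprime {M : Type*} [AddCommMonoid M] {m n : ℕ} (h : m.Coprime n) (g : ℕ → M) :
    ∑ d ∈ (m * n).divisors, g d = ∑ x ∈ m.divisors, ∑ y ∈ n.divisors, g (x * y) := by
  rw [h.divisors_mul, Finset.sum_map, ← Finset.sum_product']
  exact Finset.sum_attach (m.divisors ×ˢ n.divisors) (fun p => g (p.1 * p.2))

theorem sum_divisors_prime {M : Type*} [AddCommMonoid M] {p : ℕ} (hp : p.Prime) (g : ℕ → M) :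
    ∑ d ∈ p.divisors, g d = g 1 + g p := by
  rw [hp.divisors, Finset.sum_pair hp.one_lt.ne]

theorem sum_divisors_four {M : Type*} [AddCommMonoid M] (g : ℕ → M) :
    ∑ d ∈ (4 : ℕ).divisors, g d = g 1 + (g 2 + g 4) := by
  have : (4 : ℕ).divisors = {1, 2, 4} := by decide
  rw [this, Finset.sum_insert (by decide), Finset.sum_pair (by decide)]

theorem cast_dvd {p X : ℕ} [NeZero p] (h : p ∣ X) : ((X : ℕ) : ZMod p) = 0 :=
  (ZMod.natCast_eq_zero_iff X p).mpr h

theorem two_ne_zero_zmod {p : ℕ} [Fact p.Prime] (hp2 : p ≠ 2) : (2 : ZMod p) ≠ 0 := by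
  intro h
  have h1 : ((2 : ℕ) : ZMod p) = 0 := by exact_mod_cast h
  have h2 := (ZMod.natCast_eq_zero_iff 2 p).mp h1
  have h3 := (Nat.prime_dvd_prime_iff_eq (Fact.out : p.Prime) Nat.prime_two).mp h2
  exact hp2 h3

/-- the arithmetic satisfied by the order statistics `s m = #{g : o(g) = m}` of a group of order `N` whose values
for `m > 2` lie in `{0, a, b}` -/
structure Ax (s : ℕ → ℕ) (N a b : ℕ) : Prop where
  one : s 1 = 1
  frob : ∀ d, d ∣ N → d ∣ ∑ m ∈ d.divisors, s m
  vals : ∀ m, 2 < m → s m = 0 ∨ s m = a ∨ s m = b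
  dvd : ∀ m, s m ≠ 0 → m ∣ N
  down : ∀ m j, s m ≠ 0 → j ∣ m → s j ≠ 0
  cauchy : ∀ p, p.Prime → p ∣ N → s p ≠ 0
  total : ∑ m ∈ N.divisors, s m = N

variable {s : ℕ → ℕ} {N a b : ℕ}

theorem Ax.swap (h : Ax s N a b) : Ax s N b a :=
  { h with vals := fun m hm => by rcases h.vals m hm with h1 | h1 | h1 <;> tauto }

theorem Ax.zp (h : Ax s N a b) {p : ℕ} [Fact p.Prime] (hpN : p ∣ N) : ((s p : ℕ) : ZMod p) = -1 := by
  have h1 := h.frob p hpN
  rw [sum_divisors_prime (Fact.out : p.Prime), h.one] at h1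
  have h2 := cast_dvd h1
  push_cast at h2
  linear_combination h2

theorem Ax.dpq (h : Ax s N a b) {p q : ℕ} (hp : p.Prime) (hq : q.Prime) (hpq : p ≠ q) (hN : p * q ∣ N) :
    p * q ∣ 1 + s p + s q + s (p * q) := by
  have h1 := h.frob (p * q) hN
  rw [sum_divisors_mul_of_coprime ((Nat.coprime_primes hp hq).mpr hpq), sum_divisors_prime hp] at h1
  simp only [sum_divisors_prime hq, one_mul, mul_one, h.one] at h1
  convert h1 using 1
  ring

theorem Ax.dpqr (h : Ax s N a b) {p q r : ℕ} (hp : p.Prime) (hq : q.Prime) (hr : r.Prime) (hpq : p ≠ q)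
    (hpr : p ≠ r) (hqr : q ≠ r) (hN : p * q * r ∣ N) :
    p * q * r ∣ 1 + s p + s q + s r + s (p * q) + s (p * r) + s (q * r) + s (p * q * r) := by
  have h1 := h.frob (p * q * r) hN
  have c1 : Nat.Coprime (p * q) r :=
    Nat.Coprime.mul_left ((Nat.coprime_primes hp hr).mpr hpr) ((Nat.coprime_primes hq hr).mpr hqr)
  rw [sum_divisors_mul_of_coprime c1, sum_divisors_mul_of_coprime ((Nat.coprime_primes hp hq).mpr hpq),
    sum_divisors_prime hp] at h1
  simp only [sum_divisors_prime hq, sum_divisors_prime hr, one_mul, mul_one, h.one] at h1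
  convert h1 using 1
  ring

theorem Ax.pos_of_prime (h : Ax s N a b) {p : ℕ} (hp : p.Prime) (hp2 : p ≠ 2) (hpN : p ∣ N) :
    s p = a ∨ s p = b := by
  have h3 : 2 < p := by have := hp.two_le; omega
  rcases h.vals p h3 with h0 | h0
  · exact absurd h0 (h.cauchy p hp hpN)
  · exact h0

/-- two odd primes with the same value -/
theorem Ax.pair_same (h : Ax s N a b) {p q : ℕ} [Fact p.Prime] [Fact q.Prime] (hp2 : p ≠ 2)
    (hpq : p ≠ q) (hN : p * q ∣ N) (hpa : s p = a) (hqa : s q = a) :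
    s (p * q) = b ∧ ((b : ℕ) : ZMod p) = 1 ∧ ((b : ℕ) : ZMod q) = 1 := by
  have hp : p.Prime := Fact.out
  have hq : q.Prime := Fact.out
  have hpN : p ∣ N := (dvd_mul_right p q).trans hN
  have hqN : q ∣ N := (dvd_mul_left q p).trans hN
  have h1 := h.zp hpN
  rw [hpa] at h1
  have h2 := h.zp hqN
  rw [hqa] at h2
  have h3 := h.dpq hp hq hpq hN
  rw [hpa, hqa] at h3
  have h3p : ((s (p * q) : ℕ) : ZMod p) = 1 := by
    have := cast_dvd ((dvd_mul_right p q).trans h3)
    push_cast at this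
    linear_combination this - 2 * h1
  have h3q : ((s (p * q) : ℕ) : ZMod q) = 1 := by
    have := cast_dvd ((dvd_mul_left q p).trans h3)
    push_cast at this
    linear_combination this - 2 * h2
  have hbig : 2 < p * q := by have := hp.two_le; have := hq.two_le; nlinarith
  rcases h.vals (p * q) hbig with h0 | h0 | h0
  · rw [h0] at h3p
    simp at h3p
  · rw [h0, h1] at h3p
    exfalso
    apply two_ne_zero_zmod hp2
    linear_combination -h3p
  · rw [h0] at h3p h3q
    exact ⟨h0, h3p, h3q⟩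

/-- two odd primes with one value and a third with the other value: impossible -/
theorem Ax.two_one (h : Ax s N a b) {p q r : ℕ} [Fact p.Prime] [Fact q.Prime] [Fact r.Prime] (hp2 : p ≠ 2)
    (hq2 : q ≠ 2) (hr2 : r ≠ 2) (hpq : p ≠ q) (hpr : p ≠ r) (hqr : q ≠ r) (hpN : p ∣ N) (hqN : q ∣ N)
    (hrN : r ∣ N) (hpa : s p = a) (hqa : s q = a) (hrb : s r = b) : False := by
  have hp : p.Prime := Fact.out
  have hq : q.Prime := Fact.out
  have hr : r.Prime := Fact.out
  have cpq : Nat.Coprime p q := (Nat.coprime_primes hp hq).mpr hpq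
  have cpr : Nat.Coprime p r := (Nat.coprime_primes hp hr).mpr hpr
  have cqr : Nat.Coprime q r := (Nat.coprime_primes hq hr).mpr hqr
  have hpqN : p * q ∣ N := cpq.mul_dvd_of_dvd_of_dvd hpN hqN
  have hprN : p * r ∣ N := cpr.mul_dvd_of_dvd_of_dvd hpN hrN
  have hqrN : q * r ∣ N := cqr.mul_dvd_of_dvd_of_dvd hqN hrN
  have hpqrN : p * q * r ∣ N := (Nat.Coprime.mul_left cpr cqr).mul_dvd_of_dvd_of_dvd hpqN hrN
  obtain ⟨hpqb, hbp, hbq⟩ := h.pair_same hp2 hpq hpqN hpa hqa
  have hap := h.zp hpN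
  rw [hpa] at hap
  have haq := h.zp hqN
  rw [hqa] at haq
  have hbr := h.zp hrN
  rw [hrb] at hbr
  -- `s (p r) = a` and `a ≡ 0 mod r`
  have key : ∀ {p : ℕ} [Fact p.Prime], p ≠ 2 → p ≠ r → p * r ∣ N → s p = a → ((a : ℕ) : ZMod p) = -1 →
      ((b : ℕ) : ZMod p) = 1 → s (p * r) = a ∧ ((a : ℕ) : ZMod r) = 0 := by
    intro p _ hp2 hpr hprN hpa hap hbp
    have hp : p.Prime := Fact.out
    have h3 := h.dpq hp hr hpr hprN
    rw [hpa, hrb] at h3
    have h3p : ((s (p * r) : ℕ) : ZMod p) = -1 := by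
      have := cast_dvd ((dvd_mul_right p r).trans h3)
      push_cast at this
      linear_combination this - hap - hbp
    have hbig : 2 < p * r := by have := hp.two_le; have := hr.two_le; nlinarith
    have hsa : s (p * r) = a := by
      rcases h.vals (p * r) hbig with h0 | h0 | h0
      · rw [h0] at h3p
        exfalso
        have : (1 : ZMod p) = 0 := by
          have h4 : ((0 : ℕ) : ZMod p) = -1 := h3p
          push_cast at h4
          linear_combination h4
        exact one_ne_zero this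
      · exact h0
      · rw [h0, hbp] at h3p
        exfalso
        apply two_ne_zero_zmod hp2
        linear_combination h3p
    refine ⟨hsa, ?_⟩
    rw [hsa] at h3
    have := cast_dvd ((dvd_mul_left r p).trans h3)
    push_cast at this
    have h5 : (2 : ZMod r) * ((a : ℕ) : ZMod r) = 0 := by linear_combination this - hbr
    rcases mul_eq_zero.mp h5 with h6 | h6
    · exact absurd h6 (two_ne_zero_zmod hr2)
    · exact h6
  obtain ⟨hpra, har⟩ := key hp2 hpr hprN hpa hap hbp
  obtain ⟨hqra, -⟩ := key hq2 hqr hqrN hqa haq hbq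
  have h7 := h.dpqr hp hq hr hpq hpr hqr hpqrN
  rw [hpa, hqa, hrb, hpqb, hpra, hqra] at h7
  have h7r : ((s (p * q * r) : ℕ) : ZMod r) = 1 := by
    have := cast_dvd ((dvd_mul_left r (p * q)).trans h7)
    push_cast at this
    linear_combination this - 4 * har - 2 * hbr
  have hbig : 2 < p * q * r := by
    have := hp.two_le; have := hq.two_le; have := hr.two_le
    have : 4 ≤ p * q := by nlinarith
    nlinarith
  rcases h.vals (p * q * r) hbig with h0 | h0 | h0
  · rw [h0] at h7r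
    simp at h7r
  · rw [h0, har] at h7r
    exact zero_ne_one h7r
  · rw [h0, hbr] at h7r
    apply two_ne_zero_zmod hr2
    linear_combination -h7r

/-- if all primes have the same value there is at most one prime (`N` odd) -/
theorem Ax.all_same (h : Ax s N a b) (hN0 : N ≠ 0) (hodd : ¬ 2 ∣ N)
    (hall : ∀ l : ℕ, l.Prime → l ∣ N → s l = a) {p q : ℕ} (hp : p.Prime) (hq : q.Prime) (hpq : p ≠ q)
    (hpN : p ∣ N) (hqN : q ∣ N) : False := by
  have hne2 : ∀ l : ℕ, l ∣ N → l ≠ 2 := by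
    rintro l hl rfl
    exact hodd hl
  -- congruences at every prime
  have hcong : ∀ l : ℕ, l.Prime → l ∣ N → l ^ N.factorization l ∣ 1 + a := by
    intro l hl hlN
    have : Fact l.Prime := ⟨hl⟩
    have hl2 : l ≠ 2 := hne2 l hlN
    have hal : ((a : ℕ) : ZMod l) = -1 := by
      have := h.zp hlN
      rwa [hall l hl hlN] at this
    have hbl : ((b : ℕ) : ZMod l) = 1 := by
      by_cases hlp : l = p
      · subst hlp
        have : Fact q.Prime := ⟨hq⟩
        have cpq : Nat.Coprime l q := (Nat.coprime_primes hl hq).mpr hpq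
        exact (h.pair_same hl2 hpq (cpq.mul_dvd_of_dvd_of_dvd hlN hqN) (hall l hl hlN)
          (hall q hq hqN)).2.1
      · have : Fact p.Prime := ⟨hp⟩
        have clp : Nat.Coprime l p := (Nat.coprime_primes hl hp).mpr hlp
        exact (h.pair_same hl2 hlp (clp.mul_dvd_of_dvd_of_dvd hlN hpN) (hall l hl hlN)
          (hall p hp hpN)).2.1
    have h2l := hl.two_le
    have hsq : s (l ^ 2) = 0 := by
      by_cases hd : l ^ 2 ∣ N
      · have h1 := h.frob (l ^ 2) hd
        rw [Nat.sum_divisors_prime_pow hl, Finset.sum_range_succ, Finset.sum_range_succ,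
          Finset.sum_range_one, pow_zero, pow_one, h.one, hall l hl hlN] at h1
        have h3 := cast_dvd ((dvd_pow_self l two_ne_zero).trans h1)
        push_cast at h3
        have h4 : ((s (l ^ 2) : ℕ) : ZMod l) = 0 := by linear_combination h3 - hal
        have hbig : 2 < l ^ 2 := by nlinarith
        rcases h.vals (l ^ 2) hbig with h0 | h0 | h0
        · exact h0
        · rw [h0, hal] at h4
          exfalso
          have : (1 : ZMod l) = 0 := by linear_combination -h4
          exact one_ne_zero this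
        · rw [h0, hbl] at h4
          exact absurd h4 one_ne_zero
      · by_contra h0
        exact hd (h.dvd _ h0)
    have hhigh : ∀ i : ℕ, 2 ≤ i → s (l ^ i) = 0 := by
      intro i hi
      by_contra h0
      exact h.down _ _ h0 (pow_dvd_pow l hi) hsq
    have hv : 1 ≤ N.factorization l := by
      have := (hl.pow_dvd_iff_le_factorization hN0 (k := 1)).mp (by rwa [pow_one])
      exact this
    have h1 := h.frob (l ^ N.factorization l) (Nat.ordProj_dvd N l)
    rw [Nat.sum_divisors_prime_pow hl] at h1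
    have hsum : ∑ i ∈ Finset.range (N.factorization l + 1), s (l ^ i) = 1 + a := by
      have hsub : ({0, 1} : Finset ℕ) ⊆ Finset.range (N.factorization l + 1) := by
        intro i hi
        simp only [Finset.mem_insert, Finset.mem_singleton] at hi
        rw [Finset.mem_range]
        omega
      rw [← Finset.sum_subset hsub]
      · rw [Finset.sum_pair (by norm_num), pow_zero, pow_one, h.one, hall l hl hlN]
      · intro i _ hi
        simp only [Finset.mem_insert, Finset.mem_singleton, not_or] at hi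
        exact hhigh i (by omega)
    rwa [hsum] at h1
  have hdvd : N ∣ 1 + a := by
    rw [Nat.dvd_iff_prime_pow_dvd_dvd]
    intro l k hl hk
    rcases Nat.eq_zero_or_pos k with rfl | hk0
    · simp
    · have hlN : l ∣ N := (dvd_pow_self l hk0.ne').trans hk
      have hle := (hl.pow_dvd_iff_le_factorization hN0).mp hk
      exact (pow_dvd_pow l hle).trans (hcong l hl hlN)
  have hle : N ≤ 1 + a := Nat.le_of_dvd (by omega) hdvd
  have hapos : 0 < a := by
    have := h.cauchy p hp hpN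
    rw [hall p hp hpN] at this
    omega
  have hsub : ({1, p, q} : Finset ℕ) ⊆ N.divisors := by
    intro i hi
    simp only [Finset.mem_insert, Finset.mem_singleton] at hi
    rw [Nat.mem_divisors]
    rcases hi with rfl | rfl | rfl
    · exact ⟨one_dvd _, hN0⟩
    · exact ⟨hpN, hN0⟩
    · exact ⟨hqN, hN0⟩
  have hge := Finset.sum_le_sum_of_subset (f := s) hsub
  rw [h.total, Finset.sum_insert (by
      simp only [Finset.mem_insert, Finset.mem_singleton, not_or]
      exact ⟨hp.one_lt.ne, hq.one_lt.ne⟩), Finset.sum_pair hpq, h.one, hall p hp hpN,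
    hall q hq hqN] at hge
  omega

/-- odd order: at most two primes -/
theorem Ax.card_primeFactors_le_two (h : Ax s N a b) (hN0 : N ≠ 0) (hodd : ¬ 2 ∣ N) :
    N.primeFactors.card ≤ 2 := by
  by_contra hlt
  rw [not_le] at hlt
  obtain ⟨p, hpm, q, hqm, r, hrm, hpq, hpr, hqr⟩ := Finset.two_lt_card.mp hlt
  have hp := Nat.prime_of_mem_primeFactors hpm
  have hq := Nat.prime_of_mem_primeFactors hqm
  have hr := Nat.prime_of_mem_primeFactors hrm
  have hpN := Nat.dvd_of_mem_primeFactors hpm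
  have hqN := Nat.dvd_of_mem_primeFactors hqm
  have hrN := Nat.dvd_of_mem_primeFactors hrm
  have hne2 : ∀ l : ℕ, l ∣ N → l ≠ 2 := by
    rintro l hl rfl
    exact hodd hl
  have : Fact p.Prime := ⟨hp⟩
  have : Fact q.Prime := ⟨hq⟩
  have : Fact r.Prime := ⟨hr⟩
  have hp2 := hne2 p hpN
  have hq2 := hne2 q hqN
  have hr2 := hne2 r hrN
  -- the general principle: two primes with value `x`, any prime with the other value `y`
  have main : ∀ {x y : ℕ}, Ax s N x y → ∀ {p q : ℕ}, p.Prime → q.Prime → p ≠ q → p ∣ N → q ∣ N →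
      s p = x → s q = x → False := by
    intro x y hxy p q hp hq hpq hpN hqN hpx hqx
    have : Fact p.Prime := ⟨hp⟩
    have : Fact q.Prime := ⟨hq⟩
    by_cases hex : ∃ l : ℕ, l.Prime ∧ l ∣ N ∧ s l ≠ x
    · obtain ⟨l, hl, hlN, hlx⟩ := hex
      have : Fact l.Prime := ⟨hl⟩
      have hly : s l = y := by
        rcases hxy.pos_of_prime hl (hne2 l hlN) hlN with h0 | h0
        · exact absurd h0 hlx
        · exact h0
      have hpl : p ≠ l := by rintro rfl; exact hlx hpx
      have hql : q ≠ l := by rintro rfl; exact hlx hqx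
      exact hxy.two_one (hne2 p hpN) (hne2 q hqN) (hne2 l hlN) hpq hpl hql hpN hqN hlN hpx hqx hly
    · exact hxy.all_same hN0 hodd (fun l hl hlN => by
        by_contra hne
        exact hex ⟨l, hl, hlN, hne⟩) hp hq hpq hpN hqN
  rcases h.pos_of_prime hp hp2 hpN with h1 | h1 <;> rcases h.pos_of_prime hq hq2 hqN with h2 | h2 <;>
    rcases h.pos_of_prime hr hr2 hrN with h3 | h3
  · exact main h hp hq hpq hpN hqN h1 h2
  · exact main h hp hq hpq hpN hqN h1 h2
  · exact main h hp hr hpr hpN hrN h1 h3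
  · exact main h.swap hq hr hqr hqN hrN h2 h3
  · exact main h hq hr hqr hqN hrN h2 h3
  · exact main h.swap hp hr hpr hpN hrN h1 h3
  · exact main h.swap hp hq hpq hpN hqN h1 h2
  · exact main h.swap hp hq hpq hpN hqN h1 h2

/-- even order, `s 2` odd: all values for `m > 2` are `0` or `b`; at most one odd prime -/
theorem Ax.false_of_eq (h : Ax s N b b) {p q : ℕ} (hp : p.Prime) (hq : q.Prime) (hp2 : p ≠ 2) (hq2 : q ≠ 2)
    (hpq : p ≠ q) (hpN : p ∣ N) (hqN : q ∣ N) : False := by
  have : Fact p.Prime := ⟨hp⟩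
  have : Fact q.Prime := ⟨hq⟩
  have hpb : s p = b := by rcases h.pos_of_prime hp hp2 hpN with h0 | h0 <;> exact h0
  have hqb : s q = b := by rcases h.pos_of_prime hq hq2 hqN with h0 | h0 <;> exact h0
  have cpq : Nat.Coprime p q := (Nat.coprime_primes hp hq).mpr hpq
  obtain ⟨-, h1, -⟩ := h.pair_same hp2 hpq (cpq.mul_dvd_of_dvd_of_dvd hpN hqN) hpb hqb
  have h2 := h.zp hpN
  rw [hpb, h1] at h2
  apply two_ne_zero_zmod hp2
  linear_combination h2

/-- the case of a unique involution and elements of order four -/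
structure Ax4 (s : ℕ → ℕ) (N a b : ℕ) : Prop where
  ax : Ax s N a b
  two : s 2 = 1
  four : s 4 = a
  dbl : ∀ k, ¬ 2 ∣ k → s (2 * k) = s k
  even : ∀ m, 2 < m → Even (s m)
  fourN : 4 ∣ N

theorem Ax4.a_mod (h : Ax4 s N a b) : a % 4 = 2 := by
  have h1 := h.ax.frob 4 h.fourN
  rw [sum_divisors_four, h.ax.one, h.two, h.four] at h1
  omega

theorem Ax4.d4p (h : Ax4 s N a b) {p : ℕ} (hp : p.Prime) (hp2 : p ≠ 2) (hpN : p ∣ N) :
    4 * p ∣ 2 + a + 2 * s p + s (4 * p) := by
  have c4 : Nat.Coprime 4 p := by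
    have : Nat.Coprime 2 p := (Nat.coprime_primes Nat.prime_two hp).mpr (Ne.symm hp2)
    exact Nat.Coprime.pow_left 2 this
  have h1 := h.ax.frob (4 * p) (c4.mul_dvd_of_dvd_of_dvd h.fourN hpN)
  rw [sum_divisors_mul_of_coprime c4, sum_divisors_four] at h1
  simp only [sum_divisors_prime hp, one_mul, mul_one, h.ax.one, h.two, h.four] at h1
  have hodd : ¬ 2 ∣ p := fun hd => hp2 ((Nat.prime_dvd_prime_iff_eq Nat.prime_two hp).mp hd).symm
  rw [h.dbl p hodd] at h1
  convert h1 using 1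
  ring

theorem Ax4.d4pq (h : Ax4 s N a b) {p q : ℕ} (hp : p.Prime) (hq : q.Prime) (hp2 : p ≠ 2) (hq2 : q ≠ 2)
    (hpq : p ≠ q) (hpN : p ∣ N) (hqN : q ∣ N) :
    4 * (p * q) ∣ 2 * (1 + s p + s q + s (p * q)) + a + s (4 * p) + s (4 * q) + s (4 * (p * q)) := by
  have c2p : Nat.Coprime 2 p := (Nat.coprime_primes Nat.prime_two hp).mpr (Ne.symm hp2)
  have c2q : Nat.Coprime 2 q := (Nat.coprime_primes Nat.prime_two hq).mpr (Ne.symm hq2)
  have cpq : Nat.Coprime p q := (Nat.coprime_primes hp hq).mpr hpq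
  have c4 : Nat.Coprime 4 (p * q) := Nat.Coprime.pow_left 2 (Nat.Coprime.mul_right c2p c2q)
  have h1 := h.ax.frob (4 * (p * q))
    (c4.mul_dvd_of_dvd_of_dvd h.fourN (cpq.mul_dvd_of_dvd_of_dvd hpN hqN))
  rw [sum_divisors_mul_of_coprime c4, sum_divisors_four] at h1
  simp only [sum_divisors_mul_of_coprime cpq, sum_divisors_prime hp, sum_divisors_prime hq, one_mul, mul_one,
    h.ax.one, h.two, h.four] at h1
  have hoddp : ¬ 2 ∣ p := fun hd => hp2 ((Nat.prime_dvd_prime_iff_eq Nat.prime_two hp).mp hd).symm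
  have hoddq : ¬ 2 ∣ q := fun hd => hq2 ((Nat.prime_dvd_prime_iff_eq Nat.prime_two hq).mp hd).symm
  have hoddpq : ¬ 2 ∣ p * q := fun hd => by
    rcases (Nat.Prime.dvd_mul Nat.prime_two).mp hd with h0 | h0
    · exact hoddp h0
    · exact hoddq h0
  rw [h.dbl p hoddp, h.dbl q hoddq, h.dbl (p * q) hoddpq] at h1
  convert h1 using 1
  ring

/-- the three possibilities for an odd prime -/
def TI (s : ℕ → ℕ) (a b p : ℕ) : Prop :=
  s (4 * p) = 0 ∧ ((a : ℕ) : ZMod p) = 0 ∧ s p = b ∧ ((b : ℕ) : ZMod p) = -1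

def TII (s : ℕ → ℕ) (a b p : ℕ) : Prop :=
  s (4 * p) = b ∧ 4 ∣ b ∧ s p = a ∧ ((a : ℕ) : ZMod p) = -1 ∧ ((b : ℕ) : ZMod p) = 1

def TIII (s : ℕ → ℕ) (a b p : ℕ) : Prop :=
  s (4 * p) = b ∧ 4 ∣ b ∧ s p = b ∧ ((b : ℕ) : ZMod p) = -1 ∧ ((a : ℕ) : ZMod p) = 1

theorem Ax4.type (h : Ax4 s N a b) {p : ℕ} [Fact p.Prime] (hp2 : p ≠ 2) (hpN : p ∣ N) :
    TI s a b p ∨ TII s a b p ∨ TIII s a b p := by
  have hp : p.Prime := Fact.out
  have h3 : 2 < p := by have := hp.two_le; omega
  have ha := h.a_mod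
  have h1 := h.d4p hp hp2 hpN
  have hev := h.even p h3
  have hm4 : s (4 * p) % 4 = 0 := by
    have h2 : 4 ∣ 2 + a + 2 * s p + s (4 * p) := (dvd_mul_right 4 p).trans h1
    obtain ⟨c, hc⟩ := hev
    omega
  have hsp := h.ax.zp hpN
  have hmp : ((a : ℕ) : ZMod p) + ((s (4 * p) : ℕ) : ZMod p) = 0 := by
    have := cast_dvd ((dvd_mul_left p 4).trans h1)
    push_cast at this
    linear_combination this - 2 * hsp
  have hbig : 2 < 4 * p := by omega
  rcases h.ax.vals (4 * p) hbig with h0 | h0 | h0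
  · left
    rw [h0] at hmp
    have ha0 : ((a : ℕ) : ZMod p) = 0 := by
      push_cast at hmp
      linear_combination hmp
    rcases h.ax.pos_of_prime hp hp2 hpN with h5 | h5
    · exfalso
      rw [h5, ha0] at hsp
      have : (1 : ZMod p) = 0 := by linear_combination hsp
      exact one_ne_zero this
    · refine ⟨h0, ha0, h5, ?_⟩
      rwa [h5] at hsp
  · exfalso
    rw [h0] at hm4
    omega
  · right
    rw [h0] at hmp hm4
    have h4b : 4 ∣ b := Nat.dvd_of_mod_eq_zero hm4
    rcases h.ax.pos_of_prime hp hp2 hpN with h5 | h5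
    · left
      rw [h5] at hsp
      exact ⟨h0, h4b, h5, hsp, by linear_combination hmp - hsp⟩
    · right
      rw [h5] at hsp
      exact ⟨h0, h4b, h5, hsp, by linear_combination hmp - hsp⟩

theorem Ax4.pair_I_b (h : Ax4 s N a b) {p q : ℕ} [Fact p.Prime] [Fact q.Prime] (hp2 : p ≠ 2) (hpq : p ≠ q)
    (hpN : p ∣ N) (hqN : q ∣ N) (hI : TI s a b p) (hqb : s q = b) : False := by
  have hp : p.Prime := Fact.out
  have hq : q.Prime := Fact.out
  obtain ⟨-, ha0, hpb, -⟩ := hI
  have cpq : Nat.Coprime p q := (Nat.coprime_primes hp hq).mpr hpq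
  obtain ⟨-, h1, -⟩ := h.ax.swap.pair_same hp2 hpq (cpq.mul_dvd_of_dvd_of_dvd hpN hqN) hpb hqb
  rw [ha0] at h1
  exact zero_ne_one h1

theorem Ax4.pair_II_II (h : Ax4 s N a b) {p q : ℕ} [Fact p.Prime] [Fact q.Prime] (hp2 : p ≠ 2) (hq2 : q ≠ 2)
    (hpq : p ≠ q) (hpN : p ∣ N) (hqN : q ∣ N) (hP : TII s a b p) (hQ : TII s a b q) : False := by
  have hp : p.Prime := Fact.out
  have hq : q.Prime := Fact.out
  obtain ⟨h4p, -, hpa, hap, hbp⟩ := hP
  obtain ⟨h4q, -, hqa, -, -⟩ := hQ
  have cpq : Nat.Coprime p q := (Nat.coprime_primes hp hq).mpr hpq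
  obtain ⟨hpqb, -, -⟩ := h.ax.pair_same hp2 hpq (cpq.mul_dvd_of_dvd_of_dvd hpN hqN) hpa hqa
  have h1 := h.d4pq hp hq hp2 hq2 hpq hpN hqN
  rw [hpa, hqa, hpqb, h4p, h4q] at h1
  have hS : ((s (4 * (p * q)) : ℕ) : ZMod p) = -1 := by
    have h2 : p ∣ 2 * (1 + a + a + b) + a + b + b + s (4 * (p * q)) :=
      ((dvd_mul_right p q).mul_left 4).trans h1
    have := cast_dvd h2
    push_cast at this
    linear_combination this - 5 * hap - 4 * hbp
  have ha := h.a_mod
  have hbig : 2 < 4 * (p * q) := by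
    have := hp.two_le; have := hq.two_le
    have : 4 ≤ p * q := by nlinarith
    omega
  have h4 : 4 ∣ 2 * (1 + a + a + b) + a + b + b + s (4 * (p * q)) := (dvd_mul_right 4 (p * q)).trans h1
  rcases h.ax.vals _ hbig with h0 | h0 | h0
  · rw [h0] at hS
    have : (1 : ZMod p) = 0 := by
      push_cast at hS
      linear_combination hS
    exact one_ne_zero this
  · rw [h0] at h4
    omega
  · rw [h0, hbp] at hS
    apply two_ne_zero_zmod hp2
    linear_combination hS

theorem Ax4.pair_III_III (h : Ax4 s N a b) {p q : ℕ} [Fact p.Prime] [Fact q.Prime] (hp2 : p ≠ 2) (hq2 : q ≠ 2)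
    (hpq : p ≠ q) (hpN : p ∣ N) (hqN : q ∣ N) (hP : TIII s a b p) (hQ : TIII s a b q) : False := by
  have hp : p.Prime := Fact.out
  have hq : q.Prime := Fact.out
  obtain ⟨h4p, h4b, hpb, hbp, hap⟩ := hP
  obtain ⟨h4q, -, hqb, -, -⟩ := hQ
  have cpq : Nat.Coprime p q := (Nat.coprime_primes hp hq).mpr hpq
  obtain ⟨hpqa, -, -⟩ := h.ax.swap.pair_same hp2 hpq (cpq.mul_dvd_of_dvd_of_dvd hpN hqN) hpb hqb
  have h1 := h.d4pq hp hq hp2 hq2 hpq hpN hqN
  rw [hpb, hqb, hpqa, h4p, h4q] at h1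
  have hS : ((s (4 * (p * q)) : ℕ) : ZMod p) = 1 := by
    have h2 : p ∣ 2 * (1 + b + b + a) + a + b + b + s (4 * (p * q)) :=
      ((dvd_mul_right p q).mul_left 4).trans h1
    have := cast_dvd h2
    push_cast at this
    linear_combination this - 3 * hap - 6 * hbp
  have ha := h.a_mod
  have hbig : 2 < 4 * (p * q) := by
    have := hp.two_le; have := hq.two_le
    have : 4 ≤ p * q := by nlinarith
    omega
  have h4 : 4 ∣ 2 * (1 + b + b + a) + a + b + b + s (4 * (p * q)) := (dvd_mul_right 4 (p * q)).trans h1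
  rcases h.ax.vals _ hbig with h0 | h0 | h0
  · rw [h0] at hS
    simp at hS
  · rw [h0] at h4
    omega
  · rw [h0, hbp] at hS
    apply two_ne_zero_zmod hp2
    linear_combination -hS

theorem Ax4.pair_I_II (h : Ax4 s N a b) {p q : ℕ} [Fact p.Prime] [Fact q.Prime] (hp2 : p ≠ 2) (hq2 : q ≠ 2)
    (hpq : p ≠ q) (hpN : p ∣ N) (hqN : q ∣ N) (hP : TI s a b p) (hQ : TII s a b q) : False := by
  have hp : p.Prime := Fact.out
  have hq : q.Prime := Fact.out
  obtain ⟨h4p, hap, hpb, hbp⟩ := hP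
  obtain ⟨h4q, -, hqa, haq, hbq⟩ := hQ
  have cpq : Nat.Coprime p q := (Nat.coprime_primes hp hq).mpr hpq
  have h0 := h.ax.dpq hp hq hpq (cpq.mul_dvd_of_dvd_of_dvd hpN hqN)
  rw [hpb, hqa] at h0
  have hSp : ((s (p * q) : ℕ) : ZMod p) = 0 := by
    have := cast_dvd ((dvd_mul_right p q).trans h0)
    push_cast at this
    linear_combination this - hbp - hap
  have hSq : ((s (p * q) : ℕ) : ZMod q) = -1 := by
    have := cast_dvd ((dvd_mul_left q p).trans h0)
    push_cast at this
    linear_combination this - hbq - haq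
  have hbig : 2 < p * q := by have := hp.two_le; have := hq.two_le; nlinarith
  have hpqa : s (p * q) = a := by
    rcases h.ax.vals _ hbig with h5 | h5 | h5
    · rw [h5] at hSq
      exfalso
      have : (1 : ZMod q) = 0 := by
        push_cast at hSq
        linear_combination hSq
      exact one_ne_zero this
    · exact h5
    · rw [h5, hbp] at hSp
      exfalso
      have : (1 : ZMod p) = 0 := by linear_combination -hSp
      exact one_ne_zero this
  have h4pq : s (4 * (p * q)) = 0 := by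
    by_contra hne
    exact h.ax.down _ (4 * p) hne ⟨q, by ring⟩ h4p
  have h1 := h.d4pq hp hq hp2 hq2 hpq hpN hqN
  rw [hpb, hqa, hpqa, h4p, h4q, h4pq] at h1
  have h2 : p ∣ 2 * (1 + b + a + a) + a + 0 + b + 0 := ((dvd_mul_right p q).mul_left 4).trans h1
  have := cast_dvd h2
  push_cast at this
  have : (1 : ZMod p) = 0 := by linear_combination -this + 5 * hap + 3 * hbp
  exact one_ne_zero this

theorem Ax4.pair_II_III (h : Ax4 s N a b) {p q : ℕ} [Fact p.Prime] [Fact q.Prime] (hp2 : p ≠ 2) (hq2 : q ≠ 2)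
    (hpq : p ≠ q) (hpN : p ∣ N) (hqN : q ∣ N) (hP : TII s a b p) (hQ : TIII s a b q) : False := by
  have hp : p.Prime := Fact.out
  have hq : q.Prime := Fact.out
  obtain ⟨-, -, hpa, hap, hbp⟩ := hP
  obtain ⟨-, -, hqb, hbq, haq⟩ := hQ
  have cpq : Nat.Coprime p q := (Nat.coprime_primes hp hq).mpr hpq
  have h0 := h.ax.dpq hp hq hpq (cpq.mul_dvd_of_dvd_of_dvd hpN hqN)
  rw [hpa, hqb] at h0
  have hSp : ((s (p * q) : ℕ) : ZMod p) = -1 := by
    have := cast_dvd ((dvd_mul_right p q).trans h0)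
    push_cast at this
    linear_combination this - hbp - hap
  have hbig : 2 < p * q := by have := hp.two_le; have := hq.two_le; nlinarith
  have hpqa : s (p * q) = a := by
    rcases h.ax.vals _ hbig with h5 | h5 | h5
    · rw [h5] at hSp
      exfalso
      have : (1 : ZMod p) = 0 := by
        push_cast at hSp
        linear_combination hSp
      exact one_ne_zero this
    · exact h5
    · rw [h5, hbp] at hSp
      exfalso
      apply two_ne_zero_zmod hp2
      linear_combination hSp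
  rw [hpqa] at h0
  have := cast_dvd ((dvd_mul_left q p).trans h0)
  push_cast at this
  apply two_ne_zero_zmod hq2
  linear_combination this - 2 * haq - hbq

/-- unique involution and elements of order four: at most one odd prime -/
theorem Ax4.false_of_two_primes (h : Ax4 s N a b) {p q : ℕ} (hp : p.Prime) (hq : q.Prime) (hp2 : p ≠ 2)
    (hq2 : q ≠ 2) (hpq : p ≠ q) (hpN : p ∣ N) (hqN : q ∣ N) : False := by
  have : Fact p.Prime := ⟨hp⟩
  have : Fact q.Prime := ⟨hq⟩
  rcases h.type hp2 hpN with hP | hP | hP <;> rcases h.type hq2 hqN with hQ | hQ | hQ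
  · exact h.pair_I_b hp2 hpq hpN hqN hP hQ.2.2.1
  · exact h.pair_I_II hp2 hq2 hpq hpN hqN hP hQ
  · exact h.pair_I_b hp2 hpq hpN hqN hP hQ.2.2.1
  · exact h.pair_I_II hq2 hp2 hpq.symm hqN hpN hQ hP
  · exact h.pair_II_II hp2 hq2 hpq hpN hqN hP hQ
  · exact h.pair_II_III hp2 hq2 hpq hpN hqN hP hQ
  · exact h.pair_I_b hq2 hpq.symm hqN hpN hQ hP.2.2.1
  · exact h.pair_II_III hq2 hp2 hpq.symm hqN hpN hQ hP
  · exact h.pair_III_III hp2 hq2 hpq hpN hqN hP hQ

end Cfsg.Agent.Lib.H20.ThreeVal
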