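import Mathlib
import Cfsg.Agent.S3995
import Cfsg.Agent.S0144
import Cfsg.Agent.S0219
import Cfsg.Agent.Lib.H20.ThreeValArith

set_option autoImplicit false

/-!
# Groups whose numbers of elements of each order take three values are solvable: the group-theoretic side (helper20)
-/

namespace Cfsg.Agent.Lib.H20.ThreeVal

open Cfsg.Agent.S3995 (f f_one f_eq_zero f_pos even_f cnt frob exists_orderOf_eq_of_dvd)

universe u

section basic

variable {G : Type u} [Group G] [Finite G]

theorem frob_divisors (d : ℕ) (hd : d ∣ Nat.card G) : d ∣ ∑ m ∈ d.divisors, f G m := by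
  have hd0 : d ≠ 0 := by
    rintro rfl
    exact Nat.card_pos.ne' (zero_dvd_iff.mp hd)
  exact frob d.divisors d hd (fun g => by
    rw [← orderOf_dvd_iff_pow_eq_one, Nat.mem_divisors]
    exact ⟨fun h => ⟨h, hd0⟩, fun h => h.1⟩)

theorem total_eq : ∑ m ∈ (Nat.card G).divisors, f G m = Nat.card G := by
  have h := cnt (G := G) (Nat.card G).divisors (Nat.card G) (fun g => by
    rw [Nat.mem_divisors]
    exact ⟨fun _ => ⟨orderOf_dvd_natCard g, Nat.card_pos.ne'⟩, fun _ => pow_card_eq_one'⟩)
  rw [← h]
  exact Nat.card_congr (Equiv.subtypeUnivEquiv (fun g => pow_card_eq_one'))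

theorem exists_of_f_ne_zero {m : ℕ} (h : f G m ≠ 0) : ∃ g : G, orderOf g = m := by
  by_contra hne
  exact h (f_eq_zero (fun g hg => hne ⟨g, hg⟩))

theorem f_ne_zero_of_orderOf {m : ℕ} (g : G) (hg : orderOf g = m) : f G m ≠ 0 := by
  have := f_pos g
  rw [hg] at this
  omega

/-- the arithmetic axioms hold for the order statistics of a group -/
theorem mkAx {a b : ℕ} (hvals : ∀ m, 2 < m → f G m = 0 ∨ f G m = a ∨ f G m = b) :
    Ax (f G) (Nat.card G) a b where
  one := f_one G
  frob := frob_divisors
  vals := hvals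
  dvd := by
    intro m hm
    obtain ⟨g, rfl⟩ := exists_of_f_ne_zero hm
    exact orderOf_dvd_natCard g
  down := by
    intro m j hm hj
    obtain ⟨g, rfl⟩ := exists_of_f_ne_zero hm
    have hj0 : j ≠ 0 := by
      rintro rfl
      exact (orderOf_pos g).ne' (zero_dvd_iff.mp hj)
    obtain ⟨x, hx⟩ := exists_orderOf_eq_of_dvd hj0 g hj
    exact f_ne_zero_of_orderOf x hx
  cauchy := by
    intro p hp hpN
    haveI : Fact p.Prime := ⟨hp⟩
    obtain ⟨x, hx⟩ := exists_prime_orderOf_dvd_card' (G := G) p hpN
    exact f_ne_zero_of_orderOf x hx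
  total := total_eq

/-- values for `m > 2` from values on the element orders -/
theorem vals_of_type {a b : ℕ} (hT : ∀ g : G, f G (orderOf g) = 1 ∨ f G (orderOf g) = a ∨ f G (orderOf g) = b)
    (m : ℕ) (hm : 2 < m) : f G m = 0 ∨ f G m = a ∨ f G m = b := by
  by_cases h0 : f G m = 0
  · exact Or.inl h0
  · right
    obtain ⟨g, rfl⟩ := exists_of_f_ne_zero h0
    rcases hT g with h1 | h1
    · exfalso
      have := even_f (G := G) hm
      rw [h1] at this
      exact absurd this (by decide)
    · exact h1

end basic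

/-- a group of order `p ^ a * q ^ b` in the form: at most two prime factors -/
theorem solvable_of_card_primeFactors_le_two {G : Type u} [Group G] [Finite G]
    (h : (Nat.card G).primeFactors.card ≤ 2) : Group.IsSolvable G := by
  have hN0 : Nat.card G ≠ 0 := Nat.card_pos.ne'
  have hprod : (Nat.card G).factorization.prod (fun p k => p ^ k) = Nat.card G :=
    Nat.factorization_prod_pow_eq_self hN0
  rw [Finsupp.prod, Nat.support_factorization] at hprod
  have hcases : (Nat.card G).primeFactors.card = 0 ∨ (Nat.card G).primeFactors.card = 1 ∨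
      (Nat.card G).primeFactors.card = 2 := by omega
  rcases hcases with h0 | h1 | h2
  · rw [Finset.card_eq_zero] at h0
    rw [h0, Finset.prod_empty] at hprod
    exact Cfsg.Agent.S0144.result 2 3 0 0 Nat.prime_two Nat.prime_three (by rw [← hprod]; norm_num)
  · obtain ⟨p, hp⟩ := Finset.card_eq_one.mp h1
    rw [hp, Finset.prod_singleton] at hprod
    have hpp : p.Prime := Nat.prime_of_mem_primeFactors (by rw [hp]; exact Finset.mem_singleton_self p)
    exact Cfsg.Agent.S0144.result p 3 ((Nat.card G).factorization p) 0 hpp Nat.prime_three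
      (by rw [pow_zero, mul_one]; exact hprod.symm)
  · obtain ⟨p, q, hpq, hpf⟩ := Finset.card_eq_two.mp h2
    rw [hpf, Finset.prod_pair hpq] at hprod
    have hpp : p.Prime := Nat.prime_of_mem_primeFactors (by rw [hpf]; simp)
    have hqp : q.Prime := Nat.prime_of_mem_primeFactors (by rw [hpf]; simp)
    exact Cfsg.Agent.S0144.result p q _ _ hpp hqp hprod.symm

/-- at most one odd prime: at most two primes -/
theorem card_primeFactors_le_two_of_odd_unique {N : ℕ}
    (h : ∀ p q : ℕ, p.Prime → q.Prime → p ≠ 2 → q ≠ 2 → p ≠ q → p ∣ N → q ∣ N → False) :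
    N.primeFactors.card ≤ 2 := by
  by_contra hlt
  rw [not_le] at hlt
  obtain ⟨p, hpm, q, hqm, r, hrm, hpq, hpr, hqr⟩ := Finset.two_lt_card.mp hlt
  have hp := Nat.prime_of_mem_primeFactors hpm
  have hq := Nat.prime_of_mem_primeFactors hqm
  have hr := Nat.prime_of_mem_primeFactors hrm
  have hpN := Nat.dvd_of_mem_primeFactors hpm
  have hqN := Nat.dvd_of_mem_primeFactors hqm
  have hrN := Nat.dvd_of_mem_primeFactors hrm
  by_cases hp2 : p = 2
  · have hq2 : q ≠ 2 := fun h0 => hpq (hp2.trans h0.symm)
    have hr2 : r ≠ 2 := fun h0 => hpr (hp2.trans h0.symm)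
    exact h q r hq hr hq2 hr2 hqr hqN hrN
  · by_cases hq2 : q = 2
    · have hr2 : r ≠ 2 := fun h0 => hqr (hq2.trans h0.symm)
      exact h p r hp hr hp2 hr2 hpr hpN hrN
    · exact h p q hp hq hp2 hq2 hpq hpN hqN

/-- the odd order case -/
theorem solvable_of_odd {K : Type u} [Group K] [Finite K] (hodd : ¬ 2 ∣ Nat.card K) {a b : ℕ}
    (hT : ∀ g : K, f K (orderOf g) = 1 ∨ f K (orderOf g) = a ∨ f K (orderOf g) = b) :
    Group.IsSolvable K :=
  solvable_of_card_primeFactors_le_two
    ((mkAx (vals_of_type hT)).card_primeFactors_le_two Nat.card_pos.ne' hodd)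

section involution

variable {G : Type u} [Group G] [Finite G]

/-- the unique involution is central -/
theorem unique_involution_central (h2 : f G 2 = 1) {z : G} (hz : orderOf z = 2) (g : G) : g * z = z * g := by
  have : Subsingleton {x : G // orderOf x = 2} := (Nat.card_eq_one_iff_unique.mp h2).1
  have hc : orderOf (g * z * g⁻¹) = 2 := by
    rw [show g * z * g⁻¹ = MulAut.conj g z from rfl, MulEquiv.orderOf_eq, hz]
  have : (⟨g * z * g⁻¹, hc⟩ : {x : G // orderOf x = 2}) = ⟨z, hz⟩ := Subsingleton.elim _ _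
  rw [Subtype.mk.injEq] at this
  calc g * z = g * z * g⁻¹ * g := by group
    _ = z * g := by rw [this]

/-- with a unique involution, `f (2 k) = f k` for odd `k` -/
theorem f_double (h2 : f G 2 = 1) (k : ℕ) (hk : ¬ 2 ∣ k) : f G (2 * k) = f G k := by
  have : Subsingleton {x : G // orderOf x = 2} := (Nat.card_eq_one_iff_unique.mp h2).1
  obtain ⟨z, hz⟩ := exists_of_f_ne_zero (G := G) (m := 2) (by rw [h2]; norm_num)
  have hzz : z * z = 1 := by
    have := pow_orderOf_eq_one z
    rwa [hz, pow_two] at this
  have hcen := unique_involution_central h2 hz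
  have hk0 : k ≠ 0 := by
    rintro rfl
    exact hk (dvd_zero 2)
  have hcop : Nat.Coprime 2 k := (Nat.Prime.coprime_iff_not_dvd Nat.prime_two).mpr hk
  have hzk : z ^ k = z := by
    obtain ⟨j, hj⟩ : ∃ j, k = 2 * j + 1 := ⟨k / 2, by omega⟩
    rw [hj, pow_succ, pow_mul, pow_two, hzz, one_pow, one_mul]
  unfold f
  symm
  apply Nat.card_congr
  refine
    { toFun := fun x => ⟨z * x.1, ?_⟩
      invFun := fun y => ⟨z * y.1, ?_⟩
      left_inv := fun x => Subtype.ext (by simp only [← mul_assoc, hzz, one_mul])
      right_inv := fun y => Subtype.ext (by simp only [← mul_assoc, hzz, one_mul]) }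
  · have hc : Commute z x.1 := (hcen x.1).symm
    rw [hc.orderOf_mul_eq_mul_orderOf_of_coprime (by rw [hz, x.2]; exact hcop), hz, x.2]
  · have hc : Commute z y.1 := (hcen y.1).symm
    have hyk : orderOf (y.1 ^ k) = 2 := by
      rw [orderOf_pow_of_dvd hk0 (by rw [y.2]; exact dvd_mul_left k 2), y.2,
        Nat.mul_div_cancel _ (Nat.pos_of_ne_zero hk0)]
    have hykz : y.1 ^ k = z := by
      have : (⟨y.1 ^ k, hyk⟩ : {x : G // orderOf x = 2}) = ⟨z, hz⟩ := Subsingleton.elim _ _
      rwa [Subtype.mk.injEq] at this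
    have h1 : orderOf (z * y.1) ∣ k := by
      apply orderOf_dvd_of_pow_eq_one
      rw [hc.mul_pow, hzk, hykz, hzz]
    have h2' : k ∣ orderOf (z * y.1) := by
      have hc' : Commute z (z * y.1) := by
        show z * (z * y.1) = z * y.1 * z
        rw [mul_assoc, (hcen y.1)]
      have h3 := hc'.orderOf_mul_dvd_lcm
      rw [← mul_assoc, hzz, one_mul, y.2, hz] at h3
      have h4 : 2 * k ∣ 2 * orderOf (z * y.1) := h3.trans (Nat.lcm_dvd_mul _ _)
      exact Nat.dvd_of_mul_dvd_mul_left (by norm_num) h4
    exact Nat.dvd_antisymm h1 h2'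

/-- a unique involution and order divisible by four: there are elements of order four -/
theorem f_four_ne_zero (h2 : f G 2 = 1) (h4 : 4 ∣ Nat.card G) : f G 4 ≠ 0 := by
  have : Subsingleton {x : G // orderOf x = 2} := (Nat.card_eq_one_iff_unique.mp h2).1
  have : Fact (Nat.Prime 2) := ⟨Nat.prime_two⟩
  obtain ⟨H, hH⟩ := Sylow.exists_subgroup_card_pow_prime (G := G) 2 (n := 2) (by norm_num; exact h4)
  have hH4 : Nat.card H = 4 := by rw [hH]; norm_num
  -- three distinct elements
  haveI : Fintype H := Fintype.ofFinite H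
  have h3 : 2 < Fintype.card H := by rw [← Nat.card_eq_fintype_card, hH4]; norm_num
  obtain ⟨x, y, w, hxy, hxw, hyw⟩ := Fintype.two_lt_card_iff.mp h3
  -- every nonidentity element of `H` has order two or four
  have hord : ∀ v : H, v ≠ 1 → orderOf (v : G) = 2 ∨ orderOf (v : G) = 4 := by
    intro v hv
    have hd : orderOf (v : G) ∣ 4 := by
      rw [Subgroup.orderOf_coe, ← hH4]; exact orderOf_dvd_natCard v
    have hne : orderOf (v : G) ≠ 1 := by
      rw [Subgroup.orderOf_coe]
      intro h1
      exact hv (orderOf_eq_one_iff.mp h1)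
    have hle : orderOf (v : G) ≤ 4 := Nat.le_of_dvd (by norm_num) hd
    have hpos := orderOf_pos (v : G)
    interval_cases h : orderOf (v : G)
    · exact absurd rfl hne
    · left; rfl
    · exact absurd hd (by norm_num)
    · right; rfl
  -- two distinct nonidentity elements
  have key : ∀ u v : H, u ≠ v → u ≠ 1 → v ≠ 1 → f G 4 ≠ 0 := by
    intro u v huv hu hv
    rcases hord u hu with h5 | h5
    · rcases hord v hv with h6 | h6
      · exfalso
        have : (⟨(u : G), h5⟩ : {x : G // orderOf x = 2}) = ⟨(v : G), h6⟩ := Subsingleton.elim _ _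
        rw [Subtype.mk.injEq] at this
        exact huv (Subtype.ext this)
      · exact f_ne_zero_of_orderOf _ h6
    · exact f_ne_zero_of_orderOf _ h5
  by_cases hx : x = 1
  · exact key y w hyw (fun h => hxy (hx.trans h.symm)) (fun h => hxw (hx.trans h.symm))
  · by_cases hy : y = 1
    · exact key x w hxw hx (fun h => hyw (hy.trans h.symm))
    · exact key x y hxy hx hy

end involution

section main

variable {G : Type u} [Group G] [Finite G]

/-- the two values other than `1` -/
theorem exists_ab (h : (((fun m : ℕ => Nat.card {g : G // orderOf g = m}) '' Set.range (orderOf : G → ℕ))).ncard = 3) :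
    ∃ a b : ℕ, ∀ g : G, f G (orderOf g) = 1 ∨ f G (orderOf g) = a ∨ f G (orderOf g) = b := by
  obtain ⟨x, y, z, hxy, hxz, hyz, hT⟩ := Set.ncard_eq_three.mp h
  have hmem : ∀ g : G, f G (orderOf g) ∈ ({x, y, z} : Set ℕ) := by
    intro g
    rw [← hT]
    exact ⟨orderOf g, ⟨g, rfl⟩, rfl⟩
  have h1 : (1 : ℕ) ∈ ({x, y, z} : Set ℕ) := by
    have := hmem 1
    rwa [orderOf_one, f_one] at this
  simp only [Set.mem_insert_iff, Set.mem_singleton_iff] at h1 hmem
  rcases h1 with rfl | rfl | rfl
  · exact ⟨y, z, hmem⟩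
  · exact ⟨x, z, fun g => by rcases hmem g with h | h | h <;> tauto⟩
  · exact ⟨x, y, fun g => by rcases hmem g with h | h | h <;> tauto⟩

/-- elements of odd order lie in a subgroup of index two -/
theorem mem_of_index_two_of_odd {K : Subgroup G} (hK : K.index = 2) (g : G) (hodd : ¬ 2 ∣ orderOf g) :
    g ∈ K := by
  obtain ⟨j, hj⟩ : ∃ j, orderOf g = 2 * j + 1 := ⟨orderOf g / 2, by omega⟩
  have h1 : g = (g ^ 2) ^ (j + 1) := by
    rw [← pow_mul, show 2 * (j + 1) = orderOf g + 1 by omega, pow_succ, pow_orderOf_eq_one, one_mul]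
  rw [h1]
  exact K.pow_mem (Subgroup.sq_mem_of_index_two hK g) _

/-- the order statistics of a subgroup of index two, at odd orders -/
theorem f_subgroup_index_two {K : Subgroup G} (hK : K.index = 2) (m : ℕ) (hm : ¬ 2 ∣ m) :
    f K m = f G m := by
  unfold f
  apply Nat.card_congr
  refine
    { toFun := fun y => ⟨y.1.1, by rw [Subgroup.orderOf_coe]; exact y.2⟩
      invFun := fun g => ⟨⟨g.1, mem_of_index_two_of_odd hK g.1 (by rw [g.2]; exact hm)⟩, by
        rw [← Subgroup.orderOf_coe]; exact g.2⟩
      left_inv := fun y => rfl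
      right_inv := fun g => rfl }

/-- **main theorem**: three values imply solvability -/
theorem solvable_of_type {a b : ℕ}
    (hT : ∀ g : G, f G (orderOf g) = 1 ∨ f G (orderOf g) = a ∨ f G (orderOf g) = b) :
    Group.IsSolvable G := by
  by_cases hev : 2 ∣ Nat.card G
  swap
  · exact solvable_of_odd hev hT
  have : Fact (Nat.Prime 2) := ⟨Nat.prime_two⟩
  obtain ⟨t, ht⟩ := exists_prime_orderOf_dvd_card' (G := G) 2 hev
  have hf2 := hT t
  rw [ht] at hf2
  have hvals := vals_of_type hT
  by_cases h2 : f G 2 = 1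
  · by_cases h4 : 4 ∣ Nat.card G
    · have h4ne := f_four_ne_zero h2 h4
      have hdbl := f_double h2
      have hev' : ∀ m, 2 < m → Even (f G m) := fun m hm => even_f (G := G) hm
      rcases hvals 4 (by norm_num) with h0 | h0 | h0
      · exact absurd h0 h4ne
      · have ax4 : Ax4 (f G) (Nat.card G) a b := ⟨mkAx hvals, h2, h0, hdbl, hev', h4⟩
        exact solvable_of_card_primeFactors_le_two (card_primeFactors_le_two_of_odd_unique
          (fun p q hp hq hp2 hq2 hpq hpN hqN => ax4.false_of_two_primes hp hq hp2 hq2 hpq hpN hqN))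
      · have ax4 : Ax4 (f G) (Nat.card G) b a := ⟨(mkAx hvals).swap, h2, h0, hdbl, hev', h4⟩
        exact solvable_of_card_primeFactors_le_two (card_primeFactors_le_two_of_odd_unique
          (fun p q hp hq hp2 hq2 hpq hpN hqN => ax4.false_of_two_primes hp hq hp2 hq2 hpq hpN hqN))
    · -- order twice an odd number
      have hN0 : Nat.card G ≠ 0 := Nat.card_pos.ne'
      have hv1 : (Nat.card G).factorization 2 = 1 := by
        have h1 : 1 ≤ (Nat.card G).factorization 2 :=
          (Nat.prime_two.pow_dvd_iff_le_factorization hN0 (k := 1)).mp (by rwa [pow_one])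
        have h3 : ¬ 2 ≤ (Nat.card G).factorization 2 := fun hle =>
          h4 ((Nat.prime_two.pow_dvd_iff_le_factorization hN0 (k := 2)).mpr hle)
        omega
      let T : Sylow 2 G := default
      have hTcard : Nat.card T = 2 := by
        rw [Sylow.card_eq_multiplicity, hv1, pow_one]
      have hTc : IsCyclic (T : Subgroup G) := isCyclic_of_prime_card (p := 2) hTcard
      obtain ⟨K, hK⟩ := Cfsg.Agent.S0219.result (even_iff_two_dvd.mpr hev) T hTc
      haveI : K.Normal := Subgroup.normal_of_index_eq_two hK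
      have hKcard : Nat.card K * 2 = Nat.card G := by rw [← hK]; exact K.card_mul_index
      have hKodd : ¬ 2 ∣ Nat.card K := by
        rintro ⟨c, hc⟩
        apply h4
        exact ⟨c, by rw [← hKcard, hc]; ring⟩
      have hTK : ∀ x : K, f K (orderOf x) = 1 ∨ f K (orderOf x) = a ∨ f K (orderOf x) = b := by
        intro x
        have hxo : ¬ 2 ∣ orderOf x := fun hd => hKodd (hd.trans (orderOf_dvd_natCard x))
        rw [f_subgroup_index_two hK _ hxo, ← Subgroup.orderOf_coe]
        exact hT (x : G)
      haveI : Group.IsSolvable K := solvable_of_odd hKodd hTK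
      haveI : Group.IsSolvable (G ⧸ K) := by
        have hc : Nat.card (G ⧸ K) = 2 := hK
        haveI : IsCyclic (G ⧸ K) := isCyclic_of_prime_card (p := 2) hc
        exact Group.isSolvable_of_comm (fun x y => IsCyclic.commGroup.mul_comm x y)
      exact Group.isSolvable_of_ker_le_range K.subtype (QuotientGroup.mk' K)
        (by rw [QuotientGroup.ker_mk', Subgroup.range_subtype])
  · have hodd2 : ¬ 2 ∣ f G 2 := by
      have := Cfsg.Agent.S3995.frob_prime (G := G) Nat.prime_two hev
      omega
    have hcase : ∀ {x y : ℕ}, (∀ m, 2 < m → f G m = 0 ∨ f G m = x ∨ f G m = y) → f G 2 = x →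
        Group.IsSolvable G := by
      intro x y hv hx
      have hv' : ∀ m, 2 < m → f G m = 0 ∨ f G m = y ∨ f G m = y := by
        intro m hm
        rcases hv m hm with h0 | h0 | h0
        · exact Or.inl h0
        · exfalso
          have := even_f (G := G) hm
          rw [h0, ← hx] at this
          exact hodd2 (even_iff_two_dvd.mp this)
        · exact Or.inr (Or.inl h0)
      have ax := mkAx hv'
      exact solvable_of_card_primeFactors_le_two (card_primeFactors_le_two_of_odd_unique
        (fun p q hp hq hp2 hq2 hpq hpN hqN => ax.false_of_eq hp hq hp2 hq2 hpq hpN hqN))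
    rcases hf2 with h | h | h
    · exact absurd h h2
    · exact hcase hvals h
    · exact hcase (fun m hm => by rcases hvals m hm with h0 | h0 | h0 <;> tauto) h

end main

end Cfsg.Agent.Lib.H20.ThreeVal
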