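import Mathlib
import Cfsg.Prelude.Def_Solvable
import Cfsg.Agent.S3995
import Cfsg.Agent.Lib.H20.ThreeValGroup
import Cfsg.Agent.Lib.H20.ThreePrimes
import Cfsg.Agent.Lib.H20.TV3FIX
import Cfsg.Agent.Lib.H25.TV4PQFIX
import Cfsg.Agent.Lib.H2.TV3FROBCore
import Cfsg.Agent.Lib.H22.TV3SYL
import Cfsg.Agent.Lib.H24.TV3AVG

set_option autoImplicit false

/-!
# S4004, assembly (helper20): odd order, three same-order class sizes, two primes: prime element orders and a
Frobenius complement of prime order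
-/

namespace Cfsg.Agent.Lib.H20.TV3

open Cfsg.Agent.S3995 (f)

open Cfsg.Agent.Lib.H20.ThreeVal

universe u

variable {G : Type u} [Group G] [Finite G]

/-- `f G (p q) = 0` -/
theorem f_mul_eq_zero {a b : ℕ} (hodd : ¬ 2 ∣ Nat.card G) (ax : Ax (f G) (Nat.card G) a b)
    {p q : ℕ} [Fact p.Prime] [Fact q.Prime] (hpq : p ≠ q) (hpN : p ∣ Nat.card G) (hqN : q ∣ Nat.card G)
    (hpa : f G p = a) (hqb : f G q = b) : f G (p * q) = 0 := by
  have hp : p.Prime := Fact.out
  have hq : q.Prime := Fact.out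
  have hp2 : p ≠ 2 := by rintro rfl; exact hodd hpN
  have hq2 : q ≠ 2 := by rintro rfl; exact hodd hqN
  have hp3 : 3 ≤ p := by have := hp.two_le; omega
  have hq3 : 3 ≤ q := by have := hq.two_le; omega
  have cpq : Nat.Coprime p q := (Nat.coprime_primes hp hq).mpr hpq
  have h0 := ax.dpq hp hq hpq (cpq.mul_dvd_of_dvd_of_dvd hpN hqN)
  rw [hpa, hqb] at h0
  have hap := ax.zp hpN
  rw [hpa] at hap
  have hbq := ax.zp hqN
  rw [hqb] at hbq
  have ha0 : a ≠ 0 := by rw [← hpa]; exact ax.cauchy p hp hpN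
  have hb0 : b ≠ 0 := by rw [← hqb]; exact ax.cauchy q hq hqN
  have hbig : 2 < p * q := by nlinarith
  rcases ax.vals (p * q) hbig with h1 | h1 | h1
  · exact h1
  · exfalso
    have hnd : ¬ p ∣ f G (p * q) := by
      rw [h1]
      intro hd
      have := cast_dvd hd
      rw [hap] at this
      have : (1 : ZMod p) = 0 := by linear_combination -this
      exact one_ne_zero this
    have := Cfsg.Agent.Lib.H25.TV4.card_pq_ge hp hq hpq hnd
    rw [hpa, h1] at this
    have hq1 : 2 ≤ q - 1 := by omega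
    have h5 : 2 * a ≤ (q - 1) * a := Nat.mul_le_mul_right a hq1
    omega
  · exfalso
    have hnd : ¬ q ∣ f G (q * p) := by
      rw [mul_comm q p, h1]
      intro hd
      have := cast_dvd hd
      rw [hbq] at this
      have : (1 : ZMod q) = 0 := by linear_combination -this
      exact one_ne_zero this
    have := Cfsg.Agent.Lib.H25.TV4.card_pq_ge hq hp hpq.symm hnd
    rw [hqb, mul_comm q p, h1] at this
    have hp1 : 2 ≤ p - 1 := by omega
    have h5 : 2 * b ≤ (p - 1) * b := Nat.mul_le_mul_right b hp1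
    omega

/-- no elements of order `p ^ 2` -/
theorem f_sq_eq_zero {a b : ℕ} (ax : Ax (f G) (Nat.card G) a b)
    {p q : ℕ} [Fact p.Prime] [Fact q.Prime] (hpq : p ≠ q) (hpN : p ∣ Nat.card G) (hqN : q ∣ Nat.card G)
    (hpa : f G p = a) (hqb : f G q = b) (hmix : f G (p * q) = 0) : f G (p ^ 2) = 0 := by
  have hp : p.Prime := Fact.out
  have hq : q.Prime := Fact.out
  by_contra hne
  have hd : p ^ 2 ∣ Nat.card G := ax.dvd _ hne
  obtain ⟨y, hy⟩ := exists_of_f_ne_zero (G := G) (m := q) (ax.cauchy q hq hqN)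
  have hcop : Nat.Coprime (p ^ 2) q := Nat.Coprime.pow_left 2 ((Nat.coprime_primes hp hq).mpr hpq)
  have hdiv : q ∣ f G (p ^ 2) := by
    apply dvd_f_of_no_commuting hq y hy
    intro x hx hcomm
    have hxy : orderOf (x * y) = p ^ 2 * q := by
      rw [(show Commute x y from hcomm).orderOf_mul_eq_mul_orderOf_of_coprime (by rw [hx, hy]; exact hcop), hx, hy]
    have h1 : f G (p ^ 2 * q) ≠ 0 := f_ne_zero_of_orderOf _ hxy
    exact ax.down _ (p * q) h1 ⟨p, by ring⟩ hmix
  have hbq := ax.zp hqN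
  rw [hqb] at hbq
  have hap := ax.zp hpN
  rw [hpa] at hap
  have h2l := hp.two_le
  have hbig : 2 < p ^ 2 := by nlinarith
  have h1 := ax.frob (p ^ 2) hd
  rw [Nat.sum_divisors_prime_pow hp, Finset.sum_range_succ, Finset.sum_range_succ, Finset.sum_range_one, pow_zero,
    pow_one, ax.one, hpa] at h1
  have h3 := cast_dvd ((dvd_pow_self p two_ne_zero).trans h1)
  push_cast at h3
  have h4 : ((f G (p ^ 2) : ℕ) : ZMod p) = 0 := by linear_combination h3 - hap
  rcases ax.vals (p ^ 2) hbig with h0 | h0 | h0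
  · exact hne h0
  · rw [h0, hap] at h4
    have : (1 : ZMod p) = 0 := by linear_combination -h4
    exact one_ne_zero this
  · rw [h0] at hdiv
    have := cast_dvd hdiv
    rw [hbq] at this
    have : (1 : ZMod q) = 0 := by linear_combination -this
    exact one_ne_zero this

/-- all elements have order `1`, `p` or `q` -/
theorem orders_prime {a b : ℕ} (hodd : ¬ 2 ∣ Nat.card G)
    (hT : ∀ g : G, f G (orderOf g) = 1 ∨ f G (orderOf g) = a ∨ f G (orderOf g) = b)
    {p q : ℕ} (hp : p.Prime) (hq : q.Prime) (hpq : p ≠ q) (hpf : (Nat.card G).primeFactors = {p, q}) :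
    ∀ g : G, orderOf g = 1 ∨ orderOf g = p ∨ orderOf g = q := by
  have : Fact p.Prime := ⟨hp⟩
  have : Fact q.Prime := ⟨hq⟩
  have hN0 : Nat.card G ≠ 0 := Nat.card_pos.ne'
  have hpN : p ∣ Nat.card G := Nat.dvd_of_mem_primeFactors (by rw [hpf]; simp)
  have hqN : q ∣ Nat.card G := Nat.dvd_of_mem_primeFactors (by rw [hpf]; simp)
  have hp2 : p ≠ 2 := by rintro rfl; exact hodd hpN
  have hq2 : q ≠ 2 := by rintro rfl; exact hodd hqN
  have ax := mkAx (vals_of_type hT)
  have hall : ∀ l : ℕ, l.Prime → l ∣ Nat.card G → l = p ∨ l = q := by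
    intro l hl hlN
    have : l ∈ (Nat.card G).primeFactors := Nat.mem_primeFactors.mpr ⟨hl, hlN, hN0⟩
    rw [hpf] at this
    simpa using this
  -- the two values are different
  have key : ∀ {a b : ℕ}, Ax (f G) (Nat.card G) a b → f G p = a → f G q = b →
      f G (p * q) = 0 ∧ f G (p ^ 2) = 0 ∧ f G (q ^ 2) = 0 := by
    intro a b ax hpa hqb
    have hmix := f_mul_eq_zero hodd ax hpq hpN hqN hpa hqb
    refine ⟨hmix, f_sq_eq_zero ax hpq hpN hqN hpa hqb hmix, ?_⟩
    exact f_sq_eq_zero ax.swap hpq.symm hqN hpN hqb hpa (by rwa [mul_comm])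
  have hsame : ∀ {x y : ℕ}, Ax (f G) (Nat.card G) x y → f G p = x → f G q = x → False := by
    intro x y ax hpx hqx
    exact ax.all_same hN0 hodd (fun l hl hlN => by
      rcases hall l hl hlN with rfl | rfl
      · exact hpx
      · exact hqx) hp hq hpq hpN hqN
  have hfacts : f G (p * q) = 0 ∧ f G (p ^ 2) = 0 ∧ f G (q ^ 2) = 0 := by
    rcases ax.pos_of_prime hp hp2 hpN with h1 | h1 <;> rcases ax.pos_of_prime hq hq2 hqN with h2 | h2
    · exact (hsame ax h1 h2).elim
    · exact key ax h1 h2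
    · exact key ax.swap h1 h2
    · exact (hsame ax.swap h1 h2).elim
  obtain ⟨hmix, hp2', hq2'⟩ := hfacts
  intro g
  have hgN : orderOf g ∣ Nat.card G := orderOf_dvd_natCard g
  have hg0 : f G (orderOf g) ≠ 0 := f_ne_zero_of_orderOf g rfl
  have hnpq : ¬ p * q ∣ orderOf g := fun hd => ax.down _ _ hg0 hd hmix
  have hnp2 : ¬ p ^ 2 ∣ orderOf g := fun hd => ax.down _ _ hg0 hd hp2'
  have hnq2 : ¬ q ^ 2 ∣ orderOf g := fun hd => ax.down _ _ hg0 hd hq2'
  by_cases h1 : orderOf g = 1
  · exact Or.inl h1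
  · right
    obtain ⟨l, hl, hlg⟩ := Nat.exists_prime_and_dvd h1
    obtain ⟨m, hm⟩ := hlg
    have hm1 : m = 1 := by
      by_contra hm1
      obtain ⟨l', hl', hl'm⟩ := Nat.exists_prime_and_dvd hm1
      have hll' : l * l' ∣ orderOf g := by rw [hm]; exact Nat.mul_dvd_mul_left l hl'm
      have c1 := hall l hl ((Dvd.intro m hm.symm).trans hgN)
      have c2 := hall l' hl' ((dvd_mul_left l' l).trans (hll'.trans hgN))
      rcases c1 with rfl | rfl <;> rcases c2 with rfl | rfl
      · exact hnp2 (by rw [pow_two]; exact hll')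
      · exact hnpq hll'
      · exact hnpq (by rw [mul_comm]; exact hll')
      · exact hnq2 (by rw [pow_two]; exact hll')
    rw [hm1, mul_one] at hm
    rcases hall l hl (by rw [← hm]; exact hgN) with rfl | rfl
    · exact Or.inl hm
    · exact Or.inr hm

/-- **FROB** from helper2's core, helper22's SYL and AVG -/
theorem exists_frobenius_complement {r r' : ℕ} (hr : r.Prime) (hr' : r'.Prime) (hne : r ≠ r')
    (hrG : r ∣ Nat.card G) (hr'G : r' ∣ Nat.card G)
    (hord : ∀ g : G, orderOf g = 1 ∨ orderOf g = r ∨ orderOf g = r')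
    (V : Subgroup G) [V.Normal] (hVc : ∀ a ∈ V, ∀ b ∈ V, a * b = b * a) (hVr : ∀ a ∈ V, a ^ r = 1)
    (hV1 : V ≠ ⊥) : ∃ C : Subgroup G, Cfsg.IsFrobeniusComplement C ∧ (Nat.card ↥C).Prime :=
  Cfsg.Agent.Lib.H2.TV3.exists_frobenius_complement_core hr hr' hne hrG hord
    (fun R => Cfsg.Agent.Lib.H22.TV3.card_sylow_eq hr hne hord V hVc hVr hV1 hr'G R)
    (fun y c hy hc hn => Cfsg.Agent.Lib.H24.TV3.avg hr hr' hne hord V hVc hVr hV1 y c hy hc hn)

/-- the second half of S4004 -/
theorem second_half {a b : ℕ} (hodd : ¬ 2 ∣ Nat.card G)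
    (hT : ∀ g : G, f G (orderOf g) = 1 ∨ f G (orderOf g) = a ∨ f G (orderOf g) = b)
    (h2 : (Nat.card G).primeFactors.card = 2) :
    (∀ (p : ℕ) [Fact p.Prime] (P : Sylow p G), p ∣ Nat.card G → Monoid.exponent ↥(P : Subgroup G) = p) ∧
      ∃ C : Subgroup G, Cfsg.IsFrobeniusComplement C ∧ (Nat.card ↥C).Prime := by
  obtain ⟨p, q, hpq, hpf⟩ := Finset.card_eq_two.mp h2
  have hp : p.Prime := Nat.prime_of_mem_primeFactors (by rw [hpf]; simp)
  have hq : q.Prime := Nat.prime_of_mem_primeFactors (by rw [hpf]; simp)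
  have hN0 : Nat.card G ≠ 0 := Nat.card_pos.ne'
  have hpN : p ∣ Nat.card G := Nat.dvd_of_mem_primeFactors (by rw [hpf]; simp)
  have hqN : q ∣ Nat.card G := Nat.dvd_of_mem_primeFactors (by rw [hpf]; simp)
  have hord := orders_prime hodd hT hp hq hpq hpf
  have hall : ∀ l : ℕ, l.Prime → l ∣ Nat.card G → l = p ∨ l = q := by
    intro l hl hlN
    have : l ∈ (Nat.card G).primeFactors := Nat.mem_primeFactors.mpr ⟨hl, hlN, hN0⟩
    rw [hpf] at this
    simpa using this
  constructor
  · intro l _ P hlN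
    have hl : l.Prime := Fact.out
    have hpow : ∀ x : P, x ^ l = 1 := by
      intro x
      obtain ⟨k, hk⟩ := P.2 x
      have hxo : orderOf x ∣ l ^ k := orderOf_dvd_of_pow_eq_one hk
      have hcase := hord (x : G)
      rw [Subgroup.orderOf_coe] at hcase
      have hdl : orderOf x ∣ l := by
        rcases hcase with h1 | h1 | h1
        · rw [h1]; exact one_dvd _
        · rw [h1] at hxo ⊢
          rw [(Nat.prime_dvd_prime_iff_eq hp hl).mp (hp.dvd_of_dvd_pow hxo)]
        · rw [h1] at hxo ⊢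
          rw [(Nat.prime_dvd_prime_iff_eq hq hl).mp (hq.dvd_of_dvd_pow hxo)]
      exact orderOf_dvd_iff_pow_eq_one.mp hdl
    have hdvd : Monoid.exponent ↥(P : Subgroup G) ∣ l := Monoid.exponent_dvd_of_forall_pow_eq_one hpow
    rcases (Nat.dvd_prime hl).mp hdvd with h1 | h1
    · exfalso
      have hsub : Subsingleton ↥(P : Subgroup G) := Monoid.exp_eq_one_iff.mp h1
      have hc1 : Nat.card ↥(P : Subgroup G) = 1 := Nat.card_eq_one_iff_unique.mpr ⟨hsub, ⟨1⟩⟩
      have := P.dvd_card_of_dvd_card hlN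
      rw [hc1] at this
      exact hl.one_lt.ne' (Nat.dvd_one.mp this)
    · exact h1
  · haveI : Group.IsSolvable G :=
      solvable_of_card_primeFactors_le_two (by rw [h2])
    have : Nontrivial G := by
      rw [← Finite.one_lt_card_iff_nontrivial]
      exact lt_of_lt_of_le hp.one_lt (Nat.le_of_dvd Nat.card_pos hpN)
    obtain ⟨r, V, hr, hVn, hV1, hVr, hVc⟩ := Cfsg.Agent.Lib.H20.exists_normal_abelian_exponent_prime (G := G)
    have := hVn
    -- `r` divides the order
    have hrN : r ∣ Nat.card G := by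
      obtain ⟨v, hv1⟩ := (Subgroup.ne_bot_iff_exists_ne_one).mp hV1
      have hvo : orderOf (v : G) ∣ r := orderOf_dvd_of_pow_eq_one (hVr v v.2)
      rcases (Nat.dvd_prime hr).mp hvo with h1 | h1
      · exact absurd (orderOf_eq_one_iff.mp h1) (by
          intro h; exact hv1 (Subtype.ext h))
      · rw [← h1]; exact orderOf_dvd_natCard _
    rcases hall r hr hrN with rfl | rfl
    · exact exists_frobenius_complement hr hq hpq hrN hqN hord V hVc hVr hV1
    · exact exists_frobenius_complement hr hp hpq.symm hrN hpN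
        (fun g => by rcases hord g with h | h | h <;> tauto) V hVc hVr hV1

end Cfsg.Agent.Lib.H20.TV3
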