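import Cfsg.Agent.Lib.H25.TpDefs

/-!
# S5637 piece T1a: a non-root element of `Q(A ⊗ z)` gives `1 + P ⊗ (z χᵀ)`, `P` not scalar (helper20)
-/

set_option autoImplicit false
set_option linter.unusedSimpArgs false

namespace Cfsg.Agent.Lib.H20.Tp

open Matrix Kronecker Module
open Cfsg.Geo
open Cfsg.Agent.Lib.H29.Tensor (pt kron_pt)
open Cfsg.Agent.Lib.H28 (tvGL tvGL_mulVec)
open Cfsg.Agent.Lib.H25.Tp

variable {F : Type*} [Field F] {a b : ℕ}

/-- `(P ⊗ z χᵀ) m = (P (con m χ)) ⊗ z` -/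
theorem kron_vecMulVec_mulVec (P : Matrix (Fin a) (Fin a) F) (z χ : Fin b → F)
    (m : Fin a × Fin b → F) :
    (P ⊗ₖ vecMulVec z χ) *ᵥ m = pt (P *ᵥ con m χ) z := by
  funext ⟨i, j⟩
  simp only [Matrix.mulVec, dotProduct, kroneckerMap_apply, Fintype.sum_prod_type, pt, con,
    vecMulVec_apply]
  rw [Finset.sum_mul]
  refine Finset.sum_congr rfl fun i' _ => ?_
  rw [Finset.mul_sum, Finset.sum_mul]
  refine Finset.sum_congr rfl fun j' _ => ?_
  ring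

/-- a non-zero `χ` orthogonal to two given vectors (`b ≥ 3`) -/
theorem exists_perp_two (hb : 3 ≤ b) (z w : Fin b → F) :
    ∃ χ : Fin b → F, χ ≠ 0 ∧ χ ⬝ᵥ z = 0 ∧ χ ⬝ᵥ w = 0 := by
  let f : (Fin b → F) →ₗ[F] (F × F) :=
    { toFun := fun χ => (χ ⬝ᵥ z, χ ⬝ᵥ w)
      map_add' := by intro x y; simp [add_dotProduct]
      map_smul' := by intro c x; simp [smul_dotProduct] }
  have hker : LinearMap.ker f ≠ ⊥ := by
    apply LinearMap.ker_ne_bot_of_finrank_lt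
    rw [Module.finrank_prod, Module.finrank_self, Module.finrank_fintype_fun_eq_card,
      Fintype.card_fin]
    omega
  obtain ⟨χ, hχ, hχ0⟩ := Submodule.exists_mem_ne_zero_of_ne_bot hker
  rw [LinearMap.mem_ker] at hχ
  have h1 : (χ ⬝ᵥ z, χ ⬝ᵥ w) = ((0 : F), (0 : F)) := hχ
  exact ⟨χ, hχ0, (Prod.ext_iff.1 h1).1, (Prod.ext_iff.1 h1).2⟩

theorem single_eq_pt (i : Fin a) (j : Fin b) :
    (Pi.single (i, j) (1 : F) : Fin a × Fin b → F) = pt (Pi.single i 1) (Pi.single j 1) := by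
  funext ⟨i', j'⟩
  simp only [pt, Pi.single_apply, Prod.mk.injEq]
  by_cases h1 : i' = i <;> by_cases h2 : j' = j <;> simp [h1, h2]

/-- **T1a.** -/
theorem exists_nonscalar_of_not_root (hb : 3 ≤ b) (X : Subgroup (GL (Fin a × Fin b) F)) (hX : H0 a b F ≤ X)
    (g : GL (Fin a × Fin b) F) (hg : g ∈ X) (z : Fin b → F) (hz : z ≠ 0)
    (h1 : ∀ m, (g.val - 1) *ᵥ m ∈ Lv z) (h2 : ∀ u : Fin a → F, (g.val - 1) *ᵥ pt u z = 0)
    (h3 : ¬ ∃ φ : Fin b → F, g.val - 1 = NN z φ) :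
    ∃ (P : Matrix (Fin a) (Fin a) F) (χ : Fin b → F) (k : GL (Fin a × Fin b) F),
      k ∈ X ∧ χ ≠ 0 ∧ χ ⬝ᵥ z = 0 ∧ (¬ ∃ c : F, P = c • (1 : Matrix (Fin a) (Fin a) F)) ∧
      k.val = 1 + P ⊗ₖ vecMulVec z χ := by
  classical
  obtain ⟨E, hE⟩ : ∃ E : Matrix (Fin a × Fin b) (Fin a × Fin b) F, E = g.val - 1 := ⟨_, rfl⟩
  rw [← hE] at h1 h2 h3
  have hgE : g.val = 1 + E := by rw [hE]; abel
  -- `ζ` with `z · ζ = 1`
  obtain ⟨j₀, hj₀⟩ : ∃ j, z j ≠ 0 := by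
    by_contra hcon; push Not at hcon; exact hz (funext hcon)
  obtain ⟨ζ, hζ⟩ : ∃ ζ : Fin b → F, z ⬝ᵥ ζ = 1 :=
    ⟨Pi.single j₀ (z j₀)⁻¹, by rw [dotProduct_single, mul_inv_cancel₀ hj₀]⟩
  -- `E m = pt (T m) z`
  have hT : ∀ m, E *ᵥ m = pt (con (E *ᵥ m) ζ) z := by
    intro m
    obtain ⟨t, ht⟩ := mem_Lv.1 (h1 m)
    rw [← ht, con_pt, hζ, one_smul]
  -- the matrices `P_w`
  let Tw : (Fin b → F) → ((Fin a → F) →ₗ[F] (Fin a → F)) := fun w =>
    (conL ζ) ∘ₗ (Matrix.toLin' E) ∘ₗ (ptL w)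
  have hTw : ∀ w u, Tw w u = con (E *ᵥ pt u w) ζ := fun w u => rfl
  let Pm : (Fin b → F) → Matrix (Fin a) (Fin a) F := fun w => LinearMap.toMatrix' (Tw w)
  have hPm : ∀ w u, Pm w *ᵥ u = con (E *ᵥ pt u w) ζ := by
    intro w u
    rw [← hTw]
    exact LinearMap.toMatrix'_mulVec (Tw w) u
  -- some `P_{e_j}` is not scalar
  have hex : ∃ j : Fin b, ¬ ∃ c : F, Pm (Pi.single j 1) = c • (1 : Matrix (Fin a) (Fin a) F) := by
    by_contra hcon
    push Not at hcon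
    choose c hc using hcon
    apply h3
    refine ⟨fun j => c j, ?_⟩
    have hcol : ∀ p : Fin a × Fin b, E *ᵥ Pi.single p 1 = NN z (fun j => c j) *ᵥ Pi.single p 1 := by
      rintro ⟨i, j⟩
      rw [single_eq_pt, hT, ← hPm, hc j, NN_mulVec, con_pt, Matrix.smul_mulVec, Matrix.one_mulVec,
        single_dotProduct, one_mul]
    ext q p
    have := congrFun (hcol p) q
    rwa [Matrix.mulVec_single_one, Matrix.mulVec_single_one] at this
  obtain ⟨j₁, hj₁⟩ := hex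
  set w : Fin b → F := Pi.single j₁ 1 with hw
  obtain ⟨χ, hχ0, hχz, hχw⟩ := exists_perp_two hb z w
  set N : Matrix (Fin a × Fin b) (Fin a × Fin b) F := NN w χ with hN
  -- the three vanishing products
  have hEE : E * E = 0 := by
    rw [Matrix.ext_iff_mulVec]
    intro m
    rw [← Matrix.mulVec_mulVec, hT m, h2, Matrix.zero_mulVec]
  have hNE : N * E = 0 := by
    rw [Matrix.ext_iff_mulVec]
    intro m
    rw [← Matrix.mulVec_mulVec, hT m, hN, NN_mulVec, con_pt, dotProduct_comm, hχz, zero_smul,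
      pt_zero_left, Matrix.zero_mulVec]
  have hNN : N * N = 0 := by
    rw [hN, NN_mul_NN, hχw, zero_smul]
  have hEN : E * N = Pm w ⊗ₖ vecMulVec z χ := by
    rw [Matrix.ext_iff_mulVec]
    intro m
    rw [← Matrix.mulVec_mulVec, hN, NN_mulVec, hT, ← hPm, kron_vecMulVec_mulVec]
  -- the commutator
  set h : GL (Fin a × Fin b) F := rr w χ hχw with hh
  have hhX : h ∈ X := hX (rr_mem_H0 w χ hχw)
  have hginv : (g⁻¹ : GL (Fin a × Fin b) F).val = 1 - E := by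
    have h5 : g.val * (1 - E) = 1 := by
      rw [hgE]
      calc (1 + E) * (1 - E) = 1 - E * E := by noncomm_ring
        _ = 1 := by rw [hEE, sub_zero]
    exact Units.inv_eq_of_mul_eq_one_right h5
  refine ⟨Pm w, χ, g * h * g⁻¹ * h⁻¹, ?_, hχ0, hχz, hj₁, ?_⟩
  · exact X.mul_mem (X.mul_mem (X.mul_mem hg hhX) (X.inv_mem hg)) (X.inv_mem hhX)
  · rw [Units.val_mul, Units.val_mul, Units.val_mul, hginv, hgE, hh, rr_val, rr_inv_val, ← hN,
      ← hEN]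
    have e1 : ∀ Y : Matrix (Fin a × Fin b) (Fin a × Fin b) F, E * (E * Y) = 0 := by
      intro Y; rw [← Matrix.mul_assoc, hEE, Matrix.zero_mul]
    have e2 : ∀ Y : Matrix (Fin a × Fin b) (Fin a × Fin b) F, N * (E * Y) = 0 := by
      intro Y; rw [← Matrix.mul_assoc, hNE, Matrix.zero_mul]
    have e3 : ∀ Y : Matrix (Fin a × Fin b) (Fin a × Fin b) F, N * (N * Y) = 0 := by
      intro Y; rw [← Matrix.mul_assoc, hNN, Matrix.zero_mul]
    simp only [mul_add, add_mul, mul_sub, sub_mul, mul_one, one_mul, Matrix.mul_assoc, hEE, hNE,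
      hNN, e1, e2, e3, mul_zero, zero_mul, add_zero, sub_zero, zero_add]
    abel

end Cfsg.Agent.Lib.H20.Tp
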