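import Cfsg.Agent.Lib.H25.TpDefs
import Cfsg.Agent.Lib.H20.AschP2B4B7

/-!
# S5637 piece T7: transport to an arbitrary tensor decomposition `(e, P)` (helper20)
-/

set_option autoImplicit false

namespace Cfsg.Agent.Lib.H20.Tp

open Matrix Kronecker Module
open Cfsg.Geo
open Cfsg.Agent.Lib.H29.Tensor (pt kron_pt)
open Cfsg.Agent.Lib.H28 (tvGL tvGL_mulVec)
open Cfsg.Agent.Lib.H25.Tp

variable {F : Type*} [Field F] {a b : ℕ}

/-- the transport isomorphism `MulAut.conj P ∘ glReindex e.symm` -/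
noncomputable def tpΦ {n : ℕ} (e : Fin n ≃ Fin a × Fin b) (P : GL (Fin n) F) :
    GL (Fin a × Fin b) F ≃* GL (Fin n) F :=
  (glReindex e.symm).trans (MulAut.conj P)

theorem tpΦ_apply {n : ℕ} (e : Fin n ≃ Fin a × Fin b) (P : GL (Fin n) F)
    (g : GL (Fin a × Fin b) F) :
    tpΦ e P g = (MulAut.conj P) (glReindex e.symm g) := rfl

theorem tpΦ_det {n : ℕ} (e : Fin n ≃ Fin a × Fin b) (P : GL (Fin n) F)
    (g : GL (Fin a × Fin b) F) :
    ((tpΦ e P g : GL (Fin n) F) : Matrix (Fin n) (Fin n) F).det =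
      (g : Matrix (Fin a × Fin b) (Fin a × Fin b) F).det := by
  rw [tpΦ_apply, MulAut.conj_apply, Units.val_mul, Units.val_mul, Matrix.det_mul, Matrix.det_mul]
  have h1 : ((glReindex e.symm g : GL (Fin n) F) : Matrix (Fin n) (Fin n) F).det =
      (g : Matrix (Fin a × Fin b) (Fin a × Fin b) F).det := by
    have : ((glReindex e.symm g : GL (Fin n) F) : Matrix (Fin n) (Fin n) F) =
        Matrix.reindex e.symm e.symm (g : Matrix (Fin a × Fin b) (Fin a × Fin b) F) := rfl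
    rw [this, Matrix.det_reindex_self]
  rw [h1, mul_comm, ← mul_assoc, ← Matrix.det_mul, ← Units.val_mul, inv_mul_cancel,
    Units.val_one, Matrix.det_one, one_mul]

theorem tpΦ_mem_sl {n : ℕ} (e : Fin n ≃ Fin a × Fin b) (P : GL (Fin n) F)
    (g : GL (Fin a × Fin b) F) :
    tpΦ e P g ∈ specialLinear (Fin n) F ↔ g ∈ specialLinear (Fin a × Fin b) F := by
  rw [Cfsg.Agent.Lib.H28.mem_specialLinear_iff, Cfsg.Agent.Lib.H28.mem_specialLinear_iff,
    tpΦ_det]

theorem tpΦ_mem_tensor {n : ℕ} (e : Fin n ≃ Fin a × Fin b) (P : GL (Fin n) F)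
    (g : GL (Fin a × Fin b) F) :
    tpΦ e P g ∈ tensorProductSubgroup a b e P ↔ g ∈ kroneckerSubgroup a b F := by
  unfold tensorProductSubgroup
  constructor
  · rintro ⟨k', ⟨k, hk, rfl⟩, hk'⟩
    have h2 : (glReindex e.symm).toMonoidHom k = glReindex e.symm g :=
      (MulAut.conj P).injective hk'
    have h3 : k = g := (glReindex e.symm).injective h2
    rw [← h3]; exact hk
  · intro hg
    exact ⟨glReindex e.symm g, ⟨g, hg, rfl⟩, rfl⟩

/-- **T7.** -/
theorem maximal_of_dichotomy {n : ℕ} (ha : 2 ≤ a) (hb : 2 ≤ b) (e : Fin n ≃ Fin a × Fin b) (P : GL (Fin n) F)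
    (hdich : ∀ X : Subgroup (GL (Fin a × Fin b) F), H0 a b F ≤ X →
      X ≤ specialLinear (Fin a × Fin b) F →
      X ≤ kroneckerSubgroup a b F ∨ specialLinear (Fin a × Fin b) F ≤ X) :
    IsMaximalIn (specialLinear (Fin n) F)
      (tensorProductSubgroup a b e P ⊓ specialLinear (Fin n) F) := by
  refine ⟨lt_of_le_of_ne inf_le_right ?_, fun M hHM hMK => ?_⟩
  · intro heq
    apply Cfsg.Agent.Lib.H20.AschP2.not_sl_le_tensorProductSubgroup a b e P ha hb
    rw [← heq]
    exact inf_le_left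
  · set Φ := tpΦ (F := F) e P with hΦ
    set X : Subgroup (GL (Fin a × Fin b) F) := M.comap Φ.toMonoidHom with hX
    have hmemX : ∀ g, g ∈ X ↔ Φ g ∈ M := fun g => Iff.rfl
    have h1 : H0 a b F ≤ X := by
      intro g hg
      rw [hmemX]
      apply hHM
      exact Subgroup.mem_inf.mpr ⟨(tpΦ_mem_tensor e P g).2 hg.1, (tpΦ_mem_sl e P g).2 hg.2⟩
    have h2 : X ≤ specialLinear (Fin a × Fin b) F := by
      intro g hg
      exact (tpΦ_mem_sl e P g).1 (hMK ((hmemX g).1 hg))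
    rcases hdich X h1 h2 with h3 | h3
    · left
      apply le_antisymm _ hHM
      intro m hm
      obtain ⟨g, rfl⟩ := Φ.surjective m
      have hgX : g ∈ X := (hmemX g).2 hm
      exact Subgroup.mem_inf.mpr ⟨(tpΦ_mem_tensor e P g).2 (h3 hgX), hMK hm⟩
    · right
      apply le_antisymm hMK
      intro m hm
      obtain ⟨g, rfl⟩ := Φ.surjective m
      have hg : g ∈ specialLinear (Fin a × Fin b) F := (tpΦ_mem_sl e P g).1 hm
      exact (hmemX g).1 (h3 hg)

end Cfsg.Agent.Lib.H20.Tp
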