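import Mathlib
import Cfsg.Agent.Lib.H20.PByCyclic1

set_option autoImplicit false

/-!
# Subgroups with a normal Sylow `p`-subgroup and cyclic quotient: applying a hypothesis on them
-/

namespace Cfsg.Agent.Lib.H20.TBC

open Cfsg.Agent.Lib.H20.PBC

variable {G : Type*} [Group G] [Finite G] {p : ℕ} [hp : Fact p.Prime]

/-- Applying a hypothesis on all `p`-closed subgroups with cyclic quotient to `H = S ⟨w⟩`. -/
theorem apply_gen (C : Subgroup G → Prop)
    (h : ∀ H : Subgroup G, (∀ S : Sylow p ↥H, (S : Subgroup ↥H).Normal) →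
      (∀ (S : Sylow p ↥H) [(S : Subgroup ↥H).Normal], IsCyclic (↥H ⧸ (S : Subgroup ↥H))) → C H)
    (H S : Subgroup G) (hSH : S ≤ H) (hS : IsPGroup p S)
    (hn : H ≤ Subgroup.normalizer (S : Set G)) (w : G) (hw : (orderOf w).Coprime p)
    (hgen : H = S ⊔ Subgroup.zpowers w) : C H := by
  haveI hnorm : (S.subgroupOf H).Normal :=
    (Subgroup.normal_subgroupOf_iff_le_normalizer hSH).mpr hn
  obtain ⟨hcyc, hidx⟩ := quotient_cyclic H S hSH w hw hgen
  have hS' : IsPGroup p (S.subgroupOf H) :=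
    hS.of_equiv (Subgroup.subgroupOfEquivOfLe hSH).symm
  let T₀ : Sylow p ↥H := hS'.toSylow hidx
  have hT₀ : (T₀ : Subgroup ↥H) = S.subgroupOf H := IsPGroup.toSylow_coe hS' hidx
  have hT₀n : (T₀ : Subgroup ↥H).Normal := by rw [hT₀]; exact hnorm
  haveI : Unique (Sylow p ↥H) := Sylow.unique_of_normal T₀ hT₀n
  have huniq : ∀ T : Sylow p ↥H, T = T₀ := fun T => Subsingleton.elim _ _
  apply h H
  · intro T
    rw [huniq T]; exact hT₀n
  · intro T hTn
    obtain rfl : T = T₀ := huniq T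
    have e : ↥H ⧸ (T₀ : Subgroup ↥H) ≃* ↥H ⧸ S.subgroupOf H :=
      QuotientGroup.quotientMulEquivOfEq hT₀
    exact isCyclic_of_surjective e.symm.toMonoidHom e.symm.surjective

/-- Applying the hypothesis to a `p`-subgroup. -/
theorem apply_pgroup (C : Subgroup G → Prop)
    (h : ∀ H : Subgroup G, (∀ S : Sylow p ↥H, (S : Subgroup ↥H).Normal) →
      (∀ (S : Sylow p ↥H) [(S : Subgroup ↥H).Normal], IsCyclic (↥H ⧸ (S : Subgroup ↥H))) → C H)
    (H : Subgroup G) (hH : IsPGroup p H) : C H :=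
  apply_gen C h H H le_rfl hH Subgroup.le_normalizer 1
    (by rw [orderOf_one]; exact Nat.coprime_one_left p)
    (by rw [Subgroup.zpowers_one_eq_bot, sup_bot_eq])

end Cfsg.Agent.Lib.H20.TBC
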