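import Mathlib
import Cfsg.Agent.Lib.H20.TwoByCyclic1
import Cfsg.Agent.Lib.H20.PByCyclic2
import Cfsg.Agent.Lib.H5.AutOdd

set_option autoImplicit false

/-!
# Restricted `2`-by-cyclic subgroups: the forward direction
-/

namespace Cfsg.Agent.Lib.H20.TBC

open Cfsg.Agent.Lib.H20.PBC

/-- The hypothesis "restricted `2`-by-cyclic subgroups". -/
def RTC (G : Type*) [Group G] : Prop :=
  ∀ H : Subgroup G, (∀ S : Sylow 2 ↥H, (S : Subgroup ↥H).Normal) →
    (∀ (S : Sylow 2 ↥H) [(S : Subgroup ↥H).Normal], IsCyclic (↥H ⧸ (S : Subgroup ↥H))) →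
    IsCyclic H ∨ (∃ n : ℕ, Nonempty (H ≃* DihedralGroup (2 ^ n))) ∨
      Nonempty (H ≃* alternatingGroup (Fin 4))

variable {G : Type*} [Group G]

/-- A `2`-group is not isomorphic to `A₄`. -/
theorem not_equiv_alt_of_isPGroup [Finite G] (H : Subgroup G) (hH : IsPGroup 2 H) :
    ¬ Nonempty (H ≃* alternatingGroup (Fin 4)) := by
  rintro ⟨e⟩
  haveI : Fact (Nat.Prime 2) := ⟨Nat.prime_two⟩
  obtain ⟨k, hk⟩ := IsPGroup.iff_card.mp hH
  have h12 : Nat.card H = 12 := by
    rw [Nat.card_congr e.toEquiv]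
    exact alternatingGroup.card_of_card_eq_four (by simp)
  rw [h12] at hk
  have h3 : 3 ∣ 2 ^ k := by rw [← hk]; norm_num
  have := Nat.Prime.dvd_of_dvd_pow Nat.prime_three h3
  omega

/-- A commutative group is not isomorphic to `A₄`. -/
theorem not_equiv_alt_of_comm (H : Subgroup G) (hH : ∀ a ∈ H, ∀ b ∈ H, a * b = b * a) :
    ¬ Nonempty (H ≃* alternatingGroup (Fin 4)) := by
  rintro ⟨e⟩
  have hc : IsMulCommutative (alternatingGroup (Fin 4)) := by
    refine ⟨⟨fun a b => ?_⟩⟩
    have h1 : e.symm a * e.symm b = e.symm b * e.symm a := by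
      apply Subtype.ext
      exact hH _ (e.symm a).2 _ (e.symm b).2
    have := congrArg e h1
    simpa using this
  rw [alternatingGroup.isMulCommutative_iff_card_le_three] at hc
  simp at hc

/-- A commutative group isomorphic to a dihedral group has order at most four. -/
theorem card_le_four_of_dihedral_comm (H : Subgroup G) (hH : ∀ a ∈ H, ∀ b ∈ H, a * b = b * a)
    (m : ℕ) [NeZero m] (e : H ≃* DihedralGroup m) : Nat.card H ≤ 4 := by
  have h1 : e.symm (DihedralGroup.r 1) * e.symm (DihedralGroup.sr 0) =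
      e.symm (DihedralGroup.sr 0) * e.symm (DihedralGroup.r 1) := by
    apply Subtype.ext
    exact hH _ (e.symm _).2 _ (e.symm _).2
  have h2 := congrArg e h1
  simp only [map_mul, MulEquiv.apply_symm_apply, DihedralGroup.r_mul_sr,
    DihedralGroup.sr_mul_r] at h2
  have h3 : (0 : ZMod m) - 1 = 0 + 1 := by
    injection h2
  have h4 : ((2 : ℕ) : ZMod m) = 0 := by
    have : (2 : ZMod m) = (0 + 1) - (0 - 1) := by ring
    rw [← h3] at this
    rw [Nat.cast_ofNat, this]; ring
  have h5 : m ∣ 2 := (ZMod.natCast_eq_zero_iff 2 m).mp h4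
  have h6 : m ≤ 2 := Nat.le_of_dvd (by norm_num) h5
  rw [Nat.card_congr e.toEquiv, DihedralGroup.nat_card]
  omega

/-- A group of order four and exponent two is not cyclic. -/
theorem not_isCyclic_of_klein (K : Subgroup G) (hK4 : Nat.card K = 4)
    (hK2 : ∀ k ∈ K, k ^ 2 = 1) : ¬ IsCyclic K := by
  intro hc
  obtain ⟨g, hg⟩ := hc.exists_generator
  have h1 : orderOf g = 4 := by
    rw [orderOf_eq_card_of_forall_mem_zpowers hg, hK4]
  have h2 : g ^ 2 = 1 := by
    apply Subtype.ext
    simpa using hK2 g g.2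
  have h3 := orderOf_dvd_of_pow_eq_one h2
  rw [h1] at h3
  omega

/-- A group of exponent two is commutative. -/
theorem comm_of_klein (K : Subgroup G) (hK2 : ∀ k ∈ K, k ^ 2 = 1) :
    ∀ a ∈ K, ∀ b ∈ K, a * b = b * a := by
  intro a ha b hb
  have h1 := hK2 a ha
  have h2 := hK2 b hb
  have h3 := hK2 (a * b) (K.mul_mem ha hb)
  have ha' : a⁻¹ = a := by
    rw [inv_eq_iff_mul_eq_one, ← pow_two]; exact h1
  have hb' : b⁻¹ = b := by
    rw [inv_eq_iff_mul_eq_one, ← pow_two]; exact h2
  have hab' : (a * b)⁻¹ = a * b := by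
    rw [inv_eq_iff_mul_eq_one, ← pow_two]; exact h3
  calc a * b = (a * b)⁻¹ := hab'.symm
    _ = b⁻¹ * a⁻¹ := mul_inv_rev a b
    _ = b * a := by rw [ha', hb']

/-- `K ⟨c⟩` is commutative when `K` is and `c` centralizes `K`. -/
theorem comm_sup_zpowers (K : Subgroup G) (c : G) (hK : ∀ a ∈ K, ∀ b ∈ K, a * b = b * a)
    (hc : ∀ a ∈ K, c * a = a * c) :
    ∀ x ∈ K ⊔ Subgroup.zpowers c, ∀ y ∈ K ⊔ Subgroup.zpowers c, x * y = y * x := by
  have key : ∀ x : G, (∀ a ∈ K, x * a = a * x) → x * c = c * x →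
      ∀ y ∈ K ⊔ Subgroup.zpowers c, x * y = y * x := by
    intro x hxK hxc y hy
    have h1 : K ⊔ Subgroup.zpowers c ≤ Subgroup.centralizer {x} := by
      apply sup_le
      · intro a ha
        rw [Subgroup.mem_centralizer_singleton_iff]
        exact (hxK a ha).symm
      · rw [Subgroup.zpowers_le, Subgroup.mem_centralizer_singleton_iff]
        exact hxc.symm
    have := h1 hy
    rw [Subgroup.mem_centralizer_singleton_iff] at this
    exact this.symm
  intro x hx y hy
  apply key x _ _ y hy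
  · intro a ha
    exact (key a (fun b hb => hK a ha b hb) (hc a ha).symm x hx).symm
  · exact (key c hc rfl x hx).symm

variable [Finite G]

/-- Forward direction, first part: the Sylow `2`-subgroup is cyclic or dihedral. -/
theorem RTC.sylow (h : RTC G) (P : Sylow 2 G) :
    IsCyclic (P : Subgroup G) ∨
      ∃ n : ℕ, 1 ≤ n ∧ Nonempty ((P : Subgroup G) ≃* DihedralGroup (2 ^ n)) := by
  haveI : Fact (Nat.Prime 2) := ⟨Nat.prime_two⟩
  have h1 := apply_pgroup (p := 2) (fun H : Subgroup G => IsCyclic H ∨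
    (∃ n : ℕ, Nonempty (H ≃* DihedralGroup (2 ^ n))) ∨
      Nonempty (H ≃* alternatingGroup (Fin 4))) h (P : Subgroup G) P.isPGroup'
  rcases h1 with h1 | ⟨n, ⟨e⟩⟩ | h1
  · exact Or.inl h1
  · rcases Nat.eq_zero_or_pos n with hn | hn
    · left
      subst hn
      have hc : Nat.card (P : Subgroup G) = 2 := by
        rw [Nat.card_congr e.toEquiv, DihedralGroup.nat_card]; norm_num
      exact isCyclic_of_prime_card hc
    · exact Or.inr ⟨n, hn, ⟨e⟩⟩
  · exact absurd h1 (not_equiv_alt_of_isPGroup _ P.isPGroup')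

/-- Forward direction, second part: four-groups are self-centralizing. -/
theorem RTC.klein (h : RTC G) (K : Subgroup G) (hK4 : Nat.card K = 4)
    (hK2 : ∀ k ∈ K, k ^ 2 = 1) : Subgroup.centralizer (K : Set G) = K := by
  haveI : Fact (Nat.Prime 2) := ⟨Nat.prime_two⟩
  have hKcomm := comm_of_klein K hK2
  have hKp : IsPGroup 2 K := IsPGroup.of_card (n := 2) (by rw [hK4]; norm_num)
  have hKC : K ≤ Subgroup.centralizer (K : Set G) := by
    intro a ha
    rw [Subgroup.mem_centralizer_iff]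
    intro b hb
    exact hKcomm b hb a ha
  -- Step A : elements of odd order in the centralizer are trivial
  have stepA : ∀ w ∈ Subgroup.centralizer (K : Set G), (orderOf w).Coprime 2 → w = 1 := by
    intro w hw hodd
    have hwK : ∀ a ∈ K, w * a = a * w := fun a ha =>
      ((Subgroup.mem_centralizer_iff.mp hw) a ha).symm
    set H : Subgroup G := K ⊔ Subgroup.zpowers w with hH
    have hcomm := comm_sup_zpowers K w hKcomm hwK
    have hn : H ≤ Subgroup.normalizer (K : Set G) := by
      apply sup_le Subgroup.le_normalizer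
      rw [Subgroup.zpowers_le]
      exact Subgroup.centralizer_le_normalizer _ hw
    have h1 := apply_gen (p := 2) (fun H : Subgroup G => IsCyclic H ∨
      (∃ n : ℕ, Nonempty (H ≃* DihedralGroup (2 ^ n))) ∨
        Nonempty (H ≃* alternatingGroup (Fin 4))) h H K le_sup_left hKp hn w hodd rfl
    rcases h1 with h1 | ⟨n, ⟨e⟩⟩ | h1
    · exact absurd (isCyclic_of_le h1 le_sup_left) (not_isCyclic_of_klein K hK4 hK2)
    · have hHp : IsPGroup 2 H := IsPGroup.of_card (n := n + 1) (by
        rw [Nat.card_congr e.toEquiv, DihedralGroup.nat_card, pow_succ]; ring)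
      have hwH : w ∈ H := (le_sup_right : Subgroup.zpowers w ≤ H) (Subgroup.mem_zpowers w)
      obtain ⟨k, hk⟩ := hHp ⟨w, hwH⟩
      have hk' : w ^ 2 ^ k = 1 := by
        have := congrArg Subtype.val hk
        simpa using this
      have h2 : orderOf w ∣ 2 ^ k := orderOf_dvd_of_pow_eq_one hk'
      have h3 : orderOf w = 1 :=
        Nat.eq_one_of_dvd_coprimes (hodd.pow_right k) dvd_rfl h2
      exact orderOf_eq_one_iff.mp h3
    · exact absurd h1 (not_equiv_alt_of_comm H hcomm)
  -- Step B : the centralizer is a `2`-group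
  have stepB : IsPGroup 2 (Subgroup.centralizer (K : Set G)) := by
    apply Cfsg.Agent.Lib.H5.AutOdd.isPGroup_two_of_odd_trivial
    rintro ⟨w, hw⟩ hodd
    apply Subtype.ext
    apply stepA w hw
    rw [Subgroup.orderOf_mk] at hodd
    exact Nat.coprime_two_right.mpr hodd
  -- Step C
  apply le_antisymm _ hKC
  intro c hc
  have hcK : ∀ a ∈ K, c * a = a * c := fun a ha =>
    ((Subgroup.mem_centralizer_iff.mp hc) a ha).symm
  set H : Subgroup G := K ⊔ Subgroup.zpowers c with hH
  have hcomm := comm_sup_zpowers K c hKcomm hcK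
  have hHC : H ≤ Subgroup.centralizer (K : Set G) := by
    apply sup_le hKC
    rw [Subgroup.zpowers_le]; exact hc
  have hHp : IsPGroup 2 H := stepB.to_le hHC
  have hcH : c ∈ H := (le_sup_right : Subgroup.zpowers c ≤ H) (Subgroup.mem_zpowers c)
  have h1 := apply_pgroup (p := 2) (fun H : Subgroup G => IsCyclic H ∨
    (∃ n : ℕ, Nonempty (H ≃* DihedralGroup (2 ^ n))) ∨
      Nonempty (H ≃* alternatingGroup (Fin 4))) h H hHp
  rcases h1 with h1 | ⟨n, ⟨e⟩⟩ | h1
  · exact absurd (isCyclic_of_le h1 le_sup_left) (not_isCyclic_of_klein K hK4 hK2)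
  · have h4 := card_le_four_of_dihedral_comm H hcomm (2 ^ n) e
    have hKH : K = H := Subgroup.eq_of_le_of_card_ge le_sup_left (by rw [hK4]; exact h4)
    rw [hKH]; exact hcH
  · exact absurd h1 (not_equiv_alt_of_comm H hcomm)

end Cfsg.Agent.Lib.H20.TBC
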