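import Mathlib
import Cfsg.Agent.Lib.H5.KleinCount

set_option autoImplicit false

/-!
# Dihedral-like `2`-subgroups
-/

namespace Cfsg.Agent.Lib.H20.TBC

open Cfsg.Agent.Lib.H5.KleinCount

variable {K : Type*} [Group K]

/-- Dihedral-like data: a cyclic subgroup `R₀` of `T` such that all elements of `T` outside `R₀`
are involutions lying in one coset. -/
structure DLData (T R₀ : Subgroup K) : Prop where
  le : R₀ ≤ T
  cyc : IsCyclic R₀
  sq : ∀ a ∈ T, a ∉ R₀ → a * a = 1
  coset : ∀ a ∈ T, ∀ b ∈ T, a ∉ R₀ → b ∉ R₀ → a * b⁻¹ ∈ R₀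

namespace DLData

variable {T R₀ : Subgroup K}

theorem mul_not_mem (_h : DLData T R₀) {s : K} (hsR : s ∉ R₀) {c : K} (hc : c ∈ R₀) :
    s * c ∉ R₀ := by
  intro h1
  apply hsR
  have : s = (s * c) * c⁻¹ := by group
  rw [this]
  exact R₀.mul_mem h1 (R₀.inv_mem hc)

theorem inverts (h : DLData T R₀) {s : K} (hs : s ∈ T) (hsR : s ∉ R₀) :
    ∀ c ∈ R₀, s * c * s⁻¹ = c⁻¹ := by
  intro c hc
  have h1 : (s * c) * (s * c) = 1 :=
    h.sq (s * c) (T.mul_mem hs (h.le hc)) (h.mul_not_mem hsR hc)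
  have h2 : s * s = 1 := h.sq s hs hsR
  have h3 : s⁻¹ = s := by rw [inv_eq_iff_mul_eq_one]; exact h2
  rw [h3]
  calc s * c * s = (s * c) * (s * c) * c⁻¹ := by group
    _ = c⁻¹ := by rw [h1, one_mul]

theorem card [Finite K] (h : DLData T R₀) {s : K} (hs : s ∈ T) (hsR : s ∉ R₀) :
    Nat.card T = 2 * Nat.card R₀ := by
  have hset : (T : Set K) = (R₀ : Set K) ∪ (fun x => x * s) '' (R₀ : Set K) := by
    ext x
    constructor
    · intro hx
      by_cases hxR : x ∈ R₀
      · exact Or.inl hxR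
      · right
        refine ⟨x * s⁻¹, h.coset x hx s hs hxR hsR, ?_⟩
        change x * s⁻¹ * s = x
        group
    · rintro (hx | ⟨c, hc, rfl⟩)
      · exact h.le hx
      · exact T.mul_mem (h.le hc) hs
  have hdisj : Disjoint (R₀ : Set K) ((fun x => x * s) '' (R₀ : Set K)) := by
    rw [Set.disjoint_left]
    rintro x hx ⟨c, hc, hcx⟩
    apply hsR
    have : s = c⁻¹ * x := by rw [← hcx]; group
    rw [this]
    exact R₀.mul_mem (R₀.inv_mem hc) hx
  have h1 : Nat.card T = (T : Set K).ncard := (_root_.Nat.card_coe_set_eq _)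
  have h2 : Nat.card R₀ = (R₀ : Set K).ncard := (_root_.Nat.card_coe_set_eq _)
  rw [h1, hset, Set.ncard_union_eq hdisj (Set.toFinite _) (Set.toFinite _),
    Set.ncard_image_of_injective _ (mul_left_injective s), ← h2]
  ring

/-- A noncyclic dihedral-like `2`-group contains a four-group. -/
theorem exists_klein [Finite K] (h : DLData T R₀) (hT : IsPGroup 2 T) (hnc : ¬ IsCyclic T) :
    ∃ (s : K) (V : Subgroup K), s ∈ T ∧ s ∉ R₀ ∧ V ≤ T ∧ Nat.card V = 4 ∧ ∀ v ∈ V, v ^ 2 = 1 := by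
  haveI : Fact (Nat.Prime 2) := ⟨Nat.prime_two⟩
  have hne : R₀ ≠ T := by
    rintro rfl
    exact hnc h.cyc
  obtain ⟨s, hs, hsR⟩ := SetLike.exists_of_lt (lt_of_le_of_ne h.le hne)
  have hcard := h.card hs hsR
  have hR2 : IsPGroup 2 R₀ := hT.to_le h.le
  obtain ⟨k, hk⟩ := IsPGroup.iff_card.mp hR2
  have hk0 : k ≠ 0 := by
    rintro rfl
    apply hnc
    rw [hk] at hcard
    exact isCyclic_of_prime_card (p := 2) (by rw [hcard]; norm_num)
  have h2 : 2 ∣ Nat.card R₀ := by rw [hk]; exact dvd_pow_self 2 hk0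
  obtain ⟨z', hz'⟩ := exists_prime_orderOf_dvd_card' (G := ↥R₀) 2 h2
  obtain ⟨z, hzR⟩ := z'
  have hzo : orderOf z = 2 := by rw [← hz']; exact (Subgroup.orderOf_mk z hzR).symm
  have hzz : z * z = 1 := by rw [← pow_two, ← hzo]; exact pow_orderOf_eq_one z
  have hz1 : z ≠ 1 := by
    rintro rfl
    rw [orderOf_one] at hzo; omega
  have hss : s * s = 1 := h.sq s hs hsR
  have hs1 : s ≠ 1 := by
    rintro rfl
    exact hsR R₀.one_mem
  have hzinv : z⁻¹ = z := by rw [inv_eq_iff_mul_eq_one]; exact hzz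
  have hcomm : z * s = s * z := by
    have h1 := h.inverts hs hsR z hzR
    rw [hzinv] at h1
    calc z * s = (s * z * s⁻¹) * s := by rw [h1]
      _ = s * z := by group
  have hsz : s ≠ z := by
    rintro rfl
    exact hsR hzR
  refine ⟨s, kleinSub z s hcomm hzz hss, hs, hsR, ?_, card_kleinSub hcomm hzz hss hz1 hs1 hsz, ?_⟩
  · intro x hx
    rcases (mem_kleinSub hcomm hzz hss x).mp hx with rfl | rfl | rfl | rfl
    · exact T.one_mem
    · exact h.le hzR
    · exact hs
    · exact T.mul_mem (h.le hzR) hs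
  · intro x hx
    rw [pow_two]
    rcases (mem_kleinSub hcomm hzz hss x).mp hx with rfl | rfl | rfl | rfl
    · simp
    · exact hzz
    · exact hss
    · calc z * s * (z * s) = z * (s * z) * s := by group
        _ = z * (z * s) * s := by rw [hcomm]
        _ = (z * z) * (s * s) := by group
        _ = 1 := by rw [hzz, hss, one_mul]

end DLData

end Cfsg.Agent.Lib.H20.TBC
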