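import Mathlib
import Cfsg.Agent.Lib.H20.TwoByCyclic2
import Cfsg.Agent.Lib.H20.TwoByCyclic3
import Cfsg.Agent.Lib.H20.PByCyclic6
import Cfsg.Agent.Lib.H20.PByCyclic2
import Cfsg.Agent.Lib.L0.DihedralSylow
import Cfsg.Agent.Lib.H5.AutOdd
import Cfsg.Agent.Lib.H5.OmegaAction
import Cfsg.Agent.Lib.H5.SmallRecog

set_option autoImplicit false

/-!
# Groups with a normal dihedral-like Sylow `2`-subgroup and self-centralizing four-groups
-/

namespace Cfsg.Agent.Lib.H20.TBC

variable {K : Type*} [Group K] [Finite K]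

/-- The Klein condition: four-groups are self-centralizing. -/
def KC (K : Type*) [Group K] : Prop :=
  ∀ V : Subgroup K, Nat.card V = 4 → (∀ v ∈ V, v ^ 2 = 1) →
    ∀ c : K, (∀ v ∈ V, c * v = v * c) → c ∈ V

/-- `p`-elements lie in a normal Sylow `p`-subgroup. -/
theorem mem_of_normal_sylow {p : ℕ} [Fact p.Prime] (T : Sylow p K)
    [hTn : (T : Subgroup K).Normal] {u : K} {e : ℕ} (hu : orderOf u = p ^ e) :
    u ∈ (T : Subgroup K) := by
  have h1 : IsPGroup p (Subgroup.zpowers u) :=
    IsPGroup.of_card (n := e) (by rw [Nat.card_zpowers, hu])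
  obtain ⟨Q, hQ⟩ := h1.exists_le_sylow
  haveI : Unique (Sylow p K) := Sylow.unique_of_normal T hTn
  have : Q = T := Subsingleton.elim _ _
  rw [← this]; exact hQ (Subgroup.mem_zpowers u)

theorem cyclic_case (T : Sylow 2 K) [hTn : (T : Subgroup K).Normal]
    (hTcyc : IsCyclic (T : Subgroup K)) (hquot : IsCyclic (K ⧸ (T : Subgroup K))) :
    IsCyclic K := by
  haveI : Fact (Nat.Prime 2) := ⟨Nat.prime_two⟩
  have hcentral : (T : Subgroup K) ≤ Subgroup.center K := by
    intro t ht
    rw [Subgroup.mem_center_iff]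
    intro h
    obtain ⟨u, w, e, -, -, huw, huo, hwo⟩ := PBC.exists_p_decomp 2 h
    have huT : u ∈ (T : Subgroup K) := mem_of_normal_sylow T huo
    have hwC : w ∈ Subgroup.centralizer ((T : Subgroup K) : Set K) :=
      Cfsg.Agent.Lib.L0.mem_centralizer_of_cyclic_two_group (T : Subgroup K) hTcyc T.isPGroup'
        (by rw [Subgroup.normalizer_eq_top]; exact Subgroup.mem_top w) hwo
    have h1 : u * t = t * u := (PBC.commute_of_isCyclic hTcyc huT ht).eq
    have h2 : w * t = t * w := ((Subgroup.mem_centralizer_iff.mp hwC) t ht).symm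
    rw [← huw]
    calc u * w * t = u * (w * t) := by group
      _ = u * (t * w) := by rw [h2]
      _ = (u * t) * w := by group
      _ = t * u * w := by rw [h1]
      _ = t * (u * w) := by group
  have hcomm : IsMulCommutative K :=
    (QuotientGroup.mk' (T : Subgroup K)).isMulCommutative_of_isCyclic_of_ker_le_center
      (by rw [QuotientGroup.ker_mk']; exact hcentral)
  exact PBC.isCyclic_of_comm_of_sylow T hTcyc hquot hcomm

theorem big_case (T : Sylow 2 K) [hTn : (T : Subgroup K).Normal] {R₀ : Subgroup K}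
    (hDL : DLData (T : Subgroup K) R₀) (hKC : KC K) (hnc : ¬ IsCyclic (T : Subgroup K))
    (hnk : ¬ IsKleinFour (T : Subgroup K)) :
    ∃ n : ℕ, Nonempty (K ≃* DihedralGroup (2 ^ n)) := by
  haveI : Fact (Nat.Prime 2) := ⟨Nat.prime_two⟩
  obtain ⟨s, V, hs, hsR, hVT, hV4, hV2⟩ := hDL.exists_klein T.isPGroup' hnc
  have hodd : ∀ g : K, (orderOf g).Coprime 2 → g = 1 := by
    intro g hg
    have hgC : g ∈ Subgroup.centralizer ((T : Subgroup K) : Set K) :=
      Cfsg.Agent.Lib.L0.mem_centralizer_of_dihedralLike (T : Subgroup K) R₀ T.isPGroup' hDL.cyc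
        hDL.sq hDL.coset (T : Subgroup K) le_rfl g
        (by rw [Subgroup.normalizer_eq_top]; exact Subgroup.mem_top g) hg
        (fun hk => absurd hk hnk)
    have hgV : g ∈ V := hKC V hV4 hV2 g
      (fun v hv => ((Subgroup.mem_centralizer_iff.mp hgC) v (hVT hv)).symm)
    have hgT := hVT hgV
    obtain ⟨k, hk⟩ := T.isPGroup' ⟨g, hgT⟩
    have hk' : g ^ 2 ^ k = 1 := by
      have := congrArg Subtype.val hk
      simpa using this
    have h2 : orderOf g ∣ 2 ^ k := orderOf_dvd_of_pow_eq_one hk'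
    have h3 : orderOf g = 1 := Nat.eq_one_of_dvd_coprimes (hg.pow_right k) dvd_rfl h2
    exact orderOf_eq_one_iff.mp h3
  have hK2 : IsPGroup 2 K := Cfsg.Agent.Lib.H5.AutOdd.isPGroup_two_of_odd_trivial
    (fun σ hσ => hodd σ (Nat.coprime_two_right.mpr hσ))
  have hTtop : (T : Subgroup K) = ⊤ := by
    rw [eq_top_iff]
    intro u _
    obtain ⟨k, hk⟩ := hK2 u
    obtain ⟨j, -, hj⟩ := (Nat.dvd_prime_pow Nat.prime_two).mp (orderOf_dvd_of_pow_eq_one hk)
    exact mem_of_normal_sylow T hj
  have hcard : Nat.card K = 2 * Nat.card R₀ := by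
    rw [← hDL.card hs hsR, hTtop, Subgroup.card_top]
  haveI := hDL.cyc
  obtain ⟨e⟩ := PBC.dihedral_of_index_two' R₀ s hsR (hDL.sq s hs hsR) (hDL.inverts hs hsR) hcard
  obtain ⟨k, hk⟩ := IsPGroup.iff_card.mp (T.isPGroup'.to_le hDL.le)
  refine ⟨k, ⟨?_⟩⟩
  rw [← hk]; exact e

theorem klein_case (T : Sylow 2 K) [hTn : (T : Subgroup K).Normal] (hKC : KC K)
    (hk : IsKleinFour (T : Subgroup K)) :
    (∃ n : ℕ, Nonempty (K ≃* DihedralGroup (2 ^ n))) ∨
      Nonempty (K ≃* alternatingGroup (Fin 4)) := by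
  haveI : Fact (Nat.Prime 2) := ⟨Nat.prime_two⟩
  haveI : Fact (Nat.Prime 3) := ⟨Nat.prime_three⟩
  have hT4 : Nat.card (T : Subgroup K) = 4 := hk.card_four
  have hT2 : ∀ v ∈ (T : Subgroup K), v ^ 2 = 1 := by
    intro v hv
    have := Monoid.pow_exponent_eq_one (⟨v, hv⟩ : (T : Subgroup K))
    rw [hk.exponent_two] at this
    have := congrArg Subtype.val this
    simpa using this
  have hTcomm := comm_of_klein (T : Subgroup K) hT2
  have hCT : Subgroup.centralizer ((T : Subgroup K) : Set K) = (T : Subgroup K) := by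
    apply le_antisymm
    · intro c hc
      exact hKC _ hT4 hT2 c (fun v hv => ((Subgroup.mem_centralizer_iff.mp hc) v hv).symm)
    · intro a ha
      rw [Subgroup.mem_centralizer_iff]
      intro b hb
      exact hTcomm b hb a ha
  have hdvd : (T : Subgroup K).index ∣ 24 := by
    have := Cfsg.Agent.Lib.H5.R2.relIndex_centralizer_dvd_factorial_of_le (T : Subgroup K) ⊤
      (by rw [Subgroup.normalizer_eq_top])
    rw [hCT, Subgroup.relIndex_top_right, hT4] at this
    exact this
  have hodd : ¬ 2 ∣ (T : Subgroup K).index := T.not_dvd_index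
  have h3 : (T : Subgroup K).index ∣ 3 := by
    have hc : Nat.Coprime (T : Subgroup K).index 8 := by
      have : Nat.Coprime (T : Subgroup K).index 2 :=
        (Nat.coprime_comm.mp ((Nat.Prime.coprime_iff_not_dvd Nat.prime_two).mpr hodd))
      exact this.pow_right 3
    have hdvd' : (T : Subgroup K).index ∣ 8 * 3 := hdvd
    exact hc.dvd_of_dvd_mul_left hdvd'
  rcases (Nat.dvd_prime Nat.prime_three).mp h3 with h1 | h3
  · left
    have hTtop : (T : Subgroup K) = ⊤ := Subgroup.index_eq_one.mp h1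
    haveI := hk
    obtain ⟨e1⟩ := IsKleinFour.nonempty_mulEquiv (G₁ := (T : Subgroup K)) (G₂ := DihedralGroup 2)
    have e0 : K ≃* (T : Subgroup K) :=
      (Subgroup.topEquiv.symm).trans (MulEquiv.subgroupCongr hTtop.symm)
    refine ⟨1, ⟨?_⟩⟩
    rw [pow_one]
    exact e0.trans e1
  · right
    have hK12 : Nat.card K = 12 := by
      rw [← (T : Subgroup K).card_mul_index, hT4, h3]
    let Q : Sylow 3 K := default
    have hQ3 : Nat.card (Q : Subgroup K) = 3 := by
      rw [Sylow.card_eq_multiplicity, hK12, Cfsg.Agent.Lib.H5.SmallRecog.factorization_twelve,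
        pow_one]
    have hQidx : (Q : Subgroup K).index = 4 := by
      have := (Q : Subgroup K).card_mul_index
      rw [hQ3, hK12] at this
      omega
    have hn1 : Nat.card (Sylow 3 K) ≡ 1 [MOD 3] := card_sylow_modEq_one 3 K
    have hn2 : Nat.card (Sylow 3 K) ∣ 4 := by
      rw [← hQidx]; exact Sylow.card_dvd_index Q
    have hn3 : Nat.card (Sylow 3 K) = 1 ∨ Nat.card (Sylow 3 K) = 4 := by
      have hle : Nat.card (Sylow 3 K) ≤ 4 := Nat.le_of_dvd (by norm_num) hn2
      have hpos : 0 < Nat.card (Sylow 3 K) := Nat.pos_of_dvd_of_pos hn2 (by norm_num)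
      unfold Nat.ModEq at hn1
      interval_cases (Nat.card (Sylow 3 K)) <;> simp_all
    have hN := Sylow.card_eq_index_normalizer Q
    rcases hn3 with hn | hn
    · exfalso
      rw [hn] at hN
      have hQn : (Q : Subgroup K).Normal :=
        Subgroup.normalizer_eq_top_iff.mp (Subgroup.index_eq_one.mp hN.symm)
      have hdisj : Disjoint (Q : Subgroup K) (T : Subgroup K) :=
        IsPGroup.disjoint_of_ne 3 2 (by norm_num) _ _ Q.isPGroup' T.isPGroup'
      have hQT : (Q : Subgroup K) ≤ (T : Subgroup K) := by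
        intro q hq
        rw [← hCT, Subgroup.mem_centralizer_iff]
        intro t ht
        exact ((Subgroup.commute_of_normal_of_disjoint _ _ hQn hTn hdisj q t hq ht).eq).symm
      have hQbot : (Q : Subgroup K) = ⊥ := by
        rw [eq_bot_iff]
        intro q hq
        exact hdisj.le_bot ⟨hq, hQT hq⟩
      rw [hQbot, Subgroup.card_bot] at hQ3
      omega
    · rw [hn] at hN
      have hNcard : Nat.card (Subgroup.normalizer ((Q : Subgroup K) : Set K)) = 3 := by
        have := (Subgroup.normalizer ((Q : Subgroup K) : Set K)).card_mul_index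
        have hN' : (Subgroup.normalizer ((Q : Subgroup K) : Set K)).index = 4 := hN.symm
        rw [hN', hK12] at this
        omega
      exact Cfsg.Agent.Lib.H5.SmallRecog.nonempty_mulEquiv_alt_four hK12 (Q : Subgroup K) hQ3 hNcard

/-- The core theorem. -/
theorem core (T : Sylow 2 K) [hTn : (T : Subgroup K).Normal]
    (hquot : IsCyclic (K ⧸ (T : Subgroup K))) {R₀ : Subgroup K}
    (hDL : DLData (T : Subgroup K) R₀) (hKC : KC K) :
    IsCyclic K ∨ (∃ n : ℕ, Nonempty (K ≃* DihedralGroup (2 ^ n))) ∨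
      Nonempty (K ≃* alternatingGroup (Fin 4)) := by
  by_cases hc : IsCyclic (T : Subgroup K)
  · exact Or.inl (cyclic_case T hc hquot)
  · by_cases hk : IsKleinFour (T : Subgroup K)
    · exact Or.inr (klein_case T hKC hk)
    · exact Or.inr (Or.inl (big_case T hDL hKC hc hk))

end Cfsg.Agent.Lib.H20.TBC
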