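import Mathlib
import Cfsg.Agent.Lib.H20.TwoByCyclic4

set_option autoImplicit false

/-!
# Restricted `2`-by-cyclic subgroups: the backward direction and the equivalence
-/

namespace Cfsg.Agent.Lib.H20.TBC

variable {G : Type*} [Group G]

theorem DLData.of_le {Q R₀ S : Subgroup G} (h : DLData Q R₀) (hSQ : S ≤ Q) :
    DLData S (S ⊓ R₀) where
  le := inf_le_left
  cyc := PBC.isCyclic_of_le h.cyc inf_le_right
  sq := fun a ha haR => h.sq a (hSQ ha) (fun h' => haR ⟨ha, h'⟩)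
  coset := fun a ha b hb haR hbR => ⟨S.mul_mem ha (S.inv_mem hb),
    h.coset a (hSQ ha) b (hSQ hb) (fun h' => haR ⟨ha, h'⟩) (fun h' => hbR ⟨hb, h'⟩)⟩

theorem DLData.subgroupOf {S R : Subgroup G} (h : DLData S R) (H : Subgroup G) (hSH : S ≤ H) :
    DLData (S.subgroupOf H) (R.subgroupOf H) where
  le := fun a ha => h.le ha
  cyc := by
    have e := Subgroup.subgroupOfEquivOfLe (h.le.trans hSH)
    haveI := h.cyc
    exact isCyclic_of_surjective e.symm.toMonoidHom e.symm.surjective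
  sq := fun a ha haR => Subtype.ext (h.sq (a : G) ha haR)
  coset := fun a ha b hb haR hbR => h.coset a ha b hb haR hbR

theorem exists_conj_mem_sylow [Finite G] {p : ℕ} [Fact p.Prime] (P : Sylow p G) (Q : Subgroup G)
    (hQ : IsPGroup p Q) : ∃ x : G, ∀ q ∈ Q, x * q * x⁻¹ ∈ (P : Subgroup G) := by
  obtain ⟨P', hQP'⟩ := hQ.exists_le_sylow
  obtain ⟨y, hy⟩ := MulAction.exists_smul_eq G P' P
  refine ⟨y, fun q hq => ?_⟩
  have h1 : q ∈ (P' : Subgroup G) := hQP' hq
  have h2 : y * q * y⁻¹ ∈ ((y • P' : Sylow p G) : Subgroup G) := by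
    rw [Sylow.smul_def, Sylow.pointwise_smul_def]
    exact ⟨q, h1, by simp [MulAut.conj_apply]⟩
  rw [hy] at h2
  exact h2

theorem conj_klein (V : Subgroup G) (x : G) (hV4 : Nat.card V = 4) (hV2 : ∀ v ∈ V, v ^ 2 = 1) :
    Nat.card (V.map (MulAut.conj x).toMonoidHom) = 4 ∧
      ∀ k ∈ V.map (MulAut.conj x).toMonoidHom, k ^ 2 = 1 := by
  constructor
  · rw [Subgroup.card_map_of_injective (MulAut.conj x).injective]; exact hV4
  · rintro _ ⟨v, hv, rfl⟩
    rw [← map_pow, hV2 v hv, map_one]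

theorem kc_of_cond [Finite G] (P : Sylow 2 G)
    (hK : ∀ K : Subgroup G, K ≤ P → Nat.card K = 4 → (∀ k ∈ K, k ^ 2 = 1) →
      Subgroup.centralizer (K : Set G) = K) : KC G := by
  haveI : Fact (Nat.Prime 2) := ⟨Nat.prime_two⟩
  intro V hV4 hV2 c hc
  have hVp : IsPGroup 2 V := IsPGroup.of_card (n := 2) (by rw [hV4]; norm_num)
  obtain ⟨x, hx⟩ := exists_conj_mem_sylow P V hVp
  obtain ⟨hV'4, hV'2⟩ := conj_klein V x hV4 hV2
  have hV'P : V.map (MulAut.conj x).toMonoidHom ≤ P := by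
    rintro _ ⟨v, hv, rfl⟩
    exact hx v hv
  have h1 := hK _ hV'P hV'4 hV'2
  have h2 : x * c * x⁻¹ ∈ Subgroup.centralizer
      ((V.map (MulAut.conj x).toMonoidHom : Subgroup G) : Set G) := by
    rw [Subgroup.mem_centralizer_iff]
    rintro _ ⟨v, hv, rfl⟩
    have h3 := hc v hv
    change x * v * x⁻¹ * (x * c * x⁻¹) = x * c * x⁻¹ * (x * v * x⁻¹)
    calc x * v * x⁻¹ * (x * c * x⁻¹) = x * (v * c) * x⁻¹ := by group
      _ = x * (c * v) * x⁻¹ := by rw [h3]
      _ = x * c * x⁻¹ * (x * v * x⁻¹) := by group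
  rw [h1] at h2
  obtain ⟨v, hv, hvc⟩ := h2
  have hvc' : x * v * x⁻¹ = x * c * x⁻¹ := hvc
  have : v = c := by
    have := congrArg (fun t => x⁻¹ * t * x) hvc'
    simpa [mul_assoc] using this
  rw [← this]; exact hv

theorem kc_of_cyclic [Finite G] (P : Sylow 2 G) (hP : IsCyclic (P : Subgroup G)) : KC G := by
  haveI : Fact (Nat.Prime 2) := ⟨Nat.prime_two⟩
  intro V hV4 hV2 c hc
  exfalso
  have hVp : IsPGroup 2 V := IsPGroup.of_card (n := 2) (by rw [hV4]; norm_num)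
  obtain ⟨x, hx⟩ := exists_conj_mem_sylow P V hVp
  obtain ⟨hV'4, hV'2⟩ := conj_klein V x hV4 hV2
  have hV'P : V.map (MulAut.conj x).toMonoidHom ≤ P := by
    rintro _ ⟨v, hv, rfl⟩
    exact hx v hv
  exact not_isCyclic_of_klein _ hV'4 hV'2 (PBC.isCyclic_of_le hP hV'P)

theorem KC.subgroup (h : KC G) (H : Subgroup G) : KC ↥H := by
  intro V hV4 hV2 c hc
  have h4 : Nat.card (V.map H.subtype) = 4 := by
    rw [Subgroup.card_map_of_injective H.subtype_injective]; exact hV4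
  have h2 : ∀ k ∈ V.map H.subtype, k ^ 2 = 1 := by
    rintro _ ⟨v, hv, rfl⟩
    rw [← map_pow, hV2 v hv, map_one]
  have h3 : (c : G) ∈ V.map H.subtype := by
    apply h _ h4 h2
    rintro _ ⟨v, hv, rfl⟩
    exact congrArg Subtype.val (hc v hv)
  obtain ⟨v, hv, hvc⟩ := h3
  have : v = c := Subtype.ext hvc
  rw [← this]; exact hv

/-- The backward direction. -/
theorem backward [Finite G] (P : Sylow 2 G)
    (h : IsCyclic (P : Subgroup G) ∨
      ((∃ n : ℕ, 1 ≤ n ∧ Nonempty ((P : Subgroup G) ≃* DihedralGroup (2 ^ n))) ∧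
        ∀ K : Subgroup G, K ≤ P → Nat.card K = 4 → (∀ k ∈ K, k ^ 2 = 1) →
          Subgroup.centralizer (K : Set G) = K)) : RTC G := by
  haveI : Fact (Nat.Prime 2) := ⟨Nat.prime_two⟩
  intro H hyp1 hyp2
  let T : Sylow 2 ↥H := default
  haveI hTn : (T : Subgroup ↥H).Normal := hyp1 T
  have hquot : IsCyclic (↥H ⧸ (T : Subgroup ↥H)) := hyp2 T
  set S : Subgroup G := (T : Subgroup ↥H).map H.subtype with hS
  have hSp : IsPGroup 2 S := T.isPGroup'.map H.subtype
  have hSH : S ≤ H := by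
    rintro _ ⟨t, _, rfl⟩
    exact t.2
  have hTS : (T : Subgroup ↥H) = S.subgroupOf H := by
    rw [Subgroup.subgroupOf, hS, Subgroup.comap_map_eq_self_of_injective H.subtype_injective]
  obtain ⟨P', hSP'⟩ := hSp.exists_le_sylow
  have eP : ↥(P' : Subgroup G) ≃* ↥(P : Subgroup G) := Sylow.equiv P' P
  have hKC : KC G := by
    rcases h with hc | ⟨-, hK⟩
    · exact kc_of_cyclic P hc
    · exact kc_of_cond P hK
  have hDLP : ∃ R₀, DLData (P' : Subgroup G) R₀ := by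
    rcases h with hc | ⟨⟨n, hn, ⟨e⟩⟩, -⟩
    · have hc' : IsCyclic (P' : Subgroup G) :=
        isCyclic_of_surjective eP.symm.toMonoidHom eP.symm.surjective
      exact ⟨P', le_rfl, hc', fun a ha haR => absurd ha haR,
        fun a ha b hb haR _ => absurd ha haR⟩
    · haveI : NeZero (2 ^ n) := ⟨by positivity⟩
      obtain ⟨R₀, hR₀P, hcyc, h2, h3, -⟩ :=
        Cfsg.Agent.Lib.L0.exists_dihedral_rotation_subgroup (P' : Subgroup G) (2 ^ n) (eP.trans e)
      exact ⟨R₀, hR₀P, hcyc, h2, h3⟩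
  obtain ⟨R₀, hDL⟩ := hDLP
  have hDL' := (hDL.of_le hSP').subgroupOf H hSH
  rw [← hTS] at hDL'
  rcases core T hquot hDL' (hKC.subgroup H) with h1 | h1 | h1
  · exact Or.inl h1
  · exact Or.inr (Or.inl h1)
  · exact Or.inr (Or.inr h1)

/-- The characterization of groups with restricted `2`-by-cyclic subgroups. -/
theorem rtc_iff [Finite G] (P : Sylow 2 G) :
    RTC G ↔
    (IsCyclic (P : Subgroup G) ∨
      ((∃ n : ℕ, 1 ≤ n ∧ Nonempty ((P : Subgroup G) ≃* DihedralGroup (2 ^ n))) ∧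
        ∀ K : Subgroup G, K ≤ P → Nat.card K = 4 → (∀ k ∈ K, k ^ 2 = 1) →
          Subgroup.centralizer (K : Set G) = K)) := by
  constructor
  · intro h
    rcases h.sylow P with h1 | h1
    · exact Or.inl h1
    · exact Or.inr ⟨h1, fun K _ hK4 hK2 => h.klein K hK4 hK2⟩
  · exact backward P

end Cfsg.Agent.Lib.H20.TBC
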