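import Mathlib
import Cfsg.Agent.Lib.H16.BaerSuzuki

set_option autoImplicit false

namespace Cfsg.Agent.Lib.H20

universe u

/-- If no involution inverts a nontrivial element of odd order, then two involutions generate a
2-group. -/
theorem two_involutions_of_no_inversion {G : Type u} [Group G] [Finite G]
    (hinv : ∀ s w : G, orderOf s = 2 → Odd (orderOf w) → s * w * s⁻¹ = w⁻¹ → w = 1)
    (s t : G) (hs : orderOf s = 2) (ht : orderOf t = 2) :
    IsPGroup 2 (Subgroup.closure ({s, t} : Set G)) := by
  haveI : Fact (Nat.Prime 2) := ⟨Nat.prime_two⟩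
  have hss : s * s = 1 := by rw [← pow_two, ← hs]; exact pow_orderOf_eq_one s
  have htt : t * t = 1 := by rw [← pow_two, ← ht]; exact pow_orderOf_eq_one t
  have hsinv : s⁻¹ = s := inv_eq_of_mul_eq_one_left hss
  have htinv : t⁻¹ = t := inv_eq_of_mul_eq_one_left htt
  set z := s * t with hz
  have hszs : s * z * s⁻¹ = z⁻¹ := by
    rw [hz, hsinv, mul_inv_rev, hsinv, htinv]
    calc s * (s * t) * s = (s * s) * t * s := by group
      _ = t * s := by rw [hss, one_mul]
  obtain ⟨a, m, hm, ham⟩ := Nat.exists_eq_two_pow_mul_odd (orderOf_pos z).ne'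
  set w := z ^ (2 ^ a) with hw
  have hwo : orderOf w = m := by
    rw [hw, orderOf_pow' z (pow_pos (by norm_num : 0 < 2) a).ne', ham,
      Nat.gcd_eq_right (Dvd.intro _ rfl), Nat.mul_div_cancel_left _ (pow_pos (by norm_num) a)]
  have hsws : s * w * s⁻¹ = w⁻¹ := by
    have e1 : s * w * s⁻¹ = MulAut.conj s w := by simp [MulAut.conj_apply]
    have e2 : s * z * s⁻¹ = MulAut.conj s z := by simp [MulAut.conj_apply]
    rw [e1, hw, map_pow, ← e2, hszs, inv_pow]
  have hw1 : w = 1 := hinv s w hs (by rw [hwo]; exact hm) hsws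
  have hzo : orderOf z = 2 ^ a := by
    have : m = 1 := by rw [← hwo, hw1, orderOf_one]
    rw [ham, this, mul_one]
  have hZ : IsPGroup 2 (Subgroup.zpowers z) := by
    apply IsPGroup.of_card (n := a)
    rw [Nat.card_zpowers, hzo]
  have hS : IsPGroup 2 (Subgroup.zpowers s) := by
    apply IsPGroup.of_card (n := 1)
    rw [Nat.card_zpowers, hs, pow_one]
  have hsNz : Subgroup.zpowers s ≤ Subgroup.normalizer ((Subgroup.zpowers z : Subgroup G) : Set G) := by
    apply Subgroup.zpowers_le_of_mem
    apply Subgroup.mem_normalizer_fintype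
    intro n hn
    obtain ⟨k, rfl⟩ := Subgroup.mem_zpowers_iff.mp hn
    have e1 : s * z ^ k * s⁻¹ = MulAut.conj s (z ^ k) := by simp [MulAut.conj_apply]
    have e2 : s * z * s⁻¹ = MulAut.conj s z := by simp [MulAut.conj_apply]
    rw [SetLike.mem_coe, e1, map_zpow, ← e2, hszs]
    exact Subgroup.zpow_mem _ (Subgroup.inv_mem _ (Subgroup.mem_zpowers z)) k
  have hsup : IsPGroup 2 (Subgroup.zpowers z ⊔ Subgroup.zpowers s : Subgroup G) :=
    hZ.to_sup_of_normal_left' hS hsNz
  apply hsup.to_le
  rw [Subgroup.closure_le]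
  intro x hx
  rcases hx with rfl | rfl
  · exact Subgroup.mem_sup_right (Subgroup.mem_zpowers _)
  · have : x = s⁻¹ * z := by rw [hz]; group
    rw [SetLike.mem_coe, this]
    exact Subgroup.mul_mem _ (Subgroup.inv_mem _ (Subgroup.mem_sup_right (Subgroup.mem_zpowers s)))
      (Subgroup.mem_sup_left (Subgroup.mem_zpowers z))

/-- Induction skeleton: a property of finite groups which forbids involutions inverting
nontrivial odd-order elements and passes to quotients by normal 2-subgroups forces the Sylow
2-subgroups to be normal. -/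
theorem sylow_two_normal_of_hereditary (Φ : ∀ (G : Type u) [Group G], Prop)
    (h1 : ∀ (G : Type u) [Group G] [Finite G], Φ G →
      ∀ s w : G, orderOf s = 2 → Odd (orderOf w) → s * w * s⁻¹ = w⁻¹ → w = 1)
    (h2 : ∀ (G : Type u) [Group G] [Finite G] (O : Subgroup G) [O.Normal], IsPGroup 2 O →
      Φ G → Φ (G ⧸ O)) :
    ∀ n : ℕ, ∀ (G : Type u) [Group G] [Finite G], Nat.card G = n → Φ G →
      ∀ P : Sylow 2 G, (P : Subgroup G).Normal := by
  intro n
  induction n using Nat.strong_induction_on with
  | _ n ih =>
    intro G _ _ hn hΦ P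
    haveI : Fact (Nat.Prime 2) := ⟨Nat.prime_two⟩
    by_cases h2G : 2 ∣ Nat.card G
    · let K : Set G := {t | orderOf t = 2}
      have hKconj : ∀ g : G, ∀ x ∈ K, g * x * g⁻¹ ∈ K := by
        intro g x hx
        have e : g * x * g⁻¹ = MulAut.conj g x := by simp [MulAut.conj_apply]
        show orderOf (g * x * g⁻¹) = 2
        rw [e, MulEquiv.orderOf_eq]; exact hx
      have hKp : IsPGroup 2 (Subgroup.closure K) :=
        Cfsg.Agent.Lib.H16.isPGroup_closure_of_pairwise K hKconj
          (fun x hx y hy => two_involutions_of_no_inversion (h1 G hΦ) x y hx hy)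
      haveI hKn : (Subgroup.closure K).Normal :=
        Cfsg.Agent.Lib.H16.closure_normal_of_conj_mem K hKconj
      obtain ⟨t, ht⟩ := exists_prime_orderOf_dvd_card' (G := G) 2 h2G
      have hOne : Subgroup.closure K ≠ ⊥ := by
        intro hbot
        have : t ∈ Subgroup.closure K := Subgroup.subset_closure ht
        rw [hbot, Subgroup.mem_bot] at this
        rw [this, orderOf_one] at ht
        exact absurd ht (by norm_num)
      have hlt : Nat.card (G ⧸ Subgroup.closure K) < n := by
        rw [← hn, ← Subgroup.index_eq_card]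
        have h1' := Subgroup.card_mul_index (Subgroup.closure K)
        have h3 : 1 < Nat.card (Subgroup.closure K) := by
          rw [Subgroup.one_lt_card_iff_ne_bot]; exact hOne
        have hpos : 0 < (Subgroup.closure K).index :=
          Nat.pos_of_ne_zero Subgroup.index_ne_zero_of_finite
        calc (Subgroup.closure K).index = 1 * (Subgroup.closure K).index := (one_mul _).symm
          _ < Nat.card (Subgroup.closure K) * (Subgroup.closure K).index :=
            Nat.mul_lt_mul_of_pos_right h3 hpos
          _ = Nat.card G := h1'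
      have hQ := ih _ hlt (G ⧸ Subgroup.closure K) rfl (h2 G (Subgroup.closure K) hKp hΦ)
      have hle : Subgroup.closure K ≤ (P : Subgroup G) := hKp.le_sylow_of_normal P
      let Pbar : Sylow 2 (G ⧸ Subgroup.closure K) :=
        P.mapSurjective (QuotientGroup.mk'_surjective (Subgroup.closure K))
      have hPbar : (Pbar : Subgroup (G ⧸ Subgroup.closure K)).Normal := hQ Pbar
      have hcomap : (P : Subgroup G) =
          (Pbar : Subgroup (G ⧸ Subgroup.closure K)).comap (QuotientGroup.mk' (Subgroup.closure K)) := by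
        rw [Sylow.coe_mapSurjective, Subgroup.comap_map_eq, QuotientGroup.ker_mk']
        exact (sup_eq_left.mpr hle).symm
      rw [hcomap]
      exact hPbar.comap _
    · have hbot : (P : Subgroup G) = ⊥ := by
        rw [← Subgroup.card_eq_one]
        obtain ⟨k, hk⟩ := P.isPGroup'.exists_card_eq
        rcases Nat.eq_zero_or_pos k with rfl | hkpos
        · rw [hk, pow_zero]
        · exfalso
          apply h2G
          have h1' : 2 ∣ Nat.card (P : Subgroup G) := by
            rw [hk]; exact dvd_pow_self 2 hkpos.ne'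
          exact h1'.trans (Subgroup.card_subgroup_dvd_card _)
      rw [hbot]
      exact Subgroup.normal_bot

end Cfsg.Agent.Lib.H20
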