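import Mathlib
import Cfsg.Agent.Lib.H26.TwoMinDefs
import Cfsg.Agent.Lib.H15.PGroup

set_option autoImplicit false
open scoped commutatorElement

/-!
# S4409 piece N1 (helper20): a proper `H`-invariant subgroup not centralized by `H` is normal in `X`.
-/

namespace Cfsg.Agent.Lib.H20.TwoMin

open Cfsg.Agent.Lib.H26.TwoMin

variable {G : Type*} [Group G]

/-- conjugating a normalizer: if `g` normalizes `Y` then `g` normalizes `N(Y)`. -/
theorem n1_conj_normalizer {Y : Subgroup G} {g : G} (hg : g ∈ Subgroup.normalizer (Y : Set G)) :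
    g ∈ Subgroup.normalizer ((Subgroup.normalizer (Y : Set G) : Subgroup G) : Set G) :=
  Subgroup.le_normalizer hg

/-- the order of an element of an odd-order subgroup is odd. -/
theorem n1_odd_orderOf [Finite G] {H : Subgroup G} (hH : Odd (Nat.card ↥H)) {g : G} (hg : g ∈ H) :
    Odd (orderOf g) := by
  have h1 : orderOf (⟨g, hg⟩ : ↥H) ∣ Nat.card ↥H := orderOf_dvd_natCard _
  have h2 : orderOf (⟨g, hg⟩ : ↥H) = orderOf g := by
    rw [← Subgroup.orderOf_coe]
  rw [h2] at h1
  exact Odd.of_dvd_nat hH h1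

/-- In a `V4Type` subgroup inside a `Q8Type` subgroup: impossible. -/
theorem n1_v4_in_q8_false {Y N : Subgroup G} {z : G} (hV : V4Type Y) (hQ : Q8Type N z) (hYN : Y ≤ N) :
    False := by
  obtain ⟨hc4, hsq⟩ := hV
  obtain ⟨hc8, hzN, hz1, hz2, hQsq⟩ := hQ
  -- Every element of Y is 1 or z
  have hsub : ∀ y ∈ Y, y = 1 ∨ y = z := by
    intro y hy
    by_contra hcon
    push Not at hcon
    have := hQsq y (hYN hy) hcon.1 hcon.2
    rw [hsq y hy] at this
    exact hz1 this.symm
  have hsubset : (Y : Set G) ⊆ {1, z} := fun y hy => by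
    rcases hsub y hy with h | h <;> simp [h]
  have h1 : Nat.card ↥Y = Set.ncard (Y : Set G) := Nat.card_coe_set_eq _
  have h2 : Set.ncard (Y : Set G) ≤ Set.ncard ({1, z} : Set G) :=
    Set.ncard_le_ncard hsubset (Set.toFinite _)
  have h3 : Set.ncard ({1, z} : Set G) ≤ 2 := by
    refine (Set.ncard_insert_le _ _).trans ?_
    simp
  omega

/-- **N1**. -/
theorem normal_of_invariant [Finite G] (L : Layer1 G) {X H Y : Subgroup G} (h : Setup X H) (hYX : Y < X)
    (hHY : H ≤ Subgroup.normalizer (Y : Set G)) (hnc : ¬ H ≤ Subgroup.centralizer (Y : Set G)) :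
    X ≤ Subgroup.normalizer (Y : Set G) := by
  have : Fact (Nat.Prime 2) := ⟨Nat.prime_two⟩
  have := h.normal
  by_contra hXN
  set N : Subgroup G := X ⊓ Subgroup.normalizer (Y : Set G) with hNdef
  have hNX : N ≤ X := inf_le_left
  have hNne : N ≠ X := by
    intro hEq
    apply hXN
    rw [← hEq]
    exact inf_le_right
  have hNltX : N < X := lt_of_le_of_ne hNX hNne
  have hYN : Y ≤ N := le_inf hYX.le Subgroup.le_normalizer
  -- normalizers grow
  have hXnil : Group.IsNilpotent ↥X := h.two.isNilpotent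
  obtain ⟨x, hxX, hxN, hxY⟩ := Cfsg.Agent.Lib.H15.exists_mem_normalizer_not_mem hXnil hYX.le hYX.ne
  have hYltN : Y < N := by
    refine lt_of_le_of_ne hYN ?_
    intro hEq
    apply hxY
    rw [hEq]
    exact ⟨hxX, hxN⟩
  -- H normalizes N
  have hHN : H ≤ Subgroup.normalizer (N : Set G) := by
    intro g hg
    have hgY := hHY hg
    rw [Subgroup.mem_normalizer_iff]
    intro n
    have hXconj : n ∈ X ↔ g * n * g⁻¹ ∈ X := by
      constructor
      · intro hn; exact h.normal.conj_mem n hn g
      · intro hn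
        have := h.normal.conj_mem _ hn g⁻¹
        simpa [mul_assoc] using this
    have hNconj : n ∈ Subgroup.normalizer (Y : Set G) ↔ g * n * g⁻¹ ∈ Subgroup.normalizer (Y : Set G) := by
      constructor
      · intro hn
        exact Subgroup.mul_mem _ (Subgroup.mul_mem _ hgY hn) (Subgroup.inv_mem _ hgY)
      · intro hn
        have := Subgroup.mul_mem _ (Subgroup.mul_mem _ (Subgroup.inv_mem _ hgY) hn) hgY
        simpa [mul_assoc] using this
    rw [hNdef, Subgroup.mem_inf, Subgroup.mem_inf, hXconj, hNconj]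
  -- AFree
  have hNfree : AFree N := h.inv N hNltX hHN
  have hYfree : AFree Y := h.inv Y hYX hHY
  -- element g of H not centralizing Y
  obtain ⟨g, hgH, hgC⟩ := SetLike.not_le_iff_exists.mp hnc
  have hgo : Odd (orderOf g) := n1_odd_orderOf h.odd hgH
  have hgCN : g ∉ Subgroup.centralizer (N : Set G) := by
    intro hc
    apply hgC
    exact Subgroup.centralizer_le (by exact_mod_cast hYN) hc
  have h2N : IsPGroup 2 ↥N := h.two.to_le hNX
  have h2Y : IsPGroup 2 ↥Y := h.two.to_le hYX.le
  have hKN := L.lemmaK N g h2N hNfree hgo (hHN hgH) hgCN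
  have hKY := L.lemmaK Y g h2Y hYfree hgo (hHY hgH) hgC
  -- cardinalities
  have hcardlt : Nat.card ↥Y < Nat.card ↥N := by
    have hsub : (Y.subgroupOf N) < ⊤ := by
      rw [lt_top_iff_ne_top]
      intro hE
      rw [Subgroup.subgroupOf_eq_top] at hE
      exact hYltN.not_ge hE
    have hcard : Nat.card ↥(Y.subgroupOf N) = Nat.card ↥Y :=
      Nat.card_congr (Subgroup.subgroupOfEquivOfLe hYN).toEquiv
    rw [← hcard]
    have : Nat.card ↥(Y.subgroupOf N) < Nat.card ↥N := by
      by_contra hge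
      push Not at hge
      have := Subgroup.card_le_card_group (Y.subgroupOf N)
      have hEq : Nat.card ↥(Y.subgroupOf N) = Nat.card ↥N := le_antisymm this hge
      exact hsub.ne ((Subgroup.card_eq_iff_eq_top _).mp hEq)
    exact this
  rcases hKN with hNV | ⟨z, hNQ⟩
  · rcases hKY with hYV | ⟨z', hYQ⟩
    · rw [hNV.1, hYV.1] at hcardlt; omega
    · rw [hNV.1, hYQ.1] at hcardlt; omega
  · rcases hKY with hYV | ⟨z', hYQ⟩
    · exact n1_v4_in_q8_false hYV hNQ hYN
    · rw [hNQ.1, hYQ.1] at hcardlt; omega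

end Cfsg.Agent.Lib.H20.TwoMin
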