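import Cfsg.Agent.Lib.H27.U62B
import Cfsg.Agent.Lib.H2.Spec5
import Cfsg.Agent.Lib.H18.SchurTransport

set_option autoImplicit false

/-! S2091 piece (T) (helper20): transport of the Schur multiplier from helper27's permutation model
`U62.pd.G` (degree 693) to `PSU₆(F)`, `|F| = 4`. -/

namespace Cfsg.Agent.Lib.H20.U62TR

open Cfsg.Agent.Lib.H27.U62 (pd isoG card_G card_F4')
open Cfsg.Agent.Lib.H3.F4

abbrev T322 : Type := Multiplicative (ZMod 3 × ZMod 2 × ZMod 2)

theorem center_map_eq {A B : Type*} [Group A] [Group B] (e : A ≃* B) :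
    (Subgroup.center A).map e.toMonoidHom = Subgroup.center B := by
  ext x
  rw [Subgroup.mem_map, Subgroup.mem_center_iff]
  constructor
  · rintro ⟨a, ha, rfl⟩ g
    obtain ⟨b, rfl⟩ := e.surjective g
    have := Subgroup.mem_center_iff.1 ha b
    show e b * e a = e a * e b
    rw [← map_mul, ← map_mul, this]
  · intro hx
    refine ⟨e.symm x, ?_, e.apply_symm_apply x⟩
    rw [Subgroup.mem_center_iff]
    intro g
    apply e.injective
    rw [map_mul, map_mul, e.apply_symm_apply]
    exact hx (e g)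

open Cfsg.Agent.Lib.H2.Spec in
/-- `PSU₆(F) ≅ pd.G` for any field with four elements. -/
theorem psu62_iso {F : Type*} [Field F] [Fintype F] (hF : Fintype.card F = 4) :
    Nonempty (Cfsg.PSU 6 F 2 ≃* pd.G) := by
  have e : F ≃+* F4 := FiniteField.ringEquivOfCardEq (hF.trans (by rw [card_F4']; norm_num))
  have E : Cfsg.SU 6 F 2 ≃* Cfsg.SU 6 F4 2 := suEquiv e 6 2
  have E' : Cfsg.PSU 6 F 2 ≃* Cfsg.PSU 6 F4 2 :=
    QuotientGroup.congr _ _ E (center_map_eq E)
  exact ⟨E'.trans isoG⟩

/-- transport of the Schur multiplier from the permutation model to `PSU₆(F)`, `|F| = 4`. -/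
theorem transport {F : Type*} [Field F] [Fintype F] (hF : Fintype.card F = 4)
    (h : Cfsg.HasSchurMultiplier (↥Cfsg.Agent.Lib.H27.U62.pd.G) T322) :
    Cfsg.HasSchurMultiplier (Cfsg.PSU 6 F 2) T322 := by
  obtain ⟨φ⟩ := psu62_iso hF
  have hfin : Finite ↥pd.G := Nat.finite_of_card_ne_zero (by rw [card_G]; norm_num)
  exact Cfsg.Agent.Lib.H18.SchurTransport.hasSchurMultiplier_of_group_mulEquiv φ.symm h

end Cfsg.Agent.Lib.H20.U62TR
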