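/-
S2524 (architect helper19, blueprint tools/blueprints/S2524_U.md), two standalone sub-lemmas of Step 2 of Theorem U (helper20).
* `ker_PY_zero_le_span` / `span_le_ker_PY_zero` : `E = ker (PY 0)` is the span of the Levi translates of `w0`.
* `Tb_of_Ta` : (T-b) from (T-a) and the `S`-linearity of `T` on `W_(a)` (the `T1`-translation argument).
-/
import Cfsg.Agent.Lib.H20.UConc1
import Cfsg.Agent.Lib.H25.S2524R

set_option autoImplicit false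
set_option linter.unusedSectionVars false
set_option linter.unusedVariables false

namespace Cfsg.Agent.Lib.H20.UConc

open Matrix Module Cfsg.Agent.Lib.H12.LS2 Cfsg.Agent.Lib.H5.LS2 Cfsg.Agent.Lib.H20.Weil Cfsg.Agent.Lib.H4
open Cfsg.Agent.Lib.H11.SpU

variable {F : Type*} [Field F] [Fintype F] {m : ℕ} [Fintype (Symm (m + 1) F)]
  {W : Type*} [AddCommGroup W] [Module ℂ W] [FiniteDimensional ℂ W]
  {V : Type*} [AddCommGroup V] [Module ℂ V] [FiniteDimensional ℂ V]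
  (χ : AddChar F ℂ) (Φ : Symm (m + 1) F ≃ AddChar (Symm (m + 1) F) ℂ)
  (hΦ : ∀ Y X : Symm (m + 1) F, Φ Y X =
    χ (Matrix.trace ((X : Matrix (Fin (m + 1)) (Fin (m + 1)) F) * (Y : Matrix (Fin (m + 1)) (Fin (m + 1)) F))))
  (ρ : Matrix.symplecticGroup (Fin (m + 1)) F →* Module.End ℂ W)
  (ρV : Matrix.symplecticGroup (Fin (m + 1)) F →* Module.End ℂ V)

/-- a line containing `w0 ≠ 0` consists of the multiples of `w0` -/
theorem exists_smul_of_finrank_le_one (L : Submodule ℂ W) (hL : finrank ℂ L ≤ 1) (w0 : W) (hw0 : w0 ≠ 0)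
    (hw0L : w0 ∈ L) (x : W) (hx : x ∈ L) : ∃ c : ℂ, x = c • w0 := by
  obtain ⟨v, hv⟩ := (finrank_le_one_iff (K := ℂ) (V := L)).1 hL
  obtain ⟨c0, hc0⟩ := hv ⟨w0, hw0L⟩
  obtain ⟨c, hc⟩ := hv ⟨x, hx⟩
  have hc0' : c0 ≠ 0 := by
    rintro rfl
    rw [zero_smul] at hc0
    exact hw0 (congrArg Subtype.val hc0).symm
  refine ⟨c * c0⁻¹, ?_⟩
  have h1 : (w0 : W) = c0 • (v : W) := (congrArg Subtype.val hc0).symm
  have h2 : (x : W) = c • (v : W) := (congrArg Subtype.val hc).symm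
  rw [h1, h2, smul_smul, mul_assoc, inv_mul_cancel₀ hc0', mul_one]

include hΦ in
/-- the Levi translates of a `Q`-eigenvector are `Q`-eigenvectors -/
theorem lEl_mem_range_PY (g : GL (Fin (m + 1)) F) (Y : Symm (m + 1) F) (v : W)
    (hv : v ∈ LinearMap.range (Cfsg.Agent.Lib.H8.TZ.PY Φ ρ Y)) :
    ρ (lEl g⁻¹) v ∈ LinearMap.range (Cfsg.Agent.Lib.H8.TZ.PY Φ ρ (Cfsg.Agent.Lib.H8.TZ.cact g Y)) := by
  obtain ⟨x, rfl⟩ := hv
  refine ⟨ρ (lEl g⁻¹) x, ?_⟩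
  rw [Cfsg.Agent.Lib.H8.TZ.PY_cact χ Φ hΦ ρ g Y]
  simp only [Module.End.mul_apply]
  rw [← Module.End.mul_apply (ρ (lEl g)), ← map_mul, ← Cfsg.Agent.Lib.H8.TZ.lEl_mul, mul_inv_cancel,
    Cfsg.Agent.Lib.H8.TZ.lEl_one, map_one, Module.End.one_apply]

include hΦ in
/-- **(S12-c)**: `E = ker (PY 0)` lies in the span of the Levi translates of `w0` -/
theorem ker_PY_zero_le_span
    (hw2 : ∀ Y : Symm (m + 1) F, finrank ℂ (LinearMap.range (Cfsg.Agent.Lib.H8.TZ.PY Φ ρ Y)) ≤ 1)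
    (hw3 : ∀ Y Y' : Symm (m + 1) F, Y ≠ 0 → Y' ≠ 0 → Cfsg.Agent.Lib.H8.TZ.PY Φ ρ Y ≠ 0 →
      Cfsg.Agent.Lib.H8.TZ.PY Φ ρ Y' ≠ 0 → Y' ∈ Cfsg.Agent.Lib.H8.TZ.orbS Y)
    (Y0 : Symm (m + 1) F) (hY0 : Y0 ≠ 0) (w0 : W) (hw0 : w0 ≠ 0)
    (hw0Y : ∀ X, ρ (tEl X) w0 = Φ Y0 X • w0) (e : W) (he : Cfsg.Agent.Lib.H8.TZ.PY Φ ρ 0 e = 0) :
    e ∈ Submodule.span ℂ (Set.range fun g : GL (Fin (m + 1)) F => ρ (lEl g) w0) := by
  have hw0r : w0 ∈ LinearMap.range (Cfsg.Agent.Lib.H8.TZ.PY Φ ρ Y0) :=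
    (Cfsg.Agent.Lib.H8.TZ.mem_range_PY_iff Φ ρ Y0 w0).2 hw0Y
  have hP0 : Cfsg.Agent.Lib.H8.TZ.PY Φ ρ Y0 ≠ 0 := by
    intro h0
    rw [h0, LinearMap.range_zero] at hw0r
    exact hw0 ((Submodule.mem_bot ℂ).1 hw0r)
  rw [eq_sum_PY Φ ρ e]
  apply Submodule.sum_mem
  intro Y _
  by_cases hY : Y = 0
  · rw [hY, he]
    exact Submodule.zero_mem _
  by_cases hPe : Cfsg.Agent.Lib.H8.TZ.PY Φ ρ Y e = 0
  · rw [hPe]
    exact Submodule.zero_mem _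
  have hPY : Cfsg.Agent.Lib.H8.TZ.PY Φ ρ Y ≠ 0 := by
    intro h0
    apply hPe
    rw [h0]
    rfl
  obtain ⟨g, rfl⟩ := (Cfsg.Agent.Lib.H8.TZ.mem_orbS Y0 Y).1 (hw3 Y0 Y hY0 hY hP0 hPY)
  rw [Cfsg.Agent.Lib.H8.TZ.PY_cact χ Φ hΦ ρ g Y0]
  simp only [Module.End.mul_apply]
  obtain ⟨c, hc⟩ := exists_smul_of_finrank_le_one _ (hw2 Y0) w0 hw0 hw0r
    (Cfsg.Agent.Lib.H8.TZ.PY Φ ρ Y0 (ρ (lEl g) e)) ⟨_, rfl⟩
  rw [hc, map_smul]
  exact Submodule.smul_mem _ _ (Submodule.subset_span ⟨g⁻¹, rfl⟩)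

include hΦ in
/-- the span of the Levi translates of `w0` lies in `E = ker (PY 0)` -/
theorem span_le_ker_PY_zero (Y0 : Symm (m + 1) F) (hY0 : Y0 ≠ 0) (w0 : W)
    (hw0Y : ∀ X, ρ (tEl X) w0 = Φ Y0 X • w0) (e : W)
    (he : e ∈ Submodule.span ℂ (Set.range fun g : GL (Fin (m + 1)) F => ρ (lEl g) w0)) :
    Cfsg.Agent.Lib.H8.TZ.PY Φ ρ 0 e = 0 := by
  have hw0r : w0 ∈ LinearMap.range (Cfsg.Agent.Lib.H8.TZ.PY Φ ρ Y0) :=
    (Cfsg.Agent.Lib.H8.TZ.mem_range_PY_iff Φ ρ Y0 w0).2 hw0Y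
  induction he using Submodule.span_induction with
  | mem x hx =>
    obtain ⟨g, rfl⟩ := hx
    have h1 := lEl_mem_range_PY χ Φ hΦ ρ g⁻¹ Y0 w0 hw0r
    rw [inv_inv] at h1
    obtain ⟨x, hx⟩ := h1
    show Cfsg.Agent.Lib.H8.TZ.PY Φ ρ 0 (ρ (lEl g) w0) = 0
    rw [← hx, ← Module.End.mul_apply, PY_mul_PY_of_ne Φ ρ]
    · rfl
    · intro h
      exact hY0 ((Cfsg.Agent.Lib.H8.TZ.cact_eq_zero_iff g⁻¹ Y0).1 h.symm)
  | zero => exact map_zero _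
  | add a b _ _ ha hb => rw [map_add, ha, hb, add_zero]
  | smul c a _ ha => rw [map_smul, ha, smul_zero]

/-! ### (S12-d): the `T1`-translation argument -/

omit [Fintype F] [Fintype (Symm (m + 1) F)] in
theorem Yss_cact_glT1 (s : Fˣ) (Y : Symm (m + 1) F) :
    Yss (Cfsg.Agent.Lib.H8.TZ.cact (glT1 (m := m) s) Y) = (s : F) * Yss Y * (s : F) := by
  unfold Yss
  rw [Cfsg.Agent.Lib.H8.TZ.cact_val, glT1_val, blk_transpose, Matrix.mul_apply]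
  simp [Matrix.mul_apply, Fin.sum_univ_castSucc]

omit [Fintype F] [Fintype (Symm (m + 1) F)] in
theorem Yss_cact_symE (g : GL (Fin (m + 1)) F) (a : F) :
    Yss (Cfsg.Agent.Lib.H8.TZ.cact g (symE (Fin.last m) a)) =
      a * ((g : Matrix (Fin (m + 1)) (Fin (m + 1)) F) (Fin.last m) (Fin.last m)) ^ 2 := by
  unfold Yss
  rw [Cfsg.Agent.Lib.H8.TZ.cact_val, symE_val, Matrix.mul_apply]
  rw [Finset.sum_eq_single (Fin.last m)]
  · rw [Matrix.mul_single_apply_same, Matrix.transpose_apply]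
    ring
  · intro b _ hb
    rw [Matrix.mul_single_apply_of_ne _ _ _ _ _ hb, zero_mul]
  · intro h
    exact absurd (Finset.mem_univ _) h

/-- a `Q`-eigenvector with `Y_** ≠ 0` is killed by `pU 0` -/
theorem pU_zero_of_mem_range (Y : Symm (m + 1) F) (hY : Yss Y ≠ 0) (v : W)
    (hv : v ∈ LinearMap.range (Cfsg.Agent.Lib.H8.TZ.PY Φ ρ Y)) : pU Φ ρ 0 v = 0 := by
  classical
  obtain ⟨x, rfl⟩ := hv
  rw [← Module.End.mul_apply, pU_mul_PY, if_neg hY]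
  rfl

include hΦ in
/-- a `Q`-eigenvector with `Y_** = a` lies in `W_(a)` -/
theorem mem_eigU1_of_mem_range (Y : Symm (m + 1) F) (v : W)
    (hv : v ∈ LinearMap.range (Cfsg.Agent.Lib.H8.TZ.PY Φ ρ Y)) :
    v ∈ Cfsg.Agent.Lib.H25.SpR.eigU1 χ ρ (Yss Y) := by
  intro c
  rw [(Cfsg.Agent.Lib.H8.TZ.mem_range_PY_iff Φ ρ Y v).1 hv, Phi_symE χ Φ hΦ]

include hΦ in
/-- **(S12-d)**: (T-b) from (T-a) and the `S`-linearity of `T` on `W_(a)` -/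
theorem Tb_of_Ta
    (hw3 : ∀ Y Y' : Symm (m + 1) F, Y ≠ 0 → Y' ≠ 0 → Cfsg.Agent.Lib.H8.TZ.PY Φ ρ Y ≠ 0 →
      Cfsg.Agent.Lib.H8.TZ.PY Φ ρ Y' ≠ 0 → Y' ∈ Cfsg.Agent.Lib.H8.TZ.orbS Y)
    (a : F) (ha : a ≠ 0) (w0 : W) (hw0 : w0 ≠ 0)
    (hw0Y : ∀ X, ρ (tEl X) w0 = Φ (symE (Fin.last m) a) X • w0)
    (T : W →ₗ[ℂ] V)
    (hTa : ∀ x ∈ Ps (m + 1) F, ∀ e ∈ LinearMap.ker (Cfsg.Agent.Lib.H8.TZ.PY Φ ρ 0), T (ρ x e) = ρV x (T e))
    (hTS : ∀ s ∈ Ss m F, ∀ d ∈ Cfsg.Agent.Lib.H25.SpR.eigU1 χ ρ a, T (ρ s d) = ρV s (T d)) :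
    ∀ s ∈ Ss m F, ∀ d : W, pU Φ ρ 0 d = 0 → T (ρ s d) = ρV s (T d) := by
  intro s hs d hd
  rw [mem_ker_pU_zero_iff] at hd
  have hYa : Yss (symE (Fin.last m) a : Symm (m + 1) F) = a := by
    unfold Yss
    rw [symE_val, Matrix.single_apply_same]
  have hY0 : (symE (Fin.last m) a : Symm (m + 1) F) ≠ 0 := by
    intro h
    rw [h] at hYa
    exact ha hYa.symm
  have hw0r : w0 ∈ LinearMap.range (Cfsg.Agent.Lib.H8.TZ.PY Φ ρ (symE (Fin.last m) a)) :=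
    (Cfsg.Agent.Lib.H8.TZ.mem_range_PY_iff Φ ρ _ w0).2 hw0Y
  have hP0 : Cfsg.Agent.Lib.H8.TZ.PY Φ ρ (symE (Fin.last m) a) ≠ 0 := by
    intro h0
    rw [h0, LinearMap.range_zero] at hw0r
    exact hw0 ((Submodule.mem_bot ℂ).1 hw0r)
  have hLP : Ls (m + 1) F ≤ Ps (m + 1) F := le_sup_right
  induction hd using Submodule.span_induction with
  | mem v hv =>
    obtain ⟨Y, hYss, hvr⟩ := hv
    by_cases hv0 : v = 0
    · rw [hv0, map_zero, map_zero, map_zero]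
    have hPY : Cfsg.Agent.Lib.H8.TZ.PY Φ ρ Y ≠ 0 := by
      intro h0
      rw [h0, LinearMap.range_zero] at hvr
      exact hv0 ((Submodule.mem_bot ℂ).1 hvr)
    have hYne : Y ≠ 0 := by
      rintro rfl
      exact hYss Yss_zero
    obtain ⟨g0, rfl⟩ := (Cfsg.Agent.Lib.H8.TZ.mem_orbS _ Y).1 (hw3 _ Y hY0 hYne hP0 hPY)
    rw [Yss_cact_symE] at hYss
    have ht : (g0 : Matrix (Fin (m + 1)) (Fin (m + 1)) F) (Fin.last m) (Fin.last m) ≠ 0 := by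
      intro h
      rw [h] at hYss
      apply hYss
      ring
    set t := (g0 : Matrix (Fin (m + 1)) (Fin (m + 1)) F) (Fin.last m) (Fin.last m) with ht_def
    set tu : Fˣ := Units.mk0 t ht with htu
    set τ : Sp (m + 1) F := lEl (glT1 (m := m) tu) with hτ
    have hτT : τ ∈ T1 m F := mem_T1.2 ⟨tu, rfl⟩
    have hτiT : τ⁻¹ ∈ T1 m F := (T1 m F).inv_mem hτT
    have hτiP : τ⁻¹ ∈ Ps (m + 1) F := hLP (T1_le_Ls hτiT)
    -- the translate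
    have hv' := lEl_mem_range_PY χ Φ hΦ ρ (glT1 (m := m) tu⁻¹) _ v hvr
    rw [← map_inv, inv_inv] at hv'
    have hYss' : Yss (Cfsg.Agent.Lib.H8.TZ.cact (glT1 (m := m) tu⁻¹)
        (Cfsg.Agent.Lib.H8.TZ.cact g0 (symE (Fin.last m) a))) = a := by
      rw [Yss_cact_glT1, Yss_cact_symE, ← ht_def]
      have h1 : ((tu⁻¹ : Fˣ) : F) = t⁻¹ := by
        rw [Units.val_inv_eq_inv_val]
        rfl
      rw [h1]
      field_simp
    have hv'E : ρ τ v ∈ Cfsg.Agent.Lib.H25.SpR.eigU1 χ ρ a := by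
      have h1 := mem_eigU1_of_mem_range χ Φ hΦ ρ _ _ hv'
      rw [hYss'] at h1
      exact h1
    have hv'0 : pU Φ ρ 0 (ρ τ v) = 0 :=
      pU_zero_of_mem_range Φ ρ _ (by rw [hYss']; exact ha) _ hv'
    have hsv'0 : pU Φ ρ 0 (ρ s (ρ τ v)) = 0 := by
      have h1 := congrArg (fun X : Module.End ℂ W => X (ρ τ v)) (pU_commute_Ss χ Φ hΦ ρ 0 s hs)
      simp only [Module.End.mul_apply] at h1
      rw [h1, hv'0, map_zero]
    have hvτ : v = ρ τ⁻¹ (ρ τ v) := by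
      rw [← Module.End.mul_apply, ← map_mul, inv_mul_cancel, map_one, Module.End.one_apply]
    have hcomm : s * τ⁻¹ = τ⁻¹ * s := Ss_comm_T1 hs hτiT
    have h1 : ρ s v = ρ τ⁻¹ (ρ s (ρ τ v)) := by
      conv_lhs => rw [hvτ]
      rw [← Module.End.mul_apply, ← map_mul, hcomm, map_mul, Module.End.mul_apply]
    have h2 : ρV s (ρV τ⁻¹ (T (ρ τ v))) = ρV τ⁻¹ (ρV s (T (ρ τ v))) := by
      rw [← Module.End.mul_apply, ← map_mul, hcomm, map_mul, Module.End.mul_apply]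
    rw [h1, hTa _ hτiP _ (LinearMap.mem_ker.2 (PY_zero_eq_zero_of_pU Φ ρ _ hsv'0)), hTS s hs _ hv'E, ← h2,
      ← hTa _ hτiP _ (LinearMap.mem_ker.2 (PY_zero_eq_zero_of_pU Φ ρ _ hv'0)), ← hvτ]
  | zero => simp only [map_zero]
  | add x y _ _ hx hy => simp only [map_add, hx, hy]
  | smul c x _ hx => simp only [map_smul, hx]

end Cfsg.Agent.Lib.H20.UConc
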