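/-
S2524 (architect helper19, blueprint tools/blueprints/S2524_U.md), piece **(E+)** (helper20): the commutant of the Weil
representation `ρ g = κ g • Yop ψ g` on `(Fin n → F) → ℂ` is `span (1, par)`, hence the only `ρ`-invariant subspaces are
`⊥`, `Splus n F`, `Sminus n F`, `⊤`: the even and the odd functions are irreducible of dimensions `(q^n + 1)/2`, `(q^n - 1)/2`.

Proof: the `q^(2n)` Heisenberg operators `hop ψ u` are a basis of `End` (trace orthogonality `tr (hop v * hop (-u)) = q^n [u = v]`),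
`ρ g * hop ψ u = hop ψ (g u) * ρ g`, `Sp_2n` is transitive on non-zero vectors (helper2 `Sp.transitive`) and `∑ u, hop ψ u = q^n • par`.
-/
import Cfsg.Agent.Lib.H20.WeilFull
import Cfsg.Agent.Lib.H2.SpTrans

set_option autoImplicit false

namespace Cfsg.Agent.Lib.H20.Weil

open Matrix Cfsg.Agent.Lib.H12.LS2

variable {F : Type*} [Field F] [Fintype F] {n : ℕ}

theorem card_pow_ne_zero : ((Fintype.card F : ℂ)) ^ n ≠ 0 :=
  pow_ne_zero _ (Nat.cast_ne_zero.2 Fintype.card_ne_zero)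

/-- trace orthogonality of the Heisenberg operators, diagonal terms -/
theorem trace_hop_mul_hop_neg_self (h2 : (2 : F) ≠ 0) (ψ : AddChar F ℂ) (v : Fin n ⊕ Fin n → F) :
    LinearMap.trace ℂ ((Fin n → F) → ℂ) (hop ψ v * hop ψ (-v)) = (Fintype.card F : ℂ) ^ n := by
  rw [Cfsg.Agent.Lib.H5.Weil.hop_mul h2, map_smul, smul_eq_mul, add_neg_cancel,
    Cfsg.Agent.Lib.H1.Weil.trace_hop_zero, Cfsg.Agent.Lib.H5.Weil.om_neg_right,
    Cfsg.Agent.Lib.H5.Weil.om_self, neg_zero, mul_zero, AddChar.map_zero_eq_one, one_mul]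

/-- trace orthogonality of the Heisenberg operators, off-diagonal terms -/
theorem trace_hop_mul_hop_neg_ne (h2 : (2 : F) ≠ 0) (ψ : AddChar F ℂ) (hψ : ψ ≠ 1)
    (u v : Fin n ⊕ Fin n → F) (h : u ≠ v) :
    LinearMap.trace ℂ ((Fin n → F) → ℂ) (hop ψ v * hop ψ (-u)) = 0 := by
  rw [Cfsg.Agent.Lib.H5.Weil.hop_mul h2, map_smul, smul_eq_mul,
    Cfsg.Agent.Lib.H1.Weil.trace_hop_ne ψ hψ _ (fun h0 => h (add_neg_eq_zero.1 h0).symm), mul_zero]

/-- the Heisenberg operators are linearly independent -/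
theorem hop_linearIndependent (h2 : (2 : F) ≠ 0) (ψ : AddChar F ℂ) (hψ : ψ ≠ 1) :
    LinearIndependent ℂ (fun u : Fin n ⊕ Fin n → F => hop ψ u) := by
  classical
  rw [Fintype.linearIndependent_iff]
  intro c hc v
  have h1 := congrArg (fun T : Module.End ℂ ((Fin n → F) → ℂ) =>
    LinearMap.trace ℂ ((Fin n → F) → ℂ) (T * hop ψ (-v))) hc
  simp only [Finset.sum_mul, smul_mul_assoc, map_sum, map_smul, zero_mul, map_zero, smul_eq_mul] at h1
  rw [Finset.sum_eq_single v] at h1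
  · rw [trace_hop_mul_hop_neg_self h2] at h1
    exact (mul_eq_zero.1 h1).resolve_right card_pow_ne_zero
  · intro u _ hu
    rw [trace_hop_mul_hop_neg_ne h2 ψ hψ v u (fun h => hu h.symm), mul_zero]
  · intro h
    exact absurd (Finset.mem_univ v) h

/-- the Heisenberg operators span `End` -/
theorem hop_span (h2 : (2 : F) ≠ 0) (ψ : AddChar F ℂ) (hψ : ψ ≠ 1) :
    Submodule.span ℂ (Set.range (fun u : Fin n ⊕ Fin n → F => hop ψ u)) = ⊤ := by
  classical
  apply (hop_linearIndependent h2 ψ hψ).span_eq_top_of_card_eq_finrank'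
  rw [Module.finrank_linearMap, Module.finrank_fintype_fun_eq_card, Fintype.card_fun, Fintype.card_fun,
    Fintype.card_sum, Fintype.card_fin, ← pow_add]

/-- `∑ u, hop ψ u = q^n • par` -/
theorem sum_hop (h2 : (2 : F) ≠ 0) (ψ : AddChar F ℂ) (hψ : ψ ≠ 1) :
    ∑ u : Fin n ⊕ Fin n → F, hop ψ u = ((Fintype.card F : ℂ) ^ n) • (par : Module.End ℂ ((Fin n → F) → ℂ)) := by
  classical
  apply LinearMap.ext
  intro f
  funext x
  rw [LinearMap.sum_apply, Finset.sum_apply, LinearMap.smul_apply, Pi.smul_apply, par_apply, smul_eq_mul]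
  have e := (Equiv.sumArrowEquivProdArrow (Fin n) (Fin n) F).symm
  rw [← (Equiv.sumArrowEquivProdArrow (Fin n) (Fin n) F).symm.sum_comp, Fintype.sum_prod_type]
  have hterm : ∀ a b : Fin n → F,
      hop ψ ((Equiv.sumArrowEquivProdArrow (Fin n) (Fin n) F).symm (a, b)) f x =
        ψ (b ⬝ᵥ (x + (2 : F)⁻¹ • a)) * f (x + a) := by
    intro a b
    rw [hop_apply]
    have hA : pA ((Equiv.sumArrowEquivProdArrow (Fin n) (Fin n) F).symm (a, b)) = a := rfl
    have hB : pB ((Equiv.sumArrowEquivProdArrow (Fin n) (Fin n) F).symm (a, b)) = b := rfl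
    rw [hA, hB, dotProduct_add, dotProduct_smul, smul_eq_mul, dotProduct_comm a b]
  simp only [hterm]
  have hinner : ∀ a : Fin n → F, ∑ b : Fin n → F, ψ (b ⬝ᵥ (x + (2 : F)⁻¹ • a)) * f (x + a) =
      if a = -((2 : F) • x) then (Fintype.card F : ℂ) ^ n * f (-x) else 0 := by
    intro a
    rw [← Finset.sum_mul]
    split_ifs with h
    · subst h
      have hz : x + (2 : F)⁻¹ • -((2 : F) • x) = 0 := by
        rw [smul_neg, smul_smul, inv_mul_cancel₀ h2, one_smul, add_neg_cancel]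
      have hx : x + -((2 : F) • x) = -x := by
        rw [two_smul]; abel
      rw [hz, hx]
      simp only [dotProduct_zero, AddChar.map_zero_eq_one, Finset.sum_const, Finset.card_univ,
        Fintype.card_fun, Fintype.card_fin, nsmul_eq_mul, mul_one, Nat.cast_pow]
    · rw [Cfsg.Agent.Lib.H1.Weil.w2_sum_char ψ hψ, zero_mul]
      intro hz
      apply h
      have h3 : (2 : F)⁻¹ • a = -x := eq_neg_of_add_eq_zero_right hz
      have h4 : a = (2 : F) • ((2 : F)⁻¹ • a) := by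
        rw [smul_smul, mul_inv_cancel₀ h2, one_smul]
      rw [h4, h3, smul_neg]
  simp only [hinner]
  rw [Finset.sum_ite_eq' Finset.univ (-((2 : F) • x)), if_pos (Finset.mem_univ _)]


theorem sp_mulVec_injective (g : Matrix.symplecticGroup (Fin n) F) {u v : Fin n ⊕ Fin n → F}
    (h : g.1 *ᵥ u = g.1 *ᵥ v) : u = v := by
  have h1 : (g⁻¹).1 * g.1 = 1 := by
    rw [← Submonoid.coe_mul, inv_mul_cancel, Submonoid.coe_one]
  have h2 := congrArg (fun w => (g⁻¹).1 *ᵥ w) h
  simp only [Matrix.mulVec_mulVec, h1, Matrix.one_mulVec] at h2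
  exact h2

/-- **the commutant of the Weil representation is `span (1, par)`** -/
theorem weil_commutant (h2 : (2 : F) ≠ 0) (hn : 1 ≤ n) (ψ : AddChar F ℂ) (hψ : ψ ≠ 1)
    (ρ : Matrix.symplecticGroup (Fin n) F →* Module.End ℂ ((Fin n → F) → ℂ))
    (hρ : ∀ g, ∃ κ : ℂ, κ ≠ 0 ∧ ρ g = κ • Yop ψ g.1)
    (T : Module.End ℂ ((Fin n → F) → ℂ)) (hT : ∀ g, T * ρ g = ρ g * T) :
    ∃ α β : ℂ, T = α • (1 : Module.End ℂ ((Fin n → F) → ℂ)) + β • par := by
  classical
  have hmem : T ∈ Submodule.span ℂ (Set.range (fun u : Fin n ⊕ Fin n → F => hop ψ u)) := by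
    rw [hop_span h2 ψ hψ]; trivial
  obtain ⟨c, hc⟩ := (Submodule.mem_span_range_iff_exists_fun ℂ).1 hmem
  have hconst : ∀ (g : Matrix.symplecticGroup (Fin n) F) (v : Fin n ⊕ Fin n → F),
      c (g.1 *ᵥ v) = c v := by
    intro g v
    have h1 : (∑ u, c u • hop ψ (g.1 *ᵥ u)) * ρ g = (∑ u, c u • hop ψ u) * ρ g := by
      rw [hc, hT g, ← hc, Finset.mul_sum, Finset.sum_mul]
      apply Finset.sum_congr rfl
      intro u _
      rw [mul_smul_comm, smul_mul_assoc, weil_mul_hop h2 ψ ρ hρ g u]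
    have hunit : ρ g * ρ g⁻¹ = 1 := by rw [← map_mul, mul_inv_cancel, map_one]
    have h2' : ∑ u, c u • hop ψ (g.1 *ᵥ u) = ∑ u, c u • hop ψ u := by
      have h := congrArg (fun X : Module.End ℂ ((Fin n → F) → ℂ) => X * ρ g⁻¹) h1
      simp only [mul_assoc, hunit, mul_one] at h
      exact h
    have h3 := congrArg (fun X : Module.End ℂ ((Fin n → F) → ℂ) =>
      LinearMap.trace ℂ ((Fin n → F) → ℂ) (X * hop ψ (-(g.1 *ᵥ v)))) h2'
    simp only [Finset.sum_mul, smul_mul_assoc, map_sum, map_smul, smul_eq_mul] at h3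
    rw [Finset.sum_eq_single v, Finset.sum_eq_single (g.1 *ᵥ v)] at h3
    · rw [trace_hop_mul_hop_neg_self h2] at h3
      exact (mul_right_cancel₀ card_pow_ne_zero h3).symm
    · intro u _ hu
      rw [trace_hop_mul_hop_neg_ne h2 ψ hψ _ _ (fun h => hu h.symm), mul_zero]
    · intro h
      exact absurd (Finset.mem_univ _) h
    · intro u _ hu
      rw [trace_hop_mul_hop_neg_ne h2 ψ hψ _ _ (fun h => hu (sp_mulVec_injective g h).symm), mul_zero]
    · intro h
      exact absurd (Finset.mem_univ _) h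
  -- a non-zero vector
  let u0 : Fin n ⊕ Fin n → F := Pi.single (Sum.inl ⟨0, hn⟩) 1
  have hu0 : u0 ≠ 0 := by
    intro h
    have h1 := congrFun h (Sum.inl ⟨0, hn⟩)
    simp [u0] at h1
  have hc0 : ∀ u : Fin n ⊕ Fin n → F, u ≠ 0 → c u = c u0 := by
    intro u hu
    obtain ⟨g, hg⟩ := Cfsg.Agent.Lib.H2.Sp.transitive n u0 u hu0 hu
    rw [← hg, hconst]
  have hterm : ∀ u : Fin n ⊕ Fin n → F, c u • hop ψ u =
      c u0 • hop ψ u + (if u = 0 then (c 0 - c u0) • (1 : Module.End ℂ ((Fin n → F) → ℂ)) else 0) := by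
    intro u
    split_ifs with h
    · subst h
      rw [Cfsg.Agent.Lib.H5.Weil.hop_zero, ← add_smul, add_sub_cancel]
    · rw [hc0 u h, add_zero]
  refine ⟨c 0 - c u0, c u0 * (Fintype.card F : ℂ) ^ n, ?_⟩
  rw [← hc, Finset.sum_congr rfl (fun u _ => hterm u), Finset.sum_add_distrib, ← Finset.smul_sum,
    sum_hop h2 ψ hψ, Finset.sum_ite_eq' Finset.univ (0 : Fin n ⊕ Fin n → F), if_pos (Finset.mem_univ _),
    smul_smul, add_comm]

/-- **(E+)**: the `ρ`-invariant subspaces of the Weil representation are `⊥`, the even functions, the odd functions and `⊤`. -/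
theorem weil_invariant_submodule (h2 : (2 : F) ≠ 0) (hn : 1 ≤ n) (ψ : AddChar F ℂ) (hψ : ψ ≠ 1)
    (ρ : Matrix.symplecticGroup (Fin n) F →* Module.End ℂ ((Fin n → F) → ℂ))
    (hρ : ∀ g, ∃ κ : ℂ, κ ≠ 0 ∧ ρ g = κ • Yop ψ g.1)
    (U : Submodule ℂ ((Fin n → F) → ℂ)) (hU : ∀ g, ∀ f ∈ U, ρ g f ∈ U) :
    U = ⊥ ∨ U = Splus n F ∨ U = Sminus n F ∨ U = ⊤ := by
  classical
  letI : Fintype (Matrix.symplecticGroup (Fin n) F) := Fintype.ofFinite _
  -- a linear projection onto `U`
  obtain ⟨p, hp⟩ := LinearMap.exists_leftInverse_of_injective U.subtype (Submodule.ker_subtype U)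
  let π0 : Module.End ℂ ((Fin n → F) → ℂ) := U.subtype ∘ₗ p
  have hπ0mem : ∀ x, π0 x ∈ U := fun x => (p x).2
  have hπ0fix : ∀ x ∈ U, π0 x = x := by
    intro x hx
    have h1 := congrArg (fun T : U →ₗ[ℂ] U => ((T ⟨x, hx⟩ : U) : (Fin n → F) → ℂ)) hp
    exact h1
  set N : ℂ := (Fintype.card (Matrix.symplecticGroup (Fin n) F) : ℂ) with hN
  have hN0 : N ≠ 0 := Nat.cast_ne_zero.2 Fintype.card_ne_zero
  let π : Module.End ℂ ((Fin n → F) → ℂ) := N⁻¹ • ∑ g : Matrix.symplecticGroup (Fin n) F, ρ g * π0 * ρ g⁻¹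
  have hπmem : ∀ x, π x ∈ U := by
    intro x
    show (N⁻¹ • ∑ g : Matrix.symplecticGroup (Fin n) F, ρ g * π0 * ρ g⁻¹) x ∈ U
    rw [LinearMap.smul_apply, LinearMap.sum_apply]
    apply Submodule.smul_mem
    apply Submodule.sum_mem
    intro g _
    exact hU g _ (hπ0mem _)
  have hπfix : ∀ x ∈ U, π x = x := by
    intro x hx
    show (N⁻¹ • ∑ g : Matrix.symplecticGroup (Fin n) F, ρ g * π0 * ρ g⁻¹) x = x
    rw [LinearMap.smul_apply, LinearMap.sum_apply]
    have h1 : ∀ g : Matrix.symplecticGroup (Fin n) F, (ρ g * π0 * ρ g⁻¹) x = x := by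
      intro g
      rw [Module.End.mul_apply, Module.End.mul_apply, hπ0fix _ (hU g⁻¹ x hx), ← Module.End.mul_apply,
        ← map_mul, mul_inv_cancel, map_one, Module.End.one_apply]
    rw [Finset.sum_congr rfl (fun g _ => h1 g), Finset.sum_const, Finset.card_univ,
      ← Nat.cast_smul_eq_nsmul ℂ, smul_smul, ← hN, inv_mul_cancel₀ hN0, one_smul]
  have hπcomm : ∀ h, π * ρ h = ρ h * π := by
    intro h
    show (N⁻¹ • ∑ g : Matrix.symplecticGroup (Fin n) F, ρ g * π0 * ρ g⁻¹) * ρ h =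
      ρ h * (N⁻¹ • ∑ g : Matrix.symplecticGroup (Fin n) F, ρ g * π0 * ρ g⁻¹)
    rw [smul_mul_assoc, mul_smul_comm, Finset.sum_mul, Finset.mul_sum]
    congr 1
    symm
    apply Fintype.sum_equiv (Equiv.mulLeft h)
    intro g
    show ρ h * (ρ g * π0 * ρ g⁻¹) = ρ (h * g) * π0 * ρ (h * g)⁻¹ * ρ h
    rw [_root_.mul_inv_rev, map_mul, map_mul, mul_assoc (ρ h * ρ g * π0), mul_assoc (ρ g⁻¹),
      ← map_mul ρ h⁻¹ h, inv_mul_cancel, map_one, mul_one]
    simp only [mul_assoc]
  obtain ⟨α, β, hαβ⟩ := weil_commutant h2 hn ψ hψ ρ hρ π hπcomm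
  have hplus : ∀ f ∈ Splus n F, π f = (α + β) • f := by
    intro f hf
    rw [hαβ, LinearMap.add_apply, LinearMap.smul_apply, LinearMap.smul_apply, Module.End.one_apply, add_smul]
    congr 2
    funext x
    rw [par_apply]
    exact hf x
  have hminus : ∀ f ∈ Sminus n F, π f = (α - β) • f := by
    intro f hf
    rw [hαβ, LinearMap.add_apply, LinearMap.smul_apply, LinearMap.smul_apply, Module.End.one_apply, sub_smul,
      sub_eq_add_neg]
    congr 1
    rw [← smul_neg]
    congr 1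
    funext x
    rw [par_apply, Pi.neg_apply]
    exact hf x
  have hinf : ∀ f, f ∈ Splus n F → f ∈ Sminus n F → f = 0 := by
    intro f h1 h3
    have h4 : f ∈ Splus n F ⊓ Sminus n F := ⟨h1, h3⟩
    rw [Cfsg.Agent.Lib.H29.Weil.w6_inf] at h4
    exact h4
  have hdec : ∀ f : (Fin n → F) → ℂ, ∃ fp ∈ Splus n F, ∃ fm ∈ Sminus n F, f = fp + fm := by
    intro f
    have h1 : f ∈ Splus n F ⊔ Sminus n F := by
      rw [Cfsg.Agent.Lib.H29.Weil.w6_sup]; trivial
    obtain ⟨fp, hfp, fm, hfm, hsum⟩ := Submodule.mem_sup.1 h1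
    exact ⟨fp, hfp, fm, hfm, hsum.symm⟩
  -- the four cases
  by_cases ha : α + β = 0
  · have hUp : ∀ f ∈ U, f ∈ Splus n F → f = 0 := by
      intro f hf hfp
      rw [← hπfix f hf, hplus f hfp, ha, zero_smul]
    by_cases hb : α - β = 0
    · left
      rw [Submodule.eq_bot_iff]
      intro f hf
      obtain ⟨fp, hfp, fm, hfm, hsum⟩ := hdec f
      rw [← hπfix f hf, hsum, map_add, hplus fp hfp, hminus fm hfm, ha, hb, zero_smul, zero_smul, add_zero]
    · right; right; left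
      have hle : Sminus n F ≤ U := by
        intro f hf
        have h1 : f = (α - β)⁻¹ • π f := by
          rw [hminus f hf, smul_smul, inv_mul_cancel₀ hb, one_smul]
        rw [h1]
        exact U.smul_mem _ (hπmem f)
      apply le_antisymm _ hle
      intro f hf
      obtain ⟨fp, hfp, fm, hfm, hsum⟩ := hdec f
      have h1 : fp ∈ U := by
        have h3 : fp = f - fm := by rw [hsum]; abel
        rw [h3]
        exact U.sub_mem hf (hle hfm)
      rw [hsum, hUp fp h1 hfp, zero_add]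
      exact hfm
  · have hle : Splus n F ≤ U := by
      intro f hf
      have h1 : f = (α + β)⁻¹ • π f := by
        rw [hplus f hf, smul_smul, inv_mul_cancel₀ ha, one_smul]
      rw [h1]
      exact U.smul_mem _ (hπmem f)
    by_cases hb : α - β = 0
    · right; left
      have hUm : ∀ f ∈ U, f ∈ Sminus n F → f = 0 := by
        intro f hf hfm
        rw [← hπfix f hf, hminus f hfm, hb, zero_smul]
      apply le_antisymm _ hle
      intro f hf
      obtain ⟨fp, hfp, fm, hfm, hsum⟩ := hdec f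
      have h1 : fm ∈ U := by
        have h3 : fm = f - fp := by rw [hsum]; abel
        rw [h3]
        exact U.sub_mem hf (hle hfp)
      rw [hsum, hUm fm h1 hfm, add_zero]
      exact hfp
    · right; right; right
      have hle' : Sminus n F ≤ U := by
        intro f hf
        have h1 : f = (α - β)⁻¹ • π f := by
          rw [hminus f hf, smul_smul, inv_mul_cancel₀ hb, one_smul]
        rw [h1]
        exact U.smul_mem _ (hπmem f)
      rw [eq_top_iff, ← Cfsg.Agent.Lib.H29.Weil.w6_sup]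
      exact sup_le hle hle'

end Cfsg.Agent.Lib.H20.Weil
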