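/-
S2524 (architect helper19), piece **(E+) packaged** (helper20): the two Weil components as representations
`weilPlus : Representation ℂ Sp_2n(F) (Splus n F)` (dimension `(q^n + 1)/2`) and `weilMinus : Representation ℂ Sp_2n(F) (Sminus n F)`
(dimension `(q^n - 1)/2`), both irreducible (elementary form: the only invariant subspaces are `⊥`, `⊤`; and `Representation.IsIrreducible`).
-/
import Cfsg.Agent.Lib.H20.WeilIrr

set_option autoImplicit false

namespace Cfsg.Agent.Lib.H20.Weil

open Matrix Cfsg.Agent.Lib.H12.LS2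

/-- the elementary form of irreducibility implies `Representation.IsIrreducible` -/
theorem isIrreducible_of_forall {G : Type*} [Group G] {V : Type*} [AddCommGroup V] [Module ℂ V]
    (ρ : Representation ℂ G V) (hV : Nontrivial V)
    (h : ∀ U : Submodule ℂ V, (∀ g, ∀ v ∈ U, ρ g v ∈ U) → U = ⊥ ∨ U = ⊤) : ρ.IsIrreducible := by
  have : Nontrivial (Subrepresentation ρ) := by
    refine ⟨⟨⊥, ⊤, fun h0 => ?_⟩⟩
    have h1 : (⊥ : Subrepresentation ρ).toSubmodule = (⊤ : Subrepresentation ρ).toSubmodule := by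
      rw [h0]
    exact bot_ne_top (α := Submodule ℂ V) h1
  refine ⟨fun W => ?_⟩
  rcases h W.toSubmodule (fun g v hv => W.apply_mem_toSubmodule g hv) with h1 | h1
  · left
    exact Subrepresentation.toSubmodule_injective h1
  · right
    exact Subrepresentation.toSubmodule_injective h1

/-- `Representation.IsIrreducible` implies the elementary form -/
theorem forall_of_isIrreducible {G : Type*} [Group G] {V : Type*} [AddCommGroup V] [Module ℂ V]
    (ρ : Representation ℂ G V) (hρ : ρ.IsIrreducible)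
    (U : Submodule ℂ V) (hU : ∀ g, ∀ v ∈ U, ρ g v ∈ U) : U = ⊥ ∨ U = ⊤ := by
  rcases hρ.eq_bot_or_eq_top (⟨U, fun g v hv => hU g v hv⟩ : Subrepresentation ρ) with h | h
  · left
    exact congrArg Subrepresentation.toSubmodule h
  · right
    exact congrArg Subrepresentation.toSubmodule h

/-- restriction of a representation to an invariant subspace: invariant subspaces correspond -/
theorem sub_invariant_eq {G : Type*} [Group G] {V : Type*} [AddCommGroup V] [Module ℂ V]
    (ρ : Representation ℂ G V) (W : Subrepresentation ρ)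
    (hW : ∀ U : Submodule ℂ V, (∀ g, ∀ v ∈ U, ρ g v ∈ U) → U ≤ W.toSubmodule → U = ⊥ ∨ U = W.toSubmodule)
    (U : Submodule ℂ W.toSubmodule) (hU : ∀ g, ∀ v ∈ U, W.toRepresentation g v ∈ U) : U = ⊥ ∨ U = ⊤ := by
  have hinv : ∀ g, ∀ v ∈ U.map W.toSubmodule.subtype, ρ g v ∈ U.map W.toSubmodule.subtype := by
    intro g v hv
    obtain ⟨u, hu, rfl⟩ := Submodule.mem_map.1 hv
    exact Submodule.mem_map.2 ⟨W.toRepresentation g u, hU g u hu, rfl⟩
  have hle : U.map W.toSubmodule.subtype ≤ W.toSubmodule := by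
    intro v hv
    obtain ⟨u, -, rfl⟩ := Submodule.mem_map.1 hv
    exact u.2
  rcases hW _ hinv hle with h | h
  · left
    rw [Submodule.eq_bot_iff]
    intro u hu
    have h1 : (u : V) ∈ U.map W.toSubmodule.subtype := Submodule.mem_map.2 ⟨u, hu, rfl⟩
    rw [h] at h1
    exact Subtype.ext h1
  · right
    rw [eq_top_iff]
    intro u _
    have h1 : (u : V) ∈ U.map W.toSubmodule.subtype := by rw [h]; exact u.2
    obtain ⟨u', hu', hu''⟩ := Submodule.mem_map.1 h1
    have h3 : u' = u := Subtype.ext hu''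
    rw [← h3]
    exact hu'

variable {F : Type*} [Field F] [Fintype F] {n : ℕ}

theorem Splus_inf_Sminus_le {U : Submodule ℂ ((Fin n → F) → ℂ)} (h1 : U ≤ Splus n F) (h3 : U ≤ Sminus n F) :
    U = ⊥ := by
  rw [eq_bot_iff, ← Cfsg.Agent.Lib.H29.Weil.w6_inf]
  exact le_inf h1 h3

theorem one_le_finrank_Sminus (h2 : (2 : F) ≠ 0) (hn : 1 ≤ n) : 1 ≤ Module.finrank ℂ (Sminus n F) := by
  have h1 := Cfsg.Agent.Lib.H29.Weil.finrank_Sminus (F := F) (n := n) h2
  have h3 := three_le_card h2
  have h4 : 3 ≤ Fintype.card F ^ n := by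
    calc 3 ≤ Fintype.card F ^ 1 := by rw [pow_one]; exact h3
      _ ≤ Fintype.card F ^ n := Nat.pow_le_pow_right (by omega) hn
  omega

theorem Sminus_ne_bot (h2 : (2 : F) ≠ 0) (hn : 1 ≤ n) : Sminus n F ≠ ⊥ := by
  intro h
  have h1 := one_le_finrank_Sminus (F := F) (n := n) h2 hn
  rw [h, finrank_bot] at h1
  omega

theorem Splus_ne_top (h2 : (2 : F) ≠ 0) (hn : 1 ≤ n) : Splus n F ≠ ⊤ := by
  intro h
  apply Sminus_ne_bot (F := F) (n := n) h2 hn
  apply Splus_inf_Sminus_le _ le_rfl
  rw [h]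
  exact le_top

/-- **the two Weil components**: for every linearisation `ρ` of `Yop ψ`, the subrepresentations on the even and on the odd functions
are irreducible. -/
theorem weil_components (h2 : (2 : F) ≠ 0) (hn : 1 ≤ n) (ψ : AddChar F ℂ) (hψ : ψ ≠ 1)
    (ρ : Representation ℂ (Matrix.symplecticGroup (Fin n) F) ((Fin n → F) → ℂ))
    (hρ : ∀ g, ∃ κ : ℂ, κ ≠ 0 ∧ ρ g = κ • Yop ψ g.1) :
    ∃ (Wp Wm : Subrepresentation ρ), Wp.toSubmodule = Splus n F ∧ Wm.toSubmodule = Sminus n F ∧
      (∀ U : Submodule ℂ Wp.toSubmodule, (∀ g, ∀ v ∈ U, Wp.toRepresentation g v ∈ U) → U = ⊥ ∨ U = ⊤) ∧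
      (∀ U : Submodule ℂ Wm.toSubmodule, (∀ g, ∀ v ∈ U, Wm.toRepresentation g v ∈ U) → U = ⊥ ∨ U = ⊤) ∧
      Wp.toRepresentation.IsIrreducible ∧ Wm.toRepresentation.IsIrreducible ∧
      Module.finrank ℂ Wp.toSubmodule = Module.finrank ℂ Wm.toSubmodule + 1 ∧
      2 * Module.finrank ℂ Wm.toSubmodule + 1 = Fintype.card F ^ n := by
  classical
  let Wp : Subrepresentation ρ := ⟨Splus n F, fun g v hv => (weil_maps ψ ρ hρ g).1 v hv⟩
  let Wm : Subrepresentation ρ := ⟨Sminus n F, fun g v hv => (weil_maps ψ ρ hρ g).2 v hv⟩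
  have hp : ∀ U : Submodule ℂ Wp.toSubmodule, (∀ g, ∀ v ∈ U, Wp.toRepresentation g v ∈ U) → U = ⊥ ∨ U = ⊤ := by
    intro U hU
    apply sub_invariant_eq ρ Wp _ U hU
    intro U' hU' hle
    rcases weil_invariant_submodule h2 hn ψ hψ ρ hρ U' hU' with h | h | h | h
    · exact Or.inl h
    · exact Or.inr h
    · left
      apply Splus_inf_Sminus_le hle
      rw [h]
    · exfalso
      apply Splus_ne_top (F := F) (n := n) h2 hn
      rw [eq_top_iff, ← h]
      exact hle
  have hm : ∀ U : Submodule ℂ Wm.toSubmodule, (∀ g, ∀ v ∈ U, Wm.toRepresentation g v ∈ U) → U = ⊥ ∨ U = ⊤ := by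
    intro U hU
    apply sub_invariant_eq ρ Wm _ U hU
    intro U' hU' hle
    rcases weil_invariant_submodule h2 hn ψ hψ ρ hρ U' hU' with h | h | h | h
    · exact Or.inl h
    · left
      apply Splus_inf_Sminus_le _ hle
      rw [h]
    · exact Or.inr h
    · left
      have h5 : Splus n F ≤ Sminus n F := by
        have h6 : (⊤ : Submodule ℂ ((Fin n → F) → ℂ)) ≤ Sminus n F := by rw [← h]; exact hle
        exact le_trans le_top h6
      have h7 := Splus_inf_Sminus_le le_rfl h5
      have h8 := Cfsg.Agent.Lib.H29.Weil.finrank_Splus (F := F) (n := n) h2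
      rw [h7, finrank_bot] at h8
      omega
  have hfm := one_le_finrank_Sminus (F := F) (n := n) h2 hn
  have hfp := Cfsg.Agent.Lib.H29.Weil.finrank_Splus (F := F) (n := n) h2
  have hnm : Nontrivial (Sminus n F) := Module.nontrivial_of_finrank_pos (R := ℂ) (by omega)
  have hnp : Nontrivial (Splus n F) := Module.nontrivial_of_finrank_pos (R := ℂ) (by omega)
  exact ⟨Wp, Wm, rfl, rfl, hp, hm, isIrreducible_of_forall _ hnp hp, isIrreducible_of_forall _ hnm hm, hfp,
    Cfsg.Agent.Lib.H29.Weil.finrank_Sminus h2⟩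

end Cfsg.Agent.Lib.H20.Weil
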