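import Mathlib
import Cfsg.Agent.Lib.H3.Wielandt

/-!
# Wielandt's zipper lemma (helper20 library)

`zipper_lemma`: if every conjugate of `S` is subnormal in each proper subgroup containing it,
and `S` is not subnormal in the finite group `G`, then `S` lies in a unique maximal subgroup.
-/

set_option autoImplicit false

namespace Cfsg.Agent.Lib.H20

open scoped Pointwise

variable {G : Type*} [Group G]

/-- A subnormal, non-normal subgroup `S` of a finite group: there are `H` with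
`S ≤ H ≤ N(S)` and `x ∈ N(H)`, `x ∉ N(S)`. -/
theorem exists_normalizing_of_isSubnormal_not_normal [Finite G] {S : Subgroup G}
    (hS : S.IsSubnormal) (hn : ¬ S.Normal) :
    ∃ H : Subgroup G, S ≤ H ∧ H ≤ Subgroup.normalizer (S : Set G) ∧
      ∃ x : G, x ∈ Subgroup.normalizer (H : Set G) ∧ x ∉ Subgroup.normalizer (S : Set G) := by
  let 𝒦 : Set (Subgroup G) :=
    {K | S ≤ K ∧ K ≤ Subgroup.normalizer (S : Set G) ∧ K.IsSubnormal}
  have hne : 𝒦.Nonempty := ⟨S, le_rfl, Subgroup.le_normalizer, hS⟩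
  obtain ⟨K, hK, hmax⟩ := Set.Finite.exists_maximal (Set.toFinite 𝒦) hne
  obtain ⟨hSK, hKN, hKsn⟩ := hK
  have hKtop : K ≠ ⊤ := by
    intro h
    apply hn
    rw [← Subgroup.normalizer_eq_top_iff, eq_top_iff, ← h]
    exact hKN
  rcases Subgroup.IsSubnormal.iff_eq_top_or_exists.mp hKsn with h | ⟨K', hlt, hK'sn, hKn⟩
  · exact absurd h hKtop
  have hnot : ¬ K' ≤ Subgroup.normalizer (S : Set G) := by
    intro hle
    have hK'mem : K' ∈ 𝒦 := ⟨hSK.trans hlt.le, hle, hK'sn⟩
    exact (not_le_of_gt hlt) (hmax hK'mem hlt.le)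
  obtain ⟨x, hxK', hxN⟩ := SetLike.not_le_iff_exists.mp hnot
  refine ⟨K, hSK, hKN, x, ?_, hxN⟩
  exact (Subgroup.normal_subgroupOf_iff_le_normalizer hlt.le).mp hKn hxK'

/-- Relative form of the previous lemma. -/
theorem exists_normalizing_of_isSubnormal_subgroupOf [Finite G] {S K : Subgroup G} (hSK : S ≤ K)
    (hS : (S.subgroupOf K).IsSubnormal) (hn : ¬ K ≤ Subgroup.normalizer (S : Set G)) :
    ∃ H : Subgroup G, S ≤ H ∧ H ≤ K ∧ H ≤ Subgroup.normalizer (S : Set G) ∧
      ∃ x : G, x ∈ K ∧ x ∈ Subgroup.normalizer (H : Set G) ∧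
        x ∉ Subgroup.normalizer (S : Set G) := by
  have hn' : ¬ (S.subgroupOf K).Normal := fun h =>
    hn ((Subgroup.normal_subgroupOf_iff_le_normalizer hSK).mp h)
  obtain ⟨H', hSH', hH'N, x', hx'H, hx'S⟩ := exists_normalizing_of_isSubnormal_not_normal hS hn'
  have hHK : H'.map K.subtype ≤ K := Subgroup.map_subtype_le H'
  have hH'eq : (H'.map K.subtype).subgroupOf K = H' :=
    Subgroup.comap_map_eq_self_of_injective K.subtype_injective H'
  refine ⟨H'.map K.subtype, ?_, hHK, ?_, (x' : G), x'.2, ?_, ?_⟩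
  · intro s hs
    exact ⟨⟨s, hSK hs⟩, hSH' (Subgroup.mem_subgroupOf.mpr hs), rfl⟩
  · rintro _ ⟨h', hh', rfl⟩
    have h1 := hH'N hh'
    rw [← Subgroup.subgroupOf_normalizer_eq hSK] at h1
    exact Subgroup.mem_subgroupOf.mp h1
  · have h1 : x' ∈ Subgroup.normalizer (((H'.map K.subtype).subgroupOf K : Subgroup K) : Set K) := by
      rw [hH'eq]; exact hx'H
    rw [← Subgroup.subgroupOf_normalizer_eq hHK] at h1
    exact Subgroup.mem_subgroupOf.mp h1
  · intro h
    apply hx'S
    rw [← Subgroup.subgroupOf_normalizer_eq hSK]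
    exact Subgroup.mem_subgroupOf.mpr h

theorem smul_le_of_mem_of_le {S K : Subgroup G} {x : G} (hx : x ∈ K) (hSK : S ≤ K) :
    MulAut.conj x • S ≤ K := by
  rintro _ ⟨s, hs, rfl⟩
  exact K.mul_mem (K.mul_mem hx (hSK hs)) (K.inv_mem hx)

theorem smul_eq_self_of_mem_normalizer {H : Subgroup G} {x : G}
    (hx : x ∈ Subgroup.normalizer (H : Set G)) : MulAut.conj x • H = H := by
  ext y
  rw [Subgroup.mem_pointwise_smul_iff_inv_smul_mem]
  have := (Subgroup.mem_normalizer_iff.mp (Subgroup.inv_mem _ hx)) y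
  simp only [MulAut.smul_def, MulAut.conj_inv_apply]
  rw [this]
  simp

/-- **Wielandt's zipper lemma** (conjugation-invariant hypothesis). -/
theorem zipper_lemma [Finite G] (S : Subgroup G)
    (h : ∀ (g : G) (H : Subgroup G), MulAut.conj g • S ≤ H → H ≠ ⊤ →
      ((MulAut.conj g • S).subgroupOf H).IsSubnormal)
    (hS : ¬ S.IsSubnormal) : ∃! M : Subgroup G, IsCoatom M ∧ S ≤ M := by
  induction S using WellFoundedGT.induction with
  | ind S ih =>
  have hSn : ¬ S.Normal := fun hn => hS hn.isSubnormal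
  have hNtop : Subgroup.normalizer (S : Set G) ≠ ⊤ := fun h =>
    hSn (Subgroup.normalizer_eq_top_iff.mp h)
  obtain ⟨M, hM, hNM⟩ := (eq_top_or_exists_le_coatom _).resolve_left hNtop
  have hSM : S ≤ M := Subgroup.le_normalizer.trans hNM
  have h1 : ∀ H : Subgroup G, S ≤ H → H ≠ ⊤ → (S.subgroupOf H).IsSubnormal := by
    intro H hSH hH
    have := h 1 H (by simpa using hSH) hH
    simpa using this
  refine ⟨M, ⟨hM, hSM⟩, ?_⟩
  rintro K ⟨hK, hSK⟩
  by_cases hKN : K ≤ Subgroup.normalizer (S : Set G)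
  · exact ((hK.le_iff_eq hM.1).mp (hKN.trans hNM)).symm
  obtain ⟨H, hSH, hHK, hHN, x, hxK, hxH, hxS⟩ :=
    exists_normalizing_of_isSubnormal_subgroupOf hSK (h1 K hSK hK.1) hKN
  set T : Subgroup G := S ⊔ MulAut.conj x • S with hT
  have hxSH : MulAut.conj x • S ≤ H := by
    have h2 : MulAut.conj x • S ≤ MulAut.conj x • H := Subgroup.pointwise_smul_le_pointwise_smul_iff.mpr hSH
    rwa [smul_eq_self_of_mem_normalizer hxH] at h2
  have hTH : T ≤ H := sup_le hSH hxSH
  have hTN : T ≤ Subgroup.normalizer (S : Set G) := hTH.trans hHN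
  have hST : S < T := by
    refine lt_of_le_of_ne le_sup_left ?_
    intro heq
    apply hxS
    have h3 : MulAut.conj x • S ≤ S := by
      have : MulAut.conj x • S ≤ T := le_sup_right
      rwa [← heq] at this
    apply Subgroup.mem_normalizer_fintype
    intro n hn
    exact h3 ⟨n, hn, rfl⟩
  have hTsn : ¬ T.IsSubnormal := by
    intro hTs
    apply hS
    exact Subgroup.IsSubnormal.step S T le_sup_left hTs
      ((Subgroup.normal_subgroupOf_iff_le_normalizer le_sup_left).mpr hTN)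
  have hTh : ∀ (g : G) (H' : Subgroup G), MulAut.conj g • T ≤ H' → H' ≠ ⊤ →
      ((MulAut.conj g • T).subgroupOf H').IsSubnormal := by
    intro g H' hgT hH'
    have e1 : MulAut.conj g • T = MulAut.conj g • S ⊔ MulAut.conj (g * x) • S := by
      rw [hT, Subgroup.smul_sup, map_mul, mul_smul]
    rw [e1] at hgT ⊢
    have ha := h g H' (le_sup_left.trans hgT) hH'
    have hb := h (g * x) H' (le_sup_right.trans hgT) hH'
    rw [Subgroup.subgroupOf_sup (le_sup_left.trans hgT) (le_sup_right.trans hgT)]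
    exact Cfsg.Agent.Lib.H3.isSubnormal_sup _ _ rfl _ _ ha hb
  obtain ⟨M', -, huniq⟩ := ih T hST hTh hTsn
  have e2 : M = M' := huniq M ⟨hM, hTN.trans hNM⟩
  have e3 : K = M' := huniq K ⟨hK, sup_le hSK (smul_le_of_mem_of_le hxK hSK)⟩
  rw [e2, e3]

end Cfsg.Agent.Lib.H20
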